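import Cfsg.Agent.Lib.OddLocal.TauTwoNonabelian

/-!
BG 12.8–12.10: `σ'`-subgroups of `M`.
-/

set_option autoImplicit false
set_option linter.style.haveILetI false
set_option linter.unusedSectionVars false

open scoped commutatorElement
open scoped Pointwise

namespace CfsgLib.OddLocal

open CfsgLib.Coprime
open CfsgLib.BG.FixedLine (conj_mem_of_le_normalizer mem_normalizer_of_conj)

universe u

variable {G : Type u} [Group G] [Finite G] {p q : ℕ} {M E A A₀ : Subgroup G}

/-- A finite nilpotent group with abelian Sylow subgroups is abelian. -/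
theorem isMulCommutative_of_sylow {H : Type*} [Group H] [Finite H] (hH : Group.IsNilpotent H)
    (h : ∀ (r : ℕ) [Fact r.Prime] (P : Sylow r H), IsMulCommutative (P : Subgroup H)) : IsMulCommutative H := by
  obtain ⟨e⟩ := ((Group.isNilpotent_of_finite_tfae (G := H)).out 0 4).1 hH
  refine ⟨⟨fun x y => ?_⟩⟩
  obtain ⟨a, rfl⟩ := e.surjective x
  obtain ⟨b, rfl⟩ := e.surjective y
  rw [← map_mul, ← map_mul]
  congr 1
  funext r P
  haveI : Fact (r : ℕ).Prime := ⟨Nat.prime_of_mem_primeFactors r.2⟩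
  exact (h r P).is_comm.comm (a r P) (b r P)

/-- For `q ∈ τ₂(M)`: an elementary subgroup of order `q ^ 2` in any `σ`-complement. -/
theorem exists_elem_compl (hG : Cfsg.IsMinSimpleOddOrder G) (hM : IsCoatom M)
    (hE : Cfsg.IsComplIn E (Cfsg.sigmaCore M) M) (hq : q ∈ Cfsg.tau2 M) :
    ∃ B B₀ : Subgroup G, B ≤ E ∧ Exc q M B B₀ := by
  haveI := Fact.mk hq.1
  obtain ⟨B₁, hB₁M, hB₁e, hB₁2⟩ := exists_elementary hq.2.2.2
  haveI := hB₁e.1
  obtain ⟨j, hj⟩ := (isPGroup_of_elementary hB₁e).exists_card_eq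
  rw [hj] at hB₁2
  obtain ⟨B₂, hB₂⟩ := Sylow.exists_subgroup_card_pow_prime (G := B₁) q (n := 2)
    (hj ▸ pow_dvd_pow q ((Nat.pow_le_pow_iff_right hq.1.one_lt).1 hB₁2))
  set B₃ := B₂.map B₁.subtype with hB₃
  have hB₃e : Cfsg.IsElementaryAbelian q B₃ :=
    ⟨Subgroup.map_isMulCommutative B₂ _, fun a ha => hB₁e.2 a (Subgroup.map_subtype_le _ ha)⟩
  have hB₃c : Nat.card B₃ = q ^ 2 := by rw [hB₃, Subgroup.card_map_of_injective B₁.subtype_injective, hB₂]
  have hB₃M : B₃ ≤ M := (Subgroup.map_subtype_le _).trans hB₁M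
  have hmax : MaxElem q B₃ := ⟨hq.1, hB₃e, hB₃c, elementary_maximal_of_not_sigma hG hM hq.2.1 hB₃M hB₃e hB₃c⟩
  obtain ⟨m, hm, hmE⟩ := exists_conj_le_compl hG hM hE hB₃M fun r hr hd => by
    rw [hB₃c] at hd
    exact (Nat.prime_dvd_prime_iff_eq hr hq.1).1 (hr.dvd_of_dvd_pow hd) ▸ hq.2.1
  obtain ⟨B₀, h⟩ := exists_exc hG hM hq.1 hq.2.1 (hmE.trans hE.1) (hmax.conj m).elem (hmax.conj m).card
  exact ⟨_, B₀, hmE, h⟩

/-- The Sylow subgroups of `M` at primes outside `σ(M)` are abelian. -/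
theorem sylow_comm_of_not_sigma (hG : Cfsg.IsMinSimpleOddOrder G) (hM : IsCoatom M) (hq : q.Prime)
    (hqσ : q ∉ Cfsg.sigma M) {X : Subgroup G} (hXM : X ≤ M) (hX : IsPGroup q X) :
    ∀ x ∈ X, ∀ y ∈ X, x * y = y * x := by
  classical
  haveI := Fact.mk hq
  obtain ⟨P, hP⟩ := (hX.comap_of_injective M.subtype M.subtype_injective :
    IsPGroup q (X.subgroupOf M)).exists_le_sylow
  have hXP : X ≤ (P : Subgroup M).map M.subtype :=
    (Subgroup.map_subgroupOf_eq_of_le hXM).ge.trans (Subgroup.map_mono hP)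
  intro x hx y hy
  by_cases hcyc : IsCyclic ((P : Subgroup M).map M.subtype)
  · obtain ⟨g, hg⟩ := hcyc.exists_generator
    obtain ⟨i, hi⟩ := Subgroup.mem_zpowers_iff.1 (hg ⟨x, hXP hx⟩)
    obtain ⟨j, hj⟩ := Subgroup.mem_zpowers_iff.1 (hg ⟨y, hXP hy⟩)
    have := congrArg Subtype.val ((Commute.zpow_zpow_self g i j).eq)
    rw [hi, hj] at this
    exact this
  obtain ⟨B, hBP, hBe, hB2⟩ := exists_elem_sq hG hq (P.2.map M.subtype) hcyc
  obtain ⟨B₀, h⟩ := exists_exc hG hM hq hqσ (hBP.trans (Subgroup.map_subtype_le _)) hBe hB2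
  exact h.sylow_comm P hBP x (hXP hx) y (hXP hy)

/-- Nilpotent `σ'`-subgroups of `M` are abelian. -/
theorem nilpotent_comm (hG : Cfsg.IsMinSimpleOddOrder G) (hM : IsCoatom M) {N : Subgroup G} (hNM : N ≤ M)
    (hN : Group.IsNilpotent N) (hπ : ∀ r : ℕ, r.Prime → r ∣ Nat.card N → r ∉ Cfsg.sigma M) :
    IsMulCommutative N := by
  refine isMulCommutative_of_sylow hN fun r _ P => ⟨⟨fun a b => Subtype.ext (N.subtype_injective ?_)⟩⟩
  by_cases hd : r ∣ Nat.card N
  · exact sylow_comm_of_not_sigma hG hM Fact.out (hπ r Fact.out hd)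
      ((Subgroup.map_subtype_le (P : Subgroup N)).trans hNM) (P.2.map _) _ ⟨a, a.2, rfl⟩ _ ⟨b, b.2, rfl⟩
  · have h0 : ∀ c : (P : Subgroup N), c = 1 := fun c => by
      obtain ⟨k, hk⟩ := IsPGroup.iff_orderOf.mp P.2 c
      rcases Nat.eq_zero_or_pos k with rfl | hk0
      · exact orderOf_eq_one_iff.1 (hk.trans (pow_zero r))
      · exact absurd ((hk ▸ dvd_pow_self r hk0.ne').trans ((orderOf_dvd_natCard c).trans
          (P : Subgroup N).card_subgroup_dvd_card)) hd
    rw [h0 a, h0 b]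

namespace Exc

/-- A Sylow subgroup at `p ∈ τ₂(M)` of `G` lying in `M` has its normalizer in the normalizer of `A`. -/
theorem sylow_normalizer_le_normalizer (h : Exc p M A A₀) [Fact p.Prime] (S : Sylow p G) (hSM : (S : Subgroup G) ≤ M)
    (hAS : A ≤ (S : Subgroup G)) :
    Subgroup.normalizer ((S : Subgroup G) : Set G) ≤ Subgroup.normalizer (A : Set G) := by
  have e : ((S.subtype hSM : Sylow p M) : Subgroup M).map M.subtype = (S : Subgroup G) := by
    rw [Sylow.coe_subtype, Subgroup.map_subgroupOf_eq_of_le hSM]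
  intro g hg
  refine h.normalizer_le_normalizer (S.subtype hSM) (hAS.trans e.ge) ?_
  rw [e]; exact hg

/-- Sylow subgroups of `G` at two different `τ₂`-primes. -/
theorem sylow_centralizes (h : Exc p M A A₀) (hE : Cfsg.IsComplIn E (Cfsg.sigmaCore M) M) (hAE : A ≤ E)
    (hq : q ∈ Cfsg.tau2 M) (hpτ : p ∈ Cfsg.tau2 M) (hqp : q ≠ p) {Y : Subgroup G} (hY : IsPGroup q Y) (hYE : Y ≤ E) :
    Y ≤ Subgroup.centralizer (A : Set G) := by
  classical
  haveI := Fact.mk h.hp
  haveI := Fact.mk hq.1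
  obtain ⟨B, B₀, hBE, hB⟩ := exists_elem_compl h.hG h.hM hE hq
  have hab : ∀ S : Sylow q G, IsMulCommutative (S : Subgroup G) := by
    by_contra hne
    push Not at hne
    obtain ⟨S, hS⟩ := hne
    refine hqp (hB.tau2_eq (fun S' hS' => hS ?_) hE hBE hpτ).symm
    obtain ⟨g, hg⟩ := MulAction.exists_smul_eq G S' S
    haveI := hS'
    rw [← hg, Sylow.coe_subgroup_smul]
    exact Subgroup.map_isMulCommutative _ _
  have hYB : IsPGroup q ↥(Y ⊔ B) := hY.to_sup_of_normal_right' hB.maxElem.isPGroup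
    (hYE.trans (hB.compl_le_normalizer hE hBE))
  obtain ⟨S, hS⟩ := hYB.exists_le_sylow
  haveI := hab S
  have hSC : (S : Subgroup G) ≤ Subgroup.centralizer (B : Set G) := fun s hs b hb =>
    congrArg Subtype.val (mul_comm' (⟨b, hS (Subgroup.mem_sup_right hb)⟩ : (S : Subgroup G)) ⟨s, hs⟩)
  have hSM : (S : Subgroup G) ≤ M := hSC.trans hB.centralizer_le
  have hNB : Subgroup.normalizer ((S : Subgroup G) : Set G) ≤ Subgroup.normalizer (B : Set G) :=
    hB.sylow_normalizer_le_normalizer S hSM (le_sup_right.trans hS)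
  have hAB : A ≤ Subgroup.centralizer (B : Set G) :=
    commute_of_disjoint (π := {p}) (ρ := {q}) (hAE.trans (hB.compl_le_normalizer hE hBE))
      (hBE.trans (h.compl_le_normalizer hE hAE)) ((isPi_singleton_iff h.hp).2 h.maxElem.isPGroup)
      ((isPi_singleton_iff hq.1).2 hB.maxElem.isPGroup) (Set.disjoint_singleton.2 hqp.symm)
  obtain ⟨L, hL, hNL⟩ := (eq_top_or_exists_le_coatom _).resolve_left
    (normalizer_ne_top h.hG hB.maxElem.ne_bot (hB.maxElem.ne_top h.hG))
  have hYS : Y ≤ (S : Subgroup G) := le_sup_left.trans hS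
  have hSd : (S : Subgroup G) ≤ ⁅L, L⁆ :=
    (sylow_le_derived_normalizer h.hG S).trans (Subgroup.commutator_mono (hNB.trans hNL) (hNB.trans hNL))
  exact centralizes_of_le_derived h.hG hL hq.1 h.hp hqp.symm (h.maxElem.not_beta h.hG L) hY (hYS.trans hSd)
    h.maxElem.isPGroup ((hAB.trans (Subgroup.centralizer_le_normalizer _)).trans hNL)
    (hYE.trans (h.compl_le_normalizer hE hAE))

end Exc

/-- `N(P) ≤ M` for noncyclic `p`-subgroups, `p ∈ σ(M)`. -/
theorem normalizer_le_of_noncyclic (hG : Cfsg.IsMinSimpleOddOrder G) (hM : IsCoatom M) (hpσ : p ∈ Cfsg.sigma M)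
    {P : Subgroup G} (hP : IsPGroup p P) (hPM : P ≤ M) (hnc : ¬ IsCyclic P) :
    Subgroup.normalizer (P : Set G) ≤ M := by
  have hp : p.Prime := hpσ.1
  haveI := Fact.mk hp
  obtain ⟨A, hAP, hAe, hA2⟩ := exists_elem_sq hG hp hP hnc
  have hC : Subgroup.centralizer (A : Set G) ≤ M := by
    by_cases hnu : ∀ B : Subgroup G, B ≤ A → Nat.card B = p →
        ∃ L' : Subgroup G, IsCoatom L' ∧ Subgroup.normalizer (B : Set G) ≤ L' ∧ L' ≠ M
    · exact AllNonUnique.centralizer_le ⟨hG, hM, hp, hAP.trans hPM, hAe, hA2, hnu⟩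
    · push Not at hnu
      obtain ⟨B, hB, hBc, hBL⟩ := hnu
      have hbot : B ≠ ⊥ := fun e => hp.ne_one (by rw [← hBc, e, Subgroup.card_bot])
      obtain ⟨L', hL', hNL'⟩ := (eq_top_or_exists_le_coatom _).resolve_left
        (normalizer_ne_top hG hbot fun e => hM.1 (top_unique (e.ge.trans (hB.trans (hAP.trans hPM)))))
      exact hBL L' hL' hNL' ▸ ((Subgroup.centralizer_le (SetLike.coe_subset_coe.2 hB)).trans
        (Subgroup.centralizer_le_normalizer _)).trans hNL'
  intro g hg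
  obtain ⟨m, hm, c, hc, rfl⟩ := (fusion hG hM hpσ hP (fun e => hnc (e ▸ inferInstance)) hPM).2 g
    ((conj_smul_eq_self_of_mem_normalizer hg).le.trans hPM)
  exact M.mul_mem hm (hC (Subgroup.centralizer_le (SetLike.coe_subset_coe.2 hAP) hc))

/-- The centralizer of a `τ₂`-element of `σ̂(M)` lies in `M` only. -/
theorem tau2_element_uniq (hG : Cfsg.IsMinSimpleOddOrder G) (hM : IsCoatom M)
    (hE : Cfsg.IsComplIn E (Cfsg.sigmaCore M) M) {x : G} (hxM : x ∈ M) (hx1 : x ≠ 1)
    (hx : ∀ r : ℕ, r.Prime → r ∣ orderOf x → r ∈ Cfsg.tau2 M) (hxσ : x ∈ Cfsg.sigmaHat M) :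
    Subgroup.centralizer ({x} : Set G) ≤ M ∧
      ∀ L : Subgroup G, IsCoatom L → Subgroup.centralizer ({x} : Set G) ≤ L → L = M := by
  classical
  set Z := Subgroup.zpowers x with hZ
  have hZc : Nat.card Z = orderOf x := Nat.card_zpowers x
  obtain ⟨m, hm, hmE⟩ := exists_conj_le_compl hG hM hE (Subgroup.zpowers_le.2 hxM)
    fun r hr hd => (hx r hr (hZc ▸ hd)).2.1
  obtain ⟨y, hy, hy1, hxy⟩ := hxσ.2
  obtain ⟨r, hr, hrx⟩ := Nat.exists_prime_and_dvd (fun e => hx1 (orderOf_eq_one_iff.1 e))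
  haveI := Fact.mk hr
  obtain ⟨A, A₀, hAE, h⟩ := exists_elem_compl hG hM hE (hx r hr hrx)
  set W := MulAut.conj m • Z with hW
  have hWA : W ≤ Subgroup.centralizer (A : Set G) := by
    have hdvd : Nat.card W ∣ Nat.card ↥(W ⊓ Subgroup.centralizer (A : Set G)) := by
      refine (Nat.dvd_iff_prime_pow_dvd_dvd _ _).2 fun s k hs hk => ?_
      rcases Nat.eq_zero_or_pos k with rfl | hk0
      · simp
      haveI := Fact.mk hs
      have hsτ : s ∈ Cfsg.tau2 M := hx s hs (by
        rw [← hZc, ← card_conj_smul m Z]; exact (dvd_pow_self s hk0.ne').trans hk)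
      obtain ⟨P⟩ : Nonempty (Sylow s W) := inferInstance
      set P' := (P : Subgroup W).map W.subtype with hP'
      have hP'E : P' ≤ E := (Subgroup.map_subtype_le _).trans hmE
      have hP'C : P' ≤ Subgroup.centralizer (A : Set G) := by
        by_cases hsr : s = r
        · subst hsr
          have hR : IsPGroup s ↥(P' ⊔ A) := (P.2.map _).to_sup_of_normal_right' h.maxElem.isPGroup
            (hP'E.trans (h.compl_le_normalizer hE hAE))
          have hab := sylow_comm_of_not_sigma hG hM hs hsτ.2.1 (sup_le (hP'E.trans hE.1) h.hAM) hR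
          exact fun a ha b hb => hab b (Subgroup.mem_sup_right hb) a (Subgroup.mem_sup_left ha)
        · exact h.sylow_centralizes hE hAE hsτ (hx r hr hrx) hsr (P.2.map _) hP'E
      refine dvd_trans ?_ (Subgroup.card_dvd_of_le (le_inf (Subgroup.map_subtype_le _) hP'C))
      rw [Subgroup.card_subtype, P.card_eq_multiplicity]
      exact Nat.pow_dvd_pow s ((hs.pow_dvd_iff_le_factorization Nat.card_pos.ne').1 hk)
    exact inf_eq_left.1 (Subgroup.eq_of_le_of_card_ge inf_le_left (Nat.le_of_dvd Nat.card_pos hdvd))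
  set x' := m * x * m⁻¹ with hx'
  have hx'C : x' ∈ Subgroup.centralizer (A : Set G) := hWA (conj_mem_conj_smul (Subgroup.mem_zpowers x))
  have key : ∀ L : Subgroup G, IsCoatom L → Subgroup.centralizer ({x'} : Set G) ≤ L → L = M := by
    intro L hL hCL
    by_contra hne
    have hAL : A ≤ L := fun a ha => hCL (Subgroup.mem_centralizer_singleton_iff.2 (hx'C a ha))
    have h1 := h.inf_eq_bot hL hne hAL
    have hmem : m * y * m⁻¹ ∈ Cfsg.sigmaCore M ⊓ L := by
      refine ⟨conj_mem_of_le_normalizer (le_normalizer_piCoreOf _ M hm) y hy,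
        hCL (Subgroup.mem_centralizer_singleton_iff.2 ?_)⟩
      calc m * y * m⁻¹ * x' = m * (y * x) * m⁻¹ := by rw [hx']; group
        _ = m * (x * y) * m⁻¹ := by rw [hxy]
        _ = x' * (m * y * m⁻¹) := by rw [hx']; group
    rw [h1, Subgroup.mem_bot, mul_inv_eq_one, mul_eq_left] at hmem
    exact hy1 hmem
  have huniq : ∀ L : Subgroup G, IsCoatom L → Subgroup.centralizer ({x} : Set G) ≤ L → L = M := by
    intro L hL hCL
    have hL' : IsCoatom (MulAut.conj m • L) := ((MulAut.conj m).mapSubgroup).isCoatom_iff _ |>.2 hL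
    have h1 := key _ hL' fun g hg => by
      rw [mem_conj_smul_iff]
      refine hCL (Subgroup.mem_centralizer_singleton_iff.2 ?_)
      have := Subgroup.mem_centralizer_singleton_iff.1 hg
      calc m⁻¹ * g * m * x = m⁻¹ * (g * x') * m := by rw [hx']; group
        _ = m⁻¹ * (x' * g) * m := by rw [this]
        _ = _ := by rw [hx']; group
    have h2 : MulAut.conj m • L = MulAut.conj m • M := h1.trans (smul_eq_self hm).symm
    exact smul_left_cancel _ h2
  obtain ⟨L, hL, hCL⟩ := (eq_top_or_exists_le_coatom _).resolve_left (centralizer_singleton_ne_top hG hx1)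
  exact ⟨huniq L hL hCL ▸ hCL, huniq⟩

end CfsgLib.OddLocal
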