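import Mathlib
import Cfsg.Prelude.Def_OddOrderLocal
import Cfsg.Agent.S1886
import Cfsg.Agent.Lib.Coprime.Action

/-!
Basic tools for the local analysis of a minimal simple group of odd order.
-/

set_option autoImplicit false
set_option linter.style.haveILetI false

open Pointwise
open CfsgLib.Coprime

namespace CfsgLib.OddLocal

universe u

variable {G : Type u} [Group G] [Finite G]

/-- All prime divisors of the order lie in `π`. -/
def IsPi (π : Set ℕ) (H : Subgroup G) : Prop := ∀ p : ℕ, p.Prime → p ∣ Nat.card H → p ∈ π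

theorem IsPi.mono {π : Set ℕ} {H K : Subgroup G} (hK : IsPi π K) (h : H ≤ K) : IsPi π H :=
  fun p hp hd => hK p hp (hd.trans (Subgroup.card_dvd_of_le h))

theorem IsPi.coprime {π ρ : Set ℕ} {H K : Subgroup G} (hH : IsPi π H) (hK : IsPi ρ K)
    (hd : Disjoint π ρ) : (Nat.card H).Coprime (Nat.card K) :=
  Nat.coprime_of_dvd fun p hp h1 h2 => Set.disjoint_left.1 hd (hH p hp h1) (hK p hp h2)

theorem coprime_primesNotDvd {A Y : Subgroup G} (h : IsPi (Cfsg.primesNotDvd (Nat.card A)) Y) :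
    (Nat.card A).Coprime (Nat.card Y) :=
  Nat.coprime_of_dvd fun p hp h1 h2 => (h p hp h2).2 h1

theorem piCoreOf_le (π : Set ℕ) (X : Subgroup G) : Cfsg.piCoreOf π X ≤ X := Subgroup.map_subtype_le _

theorem isPi_piCoreOf (π : Set ℕ) (X : Subgroup G) : IsPi π (Cfsg.piCoreOf π X) := by
  intro p hp hd
  rw [Cfsg.piCoreOf, Subgroup.card_map_of_injective X.subtype_injective] at hd
  exact Cfsg.Agent.S1886.piCore_isPi π p hp hd

theorem le_normalizer_piCoreOf (π : Set ℕ) (X : Subgroup G) :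
    X ≤ Subgroup.normalizer (Cfsg.piCoreOf π X : Set G) :=
  (Subgroup.normal_subgroupOf_iff_le_normalizer (piCoreOf_le π X)).1 (by
    rw [Cfsg.piCoreOf, Subgroup.subgroupOf, Subgroup.comap_map_eq_self_of_injective X.subtype_injective]
    infer_instance)

theorem le_piCoreOf {π : Set ℕ} {X Y : Subgroup G} (hYX : Y ≤ X)
    (hXY : X ≤ Subgroup.normalizer (Y : Set G)) (hY : IsPi π Y) : Y ≤ Cfsg.piCoreOf π X := by
  rw [← Subgroup.map_subgroupOf_eq_of_le hYX, Cfsg.piCoreOf]
  refine Subgroup.map_mono (le_sSup ⟨(Subgroup.normal_subgroupOf_iff_le_normalizer hYX).2 hXY,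
    fun p hp hd => hY p hp ?_⟩)
  rwa [Nat.card_congr (Subgroup.subgroupOfEquivOfLe hYX).toEquiv] at hd

theorem piCoreOf_normalizer_le (π : Set ℕ) (X : Subgroup G) :
    Subgroup.normalizer (X : Set G) ≤ Subgroup.normalizer (Cfsg.piCoreOf π X : Set G) := by
  intro g hg
  rw [mem_normalizer_iff_conj_smul]
  have hgX := conj_smul_eq_self_of_mem_normalizer hg
  refine Subgroup.eq_of_le_of_card_ge (le_piCoreOf ?_ ?_ ?_) (card_conj_smul g _).ge
  · conv_rhs => rw [← hgX]
    exact Subgroup.map_mono (piCoreOf_le π X)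
  · conv_lhs => rw [← hgX]
    intro x hx
    rw [mem_conj_smul_iff] at hx
    have h1 := conj_smul_eq_self_of_mem_normalizer (le_normalizer_piCoreOf π X hx)
    rw [mem_normalizer_iff_conj_smul, ← mul_smul, ← map_mul]
    rw [show x * g = g * (g⁻¹ * x * g) by group, map_mul, mul_smul, h1]
  · intro p hp hd
    rw [card_conj_smul] at hd
    exact isPi_piCoreOf π X p hp hd

/-! ### Minimal simple groups -/

section MinSimple

variable (hG : Cfsg.IsMinSimpleOddOrder G)
include hG

theorem isSolvable_of_ne_top {H : Subgroup G} (hH : H ≠ ⊤) : Group.IsSolvable H := hG.2.2.2 H hH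

theorem normalizer_ne_top {H : Subgroup G} (h1 : H ≠ ⊥) (h2 : H ≠ ⊤) :
    Subgroup.normalizer (H : Set G) ≠ ⊤ := by
  intro h
  haveI := hG.2.1
  exact ((Subgroup.normalizer_eq_top_iff.1 h).eq_bot_or_eq_top).elim h1 h2

theorem center_eq_bot : Subgroup.center G = ⊥ := by
  haveI := hG.2.1
  refine ((inferInstance : (Subgroup.center G).Normal).eq_bot_or_eq_top).resolve_right fun h => ?_
  exact hG.2.2.1 ⟨⟨fun x y => (Subgroup.mem_center_iff.1 (h.ge (Subgroup.mem_top y)) x)⟩⟩

theorem centralizer_ne_top {H : Subgroup G} (h1 : H ≠ ⊥) :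
    Subgroup.centralizer (H : Set G) ≠ ⊤ := by
  intro h
  refine h1 (eq_bot_iff.2 fun x hx => ?_)
  rw [← center_eq_bot hG, Subgroup.mem_center_iff]
  exact fun g => (h.ge (Subgroup.mem_top g) x hx).symm

theorem centralizer_singleton_ne_top {x : G} (hx : x ≠ 1) :
    Subgroup.centralizer ({x} : Set G) ≠ ⊤ := by
  intro h
  refine hx (Subgroup.mem_bot.1 (center_eq_bot hG ▸ Subgroup.mem_center_iff.2 fun g => ?_))
  exact (Subgroup.mem_centralizer_singleton_iff.1 (h.ge (Subgroup.mem_top g)))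

theorem ne_top_of_isPi {π : Set ℕ} {H : Subgroup G} (hH : IsPi π H) {p : ℕ} (hp : p.Prime)
    (hd : p ∣ Nat.card G) (hpπ : p ∉ π) : H ≠ ⊤ := by
  rintro rfl
  exact hpπ (hH p hp (by rwa [Subgroup.card_top]))

end MinSimple

end CfsgLib.OddLocal
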