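import Mathlib
import Cfsg.Agent.Lib.OddLocal.MinSimple
import Cfsg.Agent.Lib.Fitting.Basic
import Cfsg.Agent.Lib.PSolvable.Core
import Cfsg.Agent.Lib.BG.FittingDerived
import Cfsg.Agent.Lib.BG.PiHall

/-!
Cores of subgroups, seen in the ambient group.
-/

set_option autoImplicit false
set_option linter.style.haveILetI false

open Pointwise
open CfsgLib.Coprime

namespace CfsgLib.OddLocal

universe u

variable {G : Type u} [Group G] [Finite G]

/-- `O_q(X)` in the ambient group. -/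
abbrev opOf (q : ℕ) (X : Subgroup G) : Subgroup G := Cfsg.piCoreOf {q} X

/-- `O_{q'}(X)` in the ambient group. -/
abbrev opPrimeOf (q : ℕ) (X : Subgroup G) : Subgroup G := Cfsg.piCoreOf {s | s ≠ q} X

theorem isPi_singleton_iff {q : ℕ} (hq : q.Prime) {Y : Subgroup G} : IsPi {q} Y ↔ IsPGroup q Y := by
  haveI := Fact.mk hq
  refine ⟨fun h => IsPGroup.of_card (n := (Nat.card Y).primeFactorsList.length)
    (Nat.eq_prime_pow_of_unique_prime_dvd Nat.card_pos.ne' fun {d} hd hdvd => h d hd hdvd),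
    fun h r hr hd => ?_⟩
  obtain ⟨m, hm⟩ := IsPGroup.iff_card.1 h
  exact (Nat.prime_dvd_prime_iff_eq hr hq).1 (hr.dvd_of_dvd_pow (hm ▸ hd))

theorem isPi_ne_iff {q : ℕ} (hq : q.Prime) {Y : Subgroup G} :
    IsPi {s | s ≠ q} Y ↔ (Nat.card Y).Coprime q := by
  rw [Nat.coprime_comm, hq.coprime_iff_not_dvd]
  exact ⟨fun h hd => h q hq hd rfl, fun h r _ hd he => h (he ▸ hd)⟩

theorem isPGroup_opOf {q : ℕ} (hq : q.Prime) (X : Subgroup G) : IsPGroup q (opOf q X) :=
  (isPi_singleton_iff hq).1 (isPi_piCoreOf _ X)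

theorem le_opPrimeOf_compl {q r : ℕ} (hne : r ≠ q) (X : Subgroup G) : IsPi {s | s ≠ q} (opOf r X) :=
  fun s hs hd he => hne ((isPi_piCoreOf _ X s hs hd).symm.trans he)

theorem eq_bot_of_disjoint {π ρ : Set ℕ} {A : Subgroup G} (hA : IsPi π A) (hB : IsPi ρ A)
    (hd : Disjoint π ρ) : A = ⊥ :=
  Subgroup.card_eq_one.1 (BG.eq_one_of_pi_and_compl (π := π) hA fun p hp h hπ =>
    Set.disjoint_left.1 hd hπ (hB p hp h))

/-- Two normalized subgroups of disjoint type commute. -/
theorem commute_of_disjoint {π ρ : Set ℕ} {A B : Subgroup G} (hAB : A ≤ Subgroup.normalizer (B : Set G))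
    (hBA : B ≤ Subgroup.normalizer (A : Set G)) (hA : IsPi π A) (hB : IsPi ρ B) (hd : Disjoint π ρ) :
    A ≤ Subgroup.centralizer (B : Set G) := by
  intro a ha b hb
  have h0 : A ⊓ B = ⊥ := eq_bot_of_disjoint (hA.mono inf_le_left) (hB.mono inf_le_right) hd
  have h1 : a * b * a⁻¹ * b⁻¹ ∈ A ⊓ B := ⟨by
      rw [show a * b * a⁻¹ * b⁻¹ = a * (b * a⁻¹ * b⁻¹) by group]
      exact A.mul_mem ha ((Subgroup.mem_normalizer_iff.1 (hBA hb) a⁻¹).1 (A.inv_mem ha)),
    B.mul_mem ((Subgroup.mem_normalizer_iff.1 (hAB ha) b).1 hb) (B.inv_mem hb)⟩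
  rw [h0, Subgroup.mem_bot, mul_inv_eq_one, mul_inv_eq_iff_eq_mul] at h1
  exact h1.symm

theorem piCoreOf_mono {π ρ : Set ℕ} (h : π ⊆ ρ) (X : Subgroup G) :
    Cfsg.piCoreOf π X ≤ Cfsg.piCoreOf ρ X :=
  le_piCoreOf (piCoreOf_le π X) (le_normalizer_piCoreOf π X) fun p hp hd => h (isPi_piCoreOf π X p hp hd)

theorem opOf_commute {q r : ℕ} (hne : q ≠ r) (X : Subgroup G) :
    opOf q X ≤ Subgroup.centralizer (opOf r X : Set G) :=
  commute_of_disjoint ((piCoreOf_le _ X).trans (le_normalizer_piCoreOf _ X))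
    ((piCoreOf_le _ X).trans (le_normalizer_piCoreOf _ X)) (isPi_piCoreOf _ X) (isPi_piCoreOf _ X)
    (Set.disjoint_singleton.2 hne)

theorem opOf_commute_prime {q : ℕ} (X : Subgroup G) :
    opOf q X ≤ Subgroup.centralizer (opPrimeOf q X : Set G) :=
  commute_of_disjoint ((piCoreOf_le _ X).trans (le_normalizer_piCoreOf _ X))
    ((piCoreOf_le _ X).trans (le_normalizer_piCoreOf _ X)) (isPi_piCoreOf _ X) (isPi_piCoreOf _ X)
    (Set.disjoint_left.2 fun _ h1 h2 => h2 h1)

/-! ### The Fitting subgroup -/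

theorem opOf_eq {q : ℕ} (hq : q.Prime) (X : Subgroup G) :
    opOf q X = (Cfsg.pCore q X).map X.subtype := by
  haveI := Fitting.pCore_normal (G := X) q
  refine le_antisymm ?_ (le_piCoreOf (Subgroup.map_subtype_le _)
    (PSolvable.le_normalizer_map_of_characteristic Subgroup.le_normalizer _)
    ((isPi_singleton_iff hq).2 ((Fitting.pCore_isPGroup q).map _)))
  refine Subgroup.map_mono (Fitting.le_pCore inferInstance ((isPi_singleton_iff hq).1 ?_))
  exact Cfsg.Agent.S1886.piCore_isPi {q}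

theorem fittingOf_le (X : Subgroup G) : Cfsg.fittingOf X ≤ X := Subgroup.map_subtype_le _

theorem le_normalizer_fittingOf (X : Subgroup G) :
    X ≤ Subgroup.normalizer (Cfsg.fittingOf X : Set G) := by
  haveI := Fitting.fittingSubgroup_normal (G := X)
  exact (Subgroup.normal_subgroupOf_iff_le_normalizer (fittingOf_le X)).1 (by
    rw [Cfsg.fittingOf, Subgroup.subgroupOf, Subgroup.comap_map_eq_self_of_injective X.subtype_injective]
    infer_instance)

theorem fittingOf_isNilpotent (X : Subgroup G) : Group.IsNilpotent ↥(Cfsg.fittingOf X) := by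
  haveI := Fitting.fittingSubgroup_isNilpotent (G := X)
  exact Group.nilpotent_of_mulEquiv
    ((Cfsg.fittingSubgroup X).equivMapOfInjective X.subtype X.subtype_injective)

theorem opOf_le_fittingOf {q : ℕ} (hq : q.Prime) (X : Subgroup G) :
    opOf q X ≤ Cfsg.fittingOf X := by
  haveI := Fact.mk hq
  rw [opOf_eq hq]
  exact Subgroup.map_mono (Fitting.pCore_le_fittingSubgroup q)

theorem fittingOf_le_of {X H : Subgroup G} (h : ∀ q : ℕ, q.Prime → opOf q X ≤ H) :
    Cfsg.fittingOf X ≤ H := by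
  rw [Cfsg.fittingOf, Subgroup.map_le_iff_le_comap]
  refine BG.fitting_le_of_pCore_le fun q hq => ?_
  rw [← Subgroup.map_le_iff_le_comap, ← opOf_eq hq]
  exact h q hq

theorem mem_opOf_of_mem_fittingOf {q : ℕ} (hq : q.Prime) {X : Subgroup G} {x : G}
    (hx : x ∈ Cfsg.fittingOf X) {k : ℕ} (hk : x ^ q ^ k = 1) : x ∈ opOf q X := by
  obtain ⟨y, hy, rfl⟩ := hx
  rw [opOf_eq hq]
  exact Subgroup.mem_map_of_mem _ (BG.mem_pCore_of_mem_fitting hq hy (k := k)
    (X.subtype_injective (by rw [map_pow, map_one]; exact hk)))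

theorem opOf_ne_bot_iff {q : ℕ} (hq : q.Prime) (X : Subgroup G) :
    opOf q X ≠ ⊥ ↔ q ∣ Nat.card (Cfsg.fittingOf X) := by
  haveI := Fact.mk hq
  constructor
  · intro h
    obtain ⟨m, hm⟩ := IsPGroup.iff_card.1 (isPGroup_opOf hq X)
    rcases Nat.eq_zero_or_pos m with rfl | hm0
    · exact absurd (Subgroup.card_eq_one.1 (by rw [hm, pow_zero])) h
    · exact (hm ▸ dvd_pow_self q hm0.ne').trans (Subgroup.card_dvd_of_le (opOf_le_fittingOf hq X))
  · intro hd h
    obtain ⟨x, hx⟩ := exists_prime_orderOf_dvd_card' (G := Cfsg.fittingOf X) q hd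
    rw [← Subgroup.orderOf_coe] at hx
    have h1 : (x : G) ∈ opOf q X := mem_opOf_of_mem_fittingOf hq x.2 (k := 1)
      (by rw [pow_one, ← hx]; exact pow_orderOf_eq_one _)
    rw [h, Subgroup.mem_bot] at h1
    exact hq.one_lt.ne (by rw [← hx, h1, orderOf_one])

theorem inf_centralizer_fittingOf_le {X : Subgroup G} (hX : Group.IsSolvable X) :
    X ⊓ Subgroup.centralizer (Cfsg.fittingOf X : Set G) ≤ Cfsg.fittingOf X := by
  rintro x ⟨hxX, hxC⟩
  exact ⟨⟨x, hxX⟩, PSolvable.centralizer_fittingSubgroup_le (G := X) fun f hf =>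
    Subtype.ext (hxC f (Subgroup.mem_map_of_mem X.subtype hf)), rfl⟩

/-- A nontrivial normalized `π`-subgroup of a solvable group meets the Fitting subgroup. -/
theorem exists_opOf_ne_bot {π : Set ℕ} {X Y : Subgroup G} (hX : Group.IsSolvable X) (hYX : Y ≤ X)
    (hXY : X ≤ Subgroup.normalizer (Y : Set G)) (hY : IsPi π Y) (hne : Y ≠ ⊥) :
    ∃ q : ℕ, q.Prime ∧ q ∈ π ∧ opOf q X ≠ ⊥ := by
  by_contra h
  push Not at h
  haveI := hX
  haveI hYs : Group.IsSolvable Y := solvable_of_solvable_injective (Subgroup.inclusion_injective hYX)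
  have hF : Cfsg.fittingOf Y = ⊥ := le_bot_iff.1 (fittingOf_le_of fun q hq => by
    by_cases hb : opOf q Y = ⊥
    · exact hb.le
    · exfalso
      haveI := Fact.mk hq
      refine hb (le_bot_iff.1 ((le_piCoreOf ((piCoreOf_le _ Y).trans hYX)
        (hXY.trans (piCoreOf_normalizer_le _ Y)) (isPi_piCoreOf _ Y)).trans (h q hq ?_).le))
      exact hY q hq (((opOf_ne_bot_iff hq Y).1 hb).trans (Subgroup.card_dvd_of_le (fittingOf_le Y))))
  refine hne (le_bot_iff.1 fun y hy => ?_)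
  have h1 := inf_centralizer_fittingOf_le hYs ⟨hy, fun f hf => by
    rw [SetLike.mem_coe, hF, Subgroup.mem_bot] at hf; rw [hf, one_mul, mul_one]⟩
  rwa [hF] at h1

/-! ### Normalizers of `q`-subgroups inside a solvable subgroup -/

/-- `O_{q'}(N_X(P)) ≤ O_{q'}(X)`. -/
theorem le_opPrimeOf_of_normalizer {q : ℕ} (hq : q.Prime) {X P D : Subgroup G}
    (hX : Group.IsSolvable X) (hP : IsPGroup q P) (hPX : P ≤ X) (hDX : D ≤ X)
    (hD : IsPi {s | s ≠ q} D) (hDP : D ≤ Subgroup.normalizer (P : Set G))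
    (hND : X ⊓ Subgroup.normalizer (P : Set G) ≤ Subgroup.normalizer (D : Set G)) :
    D ≤ opPrimeOf q X := by
  haveI := Fact.mk hq
  have h1 : D.subgroupOf X ≤ Cfsg.pPrimeCore q X := by
    refine PSolvable.le_pPrimeCore_of_le_normalizer
      (PSolvable.isPConstrained_of_isPSolvable (PSolvable.isPSolvable_of_isSolvable hX))
      (P := P.subgroupOf X) (hP.comap_of_injective X.subtype X.subtype_injective) ?_ ?_ ?_
    · rw [Nat.card_congr (Subgroup.subgroupOfEquivOfLe hDX).toEquiv]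
      exact (isPi_ne_iff hq).1 hD
    · intro d hd
      refine Subgroup.mem_normalizer_iff.2 fun y => ?_
      exact Subgroup.mem_normalizer_iff.1 (hDP hd) (y : G)
    · intro n hn
      refine Subgroup.mem_normalizer_iff.2 fun y => ?_
      refine Subgroup.mem_normalizer_iff.1 (hND ⟨n.2, ?_⟩) (y : G)
      show (n : G) ∈ Subgroup.normalizer (P : Set G)
      rw [mem_normalizer_iff_conj_smul]
      have h3 := congrArg (Subgroup.map X.subtype) (mem_normalizer_iff_conj_smul.mp hn)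
      rwa [map_conj_smul, Subgroup.map_subgroupOf_eq_of_le hPX] at h3
  rw [← Subgroup.map_subgroupOf_eq_of_le hDX]
  refine (Subgroup.map_mono h1).trans ?_
  haveI := Transfer.pPrimeCore_normal q X
  exact le_piCoreOf (Subgroup.map_subtype_le _)
    (PSolvable.le_normalizer_map_of_characteristic Subgroup.le_normalizer _)
    ((isPi_ne_iff hq).2 (by
      rw [Subgroup.card_map_of_injective X.subtype_injective]; exact Transfer.pPrimeCore_coprime q))

theorem normalizer_eq_of_isCoatom (hG : Cfsg.IsMinSimpleOddOrder G) {M Y : Subgroup G}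
    (hM : IsCoatom M) (hYM : Y ≤ M) (hY : Y ≠ ⊥) (hMY : M ≤ Subgroup.normalizer (Y : Set G)) :
    Subgroup.normalizer (Y : Set G) = M := by
  refine ((hM.le_iff).1 hMY).resolve_left (normalizer_ne_top hG hY fun h => hM.1 ?_)
  exact top_unique (h.ge.trans hYM)

end CfsgLib.OddLocal
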