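import Cfsg.Agent.Lib.BG.Narrow
import Cfsg.Agent.Lib.PGroup.NormalRankTwo

/-!
Facts on `p`-groups used for the non-TI Fitting subgroup (BG 15.7).
-/

set_option autoImplicit false
set_option linter.style.haveILetI false
set_option linter.unusedSectionVars false

open scoped commutatorElement

namespace CfsgLib.OddLocal

universe u

variable {p : ℕ} [hp : Fact p.Prime] {R : Type u} [Group R] [Finite R]

theorem conj_pow_commutes_normal_sq (hR : IsPGroup p R) (W : Subgroup R) [W.Normal]
    (hW : Cfsg.IsElementaryAbelian p W) (hW2 : Nat.card W = p ^ 2) (g : R) {e : R} (he : e ∈ W) :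
    Commute (g ^ p) e := by
  set Z := W ⊓ Subgroup.center R with hZ
  have hZn : Z.Normal := Subgroup.normal_inf_normal _ _
  -- the commutators with `W` are central
  have hcz : ∀ (h : R) (f : R), f ∈ W → h * f * h⁻¹ * f⁻¹ ∈ Z := by
    intro h f hf
    haveI : Z.Normal := hZn
    set π := QuotientGroup.mk' Z
    have hWq : W.map π ≤ Subgroup.center (R ⧸ Z) := by
      haveI hWn : (W.map π).Normal := Subgroup.Normal.map inferInstance π (QuotientGroup.mk'_surjective Z)
      rcases eq_or_ne (W.map π) ⊥ with hb | hb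
      · rw [hb]; exact bot_le
      haveI := (hR.to_quotient Z).isNilpotent
      haveI := hR.isNilpotent
      set D := W ⊓ (Subgroup.center (R ⧸ Z)).comap π with hD
      obtain ⟨⟨c, hc'⟩, hc1⟩ := Subgroup.ne_bot_iff_exists_ne_one.1 (CfsgLib.Critical.inf_center_ne_bot (W.map π) hb)
      obtain ⟨⟨a, ha, hac⟩, hcc⟩ := hc'
      have hlt : Z < D := by
        refine lt_of_le_of_ne (fun b hb' => ⟨hb'.1, ?_⟩) fun e' => hc1 (Subtype.ext (show c = 1 from ?_))
        · show π b ∈ Subgroup.center (R ⧸ Z)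
          rw [show π b = 1 from (QuotientGroup.eq_one_iff b).2 hb']
          exact one_mem _
        · rw [← hac]
          refine (QuotientGroup.eq_one_iff a).2 (e'.symm ▸ (⟨ha, ?_⟩ : a ∈ D))
          show π a ∈ Subgroup.center (R ⧸ Z)
          rw [hac]; exact hcc
      have hZ1 : Z ≠ ⊥ := hZ ▸ CfsgLib.Critical.inf_center_ne_bot W fun e' => hb (by rw [e', Subgroup.map_bot])
      obtain ⟨i, hi⟩ := (hR.to_subgroup Z).exists_card_eq
      obtain ⟨j, hj⟩ := (hR.to_subgroup D).exists_card_eq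
      have hi0 : i ≠ 0 := fun e' => hZ1 (Subgroup.card_eq_one.1 (by rw [hi, e', pow_zero]))
      have hc2 : Nat.card Z < Nat.card D := lt_of_not_ge fun hge =>
        hlt.ne (Subgroup.eq_of_le_of_card_ge hlt.le hge)
      rw [hi, hj, Nat.pow_lt_pow_iff_right hp.out.one_lt] at hc2
      have hDW : D = W := Subgroup.eq_of_le_of_card_ge inf_le_left (by
        rw [hW2, hj]; exact Nat.pow_le_pow_right hp.out.pos (by omega))
      rintro _ ⟨b, hb', rfl⟩
      exact (hDW.ge hb').2
    have h1 : π f ∈ Subgroup.center (R ⧸ Z) := hWq (Subgroup.mem_map_of_mem π hf)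
    refine (QuotientGroup.eq_one_iff _).1 (show π (h * f * h⁻¹ * f⁻¹) = 1 from ?_)
    rw [map_mul, map_mul, map_mul, map_inv, map_inv, Subgroup.mem_center_iff.1 h1 (π h), mul_inv_cancel_right,
      mul_inv_cancel]
  set c := g * e * g⁻¹ * e⁻¹ with hc
  have hcZ := hcz g e he
  have hn : ∀ n : ℕ, g ^ n * e * (g ^ n)⁻¹ = c ^ n * e := by
    intro n
    induction n with
    | zero => simp
    | succ n ih =>
      have hgc : g * c ^ n * g⁻¹ = c ^ n := by
        rw [Subgroup.mem_center_iff.1 ((Subgroup.center R).pow_mem hcZ.2 n) g, mul_inv_cancel_right]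
      calc g ^ (n + 1) * e * (g ^ (n + 1))⁻¹ = g * (g ^ n * e * (g ^ n)⁻¹) * g⁻¹ := by rw [pow_succ']; group
        _ = g * c ^ n * g⁻¹ * (g * e * g⁻¹) := by rw [ih]; group
        _ = c ^ n * (c * e) := by rw [hgc, show c * e = g * e * g⁻¹ from inv_mul_cancel_right _ e]
        _ = c ^ (n + 1) * e := by rw [pow_succ]; exact (mul_assoc _ _ _).symm
  have := hn p
  rw [hW.2 c hcZ.1, one_mul, mul_inv_eq_iff_eq_mul] at this
  exact this

/-- In a nonabelian `p`-group no element of order `p` outside the derived group, with abelian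
centralizer of rank two, is a `p`-th power within it. -/
theorem no_root_of_centralizer (hR : IsPGroup p R) (hp2 : p ≠ 2) (hna : ¬ IsMulCommutative R) {x w : R}
    (hx : orderOf x = p) (hw : w ^ p = x) (hxd : x ∉ commutator R)
    (hC : IsMulCommutative (Subgroup.centralizer ({x} : Set R)))
    (hC2 : Cfsg.PRankLE p 2 (Subgroup.centralizer ({x} : Set R))) : False := by
  classical
  have hpp := hp.out
  set T := Subgroup.centralizer ({x} : Set R) with hT
  have hTc : ∀ a ∈ T, ∀ b ∈ T, a * b = b * a := fun a ha b hb => by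
    haveI := hC
    have e := congrArg Subtype.val (mul_comm' (⟨a, ha⟩ : T) ⟨b, hb⟩)
    exact e
  have hncyc : ¬ IsCyclic (⊤ : Subgroup R) := fun h => hna (by
    haveI := h
    exact ⟨⟨fun a b => congrArg Subtype.val
      (mul_comm' (⟨a, Subgroup.mem_top a⟩ : (⊤ : Subgroup R)) ⟨b, Subgroup.mem_top b⟩)⟩⟩)
  obtain ⟨W, -, hWn, hW, hW2⟩ := CfsgLib.CyclicMax.exists_normal_rank_two hR hp2 ⊤ inferInstance hncyc
  haveI := hWn
  have hWT : W ≤ T := fun e he => Subgroup.mem_centralizer_singleton_iff.2 (by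
    rw [← hw]; exact (conj_pow_commutes_normal_sq hR W hW hW2 w he).eq.symm)
  have hxT : x ∈ T := Subgroup.mem_centralizer_singleton_iff.2 rfl
  -- elements of order `p` in `T` lie in `W`
  have homega : ∀ d ∈ T, d ^ p = 1 → d ∈ W := by
    intro d hd hdp
    set B := W ⊔ Subgroup.zpowers d with hB
    have hBT : B ≤ T := sup_le hWT (Subgroup.zpowers_le.2 hd)
    have hBp : ∀ b ∈ B, b ^ p = 1 := by
      intro b hb
      rw [hB, Subgroup.mem_sup_of_normal_left] at hb
      obtain ⟨u, hu, v, hv, rfl⟩ := hb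
      obtain ⟨i, rfl⟩ := Subgroup.mem_zpowers_iff.1 hv
      rw [(show Commute u (d ^ i) from hTc u (hWT hu) _ (T.zpow_mem hd i)).mul_pow, hW.2 u hu, one_mul,
        ← zpow_natCast, ← zpow_mul, mul_comm, zpow_mul, zpow_natCast, hdp, one_zpow]
    have hle := hC2 (B.subgroupOf T) ⟨⟨fun a b => Subtype.ext (Subtype.ext (hTc _ (hBT a.2) _ (hBT b.2)))⟩⟩
      fun a ha => Subtype.ext (by simpa using hBp (a : R) ha)
    rw [Nat.card_congr (Subgroup.subgroupOfEquivOfLe hBT).toEquiv] at hle
    exact (Subgroup.eq_of_le_of_card_ge (le_sup_left : W ≤ B) (hW2 ▸ hle)).ge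
      (Subgroup.mem_sup_right (Subgroup.mem_zpowers d))
  have hxp : x ^ p = 1 := hx ▸ pow_orderOf_eq_one x
  have hxW : x ∈ W := homega x hxT hxp
  have hxc : x ∉ Subgroup.center R := fun h => hna (by
    have : T = ⊤ := top_unique fun r _ => Subgroup.mem_centralizer_singleton_iff.2 (Subgroup.mem_center_iff.1 h r)
    exact ⟨⟨fun a b => hTc a (this ▸ Subgroup.mem_top a) b (this ▸ Subgroup.mem_top b)⟩⟩)
  -- `T` is normal, being the centralizer of `W`
  have hTW : T ≤ Subgroup.centralizer (W : Set R) := fun t ht e he => hTc e (hWT he) t ht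
  have hTn : ∀ t ∈ T, ∀ u : R, u * t * u⁻¹ ∈ T := fun t ht u => by
    refine Subgroup.mem_centralizer_singleton_iff.2 ?_
    have h1 : (u⁻¹ * x * u) * t = t * (u⁻¹ * x * u) := hTW ht _ (by simpa using hWn.conj_mem x hxW u⁻¹)
    calc u * t * u⁻¹ * x = u * (t * (u⁻¹ * x * u)) * u⁻¹ := by group
      _ = u * ((u⁻¹ * x * u) * t) * u⁻¹ := by rw [h1]
      _ = x * (u * t * u⁻¹) := by group
  obtain ⟨u, hu⟩ : ∃ u : R, u * x ≠ x * u := by
    by_contra h
    push Not at h
    exact hxc (Subgroup.mem_center_iff.2 h)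
  have hwT : w ∈ T := Subgroup.mem_centralizer_singleton_iff.2 (by rw [← hw]; exact ((Commute.refl w).pow_right p).eq)
  set c := u * w * u⁻¹ * w⁻¹ with hc
  have hcT : c ∈ T := T.mul_mem (hTn w hwT u) (T.inv_mem hwT)
  have hcd : c ∈ commutator R := by
    rw [hc, ← commutatorElement_def, commutator_def]
    exact Subgroup.commutator_mem_commutator (Subgroup.mem_top u) (Subgroup.mem_top w)
  set z := u * x * u⁻¹ * x⁻¹ with hz
  have hz1 : z ≠ 1 := fun h => hu (by rw [hz, mul_inv_eq_one, mul_inv_eq_iff_eq_mul] at h; exact h)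
  have hcp : c ^ p = z := by
    rw [hc, (show Commute (u * w * u⁻¹) w⁻¹ from hTc _ (hTn w hwT u) _ (T.inv_mem hwT)).mul_pow, conj_pow,
      inv_pow, hw, hz]
  have hzp : z ^ p = 1 := by
    rw [hz, (show Commute (u * x * u⁻¹) x⁻¹ from hTc _ (hTn x hxT u) _ (T.inv_mem hxT)).mul_pow, conj_pow,
      inv_pow, hxp]
    group
  -- the commutators of `W` are central
  set d := u * c * u⁻¹ * c⁻¹ with hd
  have hdT : d ∈ T := T.mul_mem (hTn c hcT u) (T.inv_mem hcT)
  have hzd : z ∈ commutator R := by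
    rw [hz, ← commutatorElement_def, commutator_def]
    exact Subgroup.commutator_mem_commutator (Subgroup.mem_top u) (Subgroup.mem_top x)
  have hzW : z ∈ W := W.mul_mem (hWn.conj_mem x hxW u) (W.inv_mem hxW)
  have hzc : z ∈ Subgroup.center R := by
    -- otherwise `W` lies in the derived group
    by_contra hzc
    obtain ⟨v, hv⟩ : ∃ v : R, v * z ≠ z * v := by
      by_contra h
      push Not at h
      exact hzc (Subgroup.mem_center_iff.2 h)
    set z' := v * z * v⁻¹ * z⁻¹ with hz'
    have hz'W : z' ∈ W := W.mul_mem (hWn.conj_mem z hzW v) (W.inv_mem hzW)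
    have hz'd : z' ∈ commutator R := by
      rw [hz', ← commutatorElement_def, commutator_def]
      exact Subgroup.commutator_mem_commutator (Subgroup.mem_top v) (Subgroup.mem_top z)
    have hnot : z' ∉ Subgroup.zpowers z := by
      intro hmem
      have hn : ∀ r : R, r * z * r⁻¹ = r * z * r⁻¹ := fun _ => rfl
      obtain ⟨i, hi⟩ := Subgroup.mem_zpowers_iff.1 hmem
      -- an automorphism of `p`-power order fixes the line
      have hvz : v * z * v⁻¹ = z ^ (i + 1) := by rw [zpow_add_one, hi, hz', inv_mul_cancel_right]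
      have hpow : ∀ n : ℕ, v ^ n * z * (v ^ n)⁻¹ = z ^ ((i + 1) ^ n) := by
        intro n
        induction n with
        | zero => simp
        | succ n ih =>
          rw [show v ^ (n + 1) * z * (v ^ (n + 1))⁻¹ = v * (v ^ n * z * (v ^ n)⁻¹) * v⁻¹ by rw [pow_succ']; group,
            ih, ← conj_zpow, hvz, ← zpow_mul, ← pow_succ']
      obtain ⟨m, hm⟩ := hR v
      have h1 := hpow (p ^ m)
      rw [hm, one_mul, inv_one, mul_one] at h1
      have hzo : orderOf z = p := orderOf_eq_prime hzp hz1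
      have h2 : (z ^ ((i + 1) ^ p ^ m - 1) : R) = 1 := by rw [zpow_sub_one, ← h1, mul_inv_cancel]
      rw [← orderOf_dvd_iff_zpow_eq_one, hzo, ← ZMod.intCast_eq_intCast_iff_dvd_sub] at h2
      push_cast at h2
      rw [ZMod.pow_card_pow] at h2
      apply hv
      have hi0 : ((i : ℤ) : ZMod p) = 0 := by
        have : (1 : ZMod p) = (i : ZMod p) + 1 := h2
        simpa using this.symm
      rw [ZMod.intCast_zmod_eq_zero_iff_dvd] at hi0
      obtain ⟨t, ht⟩ := hi0
      rw [ht, zpow_mul, zpow_natCast, hzp, one_zpow] at hi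
      rw [hz'] at hi
      exact mul_inv_eq_iff_eq_mul.1 (mul_inv_eq_one.1 hi.symm)
    have hWle : W ≤ commutator R := by
      set Y := Subgroup.zpowers z ⊔ Subgroup.zpowers z' with hY
      have hYW : Y ≤ W := sup_le (Subgroup.zpowers_le.2 hzW) (Subgroup.zpowers_le.2 hz'W)
      refine le_trans (le_of_eq (Subgroup.eq_of_le_of_card_ge hYW ?_).symm)
        (sup_le (Subgroup.zpowers_le.2 hzd) (Subgroup.zpowers_le.2 hz'd))
      obtain ⟨j, hj⟩ := (hR.to_subgroup Y).exists_card_eq
      have hlt : Nat.card (Subgroup.zpowers z) < Nat.card Y := by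
        refine lt_of_le_of_ne (Nat.le_of_dvd Nat.card_pos (Subgroup.card_dvd_of_le le_sup_left)) fun e => hnot ?_
        rw [Subgroup.eq_of_le_of_card_ge (le_sup_left : Subgroup.zpowers z ≤ Y) e.ge]
        exact Subgroup.mem_sup_right (Subgroup.mem_zpowers z')
      rw [Nat.card_zpowers, orderOf_eq_prime hzp hz1, hj] at hlt
      rw [hW2, hj]
      exact Nat.pow_le_pow_right hpp.pos
        (((Nat.pow_lt_pow_iff_right hpp.one_lt).1 (by rwa [pow_one]) : 1 < j))
    exact hxd (hWle hxW)
  have hdd : d ∈ commutator R := by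
    rw [hd, ← commutatorElement_def, commutator_def]
    exact Subgroup.commutator_mem_commutator (Subgroup.mem_top u) (Subgroup.mem_top c)
  have hdp : d ^ p = 1 := by
    rw [hd, (show Commute (u * c * u⁻¹) c⁻¹ from hTc _ (hTn c hcT u) _ (T.inv_mem hcT)).mul_pow, conj_pow,
      inv_pow, hcp, Subgroup.mem_center_iff.1 hzc u, mul_inv_cancel_right, mul_inv_cancel]
  have hdW : d ∈ W := homega d hdT hdp
  have hdc : d ∈ Subgroup.center R := by
    by_contra h
    -- `⟨z⟩ × ⟨d⟩ = W` would lie in the derived group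
    have hnot : d ∉ Subgroup.zpowers z := fun hm => h (Subgroup.zpowers_le.2 hzc hm)
    set Y := Subgroup.zpowers z ⊔ Subgroup.zpowers d with hY
    have hYW : Y ≤ W := sup_le (Subgroup.zpowers_le.2 hzW) (Subgroup.zpowers_le.2 hdW)
    obtain ⟨j, hj⟩ := (hR.to_subgroup Y).exists_card_eq
    have hlt : Nat.card (Subgroup.zpowers z) < Nat.card Y := by
      refine lt_of_le_of_ne (Nat.le_of_dvd Nat.card_pos (Subgroup.card_dvd_of_le le_sup_left)) fun e => hnot ?_
      rw [Subgroup.eq_of_le_of_card_ge (le_sup_left : Subgroup.zpowers z ≤ Y) e.ge]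
      exact Subgroup.mem_sup_right (Subgroup.mem_zpowers d)
    rw [Nat.card_zpowers, orderOf_eq_prime hzp hz1, hj] at hlt
    have := Subgroup.eq_of_le_of_card_ge hYW (by
      rw [hW2, hj]
      exact Nat.pow_le_pow_right hpp.pos ((Nat.pow_lt_pow_iff_right hpp.one_lt).1 (by rwa [pow_one]) : 1 < j))
    exact hxd ((this ▸ sup_le (Subgroup.zpowers_le.2 hzd) (Subgroup.zpowers_le.2 hdd) : W ≤ commutator R) hxW)
  have hud : u * d * u⁻¹ = d := by rw [Subgroup.mem_center_iff.1 hdc u, mul_inv_cancel_right]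
  have hn : ∀ n : ℕ, u ^ n * w * (u ^ n)⁻¹ = d ^ n.choose 2 * c ^ n * w := by
    intro n
    induction n with
    | zero => simp
    | succ n ih =>
      have hdc' : Commute d c := (Subgroup.mem_center_iff.1 hdc c).symm
      calc u ^ (n + 1) * w * (u ^ (n + 1))⁻¹ = u * (u ^ n * w * (u ^ n)⁻¹) * u⁻¹ := by rw [pow_succ']; group
        _ = (u * d * u⁻¹) ^ n.choose 2 * (u * c * u⁻¹) ^ n * (u * w * u⁻¹) := by
          rw [ih, conj_pow, conj_pow]; group
        _ = d ^ n.choose 2 * (d * c) ^ n * (c * w) := by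
          rw [hud, show u * c * u⁻¹ = d * c by rw [hd, inv_mul_cancel_right],
            show u * w * u⁻¹ = c * w by rw [hc, inv_mul_cancel_right]]
        _ = d ^ (n + 1).choose 2 * c ^ (n + 1) * w := by
          rw [hdc'.mul_pow, Nat.choose_succ_succ, Nat.choose_one_right, add_comm, pow_add, pow_succ]
          simp only [mul_assoc]
  have hup : Commute (u ^ p) w := hTc _ (Subgroup.mem_centralizer_singleton_iff.2
    (conj_pow_commutes_normal_sq hR W hW hW2 u hxW).eq) _ hwT
  have h1 := hn p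
  rw [hup.eq, mul_inv_cancel_right] at h1
  obtain ⟨t, ht⟩ := hpp.dvd_choose_self two_ne_zero (lt_of_le_of_ne hpp.two_le (Ne.symm hp2))
  rw [ht, pow_mul, hdp, one_pow, one_mul, hcp] at h1
  exact hz1 (right_eq_mul.1 h1)

/-- A coprime automorphism fixing the elements of order `p` of an abelian subgroup fixes the subgroup. -/
theorem fixed_of_omega_fixed (hR : IsPGroup p R) {φ : MulAut R} (hφ : (orderOf φ).Coprime p) (Z : Subgroup R)
    (hZc : ∀ a ∈ Z, ∀ b ∈ Z, a * b = b * a) (hZ : ∀ a ∈ Z, φ a ∈ Z)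
    (hom : ∀ a ∈ Z, a ^ p = 1 → φ a = a) : ∀ a ∈ Z, φ a = a := by
  suffices h : ∀ n, ∀ a ∈ Z, a ^ p ^ n = 1 → φ a = a from fun a ha => by
    obtain ⟨n, hn⟩ := hR a
    exact h n a ha hn
  intro n
  induction n with
  | zero =>
    intro a _ h
    rw [pow_zero, pow_one] at h
    rw [h, map_one]
  | succ n ih =>
    intro a ha h
    refine CfsgLib.BG.fixed_of_diff_fixed hR hφ ?_
    refine hom _ (Z.mul_mem (Z.inv_mem ha) (hZ a ha)) ?_
    have h1 : φ (a ^ p) = a ^ p := ih _ (Z.pow_mem ha p) (by rw [← pow_mul, ← pow_succ']; exact h)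
    rw [(show Commute a⁻¹ (φ a) from hZc _ (Z.inv_mem ha) _ (hZ a ha)).mul_pow, ← map_pow, h1, inv_pow,
      inv_mul_cancel]

end CfsgLib.OddLocal
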