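import Mathlib
import Cfsg.Agent.Lib.ZJ.Centers
import Cfsg.Agent.Lib.ZJ.Complement
import Cfsg.Agent.Lib.Qd.Stable
import Cfsg.Agent.Lib.Qd.Facts
import Cfsg.Agent.Lib.PSolvable.Core
import Cfsg.Agent.Lib.Fitting.Basic

/-!
Stability in solvable groups of odd order and its two standard consequences.
-/

set_option autoImplicit false
set_option linter.style.haveILetI false

open scoped commutatorElement MatrixGroups

namespace CfsgLib.OddLocal

universe u

variable {G : Type u} [Group G] [Finite G] {p : ℕ} [hp : Fact p.Prime]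

theorem not_involves_qd_of_odd (hodd : Odd (Nat.card G)) : ¬ Cfsg.Involves ↥(Cfsg.qd p) G := by
  rintro ⟨K, R, hR, ⟨e⟩⟩
  haveI := hR
  have h1 : Nat.card ↥(Cfsg.qd p) ∣ Nat.card G := by
    rw [← Nat.card_congr e.toEquiv]
    exact (Subgroup.card_quotient_dvd_card _).trans (Subgroup.card_subgroup_dvd_card K)
  rw [Qd.card_qd] at h1
  have hp2 : p ≠ 2 := by
    rintro rfl
    exact (Nat.not_even_iff_odd.2 hodd) (even_iff_two_dvd.2 (((dvd_pow_self 2 two_ne_zero).mul_right _).trans h1))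
  haveI : NeZero (2 : ZMod p) := ⟨fun h => by
    have h' : ((2 : ℕ) : ZMod p) = 0 := by exact_mod_cast h
    rw [ZMod.natCast_eq_zero_iff] at h'
    exact hp2 ((Nat.prime_dvd_prime_iff_eq hp.out Nat.prime_two).1 h')⟩
  set t : SL(2, ZMod p) := -1 with ht'
  have ht : orderOf t = 2 := by
    refine orderOf_eq_prime (by rw [ht', neg_one_sq]) fun h => ?_
    have h2 := congrArg (fun M : SL(2, ZMod p) => (M : Matrix (Fin 2) (Fin 2) (ZMod p)) 0 0) h
    simp [ht'] at h2
    exact NeZero.ne (2 : ZMod p) (by linear_combination -h2)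
  have h2 : 2 ∣ Nat.card SL(2, ZMod p) := ht.symm.dvd.trans (orderOf_dvd_natCard t)
  exact (Nat.not_even_iff_odd.2 hodd) (even_iff_two_dvd.2 ((h2.mul_left _).trans h1))

theorem stableAt_of_odd (hp2 : p ≠ 2) (hodd : Odd (Nat.card G)) (S : Subgroup G) : ZJ.StableAt p S :=
  ZJ.stableAt_of_isPStableOn (fun P _ hP =>
    Qd.isPStableOn_of_qdFree hp2 (not_involves_qd_of_odd hodd) P hP) S

theorem two_ne_of_dvd_odd (hodd : Odd (Nat.card G)) (hd : p ∣ Nat.card G) : p ≠ 2 := by
  rintro rfl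
  exact (Nat.not_even_iff_odd.2 hodd) (even_iff_two_dvd.2 hd)

/-- An abelian normal subgroup of a Sylow subgroup lies in `O_p` when `O_{p'} = 1`. -/
theorem le_pCore_of_abelian_normal [Group.IsSolvable G] (hodd : Odd (Nat.card G))
    (hO : Cfsg.pPrimeCore p G = ⊥) (S : Sylow p G) {A : Subgroup G} (hAS : A ≤ (S : Subgroup G))
    (hSA : (S : Subgroup G) ≤ Subgroup.normalizer (A : Set G)) [IsMulCommutative A] :
    A ≤ Cfsg.pCore p G := by
  by_cases hA : A = ⊥
  · exact hA ▸ bot_le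
  have hd : p ∣ Nat.card G := by
    obtain ⟨a, ha, ha1⟩ := (Subgroup.bot_or_exists_ne_one A).resolve_left hA
    obtain ⟨k, hk⟩ := S.2 ⟨a, hAS ha⟩
    obtain ⟨j, -, hj⟩ := (Nat.dvd_prime_pow hp.out).1 (orderOf_dvd_of_pow_eq_one
      (congrArg Subtype.val hk : a ^ p ^ k = 1))
    refine dvd_trans ?_ (orderOf_dvd_natCard a)
    rw [hj]
    refine dvd_pow_self p fun h => ha1 ?_
    rw [h, pow_zero, orderOf_eq_one_iff] at hj
    exact hj
  have hp2 : p ≠ 2 := two_ne_of_dvd_odd hodd hd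
  haveI := Fitting.pCore_normal (G := G) p
  set W := Cfsg.pCore p G with hW
  have hC : Subgroup.centralizer (W : Set G) ≤ W :=
    PSolvable.centralizer_pCore_le (PSolvable.isPSolvable_of_isSolvable inferInstance) hO
  have hWS : W ≤ (S : Subgroup G) := (Fitting.pCore_eq_iInf_sylow (G := G) p).le.trans (iInf_le _ S)
  intro a ha
  have hq : ⁅⁅W, Subgroup.zpowers a⁆, Subgroup.zpowers a⁆ = ⊥ := by
    refine le_bot_iff.1 ((Subgroup.commutator_mono (show ⁅W, Subgroup.zpowers a⁆ ≤ A from ?_)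
      (Subgroup.zpowers_le.2 ha)).trans ?_)
    · refine (Subgroup.commutator_mono le_rfl (Subgroup.zpowers_le.2 ha)).trans ?_
      refine Subgroup.commutator_le.2 fun w hw b hb => ?_
      rw [commutatorElement_def]
      exact mul_mem ((Subgroup.mem_normalizer_iff.1 (hSA (hWS hw)) b).1 hb) (inv_mem hb)
    · refine Subgroup.commutator_le.2 fun x hx y hy => ?_
      rw [Subgroup.mem_bot, commutatorElement_eq_one_iff_commute]
      exact congrArg Subtype.val (mul_comm' (⟨x, hx⟩ : A) ⟨y, hy⟩)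
  have h1 := stableAt_of_odd hp2 hodd (S : Subgroup G) W (Fitting.pCore_isPGroup p) a (hAS ha) hq
  have h2 : ZJ.opMod p W ≤ W := by
    refine Fitting.le_pCore (ZJ.opMod_normal p W) ?_
    rintro ⟨x, hx⟩
    obtain ⟨k, hk⟩ := ZJ.exists_pow_mem_centralizer W hx
    obtain ⟨j, hj⟩ := Fitting.pCore_isPGroup (G := G) p ⟨_, hC hk⟩
    have hj' : (x ^ p ^ k) ^ p ^ j = 1 := congrArg Subtype.val hj
    exact ⟨k + j, Subtype.ext (by rw [← pow_mul, ← pow_add] at hj'; exact hj')⟩
  exact h2 h1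

/-- Glauberman's `ZJ`-theorem for solvable groups of odd order. -/
theorem zJ_normal [Group.IsSolvable G] (hp2 : p ≠ 2) (hodd : Odd (Nat.card G))
    (hO : Cfsg.pPrimeCore p G = ⊥) (S : Sylow p G) : (ZJ.zJ 0 (S : Subgroup G)).Normal :=
  ZJ.normal_of_constrained hp2 (Or.inl rfl) S
    (PSolvable.centralizer_pCore_le (PSolvable.isPSolvable_of_isSolvable inferInstance) hO)
    (stableAt_of_odd hp2 hodd _) inf_le_left inf_le_right (ZJ.normalizer_thompsonJ_le_zJ 0 _)

end CfsgLib.OddLocal
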