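import Mathlib
import Cfsg.Agent.Lib.OddLocal.MinSimple
import Cfsg.Agent.Lib.PSolvable.Transitivity
import Cfsg.Agent.Lib.Coprime.Action
import Cfsg.Agent.Lib.Coprime.Generation

/-!
Transitivity on maximal invariant `q`-subgroups in a minimal simple group (BG §7).
-/

set_option autoImplicit false
set_option linter.style.haveILetI false

open Pointwise
open CfsgLib.Coprime CfsgLib.PSolvable

namespace CfsgLib.OddLocal

universe u

variable {G : Type u} [Group G] [Finite G]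

/-- `K(A) = O_{π(A)'}(C(A))`. -/
abbrev transK (A : Subgroup G) : Subgroup G :=
  Cfsg.piCoreOf (Cfsg.primesNotDvd (Nat.card A)) (Subgroup.centralizer (A : Set G))

/-- The transitivity conclusion for `A` and the prime `q`. -/
def IsTrans (A : Subgroup G) (q : ℕ) : Prop :=
  ∀ Q₁ ∈ Cfsg.maxInvSubgroups ⊤ A {q}, ∀ Q₂ ∈ Cfsg.maxInvSubgroups ⊤ A {q},
    ∃ k ∈ transK A, Q₂ = MulAut.conj k • Q₁

section

variable {A : Subgroup G} {q : ℕ} (hq : q.Prime)
include hq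

theorem exists_max_ge {Y : Subgroup G} (hY : Y ∈ Cfsg.invSubgroups ⊤ A {q}) :
    ∃ R ∈ Cfsg.maxInvSubgroups ⊤ A {q}, Y ≤ R := by
  obtain ⟨R, hR, hRmax⟩ := Finite.exists_le_maximal
    (p := fun R : Subgroup G => R ∈ Cfsg.invSubgroups ⊤ A {q}) (a := Y) hY
  exact ⟨R, ⟨hRmax.prop, fun R' hR' hle => le_antisymm (hRmax.2 hR' hle) hle⟩, hR⟩

theorem inv_of_pGroup {Y : Subgroup G} (hY : IsPGroup q Y) (hA : A ≤ Subgroup.normalizer (Y : Set G)) :
    Y ∈ Cfsg.invSubgroups ⊤ A {q} := by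
  haveI := Fact.mk hq
  refine ⟨le_top, fun r hr hd => ?_, hA⟩
  obtain ⟨m, hm⟩ := IsPGroup.iff_card.1 hY
  exact (Nat.prime_dvd_prime_iff_eq hr hq).1 (hr.dvd_of_dvd_pow (hm ▸ hd))

theorem pGroup_of_inv {Y : Subgroup G} (hY : Y ∈ Cfsg.invSubgroups ⊤ A {q}) : IsPGroup q Y :=
  IsPGroup.of_card (n := (Nat.card Y).primeFactorsList.length)
    (Nat.eq_prime_pow_of_unique_prime_dvd Nat.card_pos.ne' fun {d} hd hdvd => hY.2.1 d hd hdvd)

variable (hqA : ¬ q ∣ Nat.card A)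
include hqA

theorem isPi_of_inv {Y : Subgroup G} (hY : Y ∈ Cfsg.invSubgroups ⊤ A {q}) :
    IsPi (Cfsg.primesNotDvd (Nat.card A)) Y := fun r hr hd => by
  have h : r = q := hY.2.1 r hr hd
  subst h
  exact ⟨hr, hqA⟩

end

/-- A subgroup with a normalizer proper whenever the two are not equal grows in the normalizer. -/
theorem exists_mem_normalizer_not_mem {q : ℕ} [Fact q.Prime] {D Q : Subgroup G} (hQ : IsPGroup q Q)
    (hDQ : D ≤ Q) (hne : ¬ Q ≤ D) : ∃ x ∈ Q, x ∈ Subgroup.normalizer (D : Set G) ∧ x ∉ D := by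
  haveI := hQ.isNilpotent
  have hlt : D.subgroupOf Q < ⊤ := lt_top_iff_ne_top.mpr fun he =>
    hne (Subgroup.subgroupOf_eq_top.mp he)
  obtain ⟨x, hx, hxD⟩ := SetLike.exists_of_lt (Group.normalizerCondition_of_isNilpotent _ hlt)
  refine ⟨x, x.2, ?_, hxD⟩
  rw [mem_normalizer_iff_conj_smul]
  have h3 := congrArg (Subgroup.map Q.subtype) (mem_normalizer_iff_conj_smul.mp hx)
  rwa [map_conj_smul, Subgroup.map_subgroupOf_eq_of_le hDQ] at h3

section MinSimple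

variable (hG : Cfsg.IsMinSimpleOddOrder G) {A : Subgroup G} (hA : Cfsg.TransitivityHypothesis A)
include hG hA

theorem inv_le_core {X Y : Subgroup G} (hX : X ≠ ⊤) (hAX : A ≤ X) (hYX : Y ≤ X)
    (hY : IsPi (Cfsg.primesNotDvd (Nat.card A)) Y) (hAY : A ≤ Subgroup.normalizer (Y : Set G)) :
    Y ≤ Cfsg.piCoreOf (Cfsg.primesNotDvd (Nat.card A)) X :=
  (hA.2.2 X hX hAX) ▸ le_sSup ⟨hYX, hY, hAY⟩

/-- Every `π(A)'`-subgroup of `C(A)` inside a proper overgroup lies in `K(A)`. -/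
theorem le_transK {Y : Subgroup G} (hYC : Y ≤ Subgroup.centralizer (A : Set G))
    (hY : IsPi (Cfsg.primesNotDvd (Nat.card A)) Y) : Y ≤ transK A := by
  set C := Subgroup.centralizer (A : Set G) with hC
  set X := A ⊔ C with hX
  have hXN : X ≤ Subgroup.normalizer (A : Set G) :=
    sup_le Subgroup.le_normalizer (Subgroup.centralizer_le_normalizer _)
  have hXne : X ≠ ⊤ := fun h => normalizer_ne_top hG hA.1 hA.2.1 (top_unique (h.ge.trans hXN))
  have h1 : Y ≤ Cfsg.piCoreOf (Cfsg.primesNotDvd (Nat.card A)) X :=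
    inv_le_core hG hA hXne le_sup_left (hYC.trans le_sup_right) hY fun a ha =>
      Subgroup.centralizer_le_normalizer _ fun y hy => ((hYC hy) a ha).symm
  refine (le_inf h1 hYC).trans (le_piCoreOf inf_le_right ?_ ((isPi_piCoreOf _ X).mono inf_le_left))
  exact le_normalizer_inf_of_le ((le_sup_right : C ≤ X).trans (le_normalizer_piCoreOf _ X))
    Subgroup.le_normalizer

variable {q : ℕ} (hq : q.Prime) (hqA : ¬ q ∣ Nat.card A)
include hq hqA

/-- BG 7.1: two maximal invariant `q`-subgroups met by one proper overgroup of `A` are conjugate. -/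
theorem meet_trans : ∀ {Q₁ Q₂ H : Subgroup G}, Q₁ ∈ Cfsg.maxInvSubgroups ⊤ A {q} →
    Q₂ ∈ Cfsg.maxInvSubgroups ⊤ A {q} → H ≠ ⊤ → A ≤ H → H ⊓ Q₁ ≠ ⊥ → H ⊓ Q₂ ≠ ⊥ →
    ∃ k ∈ transK A, Q₂ = MulAut.conj k • Q₁ := by
  haveI := Fact.mk hq
  intro Q₁ Q₂
  induction hn : Nat.card G - Nat.card ↥(Q₁ ⊓ Q₂) using Nat.strong_induction_on generalizing Q₁ Q₂ with
  | _ n IH =>
  intro H₀ h1 h2 hH₀ hAH₀ hm₁ hm₂
  have hQ1 := pGroup_of_inv hq h1.1
  have hQ2 := pGroup_of_inv hq h2.1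
  set D := Q₁ ⊓ Q₂ with hD
  by_cases hD1 : Q₁ ≤ Q₂
  · exact ⟨1, one_mem _, by rw [map_one, one_smul]; exact h1.2 Q₂ h2.1 hD1⟩
  by_cases hD2 : Q₂ ≤ Q₁
  · exact ⟨1, one_mem _, by rw [map_one, one_smul]; exact (h2.2 Q₁ h1.1 hD2).symm⟩
  have hDA : A ≤ Subgroup.normalizer (D : Set G) := le_normalizer_inf_of_le h1.1.2.2 h2.1.2.2
  -- an overgroup meeting both outside `D` and normalizing it
  obtain ⟨H, hH, hAH, hHD, hH₁, hH₂⟩ : ∃ H : Subgroup G, H ≠ ⊤ ∧ A ≤ H ∧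
      H ≤ Subgroup.normalizer (D : Set G) ∧ ¬ H ⊓ Q₁ ≤ D ∧ ¬ H ⊓ Q₂ ≤ D := by
    by_cases hDb : D = ⊥
    · refine ⟨H₀, hH₀, hAH₀, ?_, ?_, ?_⟩
      · rw [hDb, show Subgroup.normalizer ((⊥ : Subgroup G) : Set G) = ⊤ from Subgroup.normalizer_eq_top _]
        exact le_top
      · rw [hDb]; exact fun h => hm₁ (le_bot_iff.1 h)
      · rw [hDb]; exact fun h => hm₂ (le_bot_iff.1 h)
    · refine ⟨Subgroup.normalizer (D : Set G), normalizer_ne_top hG hDb fun h => ?_, hDA, le_rfl, ?_, ?_⟩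
      · exact hD1 ((le_top.trans h.ge).trans inf_le_right)
      · obtain ⟨x, hx, hxN, hxD⟩ := exists_mem_normalizer_not_mem hQ1 inf_le_left
          fun h => hD1 (h.trans inf_le_right)
        exact fun h => hxD (h ⟨hxN, hx⟩)
      · obtain ⟨x, hx, hxN, hxD⟩ := exists_mem_normalizer_not_mem hQ2 inf_le_right
          fun h => hD2 (h.trans inf_le_left)
        exact fun h => hxD (h ⟨hxN, hx⟩)
  set π' := Cfsg.primesNotDvd (Nat.card A) with hπ'
  set L := Cfsg.piCoreOf π' H with hL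
  have hLπ : IsPi π' L := isPi_piCoreOf π' H
  have hLA : A ≤ Subgroup.normalizer (L : Set G) := hAH.trans (le_normalizer_piCoreOf π' H)
  have hcop : (Nat.card A).Coprime (Nat.card L) := coprime_primesNotDvd hLπ
  have hs : Group.IsSolvable A ∨ Group.IsSolvable L :=
    Or.inl (isSolvable_of_ne_top hG hA.2.1)
  have hHA : A ≤ Subgroup.normalizer (H : Set G) := hAH.trans Subgroup.le_normalizer
  have hU : ∀ {Q : Subgroup G}, Q ∈ Cfsg.maxInvSubgroups ⊤ A {q} → H ⊓ Q ≤ L ∧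
      A ≤ Subgroup.normalizer ((H ⊓ Q : Subgroup G) : Set G) := by
    intro Q hQ
    have hn := le_normalizer_inf_of_le hHA hQ.1.2.2
    exact ⟨inv_le_core hG hA hH hAH inf_le_left ((isPi_of_inv hq hqA hQ.1).mono inf_le_right) hn, hn⟩
  obtain ⟨hU1, hU1A⟩ := hU h1
  obtain ⟨hU2, hU2A⟩ := hU h2
  obtain ⟨T₁, hT₁, hT₁A⟩ := exists_invariant_sylow_ge hLA hcop hs hU1 (hQ1.to_le inf_le_right) hU1A
  obtain ⟨T₂, hT₂, hT₂A⟩ := exists_invariant_sylow_ge hLA hcop hs hU2 (hQ2.to_le inf_le_right) hU2A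
  obtain ⟨c, hc, hce⟩ := invariant_sylow_conj hLA hcop hs T₁ T₂ hT₁A hT₂A
  have hcK : (c : G) ∈ transK A := le_transK hG hA (Y := L ⊓ Subgroup.centralizer (A : Set G))
    inf_le_right (hLπ.mono inf_le_left) ⟨c.2, hc⟩
  have hcD : MulAut.conj (c : G) • D = D :=
    conj_smul_eq_self_of_mem_normalizer (hHD (piCoreOf_le π' H c.2))
  set T := (T₂ : Subgroup L).map L.subtype with hT
  have hTc : MulAut.conj (c : G) • (T₁ : Subgroup L).map L.subtype = T := by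
    rw [hT, ← hce, map_subtype_conj_smul_sylow]
  have hU1c : MulAut.conj (c : G) • (H ⊓ Q₁) ≤ T := hTc ▸ Subgroup.map_mono hT₁
  have hDq : IsPGroup q D := hQ1.to_le inf_le_left
  have hTD : T ≤ Subgroup.normalizer (D : Set G) :=
    ((Subgroup.map_subtype_le _).trans (piCoreOf_le π' H)).trans hHD
  have hDT : IsPGroup q ↥(D ⊔ T) := by
    rw [sup_comm]
    exact IsPGroup.to_sup_of_normal_right' (T₂.2.map _) hDq hTD
  obtain ⟨R, hRm, hR⟩ := exists_max_ge hq (inv_of_pGroup hq hDT (le_normalizer_sup_of_le hDA hT₂A))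
  set Q₁c := MulAut.conj (c : G) • Q₁ with hQ₁c
  have hQ1c : Q₁c ∈ Cfsg.maxInvSubgroups ⊤ A {q} := mem_maxInvSubgroups_conj trivial hc h1
  have big : ∀ {Q U : Subgroup G}, D ≤ Q → U ≤ Q → U ≤ D ⊔ T → ¬ U ≤ D →
      Nat.card G - Nat.card ↥(Q ⊓ R) < n ∧ U ≤ Q ⊓ R := by
    intro Q U hDQ hUQ hUT hUD
    refine ⟨?_, le_inf hUQ (hUT.trans hR)⟩
    have hlt : Nat.card D < Nat.card ↥(Q ⊓ R) := by
      refine lt_of_le_of_ne (Subgroup.card_le_of_le (le_inf hDQ (le_sup_left.trans hR))) fun he => ?_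
      have h3 := Subgroup.eq_of_le_of_card_ge (le_inf hDQ (le_sup_left.trans hR)) he.ge
      exact hUD (h3 ▸ le_inf hUQ (hUT.trans hR))
    have := Subgroup.card_le_card_group (Q ⊓ R)
    omega
  have hU1D : ¬ MulAut.conj (c : G) • (H ⊓ Q₁) ≤ D := fun h => hH₁ fun u hu => by
    have h3 := h (conj_mem_conj_smul (g := (c : G)) hu)
    rw [← hcD, mem_conj_smul_iff] at h3
    simpa [mul_assoc] using h3
  obtain ⟨hb1, hm1⟩ := big (U := MulAut.conj (c : G) • (H ⊓ Q₁))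
    (hcD ▸ Subgroup.map_mono inf_le_left) (Subgroup.map_mono inf_le_right) (hU1c.trans le_sup_right) hU1D
  obtain ⟨hb2, hm2⟩ := big (U := H ⊓ Q₂) inf_le_right inf_le_right (hT₂.trans le_sup_right) hH₂
  have hHT : ∀ {U Q : Subgroup G}, U ≤ Q → U ≤ H → ¬ U ≤ D → H ⊓ Q ≠ ⊥ := fun hUQ hUH hUD h =>
    hUD ((le_inf hUH hUQ).trans (h.le.trans bot_le))
  have hTH : T ≤ H := (Subgroup.map_subtype_le _).trans (piCoreOf_le π' H)
  obtain ⟨d, hd, hde⟩ := IH _ hb1 rfl (H := H) hQ1c hRm hH hAH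
    (hHT (hm1.trans inf_le_left) (hU1c.trans hTH) hU1D)
    (hHT (hm1.trans inf_le_right) (hU1c.trans hTH) hU1D)
  obtain ⟨e, he, hee⟩ := IH _ hb2 rfl (H := H) h2 hRm hH hAH
    (hHT (hm2.trans inf_le_left) inf_le_left hH₂) (hHT (hm2.trans inf_le_right) inf_le_left hH₂)
  refine ⟨e⁻¹ * d * c, mul_mem (mul_mem (inv_mem he) hd) hcK, ?_⟩
  calc Q₂ = MulAut.conj e⁻¹ • (MulAut.conj e • Q₂) := by
        rw [← mul_smul, ← map_mul, inv_mul_cancel, map_one, one_smul]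
    _ = MulAut.conj e⁻¹ • R := congrArg _ hee.symm
    _ = MulAut.conj e⁻¹ • MulAut.conj d • MulAut.conj (c : G) • Q₁ := congrArg _ hde
    _ = MulAut.conj (e⁻¹ * d * c) • Q₁ := by rw [map_mul, map_mul, mul_smul, mul_smul]

/-- Transitivity from a common nontrivial central element. -/
theorem trans_of_meet {x : G} (hx : x ≠ 1) (hxA : x ∈ Subgroup.centralizer (A : Set G))
    {Q₁ Q₂ : Subgroup G} (h1 : Q₁ ∈ Cfsg.maxInvSubgroups ⊤ A {q}) (h2 : Q₂ ∈ Cfsg.maxInvSubgroups ⊤ A {q})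
    (hm₁ : Q₁ ⊓ Subgroup.centralizer ({x} : Set G) ≠ ⊥)
    (hm₂ : Q₂ ⊓ Subgroup.centralizer ({x} : Set G) ≠ ⊥) :
    ∃ k ∈ transK A, Q₂ = MulAut.conj k • Q₁ :=
  meet_trans hG hA hq hqA h1 h2 (centralizer_singleton_ne_top hG hx)
    (fun a ha => Subgroup.mem_centralizer_singleton_iff.2 (hxA a ha))
    (by rwa [inf_comm]) (by rwa [inf_comm])

/-- BG 7.2 (b): rank of the center at least three. -/
theorem trans_of_rank_three (hZ : ¬ Cfsg.RankLE 2 ↥(A ⊓ Subgroup.centralizer (A : Set G))) :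
    IsTrans A q := by
  classical
  obtain ⟨p, hp, hZp⟩ : ∃ p : ℕ, p.Prime ∧ ¬ Cfsg.PRankLE p 2 ↥(A ⊓ Subgroup.centralizer (A : Set G)) := by
    by_contra h
    push Not at h
    exact hZ h
  obtain ⟨B', hB'c, hB'e, hB'⟩ : ∃ B : Subgroup ↥(A ⊓ Subgroup.centralizer (A : Set G)),
      IsMulCommutative B ∧ (∀ b ∈ B, b ^ p = 1) ∧ p ^ 2 < Nat.card B := by
    by_contra h
    push Not at h
    exact hZp fun E hE hEe => h E hE hEe
  haveI := Fact.mk hp
  haveI := hB'c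
  set B := B'.map (A ⊓ Subgroup.centralizer (A : Set G)).subtype with hB
  haveI hBc : IsMulCommutative B := Subgroup.map_isMulCommutative B' _
  have hBle : B ≤ A ⊓ Subgroup.centralizer (A : Set G) := Subgroup.map_subtype_le _
  have hBexp : ∀ b ∈ B, b ^ p = 1 := by
    rintro _ ⟨b, hb, rfl⟩; rw [← map_pow, hB'e b hb, map_one]
  have hBcard : p ^ 2 < Nat.card B := by
    rwa [hB, Subgroup.card_map_of_injective (Subgroup.subtype_injective _)]
  haveI := Fact.mk hq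
  intro Q₁ h1 Q₂ h2
  by_cases hb1 : Q₁ = ⊥
  · exact ⟨1, one_mem _, by rw [map_one, one_smul]; exact h1.2 Q₂ h2.1 (hb1 ▸ bot_le)⟩
  by_cases hb2 : Q₂ = ⊥
  · exact ⟨1, one_mem _, by rw [map_one, one_smul]; exact (h2.2 Q₁ h1.1 (hb2 ▸ bot_le)).symm⟩
  have hBQ : ∀ {Q : Subgroup G}, Q ∈ Cfsg.maxInvSubgroups ⊤ A {q} → ∀ {C : Subgroup G}, C ≤ B →
      C ≤ Subgroup.normalizer (Q : Set G) ∧ (Nat.card C).Coprime (Nat.card Q) := fun hQ C hC =>
    ⟨(hC.trans (hBle.trans inf_le_left)).trans hQ.1.2.2, (coprime_primesNotDvd (A := A)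
      (isPi_of_inv hq hqA hQ.1)).coprime_dvd_left (Subgroup.card_dvd_of_le (hC.trans (hBle.trans inf_le_left)))⟩
  obtain ⟨C, hCB, hCidx, hC⟩ : ∃ C ≤ B, C.relIndex B ≤ p ∧
      Q₁ ⊓ Subgroup.centralizer (C : Set G) ≠ ⊥ := by
    by_contra hne
    push Not at hne
    exact hb1 (le_bot_iff.1 (le_of_hyperplane_centralizer_le hBc hBexp hBcard.le
      (hBQ h1 le_rfl).1 (hBQ h1 le_rfl).2 fun C hC hi => (hne C hC hi).le))
  have hCcard : p < Nat.card C := by
    have h3 := relIndex_mul_card_inf C B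
    rw [inf_eq_left.mpr hCB] at h3
    by_contra hle
    have h4 := Nat.mul_le_mul hCidx (not_lt.1 hle)
    rw [h3] at h4
    rw [pow_two] at hBcard
    omega
  haveI : IsMulCommutative C := ⟨⟨fun u v => Subtype.ext (congrArg Subtype.val
    (mul_comm' (⟨u, hCB u.2⟩ : B) ⟨v, hCB v.2⟩) :)⟩⟩
  obtain ⟨x, hxC, hx1, hx2⟩ : ∃ x ∈ C, x ≠ 1 ∧ Q₂ ⊓ Subgroup.centralizer ({x} : Set G) ≠ ⊥ := by
    by_contra hne
    push Not at hne
    exact hb2 (le_bot_iff.1 (le_of_centralizer_le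
      (not_isCyclic_of_exponent (fun a ha => hBexp a (hCB ha)) hp.pos hCcard)
      (hBQ h2 hCB).1 (hBQ h2 hCB).2 fun g hg hg1 => (hne g hg hg1).le))
  refine trans_of_meet hG hA hq hqA hx1 (hBle (hCB hxC)).2 h1 h2 (fun h => hC ?_) hx2
  exact le_bot_iff.1 ((inf_le_inf_left _ (Subgroup.centralizer_le (by simpa using hxC))).trans h.le)

/-- BG 7.2 (a): rank of the center at least two and `q` divides `|C(A)|`. -/
theorem trans_of_rank_two (hZ : ¬ Cfsg.RankLE 1 ↥(A ⊓ Subgroup.centralizer (A : Set G)))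
    (hqC : q ∣ Nat.card (Subgroup.centralizer (A : Set G))) : IsTrans A q := by
  classical
  obtain ⟨p, hp, hZp⟩ : ∃ p : ℕ, p.Prime ∧ ¬ Cfsg.PRankLE p 1 ↥(A ⊓ Subgroup.centralizer (A : Set G)) := by
    by_contra h
    push Not at h
    exact hZ h
  obtain ⟨B', hB'c, hB'e, hB'⟩ : ∃ B : Subgroup ↥(A ⊓ Subgroup.centralizer (A : Set G)),
      IsMulCommutative B ∧ (∀ b ∈ B, b ^ p = 1) ∧ p ^ 1 < Nat.card B := by
    by_contra h
    push Not at h
    exact hZp fun E hE hEe => h E hE hEe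
  haveI := Fact.mk hp
  haveI := hB'c
  set B := B'.map (A ⊓ Subgroup.centralizer (A : Set G)).subtype with hB
  haveI hBc : IsMulCommutative B := Subgroup.map_isMulCommutative B' _
  have hBle : B ≤ A ⊓ Subgroup.centralizer (A : Set G) := Subgroup.map_subtype_le _
  have hBexp : ∀ b ∈ B, b ^ p = 1 := by
    rintro _ ⟨b, hb, rfl⟩; rw [← map_pow, hB'e b hb, map_one]
  have hBcard : p < Nat.card B := by
    rw [pow_one] at hB'
    rwa [hB, Subgroup.card_map_of_injective (Subgroup.subtype_injective _)]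
  haveI := Fact.mk hq
  obtain ⟨z, hz⟩ := exists_prime_orderOf_dvd_card' (G := Subgroup.centralizer (A : Set G)) q hqC
  rw [← Subgroup.orderOf_coe] at hz
  have hzq : IsPGroup q (Subgroup.zpowers (z : G)) :=
    IsPGroup.of_card (n := 1) (by rw [Nat.card_zpowers, hz, pow_one])
  have hzA : A ≤ Subgroup.normalizer ((Subgroup.zpowers (z : G) : Subgroup G) : Set G) := by
    intro a ha
    refine Subgroup.centralizer_le_normalizer _ fun y hy => ?_
    obtain ⟨i, rfl⟩ := Subgroup.mem_zpowers_iff.1 hy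
    exact ((show Commute a (z : G) from z.2 a ha).zpow_right i).symm.eq
  obtain ⟨Q, hQ, hzQ⟩ := exists_max_ge hq (inv_of_pGroup hq hzq hzA)
  have hz1 : (z : G) ≠ 1 := fun h => hq.one_lt.ne (by rw [← hz, h, orderOf_one])
  suffices ∀ R ∈ Cfsg.maxInvSubgroups ⊤ A {q}, ∃ k ∈ transK A, R = MulAut.conj k • Q by
    intro Q₁ h1 Q₂ h2
    obtain ⟨k₁, hk₁, hQ₁⟩ := this Q₁ h1
    obtain ⟨k₂, hk₂, hQ₂⟩ := this Q₂ h2
    exact ⟨k₂ * k₁⁻¹, mul_mem hk₂ (inv_mem hk₁), by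
      rw [hQ₁, hQ₂, ← mul_smul, ← map_mul, inv_mul_cancel_right]⟩
  intro R hR
  by_cases hb : R = ⊥
  · exact ⟨1, one_mem _, by rw [map_one, one_smul]; exact (hR.2 Q hQ.1 (hb ▸ bot_le)).symm⟩
  obtain ⟨x, hxB, hx1, hx2⟩ : ∃ x ∈ B, x ≠ 1 ∧ R ⊓ Subgroup.centralizer ({x} : Set G) ≠ ⊥ := by
    by_contra hne
    push Not at hne
    exact hb (le_bot_iff.1 (le_of_centralizer_le (not_isCyclic_of_exponent hBexp hp.pos hBcard)
      ((hBle.trans inf_le_left).trans hR.1.2.2) ((coprime_primesNotDvd (A := A)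
        (isPi_of_inv hq hqA hR.1)).coprime_dvd_left (Subgroup.card_dvd_of_le (hBle.trans inf_le_left)))
      fun g hg hg1 => (hne g hg hg1).le))
  refine trans_of_meet hG hA hq hqA hx1 (hBle hxB).2 hQ hR (fun h => hz1 ?_) hx2
  exact Subgroup.mem_bot.1 (h.le ⟨hzQ (Subgroup.mem_zpowers _),
    Subgroup.mem_centralizer_singleton_iff.2 (z.2 x (hBle hxB).1).symm⟩)

end MinSimple

section Overgroup

theorem primesNotDvd_eq {A B : Subgroup G} (hAB : A ≤ B)
    (hB : ∀ r : ℕ, r.Prime → r ∣ Nat.card B → r ∣ Nat.card A) :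
    Cfsg.primesNotDvd (Nat.card B) = Cfsg.primesNotDvd (Nat.card A) := by
  ext r
  exact ⟨fun h => ⟨h.1, fun hd => h.2 (hd.trans (Subgroup.card_dvd_of_le hAB))⟩,
    fun h => ⟨h.1, fun hd => h.2 (hB r h.1 hd)⟩⟩

theorem conj_mem_max {A : Subgroup G} {π : Set ℕ} {g : G} (hg : g ∈ Subgroup.normalizer (A : Set G))
    {Q : Subgroup G} (hQ : Q ∈ Cfsg.maxInvSubgroups ⊤ A π) :
    MulAut.conj g • Q ∈ Cfsg.maxInvSubgroups ⊤ A π := by
  have key : ∀ {g : G}, g ∈ Subgroup.normalizer (A : Set G) → ∀ {R : Subgroup G},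
      R ∈ Cfsg.invSubgroups ⊤ A π → MulAut.conj g • R ∈ Cfsg.invSubgroups ⊤ A π := by
    intro g hg R hR
    refine ⟨le_top, fun r hr hd => hR.2.1 r hr (card_conj_smul g R ▸ hd), fun a ha => ?_⟩
    have ha' : g⁻¹ * a * g ∈ A := (Subgroup.mem_normalizer_iff''.mp hg a).mp ha
    rw [mem_normalizer_iff_conj_smul, ← mul_smul, ← map_mul,
      show a * g = g * (g⁻¹ * a * g) by group, map_mul, mul_smul,
      conj_smul_eq_self_of_mem_normalizer (hR.2.2 ha')]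
  refine ⟨key hg hQ.1, fun R hR hle => ?_⟩
  have h1 : MulAut.conj g⁻¹ • R = Q := by
    refine hQ.2 _ (key (inv_mem hg) hR) ?_
    intro x hx
    rw [mem_conj_smul_iff, inv_inv]
    exact hle (conj_mem_conj_smul hx)
  rw [← h1, ← mul_smul, ← map_mul, mul_inv_cancel, map_one, one_smul]

variable (hG : Cfsg.IsMinSimpleOddOrder G) {A B : Subgroup G} (hA : Cfsg.TransitivityHypothesis A)
  (hAB : A ≤ B) (hB : B ≠ ⊤) (hBπ : ∀ r : ℕ, r.Prime → r ∣ Nat.card B → r ∣ Nat.card A)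
include hG hA hAB hB hBπ

theorem th_overgroup : Cfsg.TransitivityHypothesis B := by
  refine ⟨fun h => hA.1 (le_bot_iff.1 (h ▸ hAB)), hB, fun X hX hBX => ?_⟩
  rw [primesNotDvd_eq hAB hBπ]
  refine le_antisymm (sSup_le fun Y hY => inv_le_core hG hA hX (hAB.trans hBX) hY.1 hY.2.1
    (hAB.trans hY.2.2)) (le_sSup ⟨piCoreOf_le _ X, isPi_piCoreOf _ X, ?_⟩)
  exact hBX.trans (le_normalizer_piCoreOf _ X)

theorem transK_inf_centralizer :
    transK A ⊓ Subgroup.centralizer (B : Set G) = transK B := by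
  rw [transK, transK, primesNotDvd_eq hAB hBπ]
  refine le_antisymm (le_piCoreOf inf_le_right ?_ ((isPi_piCoreOf _ _).mono inf_le_left)) ?_
  · exact le_normalizer_inf_of_le ((Subgroup.centralizer_le hAB).trans (le_normalizer_piCoreOf _ _))
      Subgroup.le_normalizer
  · exact le_inf (le_transK hG hA ((piCoreOf_le _ _).trans (Subgroup.centralizer_le hAB))
      (isPi_piCoreOf _ _)) (piCoreOf_le _ _)

variable {q : ℕ} (hq : q.Prime) (hqA : ¬ q ∣ Nat.card A)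
include hq hqA

theorem max_of_max_of_ne_bot {Q : Subgroup G} (hQ : Q ∈ Cfsg.maxInvSubgroups ⊤ B {q}) (hne : Q ≠ ⊥) :
    Q ∈ Cfsg.maxInvSubgroups ⊤ A {q} := by
  haveI := Fact.mk hq
  refine ⟨⟨le_top, hQ.1.2.1, hAB.trans hQ.1.2.2⟩, fun R hR hle => ?_⟩
  by_contra hne'
  have hRQ : ¬ R ≤ Q := fun h => hne' (le_antisymm h hle)
  have hRq := pGroup_of_inv hq hR
  have hQq := pGroup_of_inv hq hQ.1
  set H := Subgroup.normalizer (Q : Set G) with hH
  have hQtop : Q ≠ ⊤ := fun h => hRQ (h ▸ le_top)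
  have hHne : H ≠ ⊤ := normalizer_ne_top hG hne hQtop
  set π' := Cfsg.primesNotDvd (Nat.card A) with hπ'
  set L := Cfsg.piCoreOf π' H with hL
  have hcop : (Nat.card B).Coprime (Nat.card L) := coprime_primesNotDvd (A := B) (by
    rw [primesNotDvd_eq hAB hBπ]; exact isPi_piCoreOf π' H)
  have hLB : B ≤ Subgroup.normalizer (L : Set G) := hQ.1.2.2.trans (le_normalizer_piCoreOf π' H)
  have hQL : Q ≤ L := le_piCoreOf Subgroup.le_normalizer le_rfl
    (isPi_of_inv hq hqA ⟨le_top, hQ.1.2.1, hAB.trans hQ.1.2.2⟩)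
  obtain ⟨T, hT, hTB⟩ := exists_invariant_sylow_ge hLB hcop (Or.inl (isSolvable_of_ne_top hG hB)) hQL
    hQq hQ.1.2.2
  have hTQ : (T : Subgroup L).map L.subtype = Q :=
    hQ.2 _ (inv_of_pGroup hq (T.2.map _) hTB) hT
  obtain ⟨x, hx, hxN, hxQ⟩ := exists_mem_normalizer_not_mem hRq hle hRQ
  set U := R ⊓ H with hU
  have hUA : A ≤ Subgroup.normalizer (U : Set G) :=
    le_normalizer_inf_of_le hR.2.2 ((hAB.trans hQ.1.2.2).trans Subgroup.le_normalizer)
  have hUL : U ≤ L := inv_le_core hG hA hHne (hAB.trans hQ.1.2.2) inf_le_right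
    ((isPi_of_inv hq hqA hR).mono inf_le_left) hUA
  have h1 : (T : Subgroup L) ≤ U.subgroupOf L := fun y hy =>
    le_inf hle Subgroup.le_normalizer (hTQ.le (Subgroup.mem_map_of_mem L.subtype hy))
  have h2 := T.3 ((hRq.to_le inf_le_left).comap_of_injective L.subtype L.subtype_injective) h1
  exact hxQ (hTQ.le ⟨⟨x, hUL ⟨hx, hxN⟩⟩, h2.le (show x ∈ U from ⟨hx, hxN⟩), rfl⟩)

/-- One normal step of BG 7.5: a fixed point and transitivity for the overgroup. -/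
theorem trans_step (hBA : B ≤ Subgroup.normalizer (A : Set G)) (htr : IsTrans A q) :
    IsTrans B q ∧ Cfsg.maxInvSubgroups ⊤ B {q} ⊆ Cfsg.maxInvSubgroups ⊤ A {q} := by
  classical
  haveI := Fact.mk hq
  letI : MulAction G (Subgroup G) := MulAction.compHom _ (MulAut.conj : G →* MulAut G)
  set π' := Cfsg.primesNotDvd (Nat.card A) with hπ'
  set K := transK A with hK
  have hBK : B ≤ Subgroup.normalizer (K : Set G) :=
    (le_normalizer_centralizer hBA).trans (piCoreOf_normalizer_le _ _)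
  have hcop : (Nat.card B).Coprime (Nat.card K) := coprime_primesNotDvd (A := B) (by
    rw [primesNotDvd_eq hAB hBπ]; exact isPi_piCoreOf _ _)
  have hs : Group.IsSolvable B ∨ Group.IsSolvable K := Or.inl (isSolvable_of_ne_top hG hB)
  obtain ⟨Q₀, hQ₀, -⟩ := exists_max_ge hq (A := A) (Y := ⊥) ⟨le_top, fun r hr hd => by
    rw [Subgroup.card_bot] at hd; exact absurd hd hr.not_dvd_one, fun a _ => by
      rw [show Subgroup.normalizer ((⊥ : Subgroup G) : Set G) = ⊤ from Subgroup.normalizer_eq_top _]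
      trivial⟩
  obtain ⟨k, hk, hfix⟩ := exists_fixed_of_coprime hBK hcop hs Q₀ fun b hb =>
    htr Q₀ hQ₀ _ (conj_mem_max (hBA hb) hQ₀)
  have hkC : k ∈ Subgroup.centralizer (A : Set G) := piCoreOf_le _ _ hk
  set R := MulAut.conj k • Q₀ with hR
  have hRmax : R ∈ Cfsg.maxInvSubgroups ⊤ A {q} := mem_maxInvSubgroups_conj trivial hkC hQ₀
  have hRB : B ≤ Subgroup.normalizer (R : Set G) := fun b hb =>
    mem_normalizer_iff_conj_smul.2 (hfix b hb)
  have hsub : Cfsg.maxInvSubgroups ⊤ B {q} ⊆ Cfsg.maxInvSubgroups ⊤ A {q} := by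
    intro Q hQ
    by_cases hQb : Q = ⊥
    · have h1 := hQ.2 R ⟨le_top, hRmax.1.2.1, hRB⟩ (hQb ▸ bot_le)
      exact h1 ▸ hRmax
    · exact max_of_max_of_ne_bot hG hA hAB hB hBπ hq hqA hQ hQb
  refine ⟨fun Q₁ h1 Q₂ h2 => ?_, hsub⟩
  obtain ⟨k', hk', hQ₂⟩ := htr Q₁ (hsub h1) Q₂ (hsub h2)
  obtain ⟨c, hc, hce⟩ := exists_centralizer_smul (Ω := Subgroup G) hBK hcop hs (ω := Q₁)
    (fun b hb => conj_smul_eq_self_of_mem_normalizer (h1.1.2.2 hb)) hk'
    (fun b hb => by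
      show MulAut.conj b • MulAut.conj k' • Q₁ = MulAut.conj k' • Q₁
      rw [← hQ₂]
      exact conj_smul_eq_self_of_mem_normalizer (h2.1.2.2 hb))
  exact ⟨c, (transK_inf_centralizer hG hA hAB hB hBπ).le hc, hQ₂.trans hce.symm⟩

end Overgroup

/-- BG 7.5: transitivity passes to overgroups in which `A` is subnormal. -/
theorem trans_overgroup (hG : Cfsg.IsMinSimpleOddOrder G) {q : ℕ} (hq : q.Prime) {P : Subgroup G}
    (hP : P ≠ ⊤) (A' : Subgroup P) (hsn : A'.IsSubnormal)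
    (hA : Cfsg.TransitivityHypothesis (A'.map P.subtype)) (hqA : ¬ q ∣ Nat.card (A'.map P.subtype))
    (hPπ : ∀ r : ℕ, r.Prime → r ∣ Nat.card P → r ∣ Nat.card (A'.map P.subtype))
    (htr : IsTrans (A'.map P.subtype) q) :
    IsTrans P q ∧ Cfsg.maxInvSubgroups ⊤ P {q} ⊆ Cfsg.maxInvSubgroups ⊤ (A'.map P.subtype) {q} := by
  induction hsn with
  | top =>
    have h1 : (⊤ : Subgroup P).map P.subtype = P := by rw [← MonoidHom.range_eq_map, Subgroup.range_subtype]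
    rw [h1] at htr ⊢
    exact ⟨htr, le_rfl⟩
  | step H K hle _ hN ih =>
    have hAB : H.map P.subtype ≤ K.map P.subtype := Subgroup.map_mono hle
    have hKP : K.map P.subtype ≤ P := Subgroup.map_subtype_le _
    have hB : K.map P.subtype ≠ ⊤ := fun h => hP (top_unique (h.ge.trans hKP))
    have hBπ : ∀ r : ℕ, r.Prime → r ∣ Nat.card (K.map P.subtype) → r ∣ Nat.card (H.map P.subtype) :=
      fun r hr hd => hPπ r hr (hd.trans (Subgroup.card_dvd_of_le hKP))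
    have hBA : K.map P.subtype ≤ Subgroup.normalizer ((H.map P.subtype : Subgroup G) : Set G) :=
      (Subgroup.map_mono ((Subgroup.normal_subgroupOf_iff_le_normalizer hle).1 hN)).trans
        (Subgroup.le_normalizer_map _)
    have hqB : ¬ q ∣ Nat.card (K.map P.subtype) := fun hd => hqA (hBπ q hq hd)
    obtain ⟨htB, hsB⟩ := trans_step hG hA hAB hB hBπ hq hqA hBA htr
    obtain ⟨h1, h2⟩ := ih (th_overgroup hG hA hAB hB hBπ) hqB
      (fun r hr hd => (hPπ r hr hd).trans (Subgroup.card_dvd_of_le hAB)) htB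
    exact ⟨h1, h2.trans hsB⟩

end CfsgLib.OddLocal
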