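import Mathlib
import Cfsg.Agent.Lib.OddLocal.Cores
import Cfsg.Agent.Lib.OddLocal.Transitivity
import Cfsg.Agent.Lib.OddLocal.PStableOdd
import Cfsg.Agent.Lib.Subnormal.Basic
import Cfsg.Agent.S1442
import Cfsg.Agent.S1396

/-!
BG §8: uniqueness subgroups from a large Fitting subgroup.
-/

set_option autoImplicit false
set_option linter.style.haveILetI false

open Pointwise
open CfsgLib.Coprime

namespace CfsgLib.OddLocal

universe u

variable {G : Type u} [Group G] [Finite G]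

section

variable (hG : Cfsg.IsMinSimpleOddOrder G)
include hG

theorem not_coatom_bot {M : Subgroup G} (hM : IsCoatom M) (A : Subgroup G) (hA : A ≠ ⊤) :
    ∃ H : Subgroup G, IsCoatom H ∧ A ≤ H :=
  ((eq_top_or_exists_le_coatom A).resolve_left hA).imp fun _ h => ⟨h.1, h.2⟩

/-- A transitive `A` inside `F(M)` with the same primes has no nontrivial invariant `π(A)'`-subgroup. -/
theorem inv_eq_bot {M A : Subgroup G} (hM : IsCoatom M) (hA : Cfsg.TransitivityHypothesis A)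
    (hAF : A ≤ Cfsg.fittingOf M)
    (hπ : ∀ r : ℕ, r.Prime → r ∣ Nat.card (Cfsg.fittingOf M) → r ∣ Nat.card A)
    (hK : transK A = ⊥) {q : ℕ} (hq : q.Prime) (hqA : ¬ q ∣ Nat.card A) (htr : IsTrans A q)
    {Y : Subgroup G} (hY : IsPGroup q Y) (hAY : A ≤ Subgroup.normalizer (Y : Set G)) : Y = ⊥ := by
  haveI := Fact.mk hq
  set F := Cfsg.fittingOf M with hF
  haveI := fittingOf_isNilpotent M
  have hFM : F ≤ M := fittingOf_le M
  have hFtop : F ≠ ⊤ := fun h => hM.1 (top_unique (h.ge.trans hFM))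
  have hmap : (A.subgroupOf F).map F.subtype = A := Subgroup.map_subgroupOf_eq_of_le hAF
  obtain ⟨-, hsub⟩ := trans_overgroup hG hq hFtop (A.subgroupOf F)
    (Subnormal.isSubnormal_of_isNilpotent _) (by rw [hmap]; exact hA) (by rw [hmap]; exact hqA)
    (by rw [hmap]; exact hπ) (by rw [hmap]; exact htr)
  rw [hmap] at hsub
  obtain ⟨Q, hQ, -⟩ := exists_max_ge hq (A := F) (Y := ⊥) ⟨le_top, fun r hr hd => by
    rw [Subgroup.card_bot] at hd; exact absurd hd hr.not_dvd_one, fun a _ => by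
      rw [show Subgroup.normalizer ((⊥ : Subgroup G) : Set G) = ⊤ from Subgroup.normalizer_eq_top _]
      trivial⟩
  have huniq : ∀ R ∈ Cfsg.maxInvSubgroups ⊤ A {q}, R = Q := fun R hR => by
    obtain ⟨k, hk, hkR⟩ := htr Q (hsub hQ) R hR
    rw [hK, Subgroup.mem_bot] at hk
    rw [hkR, hk, map_one, one_smul]
  have hMQ : M ≤ Subgroup.normalizer (Q : Set G) := fun m hm =>
    mem_normalizer_iff_conj_smul.2 (huniq _ (hsub (conj_mem_max (le_normalizer_fittingOf M hm) hQ)))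
  have hQb : Q = ⊥ := by
    by_contra hne
    have hQq := pGroup_of_inv hq hQ.1
    have hQtop : Q ≠ ⊤ := by
      rintro rfl
      have h1 : IsPGroup q F := hQq.to_le le_top
      obtain ⟨m, hm⟩ := IsPGroup.iff_card.1 h1
      rcases Nat.eq_zero_or_pos m with rfl | hm0
      · exact hA.1 (le_bot_iff.1 (hAF.trans (Subgroup.card_eq_one.1 (by rw [hm, pow_zero])).le))
      · exact hqA (hπ q hq (hm ▸ dvd_pow_self q hm0.ne'))
    have hN := normalizer_ne_top hG hne hQtop
    have hNM : Subgroup.normalizer (Q : Set G) = M := ((hM.le_iff).1 hMQ).resolve_left hN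
    have hQM : Q ≤ M := hNM ▸ Subgroup.le_normalizer
    refine hqA (hπ q hq ((opOf_ne_bot_iff hq M).1 fun h => hne (le_bot_iff.1 ?_)))
    exact (le_piCoreOf hQM hMQ ((isPi_singleton_iff hq).2 hQq)).trans h.le
  obtain ⟨R, hR, hYR⟩ := exists_max_ge hq (inv_of_pGroup hq hY hAY)
  exact le_bot_iff.1 (hYR.trans ((huniq R hR).trans hQb).le)

/-- BG 8.1 (a). -/
theorem fitting_centralizer_uniq {M : Subgroup G} (hM : IsCoatom M) {p : ℕ} [hp : Fact p.Prime]
    {A₀ : Subgroup G} (hA₀ : A₀ ≤ Cfsg.fittingOf M) (hA₀e : Cfsg.IsElementaryAbelian p A₀)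
    (hA₀3 : p ^ 3 ≤ Nat.card A₀) (hF : ¬ IsPGroup p ↥(Cfsg.fittingOf M)) :
    Cfsg.InUniqueMaximal (Cfsg.fittingOf M ⊓ Subgroup.centralizer (A₀ : Set G)) := by
  classical
  have hpp := hp.out
  set F := Cfsg.fittingOf M with hFdef
  set A := F ⊓ Subgroup.centralizer (A₀ : Set G) with hAdef
  have hFM : F ≤ M := fittingOf_le M
  have hsM : Group.IsSolvable M := isSolvable_of_ne_top hG hM.1
  set π : Set ℕ := {q | q.Prime ∧ q ∣ Nat.card F} with hπdef
  have hFπ : IsPi π F := fun r hr hd => ⟨hr, hd⟩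
  have hA₀p : IsPGroup p A₀ := fun x => ⟨1, Subtype.ext (by simpa using hA₀e.2 x x.2)⟩
  haveI := hA₀e.1
  have hA₀c : A₀ ≤ Subgroup.centralizer (A₀ : Set G) := Subgroup.le_centralizer A₀
  have hA₀A : A₀ ≤ A := le_inf hA₀ hA₀c
  have hA₀op : A₀ ≤ opOf p M := fun x hx =>
    mem_opOf_of_mem_fittingOf hpp (hA₀ hx) (k := 1) (by rw [pow_one]; exact hA₀e.2 x hx)
  have hA₀1 : A₀ ≠ ⊥ := fun h => by
    rw [h, Subgroup.card_bot] at hA₀3
    exact absurd hA₀3 (not_le.2 (Nat.one_lt_pow (by norm_num) hpp.one_lt))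
  -- `Z q`: a central `q`-subgroup of `F`
  let Z : ℕ → Subgroup G := fun q => opOf q M ⊓ Subgroup.centralizer (F : Set G)
  let Aq : ℕ → Subgroup G := fun q => opOf q M ⊓ Subgroup.centralizer (A₀ : Set G)
  have hZA : ∀ q, q.Prime → Z q ≤ Aq q := fun q _ => inf_le_inf_left _ (Subgroup.centralizer_le hA₀)
  have hAqA : ∀ q, q.Prime → Aq q ≤ A := fun q hq => inf_le_inf_right _ (opOf_le_fittingOf hq M)
  have hother : ∀ r, r.Prime → r ≠ p → Aq r = opOf r M := fun r _ hrp => inf_eq_left.2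
    ((opOf_commute hrp M).trans (Subgroup.centralizer_le hA₀op))
  have hMN : ∀ q, q.Prime → M ≤ Subgroup.normalizer (Z q : Set G) := fun q _ =>
    le_normalizer_inf_of_le (le_normalizer_piCoreOf _ M)
      (le_normalizer_centralizer (le_normalizer_fittingOf M))
  have hZne : ∀ q ∈ π, Z q ≠ ⊥ := by
    intro q hq h
    haveI := Fact.mk hq.1
    set P := opOf q M with hPdef
    have hP : IsPGroup q P := isPGroup_opOf hq.1 M
    haveI : Nontrivial P := (Subgroup.nontrivial_iff_ne_bot _).2 ((opOf_ne_bot_iff hq.1 M).2 hq.2)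
    haveI := hP.center_nontrivial
    obtain ⟨z, hz⟩ := exists_ne (1 : Subgroup.center P)
    have hmem : ((z : P) : G) ∈ Z q := by
      refine ⟨(z : P).2, Subgroup.mem_centralizer_iff.2 fun f hf => ?_⟩
      have hle : F ≤ Subgroup.centralizer ({((z : P) : G)} : Set G) := fittingOf_le_of fun r hr => by
        intro w hw
        refine Subgroup.mem_centralizer_singleton_iff.2 ?_
        by_cases hrq : r = q
        · subst hrq
          exact congrArg Subtype.val (Subgroup.mem_center_iff.1 z.2 ⟨w, hw⟩)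
        · exact (opOf_commute hrq M hw _ (z : P).2).symm
      exact Subgroup.mem_centralizer_singleton_iff.1 (hle hf)
    rw [h, Subgroup.mem_bot] at hmem
    exact hz (Subtype.ext (Subtype.ext hmem))
  have hZM : ∀ q, Z q ≤ M := fun q => inf_le_left.trans (piCoreOf_le _ M)
  have hNZ : ∀ q ∈ π, Subgroup.normalizer (Z q : Set G) = M := fun q hq =>
    normalizer_eq_of_isCoatom hG hM (hZM q) (hZne q hq) (hMN q hq.1)
  have hCAq : ∀ q ∈ π, Subgroup.centralizer (Aq q : Set G) ≤ M := fun q hq =>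
    ((Subgroup.centralizer_le (hZA q hq.1)).trans (Subgroup.centralizer_le_normalizer _)).trans (hNZ q hq).le
  have hpπ : p ∈ π := ⟨hpp, (opOf_ne_bot_iff hpp M).1 fun h => hA₀1 (le_bot_iff.1 (hA₀op.trans h.le))⟩
  have hAπ : ∀ q ∈ π, q ∣ Nat.card A := fun q hq => by
    haveI := Fact.mk hq.1
    obtain ⟨m, hm⟩ := IsPGroup.iff_card.1 ((isPGroup_opOf hq.1 M).to_le (inf_le_left : Z q ≤ opOf q M))
    rcases Nat.eq_zero_or_pos m with rfl | hm0
    · exact absurd (Subgroup.card_eq_one.1 (by rw [hm, pow_zero])) (hZne q hq)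
    · exact (hm ▸ dvd_pow_self q hm0.ne').trans
        (Subgroup.card_dvd_of_le ((hZA q hq.1).trans (hAqA q hq.1)))
  have hAeq : ∀ q, q.Prime → (q ∈ Cfsg.primesNotDvd (Nat.card A) ↔ q ∉ π) := fun q hq =>
    ⟨fun h hπ => h.2 (hAπ q hπ), fun h => ⟨hq, fun hd => h (hFπ q hq (hd.trans (Subgroup.card_dvd_of_le inf_le_left)))⟩⟩
  have hexr : ∀ q, ∃ r ∈ π, r ≠ q := by
    intro q
    by_contra h
    push Not at h
    exact hF (IsPGroup.of_card (n := (Nat.card F).primeFactorsList.length)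
      (Nat.eq_prime_pow_of_unique_prime_dvd Nat.card_pos.ne' fun {d} hd hdvd =>
        (h d ⟨hd, hdvd⟩).trans (h p hpπ).symm))
  -- coprime action lemma
  have hC0 : ∀ {X : Subgroup G}, X ≤ M → IsPi {s | s ≠ p} X → X ≤ Subgroup.centralizer (Aq p : Set G) →
      X ≤ Subgroup.centralizer (opOf p M : Set G) := by
    intro X hXM hXp hXC
    refine Cfsg.Agent.S1442.result (opOf p M) X (isPGroup_opOf hpp M).isNilpotent
      (hXM.trans (le_normalizer_piCoreOf _ M)) ?_ ?_
    · exact Nat.coprime_of_dvd fun r hr h1 h2 => hXp r hr h1 (isPi_piCoreOf _ M r hr h2)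
    · have hAqC : Aq p ≤ opOf p M ⊓ Subgroup.centralizer (X : Set G) :=
        le_inf inf_le_left fun a ha x hx => (hXC hx a ha).symm
      rintro y ⟨hy, hyC⟩
      exact hAqC ⟨hy, fun a ha => hyC a (hAqC ⟨hA₀op ha, hA₀c ha⟩)⟩
  -- `C(A)` is a `π`-group
  have hCA : ∀ q, q.Prime → q ∣ Nat.card (Subgroup.centralizer (A : Set G)) → q ∈ π := by
    intro q hq hd
    by_contra hqπ
    haveI := Fact.mk hq
    obtain ⟨x, hx⟩ := exists_prime_orderOf_dvd_card' (G := Subgroup.centralizer (A : Set G)) q hd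
    rw [← Subgroup.orderOf_coe] at hx
    have hxM : (x : G) ∈ M := hCAq p hpπ (Subgroup.centralizer_le (hAqA p hpp) x.2)
    have hX : Subgroup.zpowers (x : G) ≤ Subgroup.centralizer (A : Set G) := Subgroup.zpowers_le.2 x.2
    have hXp : IsPi {s | s ≠ p} (Subgroup.zpowers (x : G)) := fun r hr hd he => hqπ (by
      rw [Nat.card_zpowers, hx, Nat.prime_dvd_prime_iff_eq hr hq] at hd
      exact hd ▸ he ▸ hpπ)
    have h2 : Subgroup.zpowers (x : G) ≤ Subgroup.centralizer (F : Set G) :=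
      Subgroup.le_centralizer_iff.1 (fittingOf_le_of fun r hr => Subgroup.le_centralizer_iff.1 (by
        by_cases hrp : r = p
        · subst hrp
          exact hC0 (Subgroup.zpowers_le.2 hxM) hXp (hX.trans (Subgroup.centralizer_le (hAqA r hr)))
        · exact hX.trans (Subgroup.centralizer_le ((hother r hr hrp).ge.trans (hAqA r hr)))))
    have h3 := inf_centralizer_fittingOf_le hsM ⟨hxM, h2 (Subgroup.mem_zpowers _)⟩
    exact hqπ (hFπ q hq (hx ▸ Subgroup.orderOf_dvd_natCard F h3))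
  have hCAbot : ∀ {U : Subgroup G}, U ≤ Subgroup.centralizer (A : Set G) →
      IsPi (Cfsg.primesNotDvd (Nat.card A)) U → U = ⊥ := fun {U} hU hUπ =>
    eq_bot_of_disjoint (π := π) (fun r hr hd => hCA r hr (hd.trans (Subgroup.card_dvd_of_le hU)))
      hUπ (Set.disjoint_left.2 fun r h1 h2 => ((hAeq r h1.1).1 h2) h1)
  -- `O_r(M) ∩ X ≤ O_{q'}(X)`
  have hAr : ∀ {X : Subgroup G}, X ≠ ⊤ → A ≤ X → ∀ q ∈ π, ∀ r, r ≠ q →
      opOf r M ⊓ X ≤ opPrimeOf q X := by
    intro X hX hAX q hq r hrq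
    refine le_opPrimeOf_of_normalizer hq.1 (isSolvable_of_ne_top hG hX)
      ((isPGroup_opOf hq.1 M).to_le (inf_le_left : Z q ≤ opOf q M))
      (((hZA q hq.1).trans (hAqA q hq.1)).trans hAX) inf_le_right
      ((le_opPrimeOf_compl hrq M).mono inf_le_left)
      ((inf_le_left.trans (piCoreOf_le _ M)).trans (hMN q hq.1)) ?_
    rw [hNZ q hq]
    exact le_normalizer_inf_of_le (inf_le_right.trans (le_normalizer_piCoreOf _ M))
      (inf_le_left.trans Subgroup.le_normalizer)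
  have hAq' : ∀ {X : Subgroup G}, X ≠ ⊤ → A ≤ X → ∀ q ∈ π, ∀ r ∈ π, r ≠ q → Aq r ≤ opPrimeOf q X :=
    fun hX hAX q hq r hr hrq => (le_inf inf_le_left ((hAqA r hr.1).trans hAX)).trans (hAr hX hAX q hq r hrq)
  have hAtop : A ≠ ⊤ := fun h => hM.1 (top_unique (h.ge.trans (inf_le_left.trans hFM)))
  have hAbot : A ≠ ⊥ := fun h => hA₀1 (le_bot_iff.1 (hA₀A.trans h.le))
  have hTH : Cfsg.TransitivityHypothesis A := by
    refine ⟨hAbot, hAtop, fun X hX hAX => le_antisymm (sSup_le ?_) (le_sSup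
      ⟨piCoreOf_le _ X, isPi_piCoreOf _ X, hAX.trans (le_normalizer_piCoreOf _ X)⟩)⟩
    rintro Y ⟨hYX, hYπ, hAY⟩
    have hYcop : (Nat.card A).Coprime (Nat.card Y) := coprime_primesNotDvd hYπ
    have hYq : ∀ q ∈ π, Y ≤ opPrimeOf q X := by
      intro q hq
      obtain ⟨r, hr, hrq⟩ := hexr q
      have hArN : Aq r ≤ Subgroup.normalizer (Y : Set G) := (hAqA r hr.1).trans hAY
      have hU : Y ⊓ Subgroup.centralizer (Aq r : Set G) = ⊥ := by
        set U := Y ⊓ Subgroup.centralizer (Aq r : Set G) with hUdef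
        have hUM : U ≤ M := inf_le_right.trans (hCAq r hr)
        have hAUn : A ≤ Subgroup.normalizer (U : Set G) := by
          refine le_normalizer_inf_of_le hAY (le_normalizer_centralizer ?_)
          exact le_normalizer_inf_of_le ((inf_le_left.trans hFM).trans (le_normalizer_piCoreOf _ M))
            (inf_le_right.trans Subgroup.le_normalizer)
        have hUπ : IsPi (Cfsg.primesNotDvd (Nat.card A)) U := fun s hs hd =>
          hYπ s hs (hd.trans (Subgroup.card_dvd_of_le inf_le_left))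
        refine hCAbot (fun y hy a ha => ?_) hUπ
        have h1 : a * y * a⁻¹ * y⁻¹ ∈ U := U.mul_mem
          ((Subgroup.mem_normalizer_iff.1 (hAUn ha) y).1 hy) (U.inv_mem hy)
        have h2 : a * y * a⁻¹ * y⁻¹ ∈ F := by
          rw [show a * y * a⁻¹ * y⁻¹ = a * (y * a⁻¹ * y⁻¹) by group]
          exact F.mul_mem ha.1 ((Subgroup.mem_normalizer_iff.1 (le_normalizer_fittingOf M (hUM hy)) a⁻¹).1
            (F.inv_mem ha.1))
        have h3 : U ⊓ F = ⊥ := eq_bot_of_disjoint (hUπ.mono inf_le_left) (hFπ.mono inf_le_right)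
          (Set.disjoint_left.2 fun s h1 h2 => (hAeq s h1.1).1 h1 h2)
        have h4 : a * y * a⁻¹ * y⁻¹ ∈ U ⊓ F := ⟨h1, h2⟩
        rw [h3, Subgroup.mem_bot, mul_inv_eq_one, mul_inv_eq_iff_eq_mul] at h4
        exact h4
      have h5 := commutator_sup_centralizer hArN
        (hYcop.coprime_dvd_left (Subgroup.card_dvd_of_le (hAqA r hr.1)))
        (Or.inr (isSolvable_of_ne_top hG fun h => hX (top_unique (h.ge.trans hYX))))
      rw [hU, sup_bot_eq] at h5
      rw [← h5, Subgroup.commutator_le]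
      intro y hy a ha
      have h6 := hAq' hX hAX q hq r hr hrq ha
      rw [commutatorElement_def]
      exact (opPrimeOf q X).mul_mem
        ((Subgroup.mem_normalizer_iff.1 (le_normalizer_piCoreOf _ X (hYX hy)) a).1 h6)
        ((opPrimeOf q X).inv_mem h6)
    set D := X ⊓ ⨅ q ∈ π, opPrimeOf q X with hD
    refine (le_inf hYX (le_iInf₂ hYq)).trans (le_piCoreOf inf_le_left ?_ fun s hs hd => ?_)
    · intro x hx
      refine Subgroup.mem_normalizer_iff.2 fun y => ?_
      simp only [hD, Subgroup.mem_inf, Subgroup.mem_iInf]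
      refine and_congr ⟨fun h => X.mul_mem (X.mul_mem hx h) (X.inv_mem hx), fun h => ?_⟩
        (forall₂_congr fun q _ => Subgroup.mem_normalizer_iff.1 (le_normalizer_piCoreOf _ X hx) y)
      have := X.mul_mem (X.mul_mem (X.inv_mem hx) h) hx
      simpa [mul_assoc] using this
    · refine (hAeq s hs).2 fun hsπ => ?_
      exact isPi_piCoreOf _ X s hs (hd.trans (Subgroup.card_dvd_of_le
        (inf_le_right.trans (iInf₂_le s hsπ)))) rfl
  have hK : transK A = ⊥ := hCAbot (piCoreOf_le _ _) (isPi_piCoreOf _ _)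
  have hZrank : ¬ Cfsg.RankLE 2 ↥(A ⊓ Subgroup.centralizer (A : Set G)) := by
    intro h
    have hle : A₀ ≤ A ⊓ Subgroup.centralizer (A : Set G) :=
      le_inf hA₀A fun a ha x hx => (hx.2 a ha).symm
    haveI := hA₀e.1
    have h1 := h p hpp (A₀.subgroupOf _) (⟨⟨fun a b => Subtype.ext (Subtype.ext (congrArg Subtype.val
      (mul_comm' (⟨_, a.2⟩ : A₀) ⟨_, b.2⟩) :))⟩⟩) fun a ha => Subtype.ext (hA₀e.2 _ ha)
    rw [Nat.card_congr (Subgroup.subgroupOfEquivOfLe hle).toEquiv] at h1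
    exact absurd (hA₀3.trans h1) (not_le.2 (Nat.pow_lt_pow_right hpp.one_lt (by norm_num)))
  have hinv : ∀ {q : ℕ}, q.Prime → q ∉ π → ∀ {Y : Subgroup G}, IsPGroup q Y →
      A ≤ Subgroup.normalizer (Y : Set G) → Y = ⊥ := fun {q} hq hqπ {Y} hY hAY =>
    inv_eq_bot hG hM hTH inf_le_left (fun r hr hd => hAπ r ⟨hr, hd⟩) hK hq
      ((hAeq q hq).2 hqπ).2 (trans_of_rank_three hG hTH hq ((hAeq q hq).2 hqπ).2 hZrank) hY hAY
  -- uniqueness
  refine ⟨M, ⟨hM, inf_le_left.trans hFM⟩, ?_⟩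
  rintro H ⟨hH, hAH⟩
  have hsH : Group.IsSolvable H := isSolvable_of_ne_top hG hH.1
  have hopH : ∀ {q : ℕ}, q.Prime → q ∉ π → opOf q H = ⊥ := fun hq hqπ =>
    hinv hq hqπ (isPGroup_opOf hq H) (hAH.trans (le_normalizer_piCoreOf _ H))
  have hOπ : ∀ {X : Subgroup G}, X ≠ ⊤ → A ≤ X → ∀ {Y : Subgroup G}, Y ≤ X →
      X ≤ Subgroup.normalizer (Y : Set G) → IsPi {s | s ∉ π} Y → Y = ⊥ := by
    intro X hX hAX Y hYX hXY hY
    by_contra hne
    obtain ⟨q, hq, hqπ, hne'⟩ := exists_opOf_ne_bot (isSolvable_of_ne_top hG hX) hYX hXY hY hne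
    exact hne' (hinv hq hqπ (isPGroup_opOf hq X) (hAX.trans (le_normalizer_piCoreOf _ X)))
  have hFH : Cfsg.fittingOf H ≤ M := fittingOf_le_of fun q hq => by
    by_cases hqπ : q ∈ π
    · obtain ⟨r, hr, hrq⟩ := hexr q
      exact ((opOf_commute_prime H).trans
        (Subgroup.centralizer_le (hAq' hH.1 hAH q hqπ r hr hrq))).trans (hCAq r hr)
    · rw [hopH hq hqπ]; exact bot_le
  obtain ⟨q₀, hq₀, hq₀p, hne₀⟩ : ∃ q₀ ∈ π, q₀ ≠ p ∧ opOf q₀ H ≠ ⊥ := by
    obtain ⟨r, hr, hrp⟩ := hexr p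
    have hne : opPrimeOf p H ≠ ⊥ := fun h => hZne r hr (le_bot_iff.1
      ((hZA r hr.1).trans ((hAq' hH.1 hAH p hpπ r hr hrp).trans h.le)))
    obtain ⟨q, hq, hqp, hne'⟩ := exists_opOf_ne_bot hsH (piCoreOf_le _ H) (le_normalizer_piCoreOf _ H)
      (isPi_piCoreOf _ H) hne
    exact ⟨q, by_contra fun h => hne' (hopH hq h), hqp, hne'⟩
  have hFMH : F ≤ H := fittingOf_le_of fun r hr => by
    by_cases hrp : r = p
    · subst hrp
      have h1 : opOf q₀ H ≤ Subgroup.centralizer (Aq r : Set G) :=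
        (opOf_commute_prime H).trans (Subgroup.centralizer_le (hAq' hH.1 hAH q₀ hq₀ r hpπ hq₀p.symm))
      have h2 : opOf r M ≤ Subgroup.centralizer (opOf q₀ H : Set G) := Subgroup.le_centralizer_iff.1
        (hC0 ((opOf_le_fittingOf hq₀.1 H).trans hFH) (le_opPrimeOf_compl hq₀p H) h1)
      exact (h2.trans (Subgroup.centralizer_le_normalizer _)).trans
        (normalizer_eq_of_isCoatom hG hH (piCoreOf_le _ H) hne₀ (le_normalizer_piCoreOf _ H)).le
    · exact ((hother r hr hrp).ge.trans (hAqA r hr)).trans hAH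
  let T : ℕ → Subgroup G → Subgroup G := fun r X => Cfsg.piCoreOf {s | s = r ∨ s ∉ π} X
  have hleT : ∀ {X Y : Subgroup G} {r : ℕ}, Y ≤ X →
      (∀ q ∈ π, q ≠ r → Y ≤ opPrimeOf q X) → Y ≤ T r X := by
    intro X Y r hYX hY
    set D := X ⊓ ⨅ q ∈ π, ⨅ (_ : q ≠ r), opPrimeOf q X with hD
    refine (le_inf hYX (le_iInf₂ fun q hq => le_iInf (hY q hq))).trans
      (le_piCoreOf inf_le_left ?_ fun s hs hd => ?_)
    · intro x hx
      refine Subgroup.mem_normalizer_iff.2 fun y => ?_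
      simp only [hD, Subgroup.mem_inf, Subgroup.mem_iInf]
      refine and_congr ⟨fun h => X.mul_mem (X.mul_mem hx h) (X.inv_mem hx), fun h => ?_⟩
        (forall₂_congr fun q _ => forall_congr' fun _ =>
          Subgroup.mem_normalizer_iff.1 (le_normalizer_piCoreOf _ X hx) y)
      have := X.mul_mem (X.mul_mem (X.inv_mem hx) h) hx
      simpa [mul_assoc] using this
    · by_contra hsr
      simp only [Set.mem_setOf_eq, not_or, not_not] at hsr
      exact isPi_piCoreOf _ X s hs (hd.trans (Subgroup.card_dvd_of_le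
        (inf_le_right.trans (iInf₂_le_of_le s hsr.2 (iInf_le _ hsr.1))))) rfl
  have hTq : ∀ {X : Subgroup G} {r q : ℕ}, q ∈ π → q ≠ r → IsPi {s | s ≠ q} (T r X) := by
    intro X r q hq hqr s hs hd he
    subst he
    rcases isPi_piCoreOf _ X s hs hd with h | h
    · exact hqr h
    · exact h hq
  have hMT : ∀ r ∈ π, opOf r M ≤ T r H := fun r hr =>
    hleT ((opOf_le_fittingOf hr.1 M).trans hFMH) fun q hq hqr =>
      (le_inf le_rfl ((opOf_le_fittingOf hr.1 M).trans hFMH)).trans (hAr hH.1 hAH q hq r hqr.symm)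
  have hHne : ∀ r ∈ π, opOf r H ≠ ⊥ := by
    intro r hr
    have hne : T r H ≠ ⊥ := fun h =>
      ((opOf_ne_bot_iff hr.1 M).2 hr.2) (le_bot_iff.1 ((hMT r hr).trans h.le))
    obtain ⟨q, hq, hqr, hne'⟩ := exists_opOf_ne_bot hsH (piCoreOf_le _ H) (le_normalizer_piCoreOf _ H)
      (isPi_piCoreOf _ H) hne
    rcases hqr with rfl | h
    · exact hne'
    · exact absurd (hopH hq h) hne'
  have hNH : ∀ r ∈ π, Subgroup.normalizer (opOf r H : Set G) = H := fun r hr =>
    normalizer_eq_of_isCoatom hG hH (piCoreOf_le _ H) (hHne r hr) (le_normalizer_piCoreOf _ H)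
  have hHT : ∀ r ∈ π, opOf r H ≤ T r M := fun r hr => by
    have hrM : opOf r H ≤ M := (opOf_le_fittingOf hr.1 H).trans hFH
    refine hleT hrM fun q hq hqr => ?_
    have hqM : opOf q H ≤ M := (opOf_le_fittingOf hq.1 H).trans hFH
    refine le_opPrimeOf_of_normalizer hq.1 hsM (isPGroup_opOf hq.1 H) hqM hrM
      (le_opPrimeOf_compl hqr.symm H) ((piCoreOf_le _ H).trans (hNH q hq).ge) ?_
    rw [hNH q hq]
    exact inf_le_right.trans (le_normalizer_piCoreOf _ H)
  have hTcomm : ∀ {X : Subgroup G}, X ≠ ⊤ → A ≤ X → ∀ {r q : ℕ}, r ≠ q →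
      T r X ≤ Subgroup.centralizer (T q X : Set G) := by
    intro X hX hAX r q hrq a ha b hb
    have h0 : T r X ⊓ T q X = ⊥ := hOπ hX hAX (inf_le_left.trans (piCoreOf_le _ X))
      (le_normalizer_inf_of_le (le_normalizer_piCoreOf _ X) (le_normalizer_piCoreOf _ X))
      fun s hs hd => by
        rcases isPi_piCoreOf _ X s hs (hd.trans (Subgroup.card_dvd_of_le inf_le_left)) with h | h
        · rcases isPi_piCoreOf _ X s hs (hd.trans (Subgroup.card_dvd_of_le inf_le_right)) with h' | h'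
          · exact absurd (h.symm.trans h') hrq
          · exact h'
        · exact h
    have h1 : a * b * a⁻¹ * b⁻¹ ∈ T r X ⊓ T q X := ⟨by
        rw [show a * b * a⁻¹ * b⁻¹ = a * (b * a⁻¹ * b⁻¹) by group]
        exact (T r X).mul_mem ha ((Subgroup.mem_normalizer_iff.1
          (le_normalizer_piCoreOf _ X (piCoreOf_le _ X hb)) a⁻¹).1 ((T r X).inv_mem ha)),
      (T q X).mul_mem ((Subgroup.mem_normalizer_iff.1
        (le_normalizer_piCoreOf _ X (piCoreOf_le _ X ha)) b).1 hb) ((T q X).inv_mem hb)⟩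
    rw [h0, Subgroup.mem_bot, mul_inv_eq_one, mul_inv_eq_iff_eq_mul] at h1
    exact h1.symm
  obtain ⟨r, hr, hrq⟩ := hexr q₀
  have hAM : A ≤ M := inf_le_left.trans hFM
  have hTM : T r M ≤ H := ((hTcomm hM.1 hAM hrq).trans
    ((Subgroup.centralizer_le (hHT q₀ hq₀)).trans (Subgroup.centralizer_le_normalizer _))).trans
      (hNH q₀ hq₀).le
  have hTH' : T r H ≤ M := (hTcomm hH.1 hAH hrq).trans
    ((Subgroup.centralizer_le ((inf_le_left : Aq q₀ ≤ _).trans (hMT q₀ hq₀))).trans (hCAq q₀ hq₀))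
  have h1 : T r M ≤ T r H := hleT hTM fun q hq hqr => by
    refine le_opPrimeOf_of_normalizer hq.1 hsH
      ((isPGroup_opOf hq.1 M).to_le (inf_le_left : Z q ≤ opOf q M))
      (((hZA q hq.1).trans (hAqA q hq.1)).trans hAH) hTM (hTq hq hqr)
      ((piCoreOf_le _ M).trans (hMN q hq.1)) ?_
    rw [hNZ q hq]
    exact inf_le_right.trans (le_normalizer_piCoreOf _ M)
  have h2 : T r H ≤ T r M := hleT hTH' fun q hq hqr => by
    refine le_opPrimeOf_of_normalizer hq.1 hsM (isPGroup_opOf hq.1 H)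
      ((opOf_le_fittingOf hq.1 H).trans hFH) hTH' (hTq hq hqr)
      ((piCoreOf_le _ H).trans (hNH q hq).ge) ?_
    rw [hNH q hq]
    exact inf_le_right.trans (le_normalizer_piCoreOf _ H)
  have hne : T r M ≠ ⊥ := fun h => ((opOf_ne_bot_iff hr.1 M).2 hr.2)
    (le_bot_iff.1 ((piCoreOf_mono (fun s hs => Or.inl hs) M).trans h.le))
  have e1 := normalizer_eq_of_isCoatom hG hM (piCoreOf_le _ M) hne (le_normalizer_piCoreOf _ M)
  rw [← e1]
  refine (normalizer_eq_of_isCoatom hG hH hTM hne ?_).symm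
  rw [le_antisymm h1 h2]
  exact le_normalizer_piCoreOf _ H

end

end CfsgLib.OddLocal

namespace CfsgLib.OddLocal

universe v

variable {G : Type v} [Group G] [Finite G] {p : ℕ} [hp : Fact p.Prime]

theorem isMulCommutative_of_isSCN {P A : Subgroup G} (h : Cfsg.IsSCN P A) : IsMulCommutative A :=
  ⟨⟨fun a b => Subtype.ext ((h.2.2.ge a.2).2 b b.2).symm⟩⟩

theorem pPrimeCore_eq_bot_of_op {X : Subgroup G} (hX : Group.IsSolvable X)
    (h : ∀ q : ℕ, q.Prime → q ≠ p → opOf q X = ⊥) : Cfsg.pPrimeCore p X = ⊥ := by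
  haveI := Transfer.pPrimeCore_normal p X
  by_contra hne
  obtain ⟨q, hq, hqp, hne'⟩ := exists_opOf_ne_bot hX (Subgroup.map_subtype_le (Cfsg.pPrimeCore p X))
    (PSolvable.le_normalizer_map_of_characteristic (H := X) Subgroup.le_normalizer _)
    ((isPi_ne_iff hp.out).2 (by
      rw [Subgroup.card_map_of_injective X.subtype_injective]; exact Transfer.pPrimeCore_coprime p))
    (fun h' => hne ((Subgroup.map_eq_bot_iff_of_injective _ X.subtype_injective).1 h'))
  exact hne' (h q hq hqp)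

/-- The `ZJ`-subgroup of a Sylow subgroup of `X` is normalized by `X` when `O_{p'}(X) = 1`. -/
theorem le_normalizer_zJ {X R : Subgroup G} (hX : Group.IsSolvable X) (hodd : Odd (Nat.card G))
    (hp2 : p ≠ 2) (hO : Cfsg.pPrimeCore p X = ⊥) (S : Sylow p X)
    (hS : (S : Subgroup X).map X.subtype = R) :
    X ≤ Subgroup.normalizer (ZJ.zJ 0 R : Set G) := by
  haveI := hX
  haveI := zJ_normal hp2 (Odd.of_dvd_nat hodd (Subgroup.card_subgroup_dvd_card X)) hO S
  rw [← hS, ← ZJ.map_zJ 0 X.subtype X.subtype_injective.injOn]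
  exact (Subgroup.normal_subgroupOf_iff_le_normalizer (Subgroup.map_subtype_le _)).1 (by
    rw [Subgroup.subgroupOf, Subgroup.comap_map_eq_self_of_injective X.subtype_injective]; infer_instance)

theorem exists_pGroup_gt {R S : Subgroup G} (hS : IsPGroup p S) (hRS : R ≤ S) (hne : ¬ S ≤ R) :
    ∃ x ∈ S, x ∈ Subgroup.normalizer (R : Set G) ∧ x ∉ R :=
  exists_mem_normalizer_not_mem hS hRS hne

theorem zJ_ne_bot' {R : Subgroup G} (hR : IsPGroup p R) (hR1 : R ≠ ⊥) : ZJ.zJ 0 R ≠ ⊥ := fun h => by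
  obtain ⟨z, hz, hz1, -⟩ := ZJ.zJ_ne_bot (e := 0) (p := p) (Or.inl rfl) hR hR1
  rw [h, Subgroup.mem_bot] at hz
  exact hz1 hz

/-- BG 8.1 (b). -/
theorem scn_uniq_of_pGroup_fitting (hG : Cfsg.IsMinSimpleOddOrder G) {M : Subgroup G}
    (hM : IsCoatom M) (hF : IsPGroup p ↥(Cfsg.fittingOf M)) (P : Sylow p M) {A : Subgroup G}
    (hA : Cfsg.IsSCN ((P : Subgroup M).map M.subtype) A) (hA3 : ¬ Cfsg.PRankLE p 2 ↥A) :
    ¬ p ∣ ((P : Subgroup M).map M.subtype).index ∧
      A ≤ Cfsg.fittingOf M ∧ Cfsg.InUniqueMaximal A := by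
  classical
  have hpp := hp.out
  set P' := (P : Subgroup M).map M.subtype with hP'
  have hP'p : IsPGroup p P' := P.2.map _
  have hP'M : P' ≤ M := Subgroup.map_subtype_le _
  set F := Cfsg.fittingOf M with hFdef
  have hFM : F ≤ M := fittingOf_le M
  have hsM : Group.IsSolvable M := isSolvable_of_ne_top hG hM.1
  haveI := hsM
  haveI hAc : IsMulCommutative A := isMulCommutative_of_isSCN hA
  have hAP : A ≤ P' := hA.1
  have hA1 : A ≠ ⊥ := fun h => hA3 fun B _ _ => by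
    refine ((Subgroup.card_le_card_group B).trans ?_).trans (Nat.one_le_pow _ _ hpp.pos)
    rw [h, Subgroup.card_bot]
  have hpG : p ∣ Nat.card G := by
    obtain ⟨m, hm⟩ := IsPGroup.iff_card.1 (hP'p.to_le hAP)
    rcases Nat.eq_zero_or_pos m with rfl | hm0
    · exact absurd (Subgroup.card_eq_one.1 (by rw [hm, pow_zero])) hA1
    · exact (hm ▸ dvd_pow_self p hm0.ne').trans (Subgroup.card_subgroup_dvd_card A)
  have hp2 : p ≠ 2 := two_ne_of_dvd_odd hG.1 hpG
  have hopM : ∀ q : ℕ, q.Prime → q ≠ p → opOf q M = ⊥ := fun q hq hqp =>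
    eq_bot_of_disjoint (π := {q}) (ρ := {p}) (isPi_piCoreOf _ M)
      ((isPi_singleton_iff hpp).2 (hF.to_le (opOf_le_fittingOf hq M)))
      (Set.disjoint_singleton.2 hqp)
  have hOM : Cfsg.pPrimeCore p M = ⊥ := pPrimeCore_eq_bot_of_op hsM hopM
  have hAF : A ≤ F := by
    have h1 : A.subgroupOf M ≤ Cfsg.pCore p M := by
      haveI : IsMulCommutative (A.subgroupOf M) := ⟨⟨fun a b => Subtype.ext (Subtype.ext (congrArg Subtype.val
        (mul_comm' (⟨((a : M) : G), a.2⟩ : A) ⟨((b : M) : G), b.2⟩) :))⟩⟩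
      refine le_pCore_of_abelian_normal (Odd.of_dvd_nat hG.1 (Subgroup.card_subgroup_dvd_card M)) hOM P
        (fun a ha => ?_) (fun x hx => Subgroup.mem_normalizer_iff.2 fun y =>
          Subgroup.mem_normalizer_iff.1 (hA.2.1 (Subgroup.mem_map_of_mem _ hx)) (y : G))
      obtain ⟨z, hz, hza⟩ := hAP (ha : ((a : M) : G) ∈ A)
      exact M.subtype_injective hza ▸ hz
    rw [← Subgroup.map_subgroupOf_eq_of_le (hAP.trans hP'M)]
    exact (Subgroup.map_mono h1).trans ((opOf_eq hpp M).ge.trans (opOf_le_fittingOf hpp M))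
  have hFP : F ≤ P' := fittingOf_le_of fun q hq => by
    by_cases hqp : q = p
    · subst hqp
      rw [opOf_eq hpp]
      exact Subgroup.map_mono ((Fitting.pCore_eq_iInf_sylow (G := M) q).le.trans (iInf_le _ P))
    · rw [hopM q hq hqp]; exact bot_le
  have hP'1 : P' ≠ ⊥ := fun h => hA1 (le_bot_iff.1 (hAP.trans h.le))
  have hNP : Subgroup.normalizer (P' : Set G) ≤ M :=
    (ZJ.normalizer_le_normalizer_zJ 0 P').trans (normalizer_eq_of_isCoatom hG hM
      ((ZJ.zJ_le 0 P').trans hP'M) (zJ_ne_bot' hP'p hP'1) (le_normalizer_zJ hsM hG.1 hp2 hOM P rfl)).le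
  have hmaxM : ∀ {S : Subgroup G}, IsPGroup p S → P' ≤ S → S ≤ M → S = P' := by
    intro S hS hle hSM
    have h1 : S.subgroupOf M = P := P.3 (hS.comap_of_injective M.subtype M.subtype_injective)
      fun x hx => hle (Subgroup.mem_map_of_mem _ hx)
    rw [hP', ← h1, Subgroup.map_subgroupOf_eq_of_le hSM]
  obtain ⟨S, hS⟩ := hP'p.exists_le_sylow
  have hSP : (S : Subgroup G) = P' := by
    by_contra hne
    obtain ⟨x, hx, hxN, hxP⟩ := exists_pGroup_gt S.2 hS fun h => hne (le_antisymm h hS)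
    have h1 := hmaxM (S := (S : Subgroup G) ⊓ Subgroup.normalizer (P' : Set G)) (S.2.to_le inf_le_left)
      (le_inf hS Subgroup.le_normalizer) (inf_le_right.trans hNP)
    exact hxP (h1.le ⟨hx, hxN⟩)
  refine ⟨hSP ▸ S.not_dvd_index, hAF, ?_⟩
  have hrank : ∀ k : ℕ, k ≤ 2 → ¬ Cfsg.PRankLE p k ↥A := fun k hk h => hA3 fun B hB hBe =>
    (h B hB hBe).trans (Nat.pow_le_pow_right hpp.pos hk)
  have hTH : Cfsg.TransitivityHypothesis A := Cfsg.Agent.S1396.result hG p hpG A (hP'p.to_le hAP)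
    hAc (Or.inr ⟨S, hSP ▸ hA, hrank 1 (by norm_num)⟩)
  have hAM : A ≤ M := hAP.trans hP'M
  have hCA : Subgroup.centralizer (A : Set G) ≤ M := by
    set Z0 := F ⊓ Subgroup.centralizer (F : Set G) with hZ0
    have hZ0A : Z0 ≤ A := fun z hz => hA.2.2.le ⟨hFP hz.1, fun a ha => hz.2 a (hAF ha)⟩
    have hZ0ne : Z0 ≠ ⊥ := by
      intro h
      haveI : Nontrivial F := (Subgroup.nontrivial_iff_ne_bot _).2
        fun h' => hA1 (le_bot_iff.1 (hAF.trans h'.le))
      haveI := hF.center_nontrivial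
      obtain ⟨z, hz⟩ := exists_ne (1 : Subgroup.center F)
      have hmem : ((z : F) : G) ∈ Z0 := ⟨(z : F).2, fun f hf =>
        congrArg Subtype.val (Subgroup.mem_center_iff.1 z.2 ⟨f, hf⟩)⟩
      rw [h, Subgroup.mem_bot] at hmem
      exact hz (Subtype.ext (Subtype.ext hmem))
    exact ((Subgroup.centralizer_le hZ0A).trans (Subgroup.centralizer_le_normalizer _)).trans
      (normalizer_eq_of_isCoatom hG hM (inf_le_left.trans hFM) hZ0ne
        (le_normalizer_inf_of_le (le_normalizer_fittingOf M)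
          (le_normalizer_centralizer (le_normalizer_fittingOf M)))).le
  obtain ⟨mA, hmA⟩ := IsPGroup.iff_card.1 (hP'p.to_le hAP)
  have hmA0 : mA ≠ 0 := fun h0 => hA1 (Subgroup.card_eq_one.1 (by rw [hmA, h0, pow_zero]))
  have hAq : ∀ q : ℕ, q.Prime → (¬ q ∣ Nat.card A ↔ q ≠ p) := fun q hq => by
    refine ⟨fun h he => h ?_, fun h hd => h ?_⟩
    · rw [he, hmA]; exact dvd_pow_self p hmA0
    · rw [hmA] at hd
      exact (Nat.prime_dvd_prime_iff_eq hq hpp).1 (hq.dvd_of_dvd_pow hd)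
  have hK : transK A = ⊥ := by
    have h1 : transK A ≤ Cfsg.piCoreOf (Cfsg.primesNotDvd (Nat.card A)) M :=
      inv_le_core hG hTH hM.1 hAM ((piCoreOf_le _ _).trans hCA) (isPi_piCoreOf _ _)
        fun a ha => Subgroup.centralizer_le_normalizer _ fun y hy => ((piCoreOf_le _ _ hy) a ha).symm
    by_contra hne
    obtain ⟨q, hq, hqπ, hne'⟩ := exists_opOf_ne_bot hsM (piCoreOf_le _ M) (le_normalizer_piCoreOf _ M)
      (isPi_piCoreOf (Cfsg.primesNotDvd (Nat.card A)) M) fun h => hne (le_bot_iff.1 (h1.trans h.le))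
    exact hne' (hopM q hq ((hAq q hq).1 hqπ.2))
  have hZrank : ¬ Cfsg.RankLE 2 ↥(A ⊓ Subgroup.centralizer (A : Set G)) := fun h =>
    hA3 fun B hB hBe => by
      haveI := hB
      have h1 := h p hpp (B.map (Subgroup.inclusion (le_inf le_rfl (Subgroup.le_centralizer A))))
        (Subgroup.map_isMulCommutative B _) (by rintro _ ⟨b, hb, rfl⟩; rw [← map_pow, hBe b hb, map_one])
      rwa [Subgroup.card_map_of_injective (Subgroup.inclusion_injective _)] at h1
  have hinv : ∀ {q : ℕ}, q.Prime → q ≠ p → ∀ {Y : Subgroup G}, IsPGroup q Y →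
      A ≤ Subgroup.normalizer (Y : Set G) → Y = ⊥ := fun {q} hq hqp {Y} hY hAY =>
    inv_eq_bot hG hM hTH hAF (fun r hr hd => by
      obtain ⟨k, hk⟩ := IsPGroup.iff_card.1 hF
      rw [hk] at hd
      rw [(Nat.prime_dvd_prime_iff_eq hr hpp).1 (hr.dvd_of_dvd_pow hd), hmA]
      exact dvd_pow_self p hmA0) hK hq ((hAq q hq).2 hqp)
      (trans_of_rank_three hG hTH hq ((hAq q hq).2 hqp) hZrank) hY hAY
  have hOH : ∀ {X : Subgroup G}, X ≠ ⊤ → A ≤ X → Cfsg.pPrimeCore p X = ⊥ := fun hX hAX =>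
    pPrimeCore_eq_bot_of_op (isSolvable_of_ne_top hG hX) fun q hq hqp =>
      hinv hq hqp (isPGroup_opOf hq _) (hAX.trans (le_normalizer_piCoreOf _ _))
  refine ⟨M, ⟨hM, hAM⟩, fun H₀ hH₀ => ?_⟩
  by_contra hne
  obtain ⟨⟨H, R⟩, ⟨hH, hHne, hRp, hAR, hRH, hRM⟩, hmax⟩ := (Set.toFinite
      {x : Subgroup G × Subgroup G | IsCoatom x.1 ∧ x.1 ≠ M ∧ IsPGroup p x.2 ∧ A ≤ x.2 ∧ x.2 ≤ x.1 ∧
        x.2 ≤ M}).exists_maximalFor (fun x => Nat.card x.2) _
    ⟨(H₀, A), hH₀.1, hne, hP'p.to_le hAP, le_rfl, hH₀.2, hAM⟩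
  have hbig : ∀ {L S : Subgroup G}, IsCoatom L → L ≠ M → IsPGroup p S → R ≤ S → S ≤ L → S ≤ M →
      S ≤ R := by
    intro L S hL hLne hSp hRS hSL hSM
    have h1 : Nat.card S ≤ Nat.card R := hmax (j := (L, S))
      ⟨hL, hLne, hSp, hAR.trans hRS, hSL, hSM⟩ (Subgroup.card_le_of_le hRS)
    exact (Subgroup.eq_of_le_of_card_ge hRS h1).ge
  have hR1 : R ≠ ⊥ := fun h => hA1 (le_bot_iff.1 (hAR.trans h.le))
  have hR' : IsPGroup p (R.subgroupOf M) := hRp.comap_of_injective M.subtype M.subtype_injective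
  obtain ⟨TM, hTM⟩ := hR'.exists_le_sylow
  set SM := (TM : Subgroup M).map M.subtype with hSM
  have hRSM : R ≤ SM := (Subgroup.map_subgroupOf_eq_of_le hRM).ge.trans (Subgroup.map_mono hTM)
  have hzR : ZJ.zJ 0 R ≠ ⊥ := zJ_ne_bot' hRp hR1
  have hsH := isSolvable_of_ne_top hG hH.1
  have hR'' : IsPGroup p (R.subgroupOf H) := hRp.comap_of_injective H.subtype H.subtype_injective
  obtain ⟨TH, hTH'⟩ := hR''.exists_le_sylow
  set SH := (TH : Subgroup H).map H.subtype with hSH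
  have hRSH : R ≤ SH := (Subgroup.map_subgroupOf_eq_of_le hRH).ge.trans (Subgroup.map_mono hTH')
  by_cases hcase : SM ≤ R
  · -- `R` is a Sylow subgroup of `G`
    have hRsyl : R = SM := le_antisymm hRSM hcase
    have hcard : Nat.card R = Nat.card P' := by
      rw [hRsyl, hSM, hP', Subgroup.card_map_of_injective M.subtype_injective,
        Subgroup.card_map_of_injective M.subtype_injective, TM.card_eq_multiplicity, P.card_eq_multiplicity]
    obtain ⟨S', hS'⟩ := hRp.exists_le_sylow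
    have hS'R : (S' : Subgroup G) = R := (Subgroup.eq_of_le_of_card_ge hS' (by
      rw [hcard, ← hSP, S'.card_eq_multiplicity, S.card_eq_multiplicity])).symm
    have hSHR : SH = R := (S'.3 (TH.2.map _) (hS'R.le.trans hRSH)).trans hS'R
    have e1 := normalizer_eq_of_isCoatom hG hM ((ZJ.zJ_le 0 R).trans hRM) hzR
      (le_normalizer_zJ hsM hG.1 hp2 hOM TM hRsyl.symm)
    have e2 := normalizer_eq_of_isCoatom hG hH ((ZJ.zJ_le 0 R).trans hRH) hzR
      (le_normalizer_zJ hsH hG.1 hp2 (hOH hH.1 (hAR.trans hRH)) TH hSHR)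
    exact hHne (e2.symm.trans e1)
  · obtain ⟨x, hx, hxN, hxR⟩ := exists_pGroup_gt (TM.2.map _) hRSM hcase
    set S1 := SM ⊓ Subgroup.normalizer (R : Set G) with hS1
    have hS1p : IsPGroup p S1 := (TM.2.map _).to_le inf_le_left
    have hRS1 : R ≤ S1 := le_inf hRSM Subgroup.le_normalizer
    have hS1M : S1 ≤ M := inf_le_left.trans (Subgroup.map_subtype_le _)
    have hNR : Subgroup.normalizer (R : Set G) ≤ M := by
      obtain ⟨L, hL, hNL⟩ := not_coatom_bot hG hM _ (normalizer_ne_top hG hR1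
        fun h => hM.1 (top_unique (h.ge.trans hRM)))
      by_cases hLM : L = M
      · exact hLM ▸ hNL
      · exact absurd (hbig hL hLM hS1p hRS1 (inf_le_right.trans hNL) hS1M ⟨hx, hxN⟩) hxR
    have hSHR : SH = R := by
      refine le_antisymm ?_ hRSH
      by_contra hne'
      obtain ⟨y, hy, hyN, hyR⟩ := exists_pGroup_gt (TH.2.map _) hRSH hne'
      exact hyR (hbig hH hHne ((TH.2.map _).to_le inf_le_left) (le_inf hRSH Subgroup.le_normalizer)
        (inf_le_left.trans (Subgroup.map_subtype_le _)) (inf_le_right.trans hNR) ⟨hy, hyN⟩)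
    have e2 := normalizer_eq_of_isCoatom hG hH ((ZJ.zJ_le 0 R).trans hRH) hzR
      (le_normalizer_zJ hsH hG.1 hp2 (hOH hH.1 (hAR.trans hRH)) TH hSHR)
    exact hxR (hbig hH hHne hS1p hRS1
      (inf_le_right.trans ((ZJ.normalizer_le_normalizer_zJ 0 R).trans e2.le)) hS1M ⟨hx, hxN⟩)

end CfsgLib.OddLocal
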