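import Mathlib
import Cfsg.Agent.Lib.OddLocal.FittingUniq
import Cfsg.Agent.Lib.PGroup.NormalRankTwo
import Cfsg.Agent.S1451
import Cfsg.Agent.S1452

/-!
The Fitting subgroup of rank three is a uniqueness subgroup; BG 9.1.
-/

set_option autoImplicit false
set_option linter.style.haveILetI false

open Pointwise
open CfsgLib.Coprime
open scoped commutatorElement

namespace CfsgLib.OddLocal

universe u

variable {G : Type u} [Group G] [Finite G]

theorem uniq_mono {X Y : Subgroup G} (hX : Cfsg.InUniqueMaximal X) (hXY : X ≤ Y) (hY : Y ≠ ⊤) :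
    Cfsg.InUniqueMaximal Y := by
  obtain ⟨M, -, huniq⟩ := hX
  obtain ⟨L, hL, hYL⟩ := (eq_top_or_exists_le_coatom Y).resolve_left hY
  exact ⟨L, ⟨hL, hYL⟩, fun H hH =>
    (huniq H ⟨hH.1, hXY.trans hH.2⟩).trans (huniq L ⟨hL, hXY.trans hYL⟩).symm⟩

theorem uniq_eq {X L M : Subgroup G} (hX : Cfsg.InUniqueMaximal X) (hL : IsCoatom L) (hXL : X ≤ L)
    (hM : IsCoatom M) (hXM : X ≤ M) : L = M := by
  obtain ⟨N, -, huniq⟩ := hX
  exact (huniq L ⟨hL, hXL⟩).trans (huniq M ⟨hM, hXM⟩).symm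

theorem prankLE_mono {p k : ℕ} {H K : Subgroup G} (h : H ≤ K) (hK : Cfsg.PRankLE p k ↥K) :
    Cfsg.PRankLE p k ↥H := by
  intro E hE hEe
  haveI := hE
  have h1 := hK (E.map (Subgroup.inclusion h)) (Subgroup.map_isMulCommutative E _) (by
    rintro _ ⟨a, ha, rfl⟩; rw [← map_pow, hEe a ha, map_one])
  rwa [Subgroup.card_map_of_injective (Subgroup.inclusion_injective h)] at h1

/-- An elementary subgroup witnessing a lower bound on the rank. -/
theorem exists_elementary {p k : ℕ} [hp : Fact p.Prime] {H : Subgroup G}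
    (h : ¬ Cfsg.PRankLE p k ↥H) :
    ∃ A : Subgroup G, A ≤ H ∧ Cfsg.IsElementaryAbelian p A ∧ p ^ (k + 1) ≤ Nat.card A := by
  by_contra hne
  push Not at hne
  refine h fun E hE hEe => ?_
  haveI := hE
  have he : Cfsg.IsElementaryAbelian p (E.map H.subtype) := ⟨Subgroup.map_isMulCommutative E _, by
    rintro _ ⟨a, ha, rfl⟩; rw [← map_pow, hEe a ha, map_one]⟩
  have h1 := hne _ (Subgroup.map_subtype_le E) he
  rw [Subgroup.card_map_of_injective H.subtype_injective] at h1
  have hEp : IsPGroup p E := fun x => ⟨1, Subtype.ext (by simpa using hEe x x.2)⟩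
  obtain ⟨m, hm⟩ := IsPGroup.iff_card.1 hEp
  rw [hm] at h1 ⊢
  have := (Nat.pow_lt_pow_iff_right hp.out.one_lt).1 h1
  exact Nat.pow_le_pow_right hp.out.pos (by omega)

/-- A Sylow subgroup of `M` with large `p`-group Fitting subgroup has a member of `SCN_3`. -/
theorem exists_scn_three (hG : Cfsg.IsMinSimpleOddOrder G) {M : Subgroup G} (hM : IsCoatom M) {p : ℕ}
    [Fact p.Prime] {A₀ : Subgroup G} (hA₀ : A₀ ≤ Cfsg.fittingOf M) (hA₀e : Cfsg.IsElementaryAbelian p A₀)
    (hA₀3 : p ^ 3 ≤ Nat.card A₀) (hF : IsPGroup p ↥(Cfsg.fittingOf M)) (P : Sylow p M) :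
    ∃ A : Subgroup G, Cfsg.IsSCN ((P : Subgroup M).map M.subtype) A ∧ ¬ Cfsg.PRankLE p 2 ↥A := by
  classical
  have hp := Fact.out (p := p.Prime)
  haveI hsM : Group.IsSolvable M := isSolvable_of_ne_top hG hM.1
  have hrp : ¬ Cfsg.PRankLE p 2 ↥(Cfsg.fittingOf M) := fun h => by
    haveI := hA₀e.1
    have h1 := h (A₀.subgroupOf (Cfsg.fittingOf M)) ⟨⟨fun a b => Subtype.ext (Subtype.ext (congrArg Subtype.val
      (mul_comm' (⟨_, a.2⟩ : A₀) ⟨_, b.2⟩) :))⟩⟩ fun a ha => Subtype.ext (hA₀e.2 _ ha)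
    rw [Nat.card_congr (Subgroup.subgroupOfEquivOfLe hA₀).toEquiv] at h1
    exact absurd (hA₀3.trans h1) (not_le.2 (Nat.pow_lt_pow_right hp.one_lt (by norm_num)))
  set P' := (P : Subgroup M).map M.subtype with hP'
  have hFP : Cfsg.fittingOf M ≤ P' := fittingOf_le_of fun q hq => by
    by_cases hqp : q = p
    · subst hqp
      rw [opOf_eq hp]
      exact Subgroup.map_mono ((Fitting.pCore_eq_iInf_sylow (G := M) q).le.trans (iInf_le _ P))
    · rw [show opOf q M = ⊥ from eq_bot_of_disjoint (π := {q}) (ρ := {p}) (isPi_piCoreOf _ M)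
        ((isPi_singleton_iff hp).2 (hF.to_le (opOf_le_fittingOf hq M))) (Set.disjoint_singleton.2 hqp)]
      exact bot_le
  have hP'p : IsPGroup p P' := P.2.map _
  have hr3 : ¬ Cfsg.PRankLE p 2 ↥P' := fun h => hrp (prankLE_mono hFP h)
  have hp2 : p ≠ 2 := by
    rintro rfl
    obtain ⟨m, hm⟩ := IsPGroup.iff_card.1 (hP'p.to_le (hA₀.trans hFP))
    rcases Nat.eq_zero_or_pos m with rfl | hm0
    · rw [hm] at hA₀3; norm_num at hA₀3
    · exact (Nat.not_even_iff_odd.2 hG.1) (even_iff_two_dvd.2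
        ((hm ▸ dvd_pow_self 2 hm0.ne').trans (Subgroup.card_subgroup_dvd_card A₀)))
  obtain ⟨E, -, hEn, hEe, hE2⟩ := CfsgLib.CyclicMax.exists_normal_rank_two hP'p hp2
    (⊤ : Subgroup P') inferInstance fun hcyc => hr3 fun B hB hBe => by
      haveI := hcyc
      haveI : IsCyclic ↥P' := isCyclic_of_surjective Subgroup.topEquiv (MulEquiv.surjective _)
      obtain ⟨g, hg⟩ := IsCyclic.exists_ofOrder_eq_natCard (α := B)
      rw [← hg]
      exact (Nat.le_of_dvd hp.pos (orderOf_dvd_of_pow_eq_one (Subtype.ext (hBe g g.2)))).trans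
        (by nlinarith [hp.one_lt])
  haveI := hEn
  obtain ⟨A', -, hAn, hAC, hA3'⟩ := Cfsg.Agent.S1452.result p hp2 hP'p hr3 E hEe hE2
  set A := A'.map P'.subtype with hA
  have hSCN : Cfsg.IsSCN P' A := by
    refine ⟨Subgroup.map_subtype_le _, (Subgroup.normal_subgroupOf_iff_le_normalizer (Subgroup.map_subtype_le _)).1 (by
      rw [Subgroup.subgroupOf, Subgroup.comap_map_eq_self_of_injective P'.subtype_injective]; exact hAn), ?_⟩
    ext x
    constructor
    · rintro ⟨hx, hxC⟩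
      exact ⟨⟨x, hx⟩, hAC.le fun a ha => Subtype.ext (hxC a (Subgroup.mem_map_of_mem _ ha)), rfl⟩
    · rintro ⟨y, hy, rfl⟩
      refine ⟨y.2, ?_⟩
      rintro _ ⟨a, ha, rfl⟩
      exact congrArg Subtype.val (hAC.ge hy a ha)
  have hA3 : ¬ Cfsg.PRankLE p 2 ↥A := fun h => hA3' (BG.prankLE_of_injective
    ((P'.subtype.subgroupMap A')) (fun a b hab => Subtype.ext (P'.subtype_injective
      (congrArg Subtype.val hab :))) h)
  exact ⟨A, hSCN, hA3⟩

/-- BG 8.1, combined. -/
theorem fitting_uniq (hG : Cfsg.IsMinSimpleOddOrder G) {M : Subgroup G} (hM : IsCoatom M)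
    (hr : ¬ Cfsg.RankLE 2 ↥(Cfsg.fittingOf M)) : Cfsg.InUniqueMaximal (Cfsg.fittingOf M) := by
  classical
  obtain ⟨p, hp, hrp⟩ : ∃ p : ℕ, p.Prime ∧ ¬ Cfsg.PRankLE p 2 ↥(Cfsg.fittingOf M) := by
    by_contra h
    push Not at h
    exact hr h
  haveI := Fact.mk hp
  have hFtop : Cfsg.fittingOf M ≠ ⊤ := fun h => hM.1 (top_unique (h.ge.trans (fittingOf_le M)))
  obtain ⟨A₀, hA₀, hA₀e, hA₀3⟩ := exists_elementary hrp
  by_cases hF : IsPGroup p ↥(Cfsg.fittingOf M)
  swap
  · exact uniq_mono (fitting_centralizer_uniq hG hM hA₀ hA₀e hA₀3 hF) inf_le_left hFtop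
  obtain ⟨A, hSCN, hA3⟩ := exists_scn_three hG hM hA₀ hA₀e hA₀3 hF default
  obtain ⟨-, hAF, hAU⟩ := scn_uniq_of_pGroup_fitting hG hM hF default hSCN hA3
  exact uniq_mono hAU hAF hFtop

variable {p : ℕ} [hp : Fact p.Prime]

/-- A `p'`-subgroup normalized by a Sylow `p`-subgroup of `M` lies in `O_{p'}(M)`. -/
theorem le_pPrimeCore_of_sylow_normalizes {X : Type u} [Group X] [Finite X] (hX : Group.IsSolvable X)
    (hp2 : p ≠ 2) (P : Sylow p X) {Y : Subgroup X} (hY : (Nat.card Y).Coprime p)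
    (hPY : (P : Subgroup X) ≤ Subgroup.normalizer (Y : Set X)) : Y ≤ Cfsg.pPrimeCore p X := by
  refine PSolvable.le_pPrimeCore_of_omega hp2 (PSolvable.isPConstrained_of_isPSolvable
    (PSolvable.isPSolvable_of_isSolvable hX)) P.2 (fun x hx hxo => ?_) hY hPY
  have hZ : IsPGroup p (Subgroup.zpowers x) := IsPGroup.of_card (n := 1) (by rw [Nat.card_zpowers, hxo, pow_one])
  have h1 : IsPGroup p ↥((P : Subgroup X) ⊔ Subgroup.zpowers x) := by
    rw [sup_comm]
    exact IsPGroup.to_sup_of_normal_right' hZ P.2 (Subgroup.zpowers_le.2 (Subgroup.centralizer_le_normalizer _ hx))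
  exact (P.3 h1 le_sup_left).le (Subgroup.mem_sup_right (Subgroup.mem_zpowers x))

/-- A maximal subgroup whose Sylow normalizer and `O_{p'}` lie in `M` is `M`. -/
theorem eq_of_sylow_normalizer_le (hG : Cfsg.IsMinSimpleOddOrder G) {M H R : Subgroup G}
    (hM : IsCoatom M) (hH : IsCoatom H) (S : Sylow p H) (hS : (S : Subgroup H).map H.subtype = R)
    (hR : R ≤ M) (hNR : Subgroup.normalizer (R : Set G) ≤ M) (hO : opPrimeOf p H ≤ M) : H = M := by
  classical
  haveI hsH : Group.IsSolvable H := isSolvable_of_ne_top hG hH.1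
  have hF : Cfsg.fittingOf H ≤ M := fittingOf_le_of fun q hq => by
    by_cases hqp : q = p
    · subst hqp
      rw [opOf_eq hq]
      exact (Subgroup.map_mono ((Fitting.pCore_eq_iInf_sylow (G := H) q).le.trans (iInf_le _ S))).trans
        (hS.le.trans hR)
    · exact (piCoreOf_mono (Set.singleton_subset_iff.2 (show q ∈ {s | s ≠ p} from hqp)) H).trans hO
  by_cases hr : Cfsg.RankLE 2 ↥(Cfsg.fittingOf H)
  swap
  · exact uniq_eq (fitting_uniq hG hH hr) hH (fittingOf_le H) hM hF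
  haveI := Fitting.fittingSubgroup_normal (G := H)
  have hr' : Cfsg.RankLE 2 ↥(Cfsg.fittingSubgroup H) := fun q hq => by
    haveI := Fact.mk hq
    exact BG.prankLE_of_injective (H.subtype.subgroupMap (Cfsg.fittingSubgroup H))
      (fun a b h => Subtype.ext (H.subtype_injective (congrArg Subtype.val h :))) (hr q hq)
  obtain ⟨hnil, -, -⟩ := Cfsg.Agent.S1451.result
    (Odd.of_dvd_nat hG.1 (Subgroup.card_subgroup_dvd_card H)) (Or.inr hr')
  have hGF : commutator H ≤ Cfsg.fittingSubgroup H := Fitting.le_fittingSubgroup inferInstance hnil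
  haveI hXn : (Cfsg.fittingSubgroup H ⊔ (S : Subgroup H)).Normal := ⟨fun x hx g => by
    rw [show g * x * g⁻¹ = ⁅g, x⁆ * x by rw [commutatorElement_def]; group]
    exact mul_mem (Subgroup.mem_sup_left (hGF (Subgroup.commutator_mem_commutator
      (Subgroup.mem_top g) (Subgroup.mem_top x)))) hx⟩
  have htop := Sylow.normalizer_sup_eq_top' S (le_sup_right : (S : Subgroup H) ≤ Cfsg.fittingSubgroup H ⊔ S)
  have hle : H ≤ M := by
    have h1 : (⊤ : Subgroup H).map H.subtype ≤ M := by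
      rw [← htop, Subgroup.map_sup, Subgroup.map_sup]
      refine sup_le ((Subgroup.le_normalizer_map _).trans ?_) (sup_le hF (hS.le.trans hR))
      rw [hS]; exact hNR
    rwa [← MonoidHom.range_eq_map, Subgroup.range_subtype] at h1
  exact ((hH.le_iff).1 hle).resolve_left hM.1 |>.symm

/-- BG 9.1, the invariant-subgroup form. -/
theorem pGroup_uniq (hG : Cfsg.IsMinSimpleOddOrder G) {M B : Subgroup G} (hM : IsCoatom M)
    (hBM : B ≤ M) (hBp : IsPGroup p B) (hB1 : B ≠ ⊥)
    (h : ∀ Y : Subgroup G, (Nat.card Y).Coprime p → B ≤ Subgroup.normalizer (Y : Set G) → Y ≤ M) :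
    Cfsg.InUniqueMaximal B := by
  classical
  have hpp := hp.out
  refine ⟨M, ⟨hM, hBM⟩, fun H₀ hH₀ => ?_⟩
  by_contra hne
  have hp2 : p ≠ 2 := by
    obtain ⟨m, hm⟩ := IsPGroup.iff_card.1 hBp
    rcases Nat.eq_zero_or_pos m with rfl | hm0
    · exact absurd (Subgroup.card_eq_one.1 (by rw [hm, pow_zero])) hB1
    · exact two_ne_of_dvd_odd hG.1 ((hm ▸ dvd_pow_self p hm0.ne').trans (Subgroup.card_subgroup_dvd_card B))
  obtain ⟨⟨H, R⟩, ⟨hH, hHne, hRp, hBR, hRH, hRM⟩, hmax⟩ := (Set.toFinite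
      {x : Subgroup G × Subgroup G | IsCoatom x.1 ∧ x.1 ≠ M ∧ IsPGroup p x.2 ∧ B ≤ x.2 ∧ x.2 ≤ x.1 ∧
        x.2 ≤ M}).exists_maximalFor (fun x => Nat.card x.2) _
    ⟨(H₀, B), hH₀.1, hne, hBp, le_rfl, hH₀.2, hBM⟩
  have hbig : ∀ {L S : Subgroup G}, IsCoatom L → L ≠ M → IsPGroup p S → R ≤ S → S ≤ L → S ≤ M →
      S ≤ R := by
    intro L S hL hLne hSp hRS hSL hSM
    have h1 : Nat.card S ≤ Nat.card R := hmax (j := (L, S))
      ⟨hL, hLne, hSp, hBR.trans hRS, hSL, hSM⟩ (Subgroup.card_le_of_le hRS)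
    exact (Subgroup.eq_of_le_of_card_ge hRS h1).ge
  have hR1 : R ≠ ⊥ := fun hb => hB1 (le_bot_iff.1 (hBR.trans hb.le))
  obtain ⟨TM, hTM⟩ := (hRp.comap_of_injective M.subtype M.subtype_injective : IsPGroup p (R.subgroupOf M)).exists_le_sylow
  set SM := (TM : Subgroup M).map M.subtype with hSM
  have hRSM : R ≤ SM := (Subgroup.map_subgroupOf_eq_of_le hRM).ge.trans (Subgroup.map_mono hTM)
  have hNtop := normalizer_ne_top hG hR1 fun hb => hM.1 (top_unique (hb.ge.trans hRM))
  have hNR : Subgroup.normalizer (R : Set G) ≤ M := by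
    by_cases hcase : SM ≤ R
    · have hRsyl : (TM : Subgroup M).map M.subtype = R := (le_antisymm hRSM hcase).symm
      haveI hsM : Group.IsSolvable M := isSolvable_of_ne_top hG hM.1
      set W := (Cfsg.pPrimeCore p M).map M.subtype with hW
      haveI := Transfer.pPrimeCore_normal p M
      have hMW : M ≤ Subgroup.normalizer (W : Set G) :=
        PSolvable.le_normalizer_map_of_characteristic Subgroup.le_normalizer _
      by_cases hWb : W = ⊥
      · have hO : Cfsg.pPrimeCore p M = ⊥ :=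
          (Subgroup.map_eq_bot_iff_of_injective _ M.subtype_injective).1 hWb
        exact (ZJ.normalizer_le_normalizer_zJ 0 R).trans (normalizer_eq_of_isCoatom hG hM
          ((ZJ.zJ_le 0 R).trans hRM) (zJ_ne_bot' hRp hR1) (le_normalizer_zJ hsM hG.1 hp2 hO TM hRsyl)).le
      · have hWN : Subgroup.normalizer (W : Set G) = M :=
          normalizer_eq_of_isCoatom hG hM (Subgroup.map_subtype_le _) hWb hMW
        intro n hn
        refine hWN.le (mem_normalizer_iff_conj_smul.2 ?_)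
        have hcop : (Nat.card ↥(MulAut.conj n • W)).Coprime p := by
          rw [card_conj_smul, hW, Subgroup.card_map_of_injective M.subtype_injective]
          exact Transfer.pPrimeCore_coprime p
        have hRn : R ≤ Subgroup.normalizer ((MulAut.conj n • W : Subgroup G) : Set G) := fun r hr => by
          have hr' : n⁻¹ * r * n ∈ R := (Subgroup.mem_normalizer_iff''.mp hn r).mp hr
          rw [mem_normalizer_iff_conj_smul, ← mul_smul, ← map_mul,
            show r * n = n * (n⁻¹ * r * n) by group, map_mul, mul_smul,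
            conj_smul_eq_self_of_mem_normalizer (hMW (hRM hr'))]
        have hWM : MulAut.conj n • W ≤ M := h _ hcop (hBR.trans hRn)
        refine Subgroup.eq_of_le_of_card_ge ?_ (card_conj_smul n W).ge
        rw [← Subgroup.map_subgroupOf_eq_of_le hWM]
        refine Subgroup.map_mono (le_pPrimeCore_of_sylow_normalizes hsM hp2 TM ?_ fun x hx => ?_)
        · rwa [Nat.card_congr (Subgroup.subgroupOfEquivOfLe hWM).toEquiv]
        · refine Subgroup.mem_normalizer_iff.2 fun y => ?_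
          exact Subgroup.mem_normalizer_iff.1 (hRn (hRsyl.le (Subgroup.mem_map_of_mem _ hx))) (y : G)
    · obtain ⟨x, hx, hxN, hxR⟩ := exists_pGroup_gt (TM.2.map _) hRSM hcase
      obtain ⟨L, hL, hNL⟩ := not_coatom_bot hG hM _ hNtop
      by_cases hLM : L = M
      · exact hLM ▸ hNL
      · exact absurd (hbig hL hLM ((TM.2.map M.subtype).to_le inf_le_left)
          (le_inf hRSM Subgroup.le_normalizer) (inf_le_right.trans hNL)
          (inf_le_left.trans (Subgroup.map_subtype_le _)) ⟨hx, hxN⟩) hxR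
  obtain ⟨TH, hTH⟩ := (hRp.comap_of_injective H.subtype H.subtype_injective : IsPGroup p (R.subgroupOf H)).exists_le_sylow
  set SH := (TH : Subgroup H).map H.subtype with hSH
  have hRSH : R ≤ SH := (Subgroup.map_subgroupOf_eq_of_le hRH).ge.trans (Subgroup.map_mono hTH)
  have hSHR : SH = R := by
    refine le_antisymm ?_ hRSH
    by_contra hne'
    obtain ⟨y, hy, hyN, hyR⟩ := exists_pGroup_gt (TH.2.map _) hRSH hne'
    exact hyR (hbig hH hHne ((TH.2.map H.subtype).to_le inf_le_left) (le_inf hRSH Subgroup.le_normalizer)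
      (inf_le_left.trans (Subgroup.map_subtype_le _)) (inf_le_right.trans hNR) ⟨hy, hyN⟩)
  refine hHne (eq_of_sylow_normalizer_le hG hM hH TH hSHR hRM hNR (h _ ?_ ?_))
  · exact (isPi_ne_iff hpp).1 (isPi_piCoreOf _ H)
  · exact (hBR.trans hRH).trans (le_normalizer_piCoreOf _ H)

/-- BG 9.1 for a noncyclic elementary abelian subgroup. -/
theorem noncyclic_uniq (hG : Cfsg.IsMinSimpleOddOrder G) {M B : Subgroup G} (hM : IsCoatom M)
    (hBM : B ≤ M) (hBe : Cfsg.IsElementaryAbelian p B) (hBnc : ¬ IsCyclic B)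
    (h : ∀ Y : Subgroup G, (Nat.card Y).Coprime p → B ≤ Subgroup.normalizer (Y : Set G) → Y ≤ M) :
    Cfsg.InUniqueMaximal B :=
  pGroup_uniq hG hM hBM (fun x => ⟨1, Subtype.ext (by simpa using hBe.2 x x.2)⟩)
    (fun hb => hBnc (by rw [hb]; infer_instance)) h

end CfsgLib.OddLocal
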