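import Mathlib
import Cfsg.Agent.Lib.OddLocal.NoncyclicUniq
import Cfsg.Agent.Lib.Signalizer.Solvable
import Cfsg.Agent.Lib.PGroup.AlperinElementary

/-!
The uniqueness theorem (BG §9).
-/

set_option autoImplicit false
set_option linter.style.haveILetI false

open Pointwise
open CfsgLib.Coprime

namespace CfsgLib.OddLocal

universe u

variable {G : Type u} [Group G] [Finite G]

theorem ne_bot_of_uniq (hG : Cfsg.IsMinSimpleOddOrder G) {L : Subgroup G} (hL : Cfsg.InUniqueMaximal L) :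
    L ≠ ⊥ := by
  rintro rfl
  obtain ⟨M, ⟨hM, -⟩, huniq⟩ := hL
  refine hM.1 (eq_top_iff.2 fun g _ => ?_)
  have hg : Subgroup.zpowers g ≠ ⊤ := by
    intro h
    refine hG.2.2.1 ⟨⟨fun x y => ?_⟩⟩
    obtain ⟨i, rfl⟩ := Subgroup.mem_zpowers_iff.1 (h.ge (Subgroup.mem_top x))
    obtain ⟨j, rfl⟩ := Subgroup.mem_zpowers_iff.1 (h.ge (Subgroup.mem_top y))
    exact ((Commute.refl g).zpow_zpow i j).eq
  obtain ⟨H, hH, hgH⟩ := (eq_top_or_exists_le_coatom (Subgroup.zpowers g)).resolve_left hg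
  exact (huniq H ⟨hH, bot_le⟩) ▸ hgH (Subgroup.mem_zpowers g)

theorem le_centralizer_singleton {b : G} {L : Subgroup G} (h : b ∈ Subgroup.centralizer (L : Set G)) :
    L ≤ Subgroup.centralizer ({b} : Set G) := fun l hl =>
  Subgroup.mem_centralizer_singleton_iff.2 (h l hl)

/-- BG 9.2. -/
theorem uniq_of_centralizes (hG : Cfsg.IsMinSimpleOddOrder G) {L K : Subgroup G}
    (hL : Cfsg.InUniqueMaximal L) (hK : K ≤ Subgroup.centralizer (L : Set G))
    (hKr : ¬ Cfsg.RankLE 1 K) : Cfsg.InUniqueMaximal K := by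
  classical
  obtain ⟨q, hq, hrq⟩ : ∃ q : ℕ, q.Prime ∧ ¬ Cfsg.PRankLE q 1 ↥K := by
    by_contra h
    push Not at h
    exact hKr h
  haveI := Fact.mk hq
  obtain ⟨B, hBK, hBe, hB2⟩ := exists_elementary hrq
  haveI := hBe.1
  have hL1 := ne_bot_of_uniq hG hL
  have hKtop : K ≠ ⊤ := fun h => centralizer_ne_top hG hL1 (top_unique (h.ge.trans hK))
  have hBnc : ¬ IsCyclic B := not_isCyclic_of_exponent hBe.2 hq.pos
    ((show q < q ^ (1 + 1) from lt_self_pow₀ hq.one_lt (by norm_num)).trans_le hB2)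
  obtain ⟨M, ⟨hM, hLM⟩, huniq⟩ := hL
  have hCM : ∀ b ∈ B, b ≠ 1 → Subgroup.centralizer ({b} : Set G) ≤ M := fun b hb hb1 => by
    obtain ⟨H, hH, hCH⟩ := (eq_top_or_exists_le_coatom _).resolve_left (centralizer_singleton_ne_top hG hb1)
    exact huniq H ⟨hH, (le_centralizer_singleton (hK (hBK hb))).trans hCH⟩ ▸ hCH
  have hBM : B ≤ M := by
    obtain ⟨b, hb, hb1⟩ := (Subgroup.bot_or_exists_ne_one B).resolve_left fun h => hBnc (by rw [h]; infer_instance)
    exact fun x hx => hCM b hb hb1 (Subgroup.mem_centralizer_singleton_iff.2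
      (congrArg Subtype.val (mul_comm' (⟨x, hx⟩ : B) ⟨b, hb⟩)))
  refine uniq_mono (noncyclic_uniq (p := q) hG hM hBM hBe hBnc fun Y hY hBY => ?_) hBK hKtop
  refine le_of_centralizer_le hBnc hBY ?_ fun g hg hg1 => inf_le_right.trans (hCM g hg hg1)
  exact PSolvable.coprime_card_of_isPGroup (fun x => ⟨1, Subtype.ext (by simpa using hBe.2 x x.2)⟩) hY

variable {p : ℕ} [hp : Fact p.Prime]

theorem isPi_primesNotDvd_iff {A Y : Subgroup G} (hA : IsPGroup p A) (hA1 : A ≠ ⊥) :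
    IsPi (Cfsg.primesNotDvd (Nat.card A)) Y ↔ (Nat.card Y).Coprime p := by
  obtain ⟨m, hm⟩ := IsPGroup.iff_card.1 hA
  have hm0 : m ≠ 0 := fun h => hA1 (Subgroup.card_eq_one.1 (by rw [hm, h, pow_zero]))
  rw [Nat.coprime_comm, hp.out.coprime_iff_not_dvd]
  refine ⟨fun h hd => (h p hp.out hd).2 (hm ▸ dvd_pow_self p hm0), fun h r hr hd => ⟨hr, fun hrA => h ?_⟩⟩
  rw [hm] at hrA
  rwa [← (Nat.prime_dvd_prime_iff_eq hr hp.out).1 (hr.dvd_of_dvd_pow hrA)]

/-- BG 9.6: members of `SCN_3` are uniqueness subgroups. -/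
theorem scn_uniq (hG : Cfsg.IsMinSimpleOddOrder G) (P : Sylow p G) {A : Subgroup G}
    (hA : Cfsg.IsSCN (P : Subgroup G) A) (hA3 : ¬ Cfsg.PRankLE p 2 ↥A) : Cfsg.InUniqueMaximal A := by
  classical
  have hpp := hp.out
  haveI hAc : IsMulCommutative A := isMulCommutative_of_isSCN hA
  have hAp : IsPGroup p A := P.2.to_le hA.1
  obtain ⟨A₁, hA₁A, hA₁e, hA₁3⟩ := exists_elementary hA3
  haveI := hA₁e.1
  have hA1 : A ≠ ⊥ := fun h => hA3 fun B _ _ => by
    refine ((Subgroup.card_le_card_group B).trans ?_).trans (Nat.one_le_pow _ _ hpp.pos)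
    rw [h, Subgroup.card_bot]
  have hpG : p ∣ Nat.card G := by
    obtain ⟨m, hm⟩ := IsPGroup.iff_card.1 hAp
    exact (hm ▸ dvd_pow_self p (fun h : m = 0 => hA1 (Subgroup.card_eq_one.1 (by rw [hm, h, pow_zero])))).trans
      (Subgroup.card_subgroup_dvd_card A)
  have hTH : Cfsg.TransitivityHypothesis A := Cfsg.Agent.S1396.result hG p hpG A hAp hAc
    (Or.inr ⟨P, hA, fun h => hA3 fun B hB hBe =>
      (h B hB hBe).trans (Nat.pow_le_pow_right hpp.pos (by norm_num))⟩)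
  set π' := Cfsg.primesNotDvd (Nat.card A) with hπ'
  let θ : G → Subgroup G := fun a => Cfsg.piCoreOf π' (Subgroup.centralizer ({a} : Set G))
  have hAC : ∀ a ∈ A, A ≤ Subgroup.centralizer ({a} : Set G) := fun a ha x hx =>
    Subgroup.mem_centralizer_singleton_iff.2 (congrArg Subtype.val (mul_comm' (⟨x, hx⟩ : A) ⟨a, ha⟩))
  have hθcop : ∀ a, (Nat.card (θ a)).Coprime p := fun a =>
    (isPi_primesNotDvd_iff hAp hA1).1 (isPi_piCoreOf _ _)
  have hθA : ∀ a ∈ A, A ≤ Subgroup.normalizer (θ a : Set G) := fun a ha =>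
    (hAC a ha).trans (le_normalizer_piCoreOf _ _)
  have hin : ∀ {Y : Subgroup G}, (Nat.card Y).Coprime p → A ≤ Subgroup.normalizer (Y : Set G) →
      ∀ b ∈ A, b ≠ 1 → Y ⊓ Subgroup.centralizer ({b} : Set G) ≤ θ b := fun {Y} hY hAY b hb hb1 =>
    inv_le_core hG hTH (centralizer_singleton_ne_top hG hb1) (hAC b hb) inf_le_right
      ((isPi_primesNotDvd_iff hAp hA1).2 (hY.coprime_dvd_left (Subgroup.card_dvd_of_le inf_le_left)))
      (le_normalizer_inf_of_le hAY ((hAC b hb).trans Subgroup.le_normalizer))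
  have hθ : Cfsg.IsSolvableSignalizerFunctor p A₁ θ :=
    ⟨⟨fun a _ _ => piCoreOf_le _ _, fun a _ _ => hpp.coprime_iff_not_dvd.1 (hθcop a).symm,
      fun a ha _ b hb x hx => (Subgroup.mem_normalizer_iff.1 (hθA a (hA₁A ha) (hA₁A hb)) x).1 hx,
      fun a ha _ b hb hb1 => hin (hθcop a) (hθA a (hA₁A ha)) b (hA₁A hb) hb1⟩,
      fun a _ ha1 => isSolvable_of_ne_top hG fun h =>
        centralizer_singleton_ne_top hG ha1 (top_unique (h.ge.trans (piCoreOf_le _ _)))⟩
  obtain ⟨W, -, hWp, hW⟩ := Signalizer.hasCover hA₁e hA₁3 hθ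
  set Θ := ⨆ b : {b : G // b ∈ A₁ ∧ b ≠ 1}, θ b with hΘ
  have hΘW : Θ ≤ W := iSup_le fun b => (hW b b.2.1 b.2.2).1
  have hAΘ : A ≤ Subgroup.normalizer (Θ : Set G) := Signalizer.le_normalizer_iSup fun b => hθA b (hA₁A b.2.1)
  have htop : A ⊔ Θ ≠ ⊤ := by
    intro h
    have hN : Subgroup.normalizer (Θ : Set G) = ⊤ :=
      top_unique (h.ge.trans (sup_le hAΘ Subgroup.le_normalizer))
    haveI := hG.2.1
    rcases (Subgroup.normalizer_eq_top_iff.1 hN).eq_bot_or_eq_top with hb | hb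
    · rw [hb, sup_bot_eq] at h
      exact hTH.2.1 h
    · refine hWp ?_
      rwa [top_unique (hb.ge.trans hΘW), Subgroup.card_top]
  obtain ⟨M, hM, hAΘM⟩ := (eq_top_or_exists_le_coatom _).resolve_left htop
  refine pGroup_uniq hG hM (le_sup_left.trans hAΘM) hAp hA1 fun Y hY hAY => ?_
  refine le_of_centralizer_le (A := A₁) (not_isCyclic_of_exponent hA₁e.2 hpp.pos
    ((show p < p ^ (2 + 1) from lt_self_pow₀ hpp.one_lt (by norm_num)).trans_le hA₁3))
    (hA₁A.trans hAY) (PSolvable.coprime_card_of_isPGroup (hAp.to_le hA₁A) hY) fun g hg hg1 => ?_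
  exact ((hin hY hAY g (hA₁A hg) hg1).trans (le_iSup (fun b : {b : G // b ∈ A₁ ∧ b ≠ 1} => θ b) ⟨g, hg, hg1⟩)).trans
    (le_sup_right.trans hAΘM)

theorem two_ne_of_elementary (hG : Cfsg.IsMinSimpleOddOrder G) {D : Subgroup G}
    (hD : Cfsg.IsElementaryAbelian p D) (hD1 : 1 < Nat.card D) : p ≠ 2 := by
  obtain ⟨m, hm⟩ := IsPGroup.iff_card.1 (show IsPGroup p D from fun x =>
    ⟨1, Subtype.ext (by simpa using hD.2 x x.2)⟩)
  refine two_ne_of_dvd_odd hG.1 ((dvd_trans ?_) (Subgroup.card_subgroup_dvd_card D))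
  rw [hm]
  exact dvd_pow_self p fun h => by rw [hm, h, pow_zero] at hD1; exact lt_irrefl _ hD1

/-- Every elementary abelian subgroup of order at least `p^3` is a uniqueness subgroup. -/
theorem elementary_uniq (hG : Cfsg.IsMinSimpleOddOrder G) {D : Subgroup G}
    (hD : Cfsg.IsElementaryAbelian p D) (hD3 : p ^ 3 ≤ Nat.card D) : Cfsg.InUniqueMaximal D := by
  classical
  have hpp := hp.out
  have hp2 : p ≠ 2 := two_ne_of_elementary hG hD ((Nat.one_lt_pow (by norm_num) hpp.one_lt).trans_le hD3)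
  haveI := hD.1
  have hDp : IsPGroup p D := fun x => ⟨1, Subtype.ext (by simpa using hD.2 x x.2)⟩
  obtain ⟨P, hDP⟩ := hDp.exists_le_sylow
  set P' := (P : Subgroup G) with hP'
  have hDe' : Cfsg.IsElementaryAbelian p (D.subgroupOf P') := ⟨⟨⟨fun a b => Subtype.ext (Subtype.ext
    (congrArg Subtype.val (mul_comm' (⟨_, a.2⟩ : D) ⟨_, b.2⟩) :))⟩⟩, fun a ha => Subtype.ext (hD.2 _ ha)⟩
  have hDcard : Nat.card (D.subgroupOf P') = Nat.card D :=
    Nat.card_congr (Subgroup.subgroupOfEquivOfLe hDP).toEquiv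
  have hr3 : ¬ Cfsg.PRankLE p 2 ↥P' := fun h => by
    have h1 := h _ hDe'.1 hDe'.2
    rw [hDcard] at h1
    exact absurd (hD3.trans h1) (not_le.2 (Nat.pow_lt_pow_right hpp.one_lt (by norm_num)))
  have hPp : IsPGroup p P' := P.2
  obtain ⟨E, -, hEn, hEe, hE2⟩ := CfsgLib.CyclicMax.exists_normal_rank_two hPp hp2
    (⊤ : Subgroup P') inferInstance fun hcyc => by
      haveI := hcyc
      haveI : IsCyclic ↥P' := isCyclic_of_surjective Subgroup.topEquiv (MulEquiv.surjective _)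
      refine hr3 fun B hB hBe => ?_
      obtain ⟨g, hg⟩ := IsCyclic.exists_ofOrder_eq_natCard (α := B)
      rw [← hg]
      exact (Nat.le_of_dvd hpp.pos (orderOf_dvd_of_pow_eq_one (Subtype.ext (hBe g g.2)))).trans
        (by nlinarith [hpp.one_lt])
  haveI := hEn
  obtain ⟨A', hEA, hAn, hAC, hA3'⟩ := Cfsg.Agent.S1452.result p hp2 hPp hr3 E hEe hE2
  set A := A'.map P'.subtype with hA
  have hSCN : Cfsg.IsSCN P' A := by
    refine ⟨Subgroup.map_subtype_le _, (Subgroup.normal_subgroupOf_iff_le_normalizer (Subgroup.map_subtype_le _)).1 (by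
      rw [Subgroup.subgroupOf, Subgroup.comap_map_eq_self_of_injective P'.subtype_injective]; exact hAn), ?_⟩
    ext x
    constructor
    · rintro ⟨hx, hxC⟩
      exact ⟨⟨x, hx⟩, hAC.le fun a ha => Subtype.ext (hxC a (Subgroup.mem_map_of_mem _ ha)), rfl⟩
    · rintro ⟨y, hy, rfl⟩
      refine ⟨y.2, ?_⟩
      rintro _ ⟨a, ha, rfl⟩
      exact congrArg Subtype.val (hAC.ge hy a ha)
  have hA3 : ¬ Cfsg.PRankLE p 2 ↥A := fun h => hA3' (BG.prankLE_of_injective (P'.subtype.subgroupMap A')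
    (fun a b hab => Subtype.ext (P'.subtype_injective (congrArg Subtype.val hab :))) h)
  have hAU := scn_uniq hG P hSCN hA3
  haveI := isMulCommutative_of_isSCN hSCN
  have hnotrank : ∀ {K : Subgroup G}, Cfsg.IsElementaryAbelian p K → p ^ 2 ≤ Nat.card K →
      ¬ Cfsg.RankLE 1 K := by
    intro K hK hK2 h
    haveI := hK.1
    have h1 := h p hpp ⊤ ⟨⟨fun a b => Subtype.ext (mul_comm' (a : K) b)⟩⟩ fun a _ => Subtype.ext (hK.2 _ (a : K).2)
    rw [Subgroup.card_top] at h1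
    exact absurd (hK2.trans h1) (not_le.2 (Nat.pow_lt_pow_right hpp.one_lt (by norm_num)))
  set E' := E.map P'.subtype with hE'
  have hE'e : Cfsg.IsElementaryAbelian p E' := by
    haveI := hEe.1
    exact ⟨Subgroup.map_isMulCommutative E _, by rintro _ ⟨a, ha, rfl⟩; rw [← map_pow, hEe.2 a ha, map_one]⟩
  have hE'2 : Nat.card E' = p ^ 2 := by rw [hE', Subgroup.card_map_of_injective P'.subtype_injective, hE2]
  have hE'U : Cfsg.InUniqueMaximal E' := uniq_of_centralizes hG hAU (fun x hx a ha =>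
    congrArg Subtype.val (mul_comm' (⟨a, ha⟩ : A) ⟨x, Subgroup.map_mono hEA hx⟩)) (hnotrank hE'e hE'2.ge)
  set C := Subgroup.centralizer (E : Set P') with hC
  set K := (D.subgroupOf P' ⊓ C).map P'.subtype with hK
  have hKD : K ≤ D := (Subgroup.map_mono inf_le_left).trans (Subgroup.map_subgroupOf_eq_of_le hDP).le
  have hKe : Cfsg.IsElementaryAbelian p K := ⟨⟨⟨fun a b => Subtype.ext (congrArg Subtype.val
    (mul_comm' (⟨_, hKD a.2⟩ : D) ⟨_, hKD b.2⟩) :)⟩⟩, fun a ha => hD.2 a (hKD ha)⟩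
  have hK2 : p ^ 2 ≤ Nat.card K := by
    rw [hK, Subgroup.card_map_of_injective P'.subtype_injective]
    have h1 := relIndex_mul_card_inf C (D.subgroupOf P')
    rw [hDcard, inf_comm] at h1
    have h2 : C.relIndex (D.subgroupOf P') ≤ p := by
      refine Nat.le_of_dvd hpp.pos ((Subgroup.relIndex_dvd_index_of_normal C _).trans ?_)
      rcases (Nat.dvd_prime hpp).1 (CfsgLib.AlperinElem.centralizer_index_le hPp hEe hE2) with h | h
      · rw [h]; exact one_dvd p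
      · rw [h]
    have h3 : p * p ^ 2 ≤ p * Nat.card ↥(D.subgroupOf P' ⊓ C) := by
      rw [← pow_succ']
      exact hD3.trans (h1.ge.trans (Nat.mul_le_mul_right _ h2))
    exact Nat.le_of_mul_le_mul_left h3 hpp.pos
  have hKU : Cfsg.InUniqueMaximal K := uniq_of_centralizes hG hE'U (by
    rintro _ ⟨x, hx, rfl⟩ _ ⟨e, he, rfl⟩
    exact congrArg Subtype.val (hx.2 e he)) (hnotrank hKe hK2)
  exact uniq_of_centralizes hG hKU (fun x hx a ha => congrArg Subtype.val (mul_comm' (⟨a, hKD ha⟩ : D) ⟨x, hx⟩))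
    (hnotrank hD ((Nat.pow_le_pow_right hpp.pos (by norm_num)).trans hD3))

theorem exists_noncyclic_elementary (hG : Cfsg.IsMinSimpleOddOrder G) {B : Subgroup G}
    (hB : IsPGroup p B) (hBnc : ¬ IsCyclic B) : ¬ Cfsg.RankLE 1 B := by
  intro h
  have hpp := hp.out
  have hp2 : p ≠ 2 := by
    obtain ⟨m, hm⟩ := IsPGroup.iff_card.1 hB
    rcases Nat.eq_zero_or_pos m with rfl | hm0
    · exact absurd (by rw [Subgroup.card_eq_one.1 (by rw [hm, pow_zero] : Nat.card B = 1)]; infer_instance) hBnc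
    · exact two_ne_of_dvd_odd hG.1 ((hm ▸ dvd_pow_self p hm0.ne').trans (Subgroup.card_subgroup_dvd_card B))
  obtain ⟨A, -, -, hAe, hAc⟩ := CfsgLib.CyclicMax.exists_normal_rank_two hB hp2 (⊤ : Subgroup B)
    inferInstance fun hc => hBnc (by haveI := hc; exact isCyclic_of_surjective Subgroup.topEquiv (MulEquiv.surjective _))
  have h1 := h p hpp A hAe.1 hAe.2
  rw [hAc] at h1
  exact absurd h1 (not_le.2 (Nat.pow_lt_pow_right hpp.one_lt (by norm_num)))

omit hp in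
theorem exists_uniq_of_rank_three (hG : Cfsg.IsMinSimpleOddOrder G) {H : Subgroup G}
    (h : ¬ Cfsg.RankLE 2 H) : ∃ D : Subgroup G, D ≤ H ∧ Cfsg.InUniqueMaximal D := by
  obtain ⟨q, hq, hrq⟩ : ∃ q : ℕ, q.Prime ∧ ¬ Cfsg.PRankLE q 2 ↥H := by
    by_contra hn
    push Not at hn
    exact h hn
  haveI := Fact.mk hq
  obtain ⟨D, hDH, hDe, hD3⟩ := exists_elementary hrq
  exact ⟨D, hDH, elementary_uniq hG hDe hD3⟩

end CfsgLib.OddLocal
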