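import Mathlib
import Cfsg.Agent.Lib.OddLocal.Uniqueness
import Cfsg.Agent.S1450
import Cfsg.Agent.S0080

/-!
BG §10: the primes `σ(M)`, fusion in `M`, and the Hall subgroup `M_σ`.
-/

set_option autoImplicit false
set_option linter.style.haveILetI false

open Pointwise
open CfsgLib.Coprime
open scoped commutatorElement

namespace CfsgLib.OddLocal

universe u

variable {G : Type u} [Group G] [Finite G] {p : ℕ} [hp : Fact p.Prime]

theorem conj_normalizer {g : G} {X : Subgroup G} {n : G} (hn : n ∈ Subgroup.normalizer (X : Set G)) :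
    g * n * g⁻¹ ∈ Subgroup.normalizer ((MulAut.conj g • X : Subgroup G) : Set G) := by
  rw [mem_normalizer_iff_conj_smul, ← mul_smul, ← map_mul, inv_mul_cancel_right, map_mul, mul_smul,
    conj_smul_eq_self_of_mem_normalizer hn]

/-- Every `p`-subgroup of `X` is conjugate in `X` into a given Sylow subgroup. -/
theorem exists_conj_le_sylow {X Q : Subgroup G} (P : Sylow p X) (hQ : IsPGroup p Q) (hQX : Q ≤ X) :
    ∃ x ∈ X, MulAut.conj x • Q ≤ (P : Subgroup X).map X.subtype := by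
  obtain ⟨T, hT⟩ := (hQ.comap_of_injective X.subtype X.subtype_injective :
    IsPGroup p (Q.subgroupOf X)).exists_le_sylow
  obtain ⟨x, hx⟩ := MulAction.exists_smul_eq X T P
  refine ⟨x, x.2, ?_⟩
  rw [← Subgroup.map_subgroupOf_eq_of_le hQX]
  exact (Subgroup.map_mono (Subgroup.map_mono hT)).trans ((map_subtype_conj_smul_sylow x T).symm.trans
    (by rw [hx])).le

theorem prankLE_of_sylow {X : Subgroup G} (P : Sylow p X) {k : ℕ}
    (h : Cfsg.PRankLE p k ↥((P : Subgroup X).map X.subtype)) : Cfsg.PRankLE p k ↥X := by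
  by_contra hne
  obtain ⟨D, hDX, hDe, hD⟩ := exists_elementary hne
  obtain ⟨x, -, hx⟩ := exists_conj_le_sylow P (fun y => ⟨1, Subtype.ext (by simpa using hDe.2 y y.2)⟩) hDX
  haveI := hDe.1
  have he : Cfsg.IsElementaryAbelian p (MulAut.conj x • D : Subgroup G) := ⟨Subgroup.map_isMulCommutative D _, by
    rintro _ ⟨a, ha, rfl⟩; show (x * a * x⁻¹) ^ p = 1; rw [conj_pow, hDe.2 a ha, mul_one, mul_inv_cancel]⟩
  have h1 : Nat.card ↥(MulAut.conj x • D : Subgroup G) ≤ p ^ k := by
    haveI := he.1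
    have h2 := h ((MulAut.conj x • D : Subgroup G).subgroupOf _) ⟨⟨fun a b => Subtype.ext (Subtype.ext
      (congrArg Subtype.val (mul_comm' (⟨_, a.2⟩ : (MulAut.conj x • D : Subgroup G)) ⟨_, b.2⟩) :))⟩⟩
      fun a ha => Subtype.ext (he.2 _ ha)
    rwa [Nat.card_congr (Subgroup.subgroupOfEquivOfLe hx).toEquiv] at h2
  rw [card_conj_smul] at h1
  exact absurd (hD.trans h1) (not_le.2 (Nat.pow_lt_pow_right hp.out.one_lt (by omega)))

variable {M : Subgroup G}

omit [Finite G] hp in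
theorem smul_eq_self {m : G} (hm : m ∈ M) : MulAut.conj m • M = M :=
  conj_smul_eq_self_of_mem_normalizer (Subgroup.le_normalizer hm)

/-- For `p ∈ σ(M)` every Sylow normalizer lies in `M`. -/
theorem sylow_normalizer_le (hp' : p ∈ Cfsg.sigma M) (P : Sylow p M) :
    Subgroup.normalizer (((P : Subgroup M).map M.subtype : Subgroup G) : Set G) ≤ M := by
  obtain ⟨-, -, P₀, hP₀⟩ := hp'
  obtain ⟨m, hm⟩ := MulAction.exists_smul_eq M P₀ P
  intro n hn
  rw [← hm, map_subtype_conj_smul_sylow] at hn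
  have h1 := conj_normalizer (g := (m : G)⁻¹) hn
  rw [← mul_smul, ← map_mul, inv_mul_cancel, map_one, one_smul] at h1
  have h2 := M.mul_mem (M.mul_mem m.2 (hP₀ h1)) (M.inv_mem m.2)
  simpa [mul_assoc] using h2

theorem exists_sylow_map_eq (hp' : p ∈ Cfsg.sigma M) (P : Sylow p M) :
    ∃ S : Sylow p G, (S : Subgroup G) = (P : Subgroup M).map M.subtype := by
  obtain ⟨S, hS⟩ := (P.2.map M.subtype).exists_le_sylow
  refine ⟨S, le_antisymm ?_ hS⟩
  by_contra hne
  obtain ⟨x, hx, hxN, hxP⟩ := exists_mem_normalizer_not_mem S.2 hS hne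
  set T := (S : Subgroup G) ⊓ Subgroup.normalizer (((P : Subgroup M).map M.subtype : Subgroup G) : Set G)
  have hTM : T ≤ M := inf_le_right.trans (sylow_normalizer_le hp' P)
  have h1 : T.subgroupOf M = P := P.3
    ((S.2.to_le inf_le_left).comap_of_injective M.subtype M.subtype_injective)
    fun y hy => (⟨hS (Subgroup.mem_map_of_mem _ hy), Subgroup.le_normalizer (Subgroup.mem_map_of_mem _ hy)⟩ :
      (y : G) ∈ T)
  refine hxP ⟨⟨x, hTM ⟨hx, hxN⟩⟩, h1.le ?_, rfl⟩
  show x ∈ T
  exact ⟨hx, hxN⟩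

/-- Every `p`-subgroup of `G` is conjugate into `M`. -/
theorem exists_conj_le (hp' : p ∈ Cfsg.sigma M) {Q : Subgroup G} (hQ : IsPGroup p Q) :
    ∃ g : G, MulAut.conj g • Q ≤ M := by
  obtain ⟨P⟩ : Nonempty (Sylow p M) := inferInstance
  obtain ⟨S, hS⟩ := exists_sylow_map_eq hp' P
  obtain ⟨T, hT⟩ := hQ.exists_le_sylow
  obtain ⟨g, hg⟩ := MulAction.exists_smul_eq G T S
  refine ⟨g, (Subgroup.map_mono hT).trans ((show MulAut.conj g • (T : Subgroup G) = S from
    congrArg Sylow.toSubgroup hg).trans hS).le |>.trans (Subgroup.map_subtype_le _)⟩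

theorem mem_sigma_of_mem_alpha (hG : Cfsg.IsMinSimpleOddOrder G) (hM : IsCoatom M)
    (hp' : p ∈ Cfsg.alpha M) : p ∈ Cfsg.sigma M := by
  obtain ⟨D, hDM, hDe, hD3⟩ := exists_elementary hp'.2
  have hDp : IsPGroup p D := fun y => ⟨1, Subtype.ext (by simpa using hDe.2 y y.2)⟩
  obtain ⟨P, hP⟩ := (hDp.comap_of_injective M.subtype M.subtype_injective :
    IsPGroup p (D.subgroupOf M)).exists_le_sylow
  have hDP : D ≤ (P : Subgroup M).map M.subtype :=
    (Subgroup.map_subgroupOf_eq_of_le hDM).ge.trans (Subgroup.map_mono hP)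
  have hU := elementary_uniq hG hDe hD3
  refine ⟨hp.out, ?_, P, ?_⟩
  · obtain ⟨m, hm⟩ := IsPGroup.iff_card.1 hDp
    refine (hm ▸ dvd_pow_self p fun h0 => ?_).trans (Subgroup.card_dvd_of_le hDM)
    exact ne_bot_of_uniq hG hU (Subgroup.card_eq_one.1 (by rw [hm, h0, pow_zero]))
  · have hne : (P : Subgroup M).map M.subtype ≠ ⊥ := fun h =>
      ne_bot_of_uniq hG hU (le_bot_iff.1 (hDP.trans h.le))
    obtain ⟨L, hL, hNL⟩ := (eq_top_or_exists_le_coatom _).resolve_left
      (normalizer_ne_top hG hne fun h => hM.1 (top_unique (h.ge.trans (Subgroup.map_subtype_le _))))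
    exact uniq_eq hU hL (hDP.trans (Subgroup.le_normalizer.trans hNL)) hM hDM ▸ hNL

/-- BG 10.1. -/
theorem fusion (hG : Cfsg.IsMinSimpleOddOrder G) (hM : IsCoatom M) (hp' : p ∈ Cfsg.sigma M) :
    ∀ {X : Subgroup G}, IsPGroup p X → X ≠ ⊥ → X ≤ M →
      (∀ n ∈ Subgroup.normalizer (X : Set G), ∃ m ∈ M ⊓ Subgroup.normalizer (X : Set G),
        ∃ c ∈ Subgroup.centralizer (X : Set G), n = m * c) ∧
      ∀ g : G, MulAut.conj g • X ≤ M → ∃ m ∈ M, ∃ c ∈ Subgroup.centralizer (X : Set G), g = m * c := by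
  classical
  intro X
  induction hk : Nat.card G - Nat.card X using Nat.strong_induction_on generalizing X with
  | _ k IH =>
  intro hXp hX1 hXM
  have hIH : ∀ {Y : Subgroup G}, IsPGroup p Y → Nat.card X < Nat.card Y → Y ≤ M →
      (∀ n ∈ Subgroup.normalizer (Y : Set G), ∃ m ∈ M ⊓ Subgroup.normalizer (Y : Set G),
        ∃ c ∈ Subgroup.centralizer (Y : Set G), n = m * c) ∧
      ∀ g : G, MulAut.conj g • Y ≤ M → ∃ m ∈ M, ∃ c ∈ Subgroup.centralizer (Y : Set G), g = m * c := by
    intro Y hY hlt hYM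
    have h1 := Subgroup.card_le_card_group Y
    refine IH _ (by omega) rfl hY (fun hb => ?_) hYM
    rw [hb, Subgroup.card_bot] at hlt
    have := Nat.card_pos (α := X)
    omega
  obtain ⟨PM, hPM⟩ := (hXp.comap_of_injective M.subtype M.subtype_injective :
    IsPGroup p (X.subgroupOf M)).exists_le_sylow
  set P' := (PM : Subgroup M).map M.subtype with hP'
  have hXP : X ≤ P' := (Subgroup.map_subgroupOf_eq_of_le hXM).ge.trans (Subgroup.map_mono hPM)
  by_cases hcase : P' ≤ X
  · -- `X` is a Sylow subgroup of `M`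
    have hXe : X = P' := le_antisymm hXP hcase
    have hNM : Subgroup.normalizer (X : Set G) ≤ M := hXe ▸ sylow_normalizer_le hp' PM
    refine ⟨fun n hn => ⟨n, ⟨hNM hn, hn⟩, 1, one_mem _, (mul_one n).symm⟩, fun g hg => ?_⟩
    obtain ⟨x, hx, hle⟩ := exists_conj_le_sylow PM (hXp.map _) hg
    have heq : MulAut.conj x • MulAut.conj g • X = X := by
      refine Subgroup.eq_of_le_of_card_ge (hle.trans hXe.ge) ?_
      rw [card_conj_smul, card_conj_smul]
    rw [← mul_smul, ← map_mul] at heq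
    refine ⟨g, ?_, 1, one_mem _, (mul_one g).symm⟩
    have h1 := M.mul_mem (M.inv_mem hx) (hNM (mem_normalizer_iff_conj_smul.2 heq))
    rwa [inv_mul_cancel_left] at h1
  -- a Sylow subgroup of the normalizer inside `M`
  set N := Subgroup.normalizer (X : Set G) with hN
  obtain ⟨x₀, hx₀, hx₀N, hx₀X⟩ := exists_mem_normalizer_not_mem (PM.2.map _) hXP hcase
  set T₁ := P' ⊓ N with hT₁
  have hT₁p : IsPGroup p T₁ := (PM.2.map _).to_le inf_le_left
  have hXT₁ : X ≤ T₁ := le_inf hXP Subgroup.le_normalizer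
  have hlt : ∀ {Y : Subgroup G}, X ≤ Y → ¬ Y ≤ X → Nat.card X < Nat.card Y := fun hle hne =>
    lt_of_le_of_ne (Subgroup.card_le_of_le hle) fun he =>
      hne (Subgroup.eq_of_le_of_card_ge hle he.ge).ge
  have hT₁lt : Nat.card X < Nat.card T₁ := hlt hXT₁ fun h => hx₀X (h ⟨hx₀, hx₀N⟩)
  have hT₁M : T₁ ≤ M := inf_le_left.trans (Subgroup.map_subtype_le _)
  obtain ⟨S, hSge, hSM⟩ : ∃ S : Sylow p N, Nat.card X < Nat.card ((S : Subgroup N).map N.subtype) ∧
      (S : Subgroup N).map N.subtype ≤ M := by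
    obtain ⟨S, hS⟩ := (hT₁p.comap_of_injective N.subtype N.subtype_injective :
      IsPGroup p (T₁.subgroupOf N)).exists_le_sylow
    have hT₁S : T₁ ≤ (S : Subgroup N).map N.subtype :=
      (Subgroup.map_subgroupOf_eq_of_le inf_le_right).ge.trans (Subgroup.map_mono hS)
    obtain ⟨h, hh⟩ := exists_conj_le hp' (S.2.map N.subtype)
    obtain ⟨m, hm, c, hc, rfl⟩ := (hIH hT₁p hT₁lt hT₁M).2 h ((Subgroup.map_mono hT₁S).trans hh)
    have hcX : c ∈ Subgroup.centralizer (X : Set G) := Subgroup.centralizer_le hXT₁ hc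
    have hcN : c ∈ N := Subgroup.centralizer_le_normalizer _ hcX
    refine ⟨(⟨c, hcN⟩ : N) • S, ?_, ?_⟩
    · rw [map_subtype_conj_smul_sylow, card_conj_smul]
      exact hT₁lt.trans_le (Subgroup.card_le_of_le hT₁S)
    · rw [map_subtype_conj_smul_sylow]
      intro y hy
      rw [map_mul, mul_smul] at hh
      have h2 := hh (conj_mem_conj_smul (g := m) hy)
      have h3 := M.mul_mem (M.mul_mem (M.inv_mem hm) h2) hm
      simpa [mul_assoc] using h3
  set S' := (S : Subgroup N).map N.subtype with hS'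
  have hS'p : IsPGroup p S' := S.2.map _
  have hXS : X ≤ S' := by
    rw [← Subgroup.map_subgroupOf_eq_of_le (Subgroup.le_normalizer : X ≤ N)]
    exact Subgroup.map_mono (le_trans (Fitting.le_pCore (G := N) Subgroup.normal_in_normalizer
      (hXp.comap_of_injective N.subtype N.subtype_injective))
      ((Fitting.pCore_eq_iInf_sylow (G := N) p).le.trans (iInf_le _ S)))
  have hA : ∀ n ∈ N, ∃ m ∈ M ⊓ N, ∃ c ∈ Subgroup.centralizer (X : Set G), n = m * c := by
    intro n hn
    by_cases hr : Cfsg.PRankLE p 2 ↥S'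
    swap
    · obtain ⟨D, hDS, hDe, hD3⟩ := exists_elementary hr
      obtain ⟨L, hL, hNL⟩ := (eq_top_or_exists_le_coatom N).resolve_left
        (normalizer_ne_top hG hX1 fun h => hM.1 (top_unique (h.ge.trans hXM)))
      have hLM := uniq_eq (elementary_uniq hG hDe hD3) hL
        (hDS.trans ((Subgroup.map_subtype_le _).trans hNL)) hM (hDS.trans hSM)
      exact ⟨n, ⟨hLM ▸ hNL hn, hn⟩, 1, one_mem _, (mul_one n).symm⟩
    have hNtop : N ≠ ⊤ := normalizer_ne_top hG hX1 fun h => hM.1 (top_unique (h.ge.trans hXM))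
    haveI hsN : Group.IsSolvable N := isSolvable_of_ne_top hG hNtop
    have hpN : p ∣ Nat.card N := by
      obtain ⟨j, hj⟩ := IsPGroup.iff_card.1 hXp
      exact (hj ▸ dvd_pow_self p fun h0 => hX1 (Subgroup.card_eq_one.1 (by rw [hj, h0, pow_zero]))).trans
        (Subgroup.card_dvd_of_le Subgroup.le_normalizer)
    obtain ⟨-, -, -, -, -, hidx⟩ := Cfsg.Agent.S1450.result
      (Odd.of_dvd_nat hG.1 (Subgroup.card_subgroup_dvd_card N)) p hpN (prankLE_of_sylow S hr)
    -- Frattini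
    haveI := Transfer.pPrimeCore_normal p N
    haveI := Fitting.pCore_normal (G := N ⧸ Cfsg.pPrimeCore p N) p
    haveI hR : (Cfsg.pPrimePCore p N).Normal := by rw [Cfsg.pPrimePCore]; infer_instance
    have hSR : (S : Subgroup N) ≤ Cfsg.pPrimePCore p N := by
      intro s hs
      obtain ⟨i, hi⟩ := S.2 ⟨s, hs⟩
      refine (QuotientGroup.eq_one_iff s).1 (orderOf_eq_one_iff.1 (Nat.eq_one_of_dvd_coprimes
        ((Nat.Coprime.pow_left i hidx.symm)) ?_ ?_))
      · exact orderOf_dvd_of_pow_eq_one (by rw [← QuotientGroup.mk_pow, show s ^ p ^ i = 1 from congrArg Subtype.val hi, QuotientGroup.mk_one])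
      · rw [Subgroup.index_eq_card]; exact orderOf_dvd_natCard _
    set Z := Cfsg.pPrimeCore p N with hZ
    have hRle : Cfsg.pPrimePCore p N ≤ (S : Subgroup N) ⊔ Z := by
      intro r hr'
      have h1 : QuotientGroup.mk' Z r ∈ (S : Subgroup N).map (QuotientGroup.mk' Z) :=
        (Fitting.pCore_eq_iInf_sylow (G := N ⧸ Z) p).le.trans
          (iInf_le _ (Sylow.mapSurjective (QuotientGroup.mk'_surjective Z) S)) hr'
      have h2 : r ∈ ((S : Subgroup N).map (QuotientGroup.mk' Z)).comap (QuotientGroup.mk' Z) := h1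
      rwa [Subgroup.comap_map_eq, QuotientGroup.ker_mk'] at h2
    have htop := Sylow.normalizer_sup_eq_top' S hSR
    have htop' : Subgroup.normalizer ((S : Subgroup N) : Set N) ⊔ Z = ⊤ := top_unique (htop.ge.trans
      (sup_le le_sup_left (hRle.trans (sup_le (Subgroup.le_normalizer.trans le_sup_left) le_sup_right))))
    have hnmem : (⟨n, hn⟩ : N) ∈ Z ⊔ Subgroup.normalizer ((S : Subgroup N) : Set N) := by
      rw [sup_comm, htop']; trivial
    obtain ⟨z, hz, n', hn', hzn⟩ := Subgroup.mem_sup_of_normal_left.1 hnmem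
    have hzC : (z : G) ∈ Subgroup.centralizer (X : Set G) := by
      intro x hx
      have hd : Disjoint Z (X.subgroupOf N) := by
        rw [disjoint_iff]
        refine eq_bot_of_disjoint (π := {s | s ≠ p}) (ρ := {p}) ?_ ?_ ?_
        · exact ((isPi_ne_iff hp.out).2 (Transfer.pPrimeCore_coprime p)).mono inf_le_left
        · exact ((isPi_singleton_iff hp.out).2
            (hXp.comap_of_injective N.subtype N.subtype_injective)).mono inf_le_right
        · exact Set.disjoint_singleton_right.2 fun h => h rfl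
      exact (congrArg Subtype.val (Subgroup.commute_of_normal_of_disjoint Z (X.subgroupOf N)
        inferInstance Subgroup.normal_in_normalizer hd z ⟨x, Subgroup.le_normalizer hx⟩ hz hx).eq).symm
    have hn'N : (n' : G) ∈ Subgroup.normalizer (S' : Set G) :=
      Subgroup.le_normalizer_map N.subtype (Subgroup.mem_map_of_mem N.subtype hn')
    obtain ⟨m, hm, c, hc, hmc⟩ := (hIH hS'p hSge hSM).1 n' hn'N
    have hcX : c ∈ Subgroup.centralizer (X : Set G) := Subgroup.centralizer_le hXS hc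
    have hmN : m ∈ N := by
      have h1 := N.mul_mem n'.2 (N.inv_mem (Subgroup.centralizer_le_normalizer _ hcX))
      rwa [hmc, mul_inv_cancel_right] at h1
    refine ⟨m, ⟨hm.1, hmN⟩, (m⁻¹ * z * m) * c, (Subgroup.centralizer (X : Set G)).mul_mem ?_ hcX, ?_⟩
    · exact (Subgroup.mem_normalizer_iff''.1 (le_normalizer_centralizer le_rfl hmN) _).1 hzC
    · have h2 : n = (z : G) * n' := (congrArg Subtype.val hzn).symm
      rw [h2, hmc]
      group
  refine ⟨hA, fun g hg => ?_⟩
  set X' := MulAut.conj g • X with hX'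
  have hX'card : Nat.card X' = Nat.card X := card_conj_smul g X
  obtain ⟨P₂, hP₂⟩ := ((hXp.map _).comap_of_injective M.subtype M.subtype_injective :
    IsPGroup p (X'.subgroupOf M)).exists_le_sylow
  set P₂' := (P₂ : Subgroup M).map M.subtype with hP₂'
  have hX'P : X' ≤ P₂' := (Subgroup.map_subgroupOf_eq_of_le hg).ge.trans (Subgroup.map_mono hP₂)
  have hne₂ : ¬ P₂' ≤ X' := by
    intro h
    refine hcase (Subgroup.eq_of_le_of_card_ge hXP ?_).ge
    have h1 := Subgroup.card_le_of_le h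
    rw [hX'card, hP₂', Subgroup.card_map_of_injective M.subtype_injective, P₂.card_eq_multiplicity] at h1
    rw [hP', Subgroup.card_map_of_injective M.subtype_injective, PM.card_eq_multiplicity]
    exact h1
  obtain ⟨x₁, hx₁, hx₁N, hx₁X⟩ := exists_mem_normalizer_not_mem (P₂.2.map _) hX'P hne₂
  set T' := P₂' ⊓ Subgroup.normalizer (X' : Set G) with hT'
  set T'' := MulAut.conj g⁻¹ • T' with hT''
  have hT''N : T'' ≤ N := by
    rintro _ ⟨t, ht, rfl⟩
    have h1 := conj_normalizer (g := g⁻¹) ht.2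
    rw [hX', ← mul_smul, ← map_mul, inv_mul_cancel, map_one, one_smul] at h1
    exact h1
  obtain ⟨n, hn, hnle⟩ := exists_conj_le_sylow S (((P₂.2.map M.subtype).to_le inf_le_left).map _) hT''N
  set Y := MulAut.conj n • T'' with hY
  have hYlt : Nat.card X < Nat.card Y := by
    rw [hY, card_conj_smul, hT'', card_conj_smul, ← hX'card]
    refine lt_of_le_of_ne (Subgroup.card_le_of_le (le_inf hX'P Subgroup.le_normalizer)) fun he =>
      hx₁X ((Subgroup.eq_of_le_of_card_ge (le_inf hX'P Subgroup.le_normalizer) he.ge).ge ⟨hx₁, hx₁N⟩)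
  have hXY : X ≤ Y := by
    refine (conj_smul_eq_self_of_mem_normalizer hn).ge.trans (Subgroup.map_mono ?_)
    intro x hx
    rw [hT'', mem_conj_smul_iff, inv_inv]
    exact ⟨hX'P (conj_mem_conj_smul hx), Subgroup.le_normalizer (conj_mem_conj_smul hx)⟩
  have hYM : MulAut.conj (g * n⁻¹) • Y ≤ M := by
    rw [hY, ← mul_smul, ← map_mul, inv_mul_cancel_right, hT'', ← mul_smul, ← map_mul, mul_inv_cancel,
      map_one, one_smul]
    exact inf_le_left.trans (Subgroup.map_subtype_le _)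
  obtain ⟨m, hm, c, hc, hmc⟩ := (hIH (hS'p.to_le hnle) hYlt (hnle.trans hSM)).2 _ hYM
  obtain ⟨m', hm', c', hc', hmc'⟩ := hA n hn
  refine ⟨m * m', M.mul_mem hm hm'.1, (m'⁻¹ * c * m') * c',
    (Subgroup.centralizer (X : Set G)).mul_mem ?_ hc', ?_⟩
  · exact (Subgroup.mem_normalizer_iff''.1 (le_normalizer_centralizer le_rfl hm'.2) _).1
      (Subgroup.centralizer_le hXY hc)
  · rw [show g = g * n⁻¹ * n by group, hmc, hmc']
    group

/-- BG 10.2: `σ(M)`-subgroups of `M` lie in `M'`. -/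
theorem le_derived_of_sigma (hG : Cfsg.IsMinSimpleOddOrder G) (hM : IsCoatom M) (hp' : p ∈ Cfsg.sigma M)
    {Q : Subgroup G} (hQ : IsPGroup p Q) (hQM : Q ≤ M) : Q ≤ ⁅M, M⁆ := by
  classical
  obtain ⟨PM, hPM⟩ := (hQ.comap_of_injective M.subtype M.subtype_injective :
    IsPGroup p (Q.subgroupOf M)).exists_le_sylow
  obtain ⟨S, hS⟩ := exists_sylow_map_eq hp' PM
  have hQS : Q ≤ (S : Subgroup G) :=
    hS ▸ (Subgroup.map_subgroupOf_eq_of_le hQM).ge.trans (Subgroup.map_mono hPM)
  refine hQS.trans ?_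
  have hSM : (S : Subgroup G) ≤ M := hS ▸ Subgroup.map_subtype_le _
  have hcop : Nat.Coprime (S : Subgroup G).index (⁅(S : Subgroup G), (S : Subgroup G)⁆.relIndex (S : Subgroup G)) := by
    refine Nat.Coprime.coprime_dvd_right (Subgroup.relIndex_dvd_card _ _) ?_
    obtain ⟨m, hm⟩ := IsPGroup.iff_card.1 S.2
    rw [hm]
    exact ((hp.out.coprime_iff_not_dvd.2 S.not_dvd_index).symm).pow_right m
  have hfoc := (Cfsg.Agent.S0080.result (S : Subgroup G) hcop).1
  have htop : commutator G = ⊤ := by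
    haveI := hG.2.1
    refine ((inferInstance : (commutator G).Normal).eq_bot_or_eq_top).resolve_left fun h => ?_
    exact hG.2.2.1 ⟨⟨fun x y => commutatorElement_eq_one_iff_commute.1 (Subgroup.mem_bot.1
      (h ▸ Subgroup.commutator_mem_commutator (Subgroup.mem_top x) (Subgroup.mem_top y)))⟩⟩
  rw [htop, top_inf_eq] at hfoc
  refine hfoc.ge.trans ((Subgroup.closure_le _).2 ?_)
  rintro _ ⟨hgS, x, hx, u, rfl⟩
  by_cases hx1 : x = 1
  · rw [hx1, commutatorElement_one_left]; exact one_mem _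
  have hxp : IsPGroup p (Subgroup.zpowers x) := S.2.to_le (Subgroup.zpowers_le.2 hx)
  have hu : u * x⁻¹ * u⁻¹ ∈ M := by
    refine hSM ?_
    have h1 := (S : Subgroup G).mul_mem ((S : Subgroup G).inv_mem hx) hgS
    rwa [show x⁻¹ * ⁅x, u⁆ = u * x⁻¹ * u⁻¹ by rw [commutatorElement_def]; group] at h1
  obtain ⟨m, hm, c, hc, rfl⟩ := (fusion hG hM hp' hxp (by simpa using hx1)
    (Subgroup.zpowers_le.2 (hSM hx))).2 u (by
      rintro _ ⟨y, hy, rfl⟩
      obtain ⟨i, rfl⟩ := Subgroup.mem_zpowers_iff.1 hy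
      show u * x ^ i * u⁻¹ ∈ M
      rw [← conj_zpow]
      refine M.zpow_mem ?_ i
      have h2 := M.inv_mem hu
      simpa [mul_assoc] using h2)
  have hcx : c * x⁻¹ = x⁻¹ * c := (hc x⁻¹ (inv_mem (Subgroup.mem_zpowers x))).symm
  rw [show ⁅x, m * c⁆ = ⁅x, m⁆ by
    rw [commutatorElement_def, commutatorElement_def,
      show x * (m * c) * x⁻¹ * (m * c)⁻¹ = x * m * (c * x⁻¹) * c⁻¹ * m⁻¹ by group, hcx]
    group]
  exact Subgroup.commutator_mem_commutator (hSM hx) hm

end CfsgLib.OddLocal
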