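import Mathlib
import Cfsg.Agent.Lib.OddLocal.Sigma
import Cfsg.Agent.Lib.BG.FittingDerived
import Cfsg.Agent.S1886

/-!
BG 10.2: `M_α` and `M_σ` are Hall subgroups and `M/M_α` has small rank.
-/

set_option autoImplicit false
set_option linter.style.haveILetI false

open Pointwise
open CfsgLib.Coprime

namespace CfsgLib.OddLocal

universe u

variable {G : Type u} [Group G] [Finite G] {M : Subgroup G}

theorem prime_of_mem_alpha {q : ℕ} (h : q ∈ Cfsg.alpha M) : q.Prime := h.1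
theorem prime_of_mem_sigma {q : ℕ} (h : q ∈ Cfsg.sigma M) : q.Prime := h.1

theorem alpha_subset_sigma (hG : Cfsg.IsMinSimpleOddOrder G) (hM : IsCoatom M) :
    Cfsg.alpha M ⊆ Cfsg.sigma M := fun q hq => by
  haveI := Fact.mk hq.1
  exact mem_sigma_of_mem_alpha hG hM hq

theorem alphaCore_le_sigmaCore (hG : Cfsg.IsMinSimpleOddOrder G) (hM : IsCoatom M) :
    Cfsg.alphaCore M ≤ Cfsg.sigmaCore M :=
  piCoreOf_mono (alpha_subset_sigma hG hM) M

/-- The `q`-rank of `M/M_α` for `q ∉ α(M)`. -/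
theorem quotient_alpha_prankLE {q : ℕ} (hq : q.Prime) (hqα : q ∉ Cfsg.alpha M) :
    Cfsg.PRankLE q 2 (↥M ⧸ Cfsg.piCore (Cfsg.alpha M) ↥M) := by
  classical
  haveI := Fact.mk hq
  set K := Cfsg.piCore (Cfsg.alpha M) ↥M with hK
  have hKq : (Nat.card K).Coprime q := by
    rw [Nat.coprime_comm, hq.coprime_iff_not_dvd]
    exact fun hd => hqα (Cfsg.Agent.S1886.piCore_isPi _ q hq hd)
  intro E hE hEe
  obtain ⟨PM⟩ : Nonempty (Sylow q M) := inferInstance
  set Pb := PM.mapSurjective (QuotientGroup.mk'_surjective K)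
  obtain ⟨T, hT⟩ := (show IsPGroup q E from fun y => ⟨1, Subtype.ext (by simpa using hEe y y.2)⟩).exists_le_sylow
  obtain ⟨x, hx⟩ := MulAction.exists_smul_eq (↥M ⧸ K) T Pb
  have hle : (MulAut.conj x • E : Subgroup _) ≤ (PM : Subgroup M).map (QuotientGroup.mk' K) := by
    refine (Subgroup.map_mono hT).trans ?_
    exact (show MulAut.conj x • (T : Subgroup (↥M ⧸ K)) = (Pb : Subgroup (↥M ⧸ K)) from congrArg Sylow.toSubgroup hx).le
  have hinj : Function.Injective ((QuotientGroup.mk' K).subgroupMap (PM : Subgroup M)) := fun a b hab =>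
    Subtype.ext (inv_mul_eq_one.1 (PSolvable.eq_one_of_mem_of_mem PM.2 hKq (mul_mem (inv_mem a.2) b.2)
      ((QuotientGroup.eq).1 (congrArg Subtype.val hab :))))
  let e := MulEquiv.ofBijective _ ⟨hinj, MonoidHom.subgroupMap_surjective (QuotientGroup.mk' K) (PM : Subgroup M)⟩
  have hr : Cfsg.PRankLE q 2 ↥M := not_not.1 fun h => hqα ⟨hq, h⟩
  have hr' := BG.prankLE_of_injective ((PM : Subgroup M).subtype.comp e.symm.toMonoidHom)
    (Subtype.val_injective.comp e.symm.injective) hr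
  haveI := hE
  haveI : IsMulCommutative ↥(MulAut.conj x • E : Subgroup (↥M ⧸ K)) := Subgroup.map_isMulCommutative E _
  have h1 := hr' ((MulAut.conj x • E : Subgroup _).subgroupOf _) ⟨⟨fun a b => Subtype.ext (Subtype.ext
    (congrArg Subtype.val (mul_comm' (⟨_, a.2⟩ : (MulAut.conj x • E : Subgroup _)) ⟨_, b.2⟩) :))⟩⟩
    fun a ha => Subtype.ext (by
      obtain ⟨y, hy, hya⟩ := (ha : (a : ↥M ⧸ K) ∈ MulAut.conj x • E)
      show ((a : ↥((PM : Subgroup M).map (QuotientGroup.mk' K))) : ↥M ⧸ K) ^ q = 1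
      refine (congrArg (· ^ q) hya.symm).trans ?_
      show (x * y * x⁻¹) ^ q = 1
      rw [conj_pow, hEe y hy, mul_one, mul_inv_cancel])
  rwa [Nat.card_congr (Subgroup.subgroupOfEquivOfLe hle).toEquiv, card_conj_smul] at h1

theorem fitting_quotient_alpha {q : ℕ} (hq : q.Prime) (hqα : q ∈ Cfsg.alpha M) :
    ¬ q ∣ Nat.card ↥(Cfsg.fittingSubgroup (↥M ⧸ Cfsg.piCore (Cfsg.alpha M) ↥M)) :=
  ((Cfsg.Agent.S1886.result (Cfsg.alpha M)).2 ((Cfsg.Agent.S1886.result (X := ↥M) (Cfsg.alpha M)).1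
    |> fun h => h)).1 q hq hqα

/-- `(M/M_α)'` is nilpotent. -/
theorem derived_quotient_alpha (hG : Cfsg.IsMinSimpleOddOrder G) (hM : IsCoatom M) :
    Group.IsNilpotent ↥(commutator (↥M ⧸ Cfsg.piCore (Cfsg.alpha M) ↥M)) ∧
      commutator (↥M ⧸ Cfsg.piCore (Cfsg.alpha M) ↥M) ≤
        Cfsg.fittingSubgroup (↥M ⧸ Cfsg.piCore (Cfsg.alpha M) ↥M) := by
  haveI := isSolvable_of_ne_top hG hM.1
  haveI : Group.IsSolvable (↥M ⧸ Cfsg.piCore (Cfsg.alpha M) ↥M) :=
    solvable_of_surjective (QuotientGroup.mk'_surjective _)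
  refine BG.derived_le_fitting fun r hr => BG.derived_acts_on_pCore hr inferInstance
    (Odd.of_dvd_nat hG.1 ((Subgroup.card_quotient_dvd_card _).trans (Subgroup.card_subgroup_dvd_card M))) ?_
  haveI := Fact.mk hr
  by_cases hrα : r ∈ Cfsg.alpha M
  · refine Or.inl fun E _ _ => ?_
    have h1 : Nat.card E ∣ Nat.card ↥(Cfsg.fittingSubgroup (↥M ⧸ Cfsg.piCore (Cfsg.alpha M) ↥M)) :=
      (Subgroup.card_subgroup_dvd_card E).trans (Subgroup.card_dvd_of_le (Fitting.pCore_le_fittingSubgroup r))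
    obtain ⟨m, hm⟩ := IsPGroup.iff_card.1 ((Fitting.pCore_isPGroup r).to_subgroup E)
    rcases Nat.eq_zero_or_pos m with rfl | hm0
    · rw [hm, pow_zero]; exact Nat.one_le_pow _ _ hr.pos
    · exact absurd ((hm ▸ dvd_pow_self r hm0.ne').trans h1) (fitting_quotient_alpha hr hrα)
  · exact Or.inl (BG.prankLE_of_injective (Cfsg.pCore r _).subtype Subtype.val_injective
      (quotient_alpha_prankLE hr hrα))

theorem map_sylow_le_pCore (hG : Cfsg.IsMinSimpleOddOrder G) (hM : IsCoatom M) {q : ℕ} [Fact q.Prime]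
    (hq : q ∈ Cfsg.sigma M) (P : Sylow q M) :
    (P : Subgroup M).map (QuotientGroup.mk' (Cfsg.piCore (Cfsg.alpha M) ↥M)) ≤
      Cfsg.pCore q (↥M ⧸ Cfsg.piCore (Cfsg.alpha M) ↥M) := by
  intro y hy
  obtain ⟨x, hx, rfl⟩ := hy
  obtain ⟨k, hk⟩ := P.2 ⟨x, hx⟩
  refine BG.mem_pCore_of_mem_fitting (Fact.out : q.Prime) ((derived_quotient_alpha hG hM).2 ?_) (k := k)
    (by rw [← map_pow, show x ^ q ^ k = 1 from congrArg Subtype.val hk, map_one])
  have h1 : (x : G) ∈ ⁅M, M⁆ := le_derived_of_sigma hG hM hq (P.2.map M.subtype) (Subgroup.map_subtype_le _)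
    (Subgroup.mem_map_of_mem _ hx)
  rw [← Subgroup.map_subtype_commutator] at h1
  obtain ⟨x', hx', hxx⟩ := h1
  have hxc : x ∈ commutator M := M.subtype_injective hxx ▸ hx'
  rw [commutator_def, ← Subgroup.map_top_of_surjective _ (QuotientGroup.mk'_surjective (Cfsg.piCore (Cfsg.alpha M) ↥M)),
    ← Subgroup.map_commutator]
  exact Subgroup.mem_map_of_mem _ (commutator_def M ▸ hxc)

theorem not_dvd_index_alpha (hG : Cfsg.IsMinSimpleOddOrder G) (hM : IsCoatom M) {q : ℕ} (hq : q.Prime)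
    (hqα : q ∈ Cfsg.alpha M) : ¬ q ∣ (Cfsg.piCore (Cfsg.alpha M) ↥M).index := by
  classical
  haveI := Fact.mk hq
  intro hd
  obtain ⟨P⟩ : Nonempty (Sylow q M) := inferInstance
  set f := QuotientGroup.mk' (Cfsg.piCore (Cfsg.alpha M) ↥M) with hf
  have h1 : (P : Subgroup M).map f = ⊥ := by
    refine le_bot_iff.1 ((map_sylow_le_pCore hG hM (alpha_subset_sigma hG hM hqα) P).trans ?_)
    rw [le_bot_iff, ← Subgroup.card_eq_one]
    obtain ⟨m, hm⟩ := IsPGroup.iff_card.1 (Fitting.pCore_isPGroup (G := ↥M ⧸ Cfsg.piCore (Cfsg.alpha M) ↥M) q)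
    rcases Nat.eq_zero_or_pos m with rfl | hm0
    · rw [hm, pow_zero]
    · exact absurd ((hm ▸ dvd_pow_self q hm0.ne').trans (Subgroup.card_dvd_of_le
        (Fitting.pCore_le_fittingSubgroup q))) (fitting_quotient_alpha hq hqα)
  rw [Subgroup.map_eq_bot_iff, hf, QuotientGroup.ker_mk'] at h1
  exact P.not_dvd_index (hd.trans (Subgroup.index_dvd_of_le h1))

theorem not_dvd_index_sigma (hG : Cfsg.IsMinSimpleOddOrder G) (hM : IsCoatom M) {q : ℕ} (hq : q.Prime)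
    (hqσ : q ∈ Cfsg.sigma M) : ¬ q ∣ (Cfsg.piCore (Cfsg.sigma M) ↥M).index := by
  classical
  haveI := Fact.mk hq
  intro hd
  obtain ⟨P⟩ : Nonempty (Sylow q M) := inferInstance
  set K := Cfsg.piCore (Cfsg.alpha M) ↥M with hK
  set f := QuotientGroup.mk' K with hf
  haveI := Fitting.pCore_normal (G := ↥M ⧸ K) q
  set B := (Cfsg.pCore q (↥M ⧸ K)).comap f with hB
  have hPB : (P : Subgroup M) ≤ B := Subgroup.map_le_iff_le_comap.1 (map_sylow_le_pCore hG hM hqσ P)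
  have hBσ : B ≤ Cfsg.piCore (Cfsg.sigma M) ↥M := by
    refine le_sSup ⟨Subgroup.Normal.comap inferInstance _, fun r hr hrd => ?_⟩
    have hdd : Nat.card B ∣ Nat.card K * Nat.card (Cfsg.pCore q (↥M ⧸ K)) := by
      rw [hB, PSolvable.card_comap_of_surjective (QuotientGroup.mk'_surjective K), QuotientGroup.ker_mk', mul_comm]
    rcases (Nat.Prime.dvd_mul hr).mp (hrd.trans hdd) with h | h
    · exact alpha_subset_sigma hG hM (Cfsg.Agent.S1886.piCore_isPi _ r hr h)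
    · obtain ⟨m, hm⟩ := IsPGroup.iff_card.1 (Fitting.pCore_isPGroup (G := ↥M ⧸ K) q)
      rw [hm] at h
      exact (Nat.prime_dvd_prime_iff_eq hr hq).1 (hr.dvd_of_dvd_pow h) ▸ hqσ
  exact P.not_dvd_index (hd.trans (Subgroup.index_dvd_of_le (hPB.trans hBσ)))

theorem isPiHallOf_core {π : Set ℕ} (h : ∀ q : ℕ, q.Prime → q ∈ π → ¬ q ∣ (Cfsg.piCore π ↥M).index) :
    Cfsg.IsPiHallOf π (Cfsg.piCoreOf π M) M := by
  refine ⟨piCoreOf_le π M, isPi_piCoreOf π M, fun q hq hqπ hd => h q hq hqπ ?_⟩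
  rwa [Cfsg.piCoreOf, Subgroup.relIndex, Subgroup.subgroupOf,
    Subgroup.comap_map_eq_self_of_injective M.subtype_injective] at hd

theorem isPiHall_core {π : Set ℕ} (hπ : π ⊆ Cfsg.sigma M)
    (h : ∀ q : ℕ, q.Prime → q ∈ π → ¬ q ∣ (Cfsg.piCore π ↥M).index) :
    Cfsg.IsPiHall π (Cfsg.piCoreOf π M) := by
  refine ⟨isPi_piCoreOf π M, fun q hq hqπ hd => ?_⟩
  haveI := Fact.mk hq
  rw [← Subgroup.relIndex_mul_index (piCoreOf_le π M)] at hd
  rcases hq.dvd_mul.1 hd with hd | hd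
  · exact (isPiHallOf_core h).2.2 q hq hqπ hd
  · obtain ⟨P⟩ : Nonempty (Sylow q M) := inferInstance
    obtain ⟨S, hS⟩ := exists_sylow_map_eq (hπ hqπ) P
    exact S.not_dvd_index (hd.trans (Subgroup.index_dvd_of_le (hS ▸ Subgroup.map_subtype_le _)))

theorem rankLE_quotient_alpha (hG : Cfsg.IsMinSimpleOddOrder G) (hM : IsCoatom M) :
    Cfsg.RankLE 2 (↥M ⧸ Cfsg.piCore (Cfsg.alpha M) ↥M) := fun q hq => by
  by_cases hqα : q ∈ Cfsg.alpha M
  · intro E _ hEe
    haveI := Fact.mk hq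
    obtain ⟨m, hm⟩ := IsPGroup.iff_card.1 (show IsPGroup q E from fun y => ⟨1, Subtype.ext (by simpa using hEe y y.2)⟩)
    rcases Nat.eq_zero_or_pos m with rfl | hm0
    · rw [hm, pow_zero]; exact Nat.one_le_pow _ _ hq.pos
    · refine absurd ((hm ▸ dvd_pow_self q hm0.ne').trans (Subgroup.card_subgroup_dvd_card E)) ?_
      rw [← Subgroup.index_eq_card]
      exact not_dvd_index_alpha hG hM hq hqα
  · exact quotient_alpha_prankLE hq hqα

end CfsgLib.OddLocal
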