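import Mathlib
import Cfsg.Agent.Lib.OddLocal.SigmaHall
import Cfsg.Agent.S1443

/-!
BG 10.3–10.5.
-/

set_option autoImplicit false
set_option linter.style.haveILetI false

open Pointwise
open CfsgLib.Coprime

namespace CfsgLib.OddLocal

universe u

variable {G : Type u} [Group G] [Finite G] {M : Subgroup G}

theorem isPGroup_of_elementary {p : ℕ} {A : Subgroup G} (hA : Cfsg.IsElementaryAbelian p A) : IsPGroup p A :=
  fun x => ⟨1, Subtype.ext (by simpa using hA.2 x x.2)⟩

theorem not_rankLE_one_of_elementary {p : ℕ} [hp : Fact p.Prime] {A H : Subgroup G}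
    (hA : Cfsg.IsElementaryAbelian p A) (hA2 : p ^ 2 ≤ Nat.card A) (hAH : A ≤ H) : ¬ Cfsg.RankLE 1 H := by
  intro h
  haveI := hA.1
  have h1 := prankLE_mono hAH (h p hp.out) ⊤
    ⟨⟨fun a b => Subtype.ext (mul_comm' (a : A) b)⟩⟩ fun a _ => Subtype.ext (hA.2 _ (a : A).2)
  rw [Subgroup.card_top] at h1
  exact absurd (hA2.trans h1) (not_le.2 (Nat.pow_lt_pow_right hp.out.one_lt (by norm_num)))

/-- BG 10.3. -/
theorem centralizer_uniq_of_alpha (hG : Cfsg.IsMinSimpleOddOrder G) (hM : IsCoatom M) {X : Subgroup G}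
    (hXM : X ≤ M) (hXα : ∀ q : ℕ, q.Prime → q ∣ Nat.card X → q ∉ Cfsg.alpha M)
    (hr : ¬ Cfsg.RankLE 1 ↥(Cfsg.alphaCore M ⊓ Subgroup.centralizer (X : Set G))) :
    Cfsg.InUniqueMaximal (M ⊓ Subgroup.centralizer (X : Set G)) := by
  classical
  obtain ⟨p, hp, hrp⟩ : ∃ p : ℕ, p.Prime ∧
      ¬ Cfsg.PRankLE p 1 ↥(Cfsg.alphaCore M ⊓ Subgroup.centralizer (X : Set G)) := by
    by_contra h
    push Not at h
    exact hr h
  haveI := Fact.mk hp
  obtain ⟨E, hE, hEe, hE2⟩ := exists_elementary hrp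
  set K := Cfsg.alphaCore M with hK
  have hKα : IsPi (Cfsg.alpha M) K := isPi_piCoreOf _ M
  have hKM : K ≤ M := piCoreOf_le _ M
  have hEp : IsPGroup p E := isPGroup_of_elementary hEe
  have hpE : p ∣ Nat.card E := by
    obtain ⟨m, hm⟩ := IsPGroup.iff_card.1 hEp
    refine hm ▸ dvd_pow_self p fun h0 => ?_
    rw [hm, h0, pow_zero] at hE2
    exact absurd hE2 (not_le.2 (Nat.one_lt_pow (by norm_num) hp.one_lt))
  have hpα : p ∈ Cfsg.alpha M := hKα p hp (hpE.trans (Subgroup.card_dvd_of_le (hE.trans inf_le_left)))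
  have hcop : (Nat.card X).Coprime (Nat.card K) :=
    Nat.coprime_of_dvd fun r hr' h1 h2 => hXα r hr' h1 (hKα r hr' h2)
  have hsX : Group.IsSolvable X := isSolvable_of_ne_top hG fun h => hM.1 (top_unique (h.ge.trans hXM))
  have hXE : X ≤ Subgroup.normalizer (E : Set G) :=
    (Subgroup.le_centralizer_iff.1 (hE.trans inf_le_right)).trans (Subgroup.centralizer_le_normalizer _)
  have hXK : X ≤ Subgroup.normalizer (K : Set G) := hXM.trans (le_normalizer_piCoreOf _ M)
  obtain ⟨PK, hEP, hXP⟩ := exists_invariant_sylow_ge (K := K) hXK hcop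
    (Or.inl hsX) (hE.trans inf_le_left) hEp hXE
  set P := (PK : Subgroup K).map K.subtype with hP
  have hPp : IsPGroup p P := PK.2.map _
  have hPM : P ≤ M := (Subgroup.map_subtype_le _).trans hKM
  have hP3 : ¬ Cfsg.PRankLE p 2 ↥P := by
    intro h
    obtain ⟨D, hDM, hDe, hD3⟩ := exists_elementary hpα.2
    -- a Sylow subgroup of `M` inside `K`
    have hidx : ¬ p ∣ K.relIndex M := (isPiHallOf_core fun q hq hqa => not_dvd_index_alpha hG hM hq hqa).2.2 p hp hpα
    obtain ⟨S, hS⟩ := (hPp.comap_of_injective M.subtype M.subtype_injective :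
      IsPGroup p (P.subgroupOf M)).exists_le_sylow
    have heq : (S : Subgroup M).map M.subtype = P := by
      refine (Subgroup.eq_of_le_of_card_ge ((Subgroup.map_subgroupOf_eq_of_le hPM).ge.trans
        (Subgroup.map_mono hS)) ?_).symm
      have hidx' : Nat.card M = Nat.card K * K.relIndex M := by
        rw [← Subgroup.relIndex_bot_left M, ← Subgroup.relIndex_bot_left K]
        exact (Subgroup.relIndex_mul_relIndex ⊥ K M bot_le hKM).symm
      rw [hP, Subgroup.card_map_of_injective M.subtype_injective, Subgroup.card_map_of_injective K.subtype_injective,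
        S.card_eq_multiplicity, PK.card_eq_multiplicity, hidx',
        Nat.factorization_mul Nat.card_pos.ne' (show K.relIndex M ≠ 0 from fun h0 => hidx (h0 ▸ dvd_zero p)), Finsupp.add_apply,
        Nat.factorization_eq_zero_of_not_dvd hidx, add_zero]
    exact hpα.2 (prankLE_of_sylow S (heq ▸ h))
  set C := M ⊓ Subgroup.centralizer (X : Set G) with hC
  have hCtop : C ≠ ⊤ := fun h => hM.1 (top_unique (h.ge.trans inf_le_left))
  have hEC : E ≤ C := le_inf (hE.trans (inf_le_left.trans hKM)) (hE.trans inf_le_right)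
  by_cases hrC : Cfsg.PRankLE p 2 ↥(P ⊓ Subgroup.centralizer (E : Set G))
  swap
  · obtain ⟨D, hD, hDe, hD3⟩ := exists_elementary hrC
    exact uniq_mono (uniq_of_centralizes hG (elementary_uniq hG hDe hD3)
      (Subgroup.le_centralizer_iff.1 (hD.trans inf_le_right))
      (not_rankLE_one_of_elementary hEe hE2 le_rfl)) hEC hCtop
  haveI := hEe.1
  have hX : X ≤ Subgroup.centralizer (P : Set G) := by
    refine Cfsg.Agent.S1443.result p (two_ne_of_elementary hG hEe
      ((Nat.one_lt_pow (by norm_num) hp.one_lt).trans_le hE2)) P E X hPp hEP hEe hXP ?_ ?_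
    · rw [Nat.coprime_comm, hp.coprime_iff_not_dvd]
      exact fun hd => hXα p hp hd hpα
    · intro x hx hxo
      have hxE : x ∈ E := by
        by_contra hne
        set E' := Subgroup.closure ((E : Set G) ∪ {x}) with hE'
        have hc : IsMulCommutative E' := Subgroup.isMulCommutative_closure (by
          rintro u (hu | rfl) v (hv | rfl)
          · exact congrArg Subtype.val (mul_comm' (⟨u, hu⟩ : E) ⟨v, hv⟩)
          · exact hx.2 u hu
          · exact (hx.2 v hv).symm
          · rfl)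
        have hle : E' ≤ P ⊓ Subgroup.centralizer (E : Set G) := (Subgroup.closure_le _).2 (by
          rintro u (hu | rfl)
          · exact ⟨hEP hu, Subgroup.le_centralizer E hu⟩
          · exact hx)
        have he : Cfsg.IsElementaryAbelian p E' := ⟨hc, fun u hu => by
          induction hu using Subgroup.closure_induction with
          | mem v hv =>
            rcases hv with hv | rfl
            · exact hEe.2 v hv
            · rw [← hxo]; exact pow_orderOf_eq_one _
          | one => exact one_pow p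
          | mul v w hv hw iv iw =>
            haveI := hc
            have hvw : Commute v w := congrArg Subtype.val (mul_comm' (⟨v, hv⟩ : E') ⟨w, hw⟩)
            rw [hvw.mul_pow, iv, iw, one_mul]
          | inv v _ iv => rw [inv_pow, iv, inv_one]⟩
        haveI := hc
        have h1 := (prankLE_mono hle hrC) ⊤ ⟨⟨fun a b => Subtype.ext (mul_comm' (a : E') b)⟩⟩
          fun a _ => Subtype.ext (he.2 _ (a : E').2)
        rw [Subgroup.card_top] at h1
        have h2 := Subgroup.eq_of_le_of_card_ge (fun u hu => Subgroup.subset_closure (Or.inl hu) : E ≤ E')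
          (h1.trans hE2)
        exact hne (h2.ge (Subgroup.subset_closure (Or.inr rfl)))
      exact fun a ha => Subgroup.mem_centralizer_singleton_iff.2 ((hE hxE).2 a ha)
  obtain ⟨D, hD, hDe, hD3⟩ := exists_elementary hP3
  exact uniq_mono (elementary_uniq hG hDe hD3)
    (hD.trans (le_inf hPM (Subgroup.le_centralizer_iff.1 hX))) hCtop

theorem isZGroup_of_rankLE_one (hG : Cfsg.IsMinSimpleOddOrder G) {H : Subgroup G} (h : Cfsg.RankLE 1 H) :
    IsZGroup H := by
  refine ⟨fun q hq P => ?_⟩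
  haveI := Fact.mk hq
  set Q := (P : Subgroup H).map H.subtype with hQ
  by_contra hnc
  refine exists_noncyclic_elementary hG (P.2.map H.subtype) (fun hc => hnc ?_) fun r hr => ?_
  · haveI := hc
    exact isCyclic_of_surjective ((P : Subgroup H).equivMapOfInjective H.subtype H.subtype_injective).symm
      (MulEquiv.surjective _)
  · exact prankLE_mono (Subgroup.map_subtype_le _) (h r hr)

/-- For `p ∉ σ(M)` some element normalizing a Sylow subgroup lies outside `M`. -/
theorem exists_normalizer_not_mem {p : ℕ} [Fact p.Prime] (hpM : p ∣ Nat.card M) (hp : p ∉ Cfsg.sigma M)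
    (P : Sylow p M) :
    ∃ n ∈ Subgroup.normalizer (((P : Subgroup M).map M.subtype : Subgroup G) : Set G), n ∉ M := by
  by_contra h
  push Not at h
  exact hp ⟨Fact.out, hpM, P, h⟩

theorem mem_of_uniq_conj {n : G} (hM : IsCoatom M) {X : Subgroup G} (hX : Cfsg.InUniqueMaximal X)
    (hXM : X ≤ M) (hXn : MulAut.conj n • X ≤ M) (hN : ∀ {g : G}, MulAut.conj g • M = M → g ∈ M) : n ∈ M := by
  have hc : IsCoatom (MulAut.conj n⁻¹ • M) :=
    ((MulAut.conj n⁻¹).mapSubgroup).isCoatom_iff _ |>.2 hM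
  have h1 : MulAut.conj n⁻¹ • M = M := uniq_eq hX hc (fun x hx => by
    rw [mem_conj_smul_iff, inv_inv]
    exact hXn (conj_mem_conj_smul hx)) hM hXM
  exact M.inv_mem_iff.1 (hN h1)

theorem mem_of_conj_eq (hG : Cfsg.IsMinSimpleOddOrder G) (hM : IsCoatom M) (hM1 : M ≠ ⊥) {g : G}
    (hg : MulAut.conj g • M = M) : g ∈ M :=
  (normalizer_eq_of_isCoatom hG hM le_rfl hM1 Subgroup.le_normalizer).le (mem_normalizer_iff_conj_smul.2 hg)

theorem ne_bot_of_dvd {p : ℕ} (hp : p.Prime) (h : p ∣ Nat.card M) : M ≠ ⊥ := fun hb => by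
  rw [hb, Subgroup.card_bot] at h
  exact hp.not_dvd_one h

/-- BG 10.5. -/
theorem elementary_maximal_of_not_sigma (hG : Cfsg.IsMinSimpleOddOrder G) (hM : IsCoatom M) {p : ℕ}
    [Fact p.Prime] (hp : p ∉ Cfsg.sigma M) {A : Subgroup G} (hAM : A ≤ M)
    (hAe : Cfsg.IsElementaryAbelian p A) (hA2 : Nat.card A = p ^ 2) :
    ∀ B : Subgroup G, Cfsg.IsElementaryAbelian p B → A ≤ B → B = A := by
  classical
  intro B hBe hAB
  by_contra hne
  have hpp : p.Prime := Fact.out
  have hBp := isPGroup_of_elementary hBe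
  have hB3 : p ^ 3 ≤ Nat.card B := by
    obtain ⟨m, hm⟩ := IsPGroup.iff_card.1 hBp
    by_contra hlt
    refine hne (Subgroup.eq_of_le_of_card_ge hAB ?_).symm
    rw [hm] at hlt ⊢
    rw [hA2]
    have := (Nat.pow_lt_pow_iff_right hpp.one_lt).1 (not_le.1 hlt)
    exact Nat.pow_le_pow_right hpp.pos (by omega)
  haveI := hBe.1
  have hAU : Cfsg.InUniqueMaximal A := uniq_of_centralizes hG (elementary_uniq hG hBe hB3)
    (fun a ha b hb => congrArg Subtype.val (mul_comm' (⟨b, hb⟩ : B) ⟨a, hAB ha⟩))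
    (not_rankLE_one_of_elementary hAe hA2.ge le_rfl)
  have hpM : p ∣ Nat.card M :=
    (hA2 ▸ dvd_pow_self p two_ne_zero).trans (Subgroup.card_dvd_of_le hAM)
  obtain ⟨P, hP⟩ := ((isPGroup_of_elementary hAe).comap_of_injective M.subtype M.subtype_injective :
    IsPGroup p (A.subgroupOf M)).exists_le_sylow
  have hAP : A ≤ (P : Subgroup M).map M.subtype :=
    (Subgroup.map_subgroupOf_eq_of_le hAM).ge.trans (Subgroup.map_mono hP)
  obtain ⟨n, hn, hnM⟩ := exists_normalizer_not_mem hpM hp P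
  refine hnM (mem_of_uniq_conj hM hAU hAM ?_ fun hg => mem_of_conj_eq hG hM (ne_bot_of_dvd hpp hpM) hg)
  exact (Subgroup.map_mono hAP).trans
    ((conj_smul_eq_self_of_mem_normalizer hn).le.trans (Subgroup.map_subtype_le _))

theorem not_ideal_of_not_sigma (hG : Cfsg.IsMinSimpleOddOrder G) (hM : IsCoatom M) {p : ℕ}
    [Fact p.Prime] (hp : p ∉ Cfsg.sigma M) (hr1 : ¬ Cfsg.PRankLE p 1 ↥M) : ¬ Cfsg.IsIdealPrime p G := by
  classical
  have hpp : p.Prime := Fact.out
  obtain ⟨A', hA'M, hA'e, hA'2⟩ := exists_elementary hr1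
  haveI := hA'e.1
  obtain ⟨m, hm⟩ := IsPGroup.iff_card.1 (isPGroup_of_elementary hA'e)
  rw [hm] at hA'2
  obtain ⟨A₀, hA₀⟩ := Sylow.exists_subgroup_card_pow_prime (G := A') p (n := 2)
    (hm ▸ pow_dvd_pow p ((Nat.pow_le_pow_iff_right hpp.one_lt).1 hA'2))
  set A := A₀.map A'.subtype with hA
  have hAe : Cfsg.IsElementaryAbelian p A := ⟨Subgroup.map_isMulCommutative A₀ _,
    fun a ha => hA'e.2 a (Subgroup.map_subtype_le _ ha)⟩
  have hA2 : Nat.card A = p ^ 2 := by rw [hA, Subgroup.card_map_of_injective A'.subtype_injective, hA₀]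
  intro h
  obtain ⟨S, hS⟩ := (isPGroup_of_elementary hAe).exists_le_sylow
  obtain ⟨B, -, hBe, hlt⟩ := h.2.2 S A hS hAe hA2
  exact hlt.ne (elementary_maximal_of_not_sigma hG hM hp ((Subgroup.map_subtype_le _).trans hA'M)
    hAe hA2 B hBe hlt.le).symm

end CfsgLib.OddLocal
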