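import Cfsg.Agent.Lib.OddLocal.LineHelpers
import Cfsg.Agent.Lib.OddLocal.SigmaHall
import Cfsg.Agent.Lib.OddLocal.NonSigma
import Cfsg.Agent.Lib.BG.PiHall
import Cfsg.Agent.Lib.BG.Basic

/-!
Complements of `M_σ` in `M`.
-/

set_option autoImplicit false
set_option linter.style.haveILetI false
set_option linter.unusedSectionVars false

open scoped commutatorElement
open scoped Pointwise

namespace CfsgLib.OddLocal

universe u

variable {G : Type u} [Group G] [Finite G] {M E : Subgroup G} {q : ℕ}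

theorem le_of_compl (hE : Cfsg.IsComplIn E (Cfsg.sigmaCore M) M) : E ≤ M := hE.1

theorem inf_sigmaCore_of_compl (hE : Cfsg.IsComplIn E (Cfsg.sigmaCore M) M) : E ⊓ Cfsg.sigmaCore M = ⊥ := hE.2.2.1

/-- The projection `E → M / M_σ`. -/
noncomputable def complProj (hE : Cfsg.IsComplIn E (Cfsg.sigmaCore M) M) :
    E →* M ⧸ Cfsg.piCore (Cfsg.sigma M) ↥M :=
  (QuotientGroup.mk' (Cfsg.piCore (Cfsg.sigma M) ↥M)).comp (Subgroup.inclusion hE.1)

theorem complProj_bijective (hE : Cfsg.IsComplIn E (Cfsg.sigmaCore M) M) : Function.Bijective (complProj hE) := by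
  refine ⟨(MonoidHom.ker_eq_bot_iff _).1 ((Subgroup.eq_bot_iff_forall _).2 fun e he => ?_), fun w => ?_⟩
  · rw [MonoidHom.mem_ker, complProj, MonoidHom.comp_apply, QuotientGroup.mk'_apply, QuotientGroup.eq_one_iff] at he
    have h1 : (e : G) ∈ E ⊓ Cfsg.sigmaCore M := ⟨e.2, ⟨_, he, rfl⟩⟩
    rw [hE.2.2.1, Subgroup.mem_bot] at h1
    exact Subtype.ext h1
  · obtain ⟨m, rfl⟩ := QuotientGroup.mk'_surjective _ w
    obtain ⟨a, ha, b, hb, he⟩ := hE.2.2.2 m m.2
    refine ⟨⟨a, ha⟩, ?_⟩
    obtain ⟨b', hb', hbe⟩ := hb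
    show QuotientGroup.mk' _ (Subgroup.inclusion hE.1 ⟨a, ha⟩) = QuotientGroup.mk' _ m
    rw [QuotientGroup.mk'_apply, QuotientGroup.mk'_apply, QuotientGroup.eq]
    have h2 : (Subgroup.inclusion hE.1 ⟨a, ha⟩)⁻¹ * m = b' := Subtype.ext (by
      show a⁻¹ * (m : G) = b'
      rw [he, inv_mul_cancel_left]
      exact hbe.symm)
    exact h2 ▸ hb'

theorem card_eq_of_compl (hE : Cfsg.IsComplIn E (Cfsg.sigmaCore M) M) :
    Nat.card M = Nat.card E * Nat.card (Cfsg.sigmaCore M) := by
  rw [Nat.card_congr (Equiv.ofBijective _ (complProj_bijective hE)), Cfsg.sigmaCore, Subgroup.card_subtype]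
  exact Subgroup.card_eq_card_quotient_mul_card_subgroup _

theorem card_compl (hE : Cfsg.IsComplIn E (Cfsg.sigmaCore M) M) :
    Nat.card E = (Cfsg.piCore (Cfsg.sigma M) ↥M).index := by
  rw [Nat.card_congr (Equiv.ofBijective _ (complProj_bijective hE)), Subgroup.index_eq_card]

variable (hG : Cfsg.IsMinSimpleOddOrder G) (hM : IsCoatom M) (hE : Cfsg.IsComplIn E (Cfsg.sigmaCore M) M)

include hG hM hE

theorem not_sigma_of_dvd_compl (hq : q.Prime) (hd : q ∣ Nat.card E) : q ∉ Cfsg.sigma M := fun h =>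
  not_dvd_index_sigma hG hM hq h (card_compl hE ▸ hd)

omit hG hM in
theorem factorization_compl (hq : q.Prime) (hqσ : q ∉ Cfsg.sigma M) :
    (Nat.card M).factorization q = (Nat.card E).factorization q := by
  rw [card_eq_of_compl hE, Nat.factorization_mul Nat.card_pos.ne' Nat.card_pos.ne', Finsupp.add_apply,
    Nat.factorization_eq_zero_of_not_dvd (n := Nat.card (Cfsg.sigmaCore M)) fun hd => hqσ ?_, add_zero]
  exact isPi_piCoreOf _ M q hq hd

omit hG hM in
theorem dvd_compl (hq : q.Prime) (hqσ : q ∉ Cfsg.sigma M) (hd : q ∣ Nat.card M) : q ∣ Nat.card E := by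
  rw [card_eq_of_compl hE] at hd
  exact (hq.dvd_mul.1 hd).resolve_right fun h => hqσ (isPi_piCoreOf _ M q hq h)

theorem compl_isPiHall :
    Cfsg.IsPiHall {r | r.Prime ∧ r ∉ Cfsg.sigma M} (E.subgroupOf M) := by
  have hc : Nat.card (E.subgroupOf M) = Nat.card E := Nat.card_congr (Subgroup.subgroupOfEquivOfLe hE.1).toEquiv
  refine ⟨fun r hr hd => ⟨hr, not_sigma_of_dvd_compl hG hM hE hr (hc ▸ hd)⟩, fun r hr hrσ hd => ?_⟩
  have h1 := (E.subgroupOf M).card_mul_index
  rw [hc, card_eq_of_compl hE] at h1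
  rw [Nat.eq_of_mul_eq_mul_left Nat.card_pos h1] at hd
  exact hrσ.2 (isPi_piCoreOf _ M r hr hd)

/-- Every `σ'`-subgroup of `M` is conjugate into `E`. -/
theorem exists_conj_le_compl {K : Subgroup G} (hKM : K ≤ M)
    (hK : ∀ r : ℕ, r.Prime → r ∣ Nat.card K → r ∉ Cfsg.sigma M) : ∃ m ∈ M, MulAut.conj m • K ≤ E := by
  haveI := isSolvable_of_ne_top hG hM.1
  obtain ⟨g, hg⟩ := CfsgLib.BG.exists_conj_le_piHall (compl_isPiHall hG hM hE) (K := K.subgroupOf M)
    fun r hr hd => ⟨hr, hK r hr (by rwa [Nat.card_congr (Subgroup.subgroupOfEquivOfLe hKM).toEquiv] at hd)⟩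
  refine ⟨((g⁻¹ : M) : G), (g⁻¹).2, ?_⟩
  rintro _ ⟨k, hk, rfl⟩
  have h1 := hg (show (⟨k, hKM hk⟩ : M) ∈ K.subgroupOf M from hk)
  rw [CfsgLib.Coprime.mem_conj_smul_iff, Subgroup.mem_subgroupOf] at h1
  show (g⁻¹ : M).val * k * (g⁻¹ : M).val⁻¹ ∈ E
  simpa [mul_assoc] using h1

omit hG hM in
/-- A Sylow subgroup of `E` is a Sylow subgroup of `M`, for `q ∉ σ(M)`. -/
theorem exists_sylow_of_compl [Fact q.Prime] (hqσ : q ∉ Cfsg.sigma M) (P : Sylow q E) :
    ∃ P' : Sylow q M, (P' : Subgroup M).map M.subtype = (P : Subgroup E).map E.subtype := by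
  have hle : (P : Subgroup E).map E.subtype ≤ M := (Subgroup.map_subtype_le _).trans hE.1
  refine ⟨Sylow.ofCard (((P : Subgroup E).map E.subtype).subgroupOf M) ?_, Subgroup.map_subgroupOf_eq_of_le hle⟩
  rw [Nat.card_congr (Subgroup.subgroupOfEquivOfLe hle).toEquiv, Subgroup.card_subtype, P.card_eq_multiplicity,
    factorization_compl hE Fact.out hqσ]

omit hG hM in
theorem prankLE_compl {k : ℕ} (h : Cfsg.PRankLE q k ↥M) : Cfsg.PRankLE q k ↥E := prankLE_mono hE.1 h

/-- `(M / M_σ)'` is nilpotent, hence so is `E'`. -/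
theorem commutator_compl_nilpotent : Group.IsNilpotent ↥(commutator E) := by
  haveI := (derived_quotient_alpha hG hM).1
  set α := Cfsg.piCore (Cfsg.alpha M) ↥M
  set σ := Cfsg.piCore (Cfsg.sigma M) ↥M
  have hle : α ≤ σ := fun x hx => by
    have h1 := alphaCore_le_sigmaCore hG hM ⟨x, hx, rfl⟩
    obtain ⟨y, hy, hye⟩ := h1
    exact M.subtype_injective hye ▸ hy
  let f : M ⧸ α →* M ⧸ σ := QuotientGroup.map α σ (MonoidHom.id M) hle
  have hf : Function.Surjective f := fun w => by
    obtain ⟨m, rfl⟩ := QuotientGroup.mk'_surjective σ w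
    exact ⟨QuotientGroup.mk' α m, rfl⟩
  let g : commutator (M ⧸ α) →* commutator (M ⧸ σ) := (f.comp (commutator (M ⧸ α)).subtype).codRestrict _ fun k => by
    have h1 : (commutator (M ⧸ α)).map f ≤ commutator (M ⧸ σ) := by
      rw [commutator_def, commutator_def, Subgroup.map_commutator]
      exact Subgroup.commutator_mono le_top le_top
    exact h1 (Subgroup.mem_map_of_mem f k.2)
  have hg : Function.Surjective g := by
    rintro ⟨w, hw⟩
    have h1 : commutator (M ⧸ σ) = (commutator (M ⧸ α)).map f := by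
      rw [commutator_def, commutator_def, Subgroup.map_commutator, Subgroup.map_top_of_surjective _ hf]
    rw [h1] at hw
    obtain ⟨v, hv, rfl⟩ := hw
    exact ⟨⟨v, hv⟩, rfl⟩
  haveI : Group.IsNilpotent ↥(commutator (M ⧸ σ)) := Group.nilpotent_of_surjective g hg
  let e : commutator E →* commutator (M ⧸ σ) := ((complProj hE).comp (commutator E).subtype).codRestrict _ fun k => by
    have h1 : (commutator E).map (complProj hE) ≤ commutator (M ⧸ σ) := by
      rw [commutator_def, commutator_def, Subgroup.map_commutator]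
      exact Subgroup.commutator_mono le_top le_top
    exact h1 (Subgroup.mem_map_of_mem _ k.2)
  refine Subgroup.isNilpotent_of_ker_le_center e ?_
  rw [(MonoidHom.ker_eq_bot_iff e).2 fun a b hab =>
    Subtype.ext ((complProj_bijective hE).1 (congrArg Subtype.val hab))]
  exact bot_le

/-- For `q ∉ σ(M)`, `q ∣ |M'|` gives `q ∣ |E'|`. -/
theorem dvd_commutator_compl (hq : q.Prime) (hqσ : q ∉ Cfsg.sigma M) :
    q ∣ Nat.card ↥⁅M, M⁆ ↔ q ∣ Nat.card (commutator E) := by
  constructor
  · intro hd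
    set σ := Cfsg.piCore (Cfsg.sigma M) ↥M
    rw [← CfsgLib.BG.map_commutator_subtype, Subgroup.card_subtype] at hd
    set π := QuotientGroup.mk' σ
    have h1 : Nat.card (commutator M) ∣ Nat.card ↥((commutator M).map π) * Nat.card σ := by
      have h2 := (π.domRestrict (commutator M)).ker.card_mul_index
      rw [Subgroup.index_ker, MonoidHom.domRestrict_range] at h2
      rw [← h2, mul_comm]
      refine mul_dvd_mul_left _ (Subgroup.card_dvd_of_injective
        ((commutator M).subtype.comp (π.domRestrict (commutator M)).ker.subtype |>.codRestrict σ fun k => ?_) ?_)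
      · exact (QuotientGroup.eq_one_iff _).1 k.2
      · exact fun a b hab => Subtype.ext (Subtype.ext (congrArg (fun x : σ => (x : M)) hab))
    have h3 : (commutator M).map π = (commutator E).map (complProj hE) := by
      rw [commutator_def, commutator_def, Subgroup.map_commutator, Subgroup.map_commutator,
        Subgroup.map_top_of_surjective _ (QuotientGroup.mk'_surjective σ),
        Subgroup.map_top_of_surjective _ (complProj_bijective hE).2]
    rw [h3, Subgroup.card_map_of_injective (complProj_bijective hE).1] at h1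
    refine (hq.dvd_mul.1 (hd.trans h1)).resolve_right fun h => hqσ ?_
    exact Cfsg.Agent.S1886.piCore_isPi _ q hq h
  · intro hd
    refine hd.trans ?_
    rw [← Subgroup.card_subtype E (commutator E), CfsgLib.BG.map_commutator_subtype]
    exact Subgroup.card_dvd_of_le (Subgroup.commutator_mono hE.1 hE.1)

end CfsgLib.OddLocal

namespace CfsgLib.OddLocal

universe v

variable {H : Type v} [Group H] [Finite H]

/-- A Hall subgroup of a nilpotent group is normal. -/
theorem piHall_normal_of_isNilpotent {π : Set ℕ} (hH : Group.IsNilpotent H) {K : Subgroup H}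
    (hK : Cfsg.IsPiHall π K) : K.Normal := by
  set N := Cfsg.piCore π H
  haveI hNn : N.Normal := by haveI := Cfsg.Agent.S1886.piCore_char (X := H) π; infer_instance
  have hNK : N ≤ K := CfsgLib.BG.le_piHall_of_normal hK hNn (Cfsg.Agent.S1886.piCore_isPi π)
  have hdvd : Nat.card K ∣ Nat.card N := by
    refine (Nat.dvd_iff_prime_pow_dvd_dvd _ _).2 fun r k hr hk => ?_
    rcases Nat.eq_zero_or_pos k with rfl | hk0
    · simp
    haveI := Fact.mk hr
    obtain ⟨P⟩ : Nonempty (Sylow r H) := inferInstance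
    have hP : (P : Subgroup H) ≤ N := le_sSup ⟨CfsgLib.Splitting.sylow_normal_of_isNilpotent hH P, fun s hs hd => by
      obtain ⟨j, hj⟩ := P.2.exists_card_eq
      rw [hj] at hd
      exact (Nat.prime_dvd_prime_iff_eq hs hr).1 (hs.dvd_of_dvd_pow hd) ▸
        hK.1 r hr ((dvd_pow_self r hk0.ne').trans hk)⟩
    refine dvd_trans ?_ (Subgroup.card_dvd_of_le hP)
    rw [P.card_eq_multiplicity]
    exact Nat.pow_dvd_pow r ((hr.pow_dvd_iff_le_factorization Nat.card_pos.ne').1
      (hk.trans K.card_subgroup_dvd_card))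
  rw [← Subgroup.eq_of_le_of_card_ge hNK (Nat.le_of_dvd Nat.card_pos hdvd)]
  exact hNn

/-- A subgroup of order coprime to the index of a normal subgroup lies in it. -/
theorem le_of_coprime_index {N K : Subgroup H} [N.Normal] (h : (Nat.card K).Coprime N.index) : K ≤ N := by
  intro x hx
  rw [← QuotientGroup.eq_one_iff, ← orderOf_eq_one_iff]
  refine Nat.eq_one_of_dvd_coprimes h ?_ (Subgroup.index_eq_card N ▸ orderOf_dvd_natCard _)
  exact (orderOf_map_dvd (QuotientGroup.mk' N) x).trans (Subgroup.orderOf_dvd_natCard K hx)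

end CfsgLib.OddLocal

namespace CfsgLib.OddLocal

/-- The `r`-rank of a group of order prime to `r` is zero. -/
theorem prankLE_of_not_dvd {X : Type*} [Group X] [Finite X] {r k : ℕ} (hr : r.Prime) (h : ¬ r ∣ Nat.card X) :
    Cfsg.PRankLE r k X := by
  intro B hB hBe
  haveI := Fact.mk hr
  obtain ⟨m, hm⟩ := (IsPGroup.iff_card (p := r) (G := B)).1 fun x => ⟨1, Subtype.ext (by simpa using hBe x x.2)⟩
  rcases Nat.eq_zero_or_pos m with rfl | h0
  · rw [hm, pow_zero]; exact Nat.one_le_pow _ _ hr.pos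
  · exact absurd ((hm ▸ dvd_pow_self r h0.ne').trans (Subgroup.card_subgroup_dvd_card B)) h

end CfsgLib.OddLocal
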