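import Cfsg.Agent.Lib.OddLocal.TauOneCentralizer
import Cfsg.Agent.S1415

/-!
Complements, `τ₁`- and `τ₃`-subgroups: helpers for BG §13–§14.
-/

set_option autoImplicit false
set_option linter.style.haveILetI false
set_option linter.unusedSectionVars false

open scoped commutatorElement
open scoped Pointwise

namespace CfsgLib.OddLocal

open CfsgLib.Coprime
open CfsgLib.BG.FixedLine (conj_mem_of_le_normalizer mem_normalizer_of_conj)

universe u

variable {G : Type u} [Group G] [Finite G] {p q : ℕ} {M E : Subgroup G}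

theorem isComplIn_conj {π : Set ℕ} {N : Subgroup G} (hN : N = Cfsg.piCoreOf π M)
    (hE : Cfsg.IsComplIn E N M) {m : G} (hm : m ∈ M) : Cfsg.IsComplIn (MulAut.conj m • E) N M := by
  have hMN : M ≤ Subgroup.normalizer (N : Set G) := hN ▸ le_normalizer_piCoreOf π M
  have hNe : MulAut.conj m • N = N := conj_smul_eq_self_of_mem_normalizer (hMN hm)
  refine ⟨(Subgroup.map_mono hE.1).trans (smul_eq_self hm).le, hE.2.1, ?_, fun x hx => ?_⟩
  · rw [← hNe, ← Subgroup.smul_inf, hE.2.2.1, Subgroup.smul_bot]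
  obtain ⟨a, ha, b, hb, hab⟩ := hE.2.2.2 (m⁻¹ * x * m) (mul_mem (mul_mem (inv_mem hm) hx) hm)
  refine ⟨m * a * m⁻¹, ⟨a, ha, rfl⟩, m * b * m⁻¹, conj_mem_of_le_normalizer (hMN hm) b hb, ?_⟩
  calc x = m * (m⁻¹ * x * m) * m⁻¹ := by group
    _ = _ := by rw [hab]; group

/-- A `σ'`-subgroup lies in a complement. -/
theorem exists_compl_ge (hG : Cfsg.IsMinSimpleOddOrder G) (hM : IsCoatom M) {K : Subgroup G} (hKM : K ≤ M)
    (hK : ∀ r : ℕ, r.Prime → r ∣ Nat.card K → r ∉ Cfsg.sigma M) :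
    ∃ E : Subgroup G, Cfsg.IsComplIn E (Cfsg.sigmaCore M) M ∧ K ≤ E := by
  obtain ⟨E₀, hE₀⟩ := exists_compl hG hM
  obtain ⟨m, hm, hmE⟩ := exists_conj_le_compl hG hM hE₀ hKM hK
  refine ⟨MulAut.conj m⁻¹ • E₀, isComplIn_conj (π := Cfsg.sigma M) rfl hE₀ (inv_mem hm), fun x hx => ?_⟩
  rw [mem_conj_smul_iff, inv_inv]
  exact hmE ⟨x, hx, rfl⟩

theorem isPi_sup {π : Set ℕ} {A B : Subgroup G} (hBA : B ≤ Subgroup.normalizer (A : Set G))
    (hA : IsPi π A) (hB : IsPi π B) : IsPi π (A ⊔ B) := fun r hr hd => by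
  by_contra hn
  refine hr.coprime_iff_not_dvd.1 (CfsgLib.PPrimeAbelian.coprime_card_sup hBA ?_ ?_).symm hd
  · exact Nat.Coprime.symm (hr.coprime_iff_not_dvd.2 fun h => hn (hA r hr h))
  · exact Nat.Coprime.symm (hr.coprime_iff_not_dvd.2 fun h => hn (hB r hr h))

theorem isPi_zpowers {π : Set ℕ} {x : G} (h : ∀ r : ℕ, r.Prime → r ∣ orderOf x → r ∈ π) :
    IsPi π (Subgroup.zpowers x) := fun r hr hd => h r hr (by rwa [Nat.card_zpowers] at hd)

theorem isPiHallOf_map {π : Set ℕ} {X : Subgroup G} {H : Subgroup ↥X} (hH : Cfsg.IsPiHall π H) :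
    Cfsg.IsPiHallOf π (H.map X.subtype) X := by
  refine ⟨Subgroup.map_subtype_le _, fun r hr hd => hH.1 r hr (by rwa [Subgroup.card_subtype] at hd),
    fun r hr hπ hd => hH.2 r hr hπ ?_⟩
  rwa [Subgroup.relIndex, Subgroup.subgroupOf,
    Subgroup.comap_map_eq_self_of_injective X.subtype_injective] at hd

/-- Hall subgroups exist and dominate. -/
theorem exists_hallOf_ge {π : Set ℕ} {X K : Subgroup G} [Group.IsSolvable X] (hKX : K ≤ X) (hK : IsPi π K) :
    ∃ H : Subgroup G, Cfsg.IsPiHallOf π H X ∧ K ≤ H := by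
  obtain ⟨H₀, hH₀⟩ := CfsgLib.BG.exists_piHall (G := ↥X) π
  obtain ⟨g, hg⟩ := CfsgLib.BG.exists_conj_le_piHall hH₀ (K := K.subgroupOf X) fun r hr hd =>
    hK r hr (by rwa [Nat.card_congr (Subgroup.subgroupOfEquivOfLe hKX).toEquiv] at hd)
  refine ⟨(MulAut.conj g • H₀).map X.subtype, isPiHallOf_map ⟨fun r hr hd => hH₀.1 r hr (by
    rwa [card_conj_smul] at hd), fun r hr hπ hd => hH₀.2 r hr hπ ?_⟩, ?_⟩
  · have h1 := (MulAut.conj g • H₀).card_mul_index
    rw [card_conj_smul, ← H₀.card_mul_index] at h1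
    rwa [Nat.eq_of_mul_eq_mul_left Nat.card_pos h1] at hd
  · rw [← Subgroup.map_subgroupOf_eq_of_le hKX]
    exact Subgroup.map_mono hg

/-- `τ₁`-subgroups are cyclic. -/
theorem tau1_cyclic (hG : Cfsg.IsMinSimpleOddOrder G) (hM : IsCoatom M) {K : Subgroup G} (hKM : K ≤ M)
    (hK : IsPi (Cfsg.tau1 M) K) : IsCyclic K := by
  obtain ⟨E, hE, hKE⟩ := exists_compl_ge hG hM hKM fun r hr hd => (hK r hr hd).2.1
  haveI : Group.IsSolvable E := haveI := isSolvable_of_ne_top hG hM.1; isSolvable_of_le hE.1 inferInstance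
  obtain ⟨H, hH, hKH⟩ := exists_hallOf_ge hKE hK
  exact isCyclic_of_le hKH ((Cfsg.Agent.S1415.result hG M hM E hE).2.1 H hH)

/-- Two `τ₁`-elements commute after a conjugation. -/
theorem tau1_commute (hG : Cfsg.IsMinSimpleOddOrder G) (hM : IsCoatom M) {K : Subgroup G} (hKM : K ≤ M)
    {a b : G} (ha : a ∈ K) (hb : b ∈ K) (hat : ∀ r : ℕ, r.Prime → r ∣ orderOf a → r ∈ Cfsg.tau1 M)
    (hbt : ∀ r : ℕ, r.Prime → r ∣ orderOf b → r ∈ Cfsg.tau1 M) : ∃ k ∈ K, Commute (k * a * k⁻¹) b := by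
  haveI : Group.IsSolvable K := haveI := isSolvable_of_ne_top hG hM.1; isSolvable_of_le hKM inferInstance
  obtain ⟨H, hH, hbH⟩ := exists_hallOf_ge (π := Cfsg.tau1 M) (Subgroup.zpowers_le.2 hb) (isPi_zpowers hbt)
  obtain ⟨k, hk⟩ := CfsgLib.BG.exists_conj_le_piHall (G := ↥K) (π := Cfsg.tau1 M) (H := H.subgroupOf K)
    (K := (Subgroup.zpowers a).subgroupOf K) ⟨fun r hr hd => hH.2.1 r hr (by
      rwa [Nat.card_congr (Subgroup.subgroupOfEquivOfLe hH.1).toEquiv] at hd), hH.2.2⟩ fun r hr hd =>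
    hat r hr (by rwa [Nat.card_congr (Subgroup.subgroupOfEquivOfLe (Subgroup.zpowers_le.2 ha)).toEquiv,
      Nat.card_zpowers] at hd)
  have h1 : (⟨a, ha⟩ : K) ∈ MulAut.conj k • H.subgroupOf K := hk (Subgroup.mem_zpowers a)
  rw [mem_conj_smul_iff] at h1
  have h2 : (k : G)⁻¹ * a * (k : G) ∈ H := h1
  haveI : IsMulCommutative H :=
    haveI := tau1_cyclic hG hM (hH.1.trans hKM) hH.2.1
    IsCyclic.isMulCommutative
  refine ⟨(k : G)⁻¹, inv_mem k.2, ?_⟩
  rw [inv_inv]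
  exact congrArg Subtype.val (mul_comm' (⟨_, h2⟩ : H) ⟨b, hbH (Subgroup.mem_zpowers b)⟩)

/-- Lines at `τ₃` are normalized by the `σ'`-subgroups containing them. -/
theorem tau3_normalized (hG : Cfsg.IsMinSimpleOddOrder G) (hM : IsCoatom M) {K : Subgroup G} (hKM : K ≤ M)
    (hK : ∀ r : ℕ, r.Prime → r ∣ Nat.card K → r ∉ Cfsg.sigma M) {x : G} (hx : x ∈ K)
    (hxτ : orderOf x ∈ Cfsg.tau3 M) : K ≤ Subgroup.normalizer ((Subgroup.zpowers x : Subgroup G) : Set G) := by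
  obtain ⟨E, hE, hKE⟩ := exists_compl_ge hG hM hKM hK
  set r := orderOf x with hr
  have hrp : r.Prime := hxτ.1
  haveI := Fact.mk hrp
  set X := Subgroup.zpowers x with hX
  have hXc : Nat.card X = r := by rw [hX, Nat.card_zpowers]
  have hEr : Cfsg.PRankLE r 1 E := prankLE_compl hE hxτ.2.2.2
  have hd : r ∣ Nat.card ↥⁅E, E⁆ := by
    rw [← CfsgLib.BG.map_commutator_subtype, Subgroup.card_subtype]
    exact (dvd_commutator_compl hG hM hE hrp hxτ.2.1).1 hxτ.2.2.1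
  have hEn : E ≤ Subgroup.normalizer ((⁅E, E⁆ : Subgroup G) : Set G) :=
    le_normalizer_commutator Subgroup.le_normalizer Subgroup.le_normalizer
  have hXD : X ≤ ⁅E, E⁆ := le_of_normal_line hG hrp hEr (Subgroup.commutator_le_self E) hEn hd
    (Subgroup.zpowers_le.2 (hKE hx)) hXc
  haveI := (Cfsg.Agent.S1420.result hG M hM E hE).2.1
  refine fun k hk => mem_normalizer_of_conj fun y hy => ?_
  have hy' : k * y * k⁻¹ ∈ ⁅E, E⁆ := conj_mem_of_le_normalizer (hEn (hKE hk)) y (hXD hy)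
  have hYX : Subgroup.zpowers (k * y * k⁻¹) ≤ Subgroup.normalizer (X : Set G) :=
    Subgroup.zpowers_le.2 (Subgroup.centralizer_le_normalizer _ fun t ht =>
      congrArg Subtype.val (mul_comm' (⟨t, hXD ht⟩ : ↥⁅E, E⁆) ⟨_, hy'⟩))
  have hyr : (k * y * k⁻¹) ^ r = 1 := by
    rw [conj_pow, pow_eq_one_of_line hrp hXc hy, mul_one, mul_inv_cancel]
  have hc : IsCyclic ↥(Subgroup.zpowers (k * y * k⁻¹) ⊔ X) := cyclic_of_prankLE_one hG hrp hEr
    (IsPGroup.to_sup_of_normal_right' (isPGroup_zpowers (k := 1) (by rw [pow_one, hyr])) (isPGroup_line hrp hXc)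
      hYX)
    (sup_le (Subgroup.zpowers_le.2 ((Subgroup.commutator_le_self E) hy')) (Subgroup.zpowers_le.2 (hKE hx)))
  exact mem_line_of_cyclic hrp hc le_sup_right hXc (Subgroup.mem_sup_left (Subgroup.mem_zpowers _)) hyr

/-- `τ₃`-elements of a complement lie in its derived subgroup. -/
theorem tau3_le_derived (hG : Cfsg.IsMinSimpleOddOrder G) (hM : IsCoatom M)
    (hE : Cfsg.IsComplIn E (Cfsg.sigmaCore M) M) {Z : Subgroup G} (hZE : Z ≤ E) (hZ : IsPi (Cfsg.tau3 M) Z) :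
    Z ≤ ⁅E, E⁆ := by
  haveI : Group.IsSolvable E := haveI := isSolvable_of_ne_top hG hM.1; isSolvable_of_le hE.1 inferInstance
  obtain ⟨H, hH, hZH⟩ := exists_hallOf_ge hZE hZ
  exact hZH.trans ((Cfsg.Agent.S1415.result hG M hM E hE).2.2 H hH).2.1

/-- The normalizer in `M` of a subgroup of a complement. -/
theorem inf_normalizer_compl (hE : Cfsg.IsComplIn E (Cfsg.sigmaCore M) M) {X : Subgroup G} (hXE : X ≤ E) :
    M ⊓ Subgroup.normalizer (X : Set G) =
      (E ⊓ Subgroup.normalizer (X : Set G)) ⊔ (Cfsg.sigmaCore M ⊓ Subgroup.centralizer (X : Set G)) := by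
  refine le_antisymm (fun m hm => ?_) (sup_le (inf_le_inf_right _ hE.1)
    (inf_le_inf (piCoreOf_le _ M) (Subgroup.centralizer_le_normalizer _)))
  obtain ⟨hmM, hmN⟩ := hm
  obtain ⟨e, he, s, hs, rfl⟩ := hE.2.2.2 m hmM
  have hsC : s ∈ Subgroup.centralizer (X : Set G) := fun x hx => by
    have h1 : e * (s * x * s⁻¹) * e⁻¹ ∈ E := by
      rw [show e * (s * x * s⁻¹) * e⁻¹ = (e * s) * x * (e * s)⁻¹ by group]
      exact hXE (conj_mem_of_le_normalizer hmN x hx)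
    have h2 : s * x * s⁻¹ ∈ E := by
      rw [show s * x * s⁻¹ = e⁻¹ * (e * (s * x * s⁻¹) * e⁻¹) * e by group]
      exact E.mul_mem (E.mul_mem (E.inv_mem he) h1) he
    have h3 : s * x * s⁻¹ * x⁻¹ ∈ E ⊓ Cfsg.sigmaCore M :=
      ⟨E.mul_mem h2 (E.inv_mem (hXE hx)), by
        rw [show s * x * s⁻¹ * x⁻¹ = s * (x * s⁻¹ * x⁻¹) by group]
        exact (Cfsg.sigmaCore M).mul_mem hs
          (conj_mem_of_le_normalizer (le_normalizer_piCoreOf _ M (hE.1 (hXE hx))) _ (inv_mem hs))⟩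
    rw [hE.2.2.1, Subgroup.mem_bot] at h3
    exact (mul_inv_eq_iff_eq_mul.1 (mul_inv_eq_one.1 h3)).symm
  refine Subgroup.mul_mem_sup ⟨he, ?_⟩ ⟨hs, hsC⟩
  have h4 := (Subgroup.normalizer (X : Set G)).mul_mem hmN
    (inv_mem (Subgroup.centralizer_le_normalizer _ hsC))
  rwa [mul_inv_cancel_right] at h4

/-- A group with a fixed-point-free normalizing element of prime order is nilpotent. -/
theorem isNilpotent_of_fpf_elem (hp : p.Prime) {U : Subgroup G} {b : G} (hb : b ^ p = 1)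
    (hbU : b ∈ Subgroup.normalizer (U : Set G)) (hfix : U ⊓ Subgroup.centralizer ({b} : Set G) = ⊥) :
    Group.IsNilpotent U := by
  let φ : MulAut U := Subgroup.normalizerMonoidHom U ⟨b, hbU⟩
  have hφ : ∀ x : U, ((φ x : U) : G) = b * x * b⁻¹ := fun x => rfl
  have hfpf : MonoidHom.FixedPointFree (φ : U →* U) := by
    intro x hx
    have h1 : b * (x : G) * b⁻¹ = x := (hφ x).symm.trans (congrArg Subtype.val hx)
    have h2 : (x : G) ∈ U ⊓ Subgroup.centralizer ({b} : Set G) := ⟨x.2, fun y hy => by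
      rw [Set.mem_singleton_iff] at hy
      rw [hy]
      exact mul_inv_eq_iff_eq_mul.1 h1⟩
    rw [hfix, Subgroup.mem_bot] at h2
    exact Subtype.ext h2
  by_cases hne : φ = 1
  · haveI : Subsingleton U := ⟨fun x y => by
      rw [hfpf x (by rw [hne]; rfl), hfpf y (by rw [hne]; rfl)]⟩
    infer_instance
  have hpow : φ ^ p = 1 := by
    show (Subgroup.normalizerMonoidHom U ⟨b, hbU⟩) ^ p = 1
    rw [← map_pow, show (⟨b, hbU⟩ : Subgroup.normalizer (U : Set G)) ^ p = 1 from Subtype.ext hb, map_one]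
  haveI := Fact.mk hp
  exact Cfsg.Agent.S0033.result φ hfpf p hp (orderOf_eq_prime hpow hne)

end CfsgLib.OddLocal
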