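import Cfsg.Agent.Lib.OddLocal.PLength
import Cfsg.Agent.Lib.BG.NarrowOfElementary
import Cfsg.Agent.Lib.BG.NarrowSylow
import Cfsg.Agent.Lib.Transfer.Basic

/-!
BG 10.8: `β(M)`.
-/

set_option autoImplicit false
set_option linter.style.haveILetI false
set_option linter.unusedSectionVars false

open scoped commutatorElement
open scoped Pointwise

namespace CfsgLib.OddLocal

open CfsgLib.Coprime

universe u

theorem isNilpotent_of_forall_npc {K : Type u} [Group K] [Finite K]
    (h : ∀ q : ℕ, q.Prime → Cfsg.HasNormalPComplement q K) : Group.IsNilpotent K := by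
  refine ((Group.isNilpotent_of_finite_tfae (G := K)).out 3 0).1 fun q hq P => ?_
  haveI := hq
  -- every element outside `P` but in the intersection of the other complements is a `q`-element
  set J : Subgroup K := ⨅ r ∈ {r : ℕ | r.Prime ∧ r ≠ q}, Cfsg.pPrimeCore r K
  haveI hJn : J.Normal := by
    refine Subgroup.normal_iInf_normal fun r => Subgroup.normal_iInf_normal fun hr => ?_
    haveI := Fact.mk hr.1
    exact CfsgLib.Transfer.pPrimeCore_normal r K
  have hJp : IsPGroup q J := by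
    refine IsPGroup.iff_orderOf.mpr fun j => ?_
    refine ⟨(orderOf j).factorization q, ?_⟩
    refine Nat.eq_of_factorization_eq (orderOf_pos j).ne' (pow_ne_zero _ hq.out.ne_zero) fun r => ?_
    rw [hq.out.factorization_pow]
    by_cases hrq : r = q
    · subst hrq; simp
    rw [Finsupp.single_eq_of_ne hrq]
    by_contra hne
    have hr : r.Prime := Nat.prime_of_mem_primeFactors (Finsupp.mem_support_iff.2 hne)
    have hd : r ∣ orderOf (j : K) := by
      rw [Subgroup.orderOf_coe]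
      exact Nat.dvd_of_mem_primeFactors (Finsupp.mem_support_iff.2 hne)
    haveI := Fact.mk hr
    have hj : (j : K) ∈ Cfsg.pPrimeCore r K := by
      have h1 := j.2
      simp only [J, Subgroup.mem_iInf] at h1
      exact h1 r ⟨hr, hrq⟩
    have hco := CfsgLib.Transfer.coprime_orderOf_of_mem (CfsgLib.Transfer.pPrimeCore_coprime r) hj
    exact hr.coprime_iff_not_dvd.1 hco.symm hd
  have hPJ : (P : Subgroup K) ≤ J := by
    refine le_iInf fun r => le_iInf fun hr => ?_
    haveI := Fact.mk hr.1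
    intro x hx
    rw [CfsgLib.Transfer.pPrimeCore_eq_pResidual (h r hr.1)]
    refine CfsgLib.Transfer.mem_pResidual_of_coprime ?_
    obtain ⟨k, hk⟩ := IsPGroup.iff_orderOf.mp P.2 ⟨x, hx⟩
    rw [Subgroup.orderOf_mk] at hk
    rw [hk]
    exact ((Nat.coprime_primes hq.out hr.1).2 (Ne.symm hr.2)).pow_left k
  rw [show (P : Subgroup K) = J from (P.is_maximal' hJp hPJ).symm]
  exact hJn

variable {G : Type u} [Group G] [Finite G] {M : Subgroup G}

theorem beta_subset_sigma (hG : Cfsg.IsMinSimpleOddOrder G) (hM : IsCoatom M) : Cfsg.beta M ⊆ Cfsg.sigma M :=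
  fun q hq => by
    haveI := Fact.mk hq.1.1
    exact mem_sigma_of_mem_alpha hG hM hq.1

/-- BG 10.8 for a single prime outside `β(M)`. -/
theorem structure_of_not_beta (hG : Cfsg.IsMinSimpleOddOrder G) (hM : IsCoatom M) {p : ℕ} [Fact p.Prime]
    (hpM : p ∣ Nat.card M) (hp : p ∉ Cfsg.beta M) :
    Cfsg.HasNormalPComplement p ↥(commutator M) ∧
      ∀ q : ℕ, q.Prime → q ∣ (Cfsg.pPrimeCore p ↥M).index → q ≤ p := by
  classical
  haveI := isSolvable_of_ne_top hG hM.1
  have hodd : Odd (Nat.card M) := Odd.of_dvd_nat hG.1 M.card_subgroup_dvd_card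
  by_cases hα : p ∈ Cfsg.alpha M
  swap
  · have hr : Cfsg.PRankLE p 2 M := by
      by_contra hr
      exact hα ⟨Fact.out, hr⟩
    obtain ⟨h1, -, h3, -⟩ := Cfsg.Agent.S1450.result hodd p hpM hr
    exact ⟨h3, h1⟩
  have hp2 : p ≠ 2 := fun e => Nat.not_even_iff_odd.2 hodd (even_iff_two_dvd.2 (e ▸ hpM))
  have hni : ¬ Cfsg.IsIdealPrime p G := fun h => hp ⟨hα, h⟩
  have hrG : ¬ Cfsg.PRankLE p 2 G := fun h => hα.2 (CfsgLib.BG.prankLE_of_injective M.subtype M.subtype_injective h)
  rw [Cfsg.IsIdealPrime] at hni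
  push Not at hni
  obtain ⟨P, A, hAP, hAe, hA2, hAmax⟩ := hni Fact.out hrG
  have hnar : Cfsg.IsNarrow p ↥(P : Subgroup G) := by
    set E := A.subgroupOf (P : Subgroup G) with hE
    have hEe : Cfsg.IsElementaryAbelian p E := by
      haveI := hAe.1
      exact ⟨⟨⟨fun a b => Subtype.ext (Subtype.ext (show ((a : (P : Subgroup G)) : G) * ((b : (P : Subgroup G)) : G) =
        ((b : (P : Subgroup G)) : G) * ((a : (P : Subgroup G)) : G) from congrArg Subtype.val
          (mul_comm' (⟨_, a.2⟩ : A) ⟨_, b.2⟩)))⟩⟩, fun a ha => Subtype.ext (hAe.2 _ ha)⟩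
    refine CfsgLib.BG.isNarrow_of_centralizer_rank hp2 P.2 hEe fun B hBc hBe => ?_
    haveI := hBc
    haveI := hAe.1
    set B' := (B.map (Subgroup.centralizer (E : Set (P : Subgroup G))).subtype).map (P : Subgroup G).subtype with hB'
    have hB'P : B' ≤ (P : Subgroup G) := Subgroup.map_subtype_le _
    have hmem : ∀ b ∈ B', ∃ b' : Subgroup.centralizer (E : Set (P : Subgroup G)), b' ∈ B ∧ ((b' : (P : Subgroup G)) : G) = b := by
      rintro b ⟨c, ⟨d, hd, rfl⟩, rfl⟩; exact ⟨d, hd, rfl⟩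
    have hcomm : ∀ a ∈ A, ∀ b ∈ B', a * b = b * a := by
      intro a ha b hb
      obtain ⟨b', -, rfl⟩ := hmem b hb
      exact congrArg Subtype.val (b'.2 ⟨a, hAP ha⟩ ha)
    set C := Subgroup.closure ((A : Set G) ∪ (B' : Set G)) with hC
    haveI hCc : IsMulCommutative C := Subgroup.isMulCommutative_closure (by
      rintro u (hu | hu) v (hv | hv)
      · exact congrArg Subtype.val (mul_comm' (⟨u, hu⟩ : A) ⟨v, hv⟩)
      · exact hcomm u hu v hv
      · exact (hcomm v hv u hu).symm
      · obtain ⟨u', hu', rfl⟩ := hmem u hu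
        obtain ⟨v', hv', rfl⟩ := hmem v hv
        exact congrArg (fun w : Subgroup.centralizer (E : Set (P : Subgroup G)) => ((w : (P : Subgroup G)) : G))
          (congrArg Subtype.val (mul_comm' (⟨u', hu'⟩ : B) ⟨v', hv'⟩)))
    have hCe : Cfsg.IsElementaryAbelian p C := ⟨hCc, fun u hu => by
      induction hu using Subgroup.closure_induction with
      | mem v hv =>
        rcases hv with hv | hv
        · exact hAe.2 v hv
        · obtain ⟨v', hv', rfl⟩ := hmem v hv
          exact congrArg (fun w : Subgroup.centralizer (E : Set (P : Subgroup G)) => ((w : (P : Subgroup G)) : G))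
            (hBe v' hv')
      | one => exact one_pow _
      | mul x y hx hy h1 h2 =>
        have hc : Commute x y := congrArg Subtype.val (mul_comm' (⟨x, hx⟩ : C) ⟨y, hy⟩)
        rw [hc.mul_pow, h1, h2, one_mul]
      | inv x _ h1 => rw [inv_pow, h1, inv_one]⟩
    have hCP : C ≤ (P : Subgroup G) := (Subgroup.closure_le _).2 (Set.union_subset hAP hB'P)
    have hAC : A ≤ C := fun a ha => Subgroup.subset_closure (Or.inl ha)
    have hAeq : A = C := by
      by_contra hne
      exact hAmax C hCP hCe (lt_of_le_of_ne hAC hne)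
    have hle : Nat.card B' ≤ p ^ 2 := hA2 ▸ Nat.le_of_dvd Nat.card_pos
      (Subgroup.card_dvd_of_le (fun b hb => hAeq.ge (Subgroup.subset_closure (Or.inr hb))))
    rwa [hB', Subgroup.card_subtype, Subgroup.card_subtype] at hle
  obtain ⟨S⟩ : Nonempty (Sylow p M) := inferInstance
  obtain ⟨S', hS'⟩ := exists_sylow_map_eq (mem_sigma_of_mem_alpha hG hM hα) S
  have e : ↥(P : Subgroup G) ≃* ↥(S : Subgroup M) :=
    (P.equiv S').trans ((MulEquiv.subgroupCongr hS').trans
      ((S : Subgroup M).equivMapOfInjective M.subtype M.subtype_injective).symm)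
  obtain ⟨h1, -, h3, -⟩ := CfsgLib.BG.narrow_sylow_structure ‹_› hodd hpM S
    (CfsgLib.BG.isNarrow_congr e hnar) (fun _ => pLengthLE_one_of_ne_top hG p hM.1)
  exact ⟨h3, h1⟩

theorem npc_commutator (hG : Cfsg.IsMinSimpleOddOrder G) (hM : IsCoatom M) {p : ℕ} (hp' : p.Prime)
    (hp : p ∉ Cfsg.beta M) : Cfsg.HasNormalPComplement p ↥(commutator M) := by
  haveI := Fact.mk hp'
  by_cases hpM : p ∣ Nat.card M
  · exact (structure_of_not_beta hG hM hpM hp).1
  · refine CfsgLib.Transfer.hasNormalPComplement_iff_pResidual.2 fun hd => hpM (hd.trans ?_)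
    exact (Subgroup.card_subgroup_dvd_card _).trans (Subgroup.card_subgroup_dvd_card _)

theorem sylow_le_commutator (hG : Cfsg.IsMinSimpleOddOrder G) (hM : IsCoatom M) {q : ℕ} [Fact q.Prime]
    (hq : q ∈ Cfsg.sigma M) {Q : Subgroup M} (hQ : IsPGroup q Q) : Q ≤ commutator M := by
  intro x hx
  have h1 := le_derived_of_sigma hG hM hq (hQ.map M.subtype) (Subgroup.map_subtype_le _) (Subgroup.mem_map_of_mem _ hx)
  rw [show ⁅M, M⁆ = (commutator M).map M.subtype by
    rw [commutator_def, Subgroup.map_commutator, ← MonoidHom.range_eq_map, Subgroup.range_subtype]] at h1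
  exact (Subgroup.mem_map_iff_mem M.subtype_injective).1 h1

/-- `O_β(M)` is a Hall subgroup. -/
theorem not_dvd_index_beta (hG : Cfsg.IsMinSimpleOddOrder G) (hM : IsCoatom M) {q : ℕ} (hq : q.Prime)
    (hqβ : q ∈ Cfsg.beta M) : ¬ q ∣ (Cfsg.piCore (Cfsg.beta M) ↥M).index := by
  classical
  haveI := Fact.mk hq
  set D := commutator M
  set J : Subgroup M := D ⊓ ⨅ r ∈ {r : ℕ | r.Prime ∧ r ∉ Cfsg.beta M}, (Cfsg.pPrimeCore r D).map D.subtype with hJ
  haveI hJn : J.Normal := by
    haveI : (⨅ r ∈ {r : ℕ | r.Prime ∧ r ∉ Cfsg.beta M}, (Cfsg.pPrimeCore r D).map D.subtype).Normal :=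
      Subgroup.normal_iInf_normal fun r => Subgroup.normal_iInf_normal fun hr =>
        CfsgLib.PSolvable.normal_map_of_characteristic D _
    infer_instance
  have hJβ : J ≤ Cfsg.piCore (Cfsg.beta M) ↥M := by
    refine le_sSup ⟨hJn, fun r hr hd => ?_⟩
    by_contra hrβ
    haveI := Fact.mk hr
    have hle : J ≤ (Cfsg.pPrimeCore r D).map D.subtype := inf_le_right.trans (iInf_le_of_le r (iInf_le _ ⟨hr, hrβ⟩))
    have h2 := hd.trans (Subgroup.card_dvd_of_le hle)
    rw [Subgroup.card_subtype] at h2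
    exact hr.coprime_iff_not_dvd.1 (CfsgLib.Transfer.pPrimeCore_coprime r).symm h2
  obtain ⟨Q⟩ : Nonempty (Sylow q M) := inferInstance
  have hQD := sylow_le_commutator hG hM (beta_subset_sigma hG hM hqβ) Q.2
  have hQJ : (Q : Subgroup M) ≤ J := le_inf hQD (le_iInf fun r => le_iInf fun hr x hx => by
    haveI := Fact.mk hr.1
    refine ⟨⟨x, hQD hx⟩, ?_, rfl⟩
    rw [CfsgLib.Transfer.pPrimeCore_eq_pResidual (npc_commutator hG hM hr.1 hr.2)]
    refine CfsgLib.Transfer.mem_pResidual_of_coprime ?_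
    obtain ⟨k, hk⟩ := IsPGroup.iff_orderOf.mp Q.2 ⟨x, hx⟩
    rw [Subgroup.orderOf_mk] at hk
    rw [Subgroup.orderOf_mk, hk]
    exact ((Nat.coprime_primes hq hr.1).2 fun e => hr.2 (e ▸ hqβ)).pow_left k)
  exact fun hd => Q.not_dvd_index (hd.trans (Subgroup.index_dvd_of_le (hQJ.trans hJβ)))

/-- A normal subgroup between `O_β(M)` and `M'` has a nilpotent Hall `β'`-subgroup. -/
theorem exists_nilpotent_hall (hG : Cfsg.IsMinSimpleOddOrder G) (hM : IsCoatom M) {X : Subgroup M}
    (hβX : Cfsg.piCore (Cfsg.beta M) ↥M ≤ X) (hXD : X ≤ commutator M) :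
    ∃ H : Subgroup G, Cfsg.IsPiHallOf {q | q.Prime ∧ q ∉ Cfsg.beta M} H (X.map M.subtype) ∧ Group.IsNilpotent H := by
  classical
  set B := Cfsg.piCore (Cfsg.beta M) ↥M with hB
  have hBβ : ∀ r : ℕ, r.Prime → r ∣ Nat.card B → r ∈ Cfsg.beta M := Cfsg.Agent.S1886.piCore_isPi _
  set N := B.subgroupOf X with hN
  haveI : N.Normal := Subgroup.normal_subgroupOf
  have hNcard : Nat.card N = Nat.card B := Nat.card_congr (Subgroup.subgroupOfEquivOfLe hβX).toEquiv
  have hidx : ∀ r : ℕ, r.Prime → r ∣ N.index → r ∉ Cfsg.beta M := fun r hr hd hrβ =>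
    not_dvd_index_beta hG hM hr hrβ (hd.trans (Subgroup.relIndex_dvd_index_of_normal B X))
  have hcop : (Nat.card N).Coprime N.index := Nat.coprime_of_dvd fun r hr h1 h2 =>
    hidx r hr h2 (hBβ r hr (hNcard ▸ h1))
  obtain ⟨C, hC⟩ := Subgroup.exists_right_complement'_of_coprime hcop
  have hCidx : Nat.card C = N.index := (hC.symm.index_eq_card).symm
  have hCn : Group.IsNilpotent C := by
    refine isNilpotent_of_forall_npc fun q hq => ?_
    haveI := Fact.mk hq
    by_cases hqβ : q ∈ Cfsg.beta M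
    · refine CfsgLib.Transfer.hasNormalPComplement_iff_pResidual.2 fun hd => hidx q hq ?_ hqβ
      exact hCidx ▸ hd.trans (Subgroup.card_subgroup_dvd_card _)
    · exact CfsgLib.Transfer.hasNormalPComplement_of_injective
        ((Subgroup.inclusion hXD).comp C.subtype)
        ((Subgroup.inclusion_injective hXD).comp C.subtype_injective) (npc_commutator hG hM hq hqβ)
  set H := (C.map X.subtype).map M.subtype with hH
  have hHC : Nat.card H = Nat.card C := by rw [hH, Subgroup.card_subtype, Subgroup.card_subtype]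
  refine ⟨H, ⟨Subgroup.map_mono (Subgroup.map_subtype_le _), fun r hr hd => ⟨hr, hidx r hr (hCidx ▸ hHC ▸ hd)⟩, ?_⟩, ?_⟩
  · intro r hr hrβ hd
    refine hrβ.2 (hBβ r hr ?_)
    rw [hH, Subgroup.relIndex_map_map_of_injective _ _ M.subtype_injective, Subgroup.relIndex, Subgroup.subgroupOf,
      Subgroup.comap_map_eq_self_of_injective X.subtype_injective, hC.index_eq_card, hNcard] at hd
    exact hd
  · haveI := hCn
    exact Group.nilpotent_of_mulEquiv ((C.equivMapOfInjective X.subtype X.subtype_injective).trans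
      ((C.map X.subtype).equivMapOfInjective M.subtype M.subtype_injective))

end CfsgLib.OddLocal

namespace CfsgLib.OddLocal

universe u

variable {G : Type u} [Group G] [Finite G] {M : Subgroup G}

theorem sigma_piCore_le_commutator (hG : Cfsg.IsMinSimpleOddOrder G) (hM : IsCoatom M) :
    Cfsg.piCore (Cfsg.sigma M) ↥M ≤ commutator M := by
  set X := Cfsg.piCore (Cfsg.sigma M) ↥M
  have h : (⊤ : Subgroup X) ≤ (commutator M).subgroupOf X := by
    refine le_of_eq (Subgroup.eq_top_of_card_eq _ ?_).symm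
    refine Nat.dvd_antisymm (Subgroup.card_subgroup_dvd_card _)
      (Nat.dvd_iff_prime_pow_dvd_dvd _ _ |>.2 fun r k hr hd => ?_)
    haveI := Fact.mk hr
    rcases Nat.eq_zero_or_pos k with rfl | hk
    · simp
    have hrX : r ∣ Nat.card X := (dvd_pow_self r hk.ne').trans hd
    obtain ⟨S⟩ : Nonempty (Sylow r X) := inferInstance
    refine (S.pow_dvd_card_of_pow_dvd_card hd).trans (Subgroup.card_dvd_of_le fun s hs => ?_)
    exact sylow_le_commutator hG hM (Cfsg.Agent.S1886.piCore_isPi _ r hr hrX) (S.2.map X.subtype) ⟨s, hs, rfl⟩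
  exact fun x hx => h (Subgroup.mem_top ⟨x, hx⟩)

/-- BG 10.8. -/
theorem beta_structure (hG : Cfsg.IsMinSimpleOddOrder G) (hM : IsCoatom M) :
    Cfsg.IsPiHallOf (Cfsg.beta M) (Cfsg.piCoreOf (Cfsg.beta M) M) M ∧
      Cfsg.IsPiHall (Cfsg.beta M) (Cfsg.piCoreOf (Cfsg.beta M) M) ∧
      (∃ H : Subgroup G, Cfsg.IsPiHallOf {q | q.Prime ∧ q ∉ Cfsg.beta M} H ⁅M, M⁆ ∧ Group.IsNilpotent H) ∧
      (∃ H : Subgroup G, Cfsg.IsPiHallOf {q | q.Prime ∧ q ∉ Cfsg.beta M} H (Cfsg.sigmaCore M) ∧ Group.IsNilpotent H) ∧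
      ∀ p : ℕ, p.Prime → p ∣ Nat.card M → p ∉ Cfsg.beta M →
        Cfsg.HasNormalPComplement p ↥⁅M, M⁆ ∧ Cfsg.HasNormalPComplement p ↥(Cfsg.sigmaCore M) ∧
        ∀ q : ℕ, q.Prime → q ∣ (Cfsg.pPrimeCore p ↥M).index → q ≤ p := by
  have hb := fun q (hq : q.Prime) hqb => not_dvd_index_beta hG hM (q := q) hq hqb
  have hσD := sigma_piCore_le_commutator hG hM
  have hβσ : Cfsg.piCore (Cfsg.beta M) ↥M ≤ Cfsg.piCore (Cfsg.sigma M) ↥M := sSup_le fun N hN =>
    le_sSup ⟨hN.1, fun r hr hd => beta_subset_sigma hG hM (hN.2 r hr hd)⟩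
  have hMd : ⁅M, M⁆ = (commutator M).map M.subtype := by
    rw [commutator_def, Subgroup.map_commutator, ← MonoidHom.range_eq_map, Subgroup.range_subtype]
  refine ⟨isPiHallOf_core hb, isPiHall_core (beta_subset_sigma hG hM) hb, ?_,
    exists_nilpotent_hall hG hM hβσ hσD, fun p hp hpM hpb => ?_⟩
  · rw [hMd]; exact exists_nilpotent_hall hG hM (hβσ.trans hσD) le_rfl
  haveI := Fact.mk hp
  obtain ⟨h1, h2⟩ := structure_of_not_beta hG hM hpM hpb
  refine ⟨?_, ?_, h2⟩
  · rw [hMd]
    exact CfsgLib.Transfer.hasNormalPComplement_of_injective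
      ((commutator M).equivMapOfInjective M.subtype M.subtype_injective).symm.toMonoidHom
      (MulEquiv.injective _) h1
  · exact CfsgLib.Transfer.hasNormalPComplement_of_injective
      ((Subgroup.inclusion hσD).comp
        ((Cfsg.piCore (Cfsg.sigma M) ↥M).equivMapOfInjective M.subtype M.subtype_injective).symm.toMonoidHom)
      ((Subgroup.inclusion_injective hσD).comp (MulEquiv.injective _)) h1

end CfsgLib.OddLocal
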