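import Mathlib

/-!
Operators on an abelian group: two commuting fixed-point-free operators of prime order, and invariant
cyclic lifts of invariant lines.
-/

set_option autoImplicit false
set_option linter.unusedSectionVars false

namespace CfsgLib.OddLocal.CyclicLift

variable {V : Type*} [CommGroup V]

theorem prod_pow_eq_one {γ : MulAut V} {q : ℕ} (hγ : γ ^ q = 1) (hfix : ∀ v : V, γ v = v → v = 1) (v : V) :
    ∏ i ∈ Finset.range q, (γ ^ i) v = 1 := by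
  refine hfix _ ?_
  have e : ∀ i : ℕ, γ ((γ ^ i) v) = (γ ^ (i + 1)) v := fun i => by rw [pow_succ']; rfl
  rw [map_prod, Finset.prod_congr rfl fun i _ => e i]
  have h1 := Finset.prod_range_succ' (fun i => (γ ^ i) v) q
  rw [Finset.prod_range_succ (fun i => (γ ^ i) v) q, hγ, pow_zero] at h1
  exact (mul_right_cancel h1).symm

/-- No elementary group of order `q ^ 2` acts fixed point freely on an abelian `q'`-group. -/
theorem eq_one_of_two_fpf {q : ℕ} (hq : q.Prime) {β ω : MulAut V} (hβ : β ^ q = 1) (hω : ω ^ q = 1)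
    (hcomm : Commute β ω) (hfβ : ∀ v : V, β v = v → v = 1)
    (hfix : ∀ (i : ℕ) (v : V), (β ^ i * ω) v = v → v = 1) {v : V} (hv : v ^ q = 1 → v = 1) : v = 1 := by
  refine hv ?_
  have hγ : ∀ i : ℕ, (β ^ i * ω) ^ q = 1 := fun i => by
    rw [(hcomm.pow_left i).mul_pow, ← pow_mul, mul_comm, pow_mul, hβ, one_pow, hω, one_mul]
  have h1 : ∏ i ∈ Finset.range q, ∏ l ∈ Finset.range q, ((β ^ i * ω) ^ l) v = 1 :=
    Finset.prod_eq_one fun i _ => prod_pow_eq_one (hγ i) (hfix i) v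
  rw [Finset.prod_comm, Finset.prod_eq_single_of_mem 0 (Finset.mem_range.2 hq.pos)] at h1
  · simpa using h1
  intro l hl hl0
  have hlq : ¬ q ∣ l := fun hd => absurd (Nat.le_of_dvd (Nat.pos_of_ne_zero hl0) hd)
    (not_le.2 (Finset.mem_range.1 hl))
  have e : ∀ i : ℕ, ((β ^ i * ω) ^ l) v = (ω ^ l) (((β ^ l) ^ i) v) := fun i => by
    rw [(hcomm.pow_left i).mul_pow, ((hcomm.pow_left i).pow_pow l l).eq, ← pow_mul, mul_comm i l, pow_mul]
    rfl
  rw [Finset.prod_congr rfl fun i _ => e i, ← map_prod, prod_pow_eq_one (by rw [← pow_mul, mul_comm, pow_mul,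
    hβ, one_pow]) ?_ v, map_one]
  intro u hu
  refine hfβ u ?_
  obtain ⟨m, hm⟩ := exists_pow_eq_self_of_coprime (x := β) (n := l)
    ((Nat.Coprime.coprime_dvd_right (orderOf_dvd_of_pow_eq_one hβ) (hq.coprime_iff_not_dvd.2 hlq).symm))
  rw [← hm]
  induction m with
  | zero => rfl
  | succ m ih =>
    clear hm ih
    induction m with
    | zero => simpa using hu
    | succ m ih => rw [pow_succ, MulAut.mul_apply, hu]; exact ih

theorem pow_prime_pow_modEq {p : ℕ} {x y : ℕ} (h : x ≡ y [MOD p]) (e : ℕ) :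
    x ^ p ^ e ≡ y ^ p ^ e [MOD p ^ (e + 1)] := by
  rw [Nat.modEq_iff_dvd] at h ⊢
  have := dvd_sub_pow_of_dvd_sub h e
  push_cast
  exact this

theorem pow_eq_pow_of_modEq' {v : V} {n x y : ℕ} (hv : v ^ n = 1) (h : x ≡ y [MOD n]) : v ^ x = v ^ y :=
  pow_eq_pow_iff_modEq.2 (h.of_dvd (orderOf_dvd_of_pow_eq_one hv))

/-- An invariant line of `℧` lifts to an invariant cyclic subgroup. -/
theorem exists_invariant_lift {p : ℕ} [hp : Fact p.Prime] (D : Subgroup (MulAut V)) [Finite D]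
    (hD : ¬ p ∣ Nat.card D) (e : ℕ) (hexp : ∀ v : V, v ^ p ^ (e + 1) = 1) {l y : V} (hl1 : l ≠ 1)
    (hlp : l ^ p = 1) (hl : ∀ γ ∈ D, γ l ∈ Subgroup.zpowers l) (hy : y ^ p ^ e = l) :
    ∃ z : V, z ^ p ^ e ∈ Subgroup.zpowers l ∧ z ^ p ^ e ≠ 1 ∧ ∀ γ ∈ D, γ z ∈ Subgroup.zpowers z := by
  classical
  haveI := Fintype.ofFinite D
  have hlo : orderOf l = p := orderOf_eq_prime hlp hl1
  have hex : ∀ γ : D, ∃ a : ℕ, l ^ a = (γ : MulAut V) l := fun γ => by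
    obtain ⟨i, hi⟩ := Subgroup.mem_zpowers_iff.1 (hl γ γ.2)
    refine ⟨(i % (p : ℤ)).toNat, ?_⟩
    rw [← zpow_natCast, Int.toNat_of_nonneg (Int.emod_nonneg _ (by exact_mod_cast hp.out.ne_zero)),
      ← hlo, zpow_mod_orderOf, hi]
  choose a ha using hex
  have hamul : ∀ γ δ : D, a (γ * δ) ≡ a γ * a δ [MOD p] := fun γ δ => by
    rw [← hlo, ← pow_eq_pow_iff_modEq, ha, pow_mul, ha, Subgroup.coe_mul, MulAut.mul_apply, ← ha δ, map_pow]
  have ha1 : a 1 ≡ 1 [MOD p] := by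
    rw [← hlo, ← pow_eq_pow_iff_modEq, ha, pow_one]; rfl
  let c : D → ℕ := fun γ => a γ ^ p ^ e
  have hc : ∀ γ δ : D, c (γ * δ) ≡ c γ * c δ [MOD p ^ (e + 1)] := fun γ δ => by
    show a (γ * δ) ^ p ^ e ≡ a γ ^ p ^ e * a δ ^ p ^ e [MOD p ^ (e + 1)]
    rw [← mul_pow]
    exact pow_prime_pow_modEq (hamul γ δ) e
  have hcp : ∀ γ : D, c γ ≡ a γ [MOD p] := fun γ => by
    rw [← ZMod.natCast_eq_natCast_iff]
    show ((a γ ^ p ^ e : ℕ) : ZMod p) = _
    rw [Nat.cast_pow, ZMod.pow_card_pow]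
  set z := ∏ γ : D, ((γ : MulAut V) y) ^ c γ⁻¹ with hz
  have hzl : z ^ p ^ e = l ^ Fintype.card D := by
    rw [hz, ← Finset.prod_pow, ← Finset.card_univ, ← Finset.prod_const]
    refine Finset.prod_congr rfl fun γ _ => ?_
    rw [← pow_mul, mul_comm, pow_mul, ← map_pow, hy, ← ha, ← pow_mul]
    refine (pow_eq_pow_of_modEq' hlp ?_).trans (pow_one l)
    refine ((hcp γ⁻¹).mul_left _).trans ?_
    refine (hamul γ γ⁻¹).symm.trans ?_
    rw [mul_inv_cancel]; exact ha1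
  refine ⟨z, hzl ▸ Subgroup.npow_mem_zpowers _ _, fun h1 => ?_, fun δ hδ => ?_⟩
  · rw [hzl, ← orderOf_dvd_iff_pow_eq_one, hlo, ← Nat.card_eq_fintype_card] at h1
    exact hD h1
  · refine Subgroup.mem_zpowers_iff.2 ⟨(c ⟨δ, hδ⟩ : ℤ), ?_⟩
    rw [zpow_natCast, hz, ← Finset.prod_pow, map_prod]
    refine (Fintype.prod_equiv (Equiv.mulLeft (⟨δ, hδ⟩ : D)) _ _ fun γ => ?_).symm
    rw [map_pow, Equiv.coe_mulLeft, Subgroup.coe_mul, MulAut.mul_apply, ← pow_mul]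
    refine pow_eq_pow_of_modEq' (hexp _) ?_
    have h1 := hc (⟨δ, hδ⟩ * γ)⁻¹ ⟨δ, hδ⟩
    rwa [show (⟨δ, hδ⟩ * γ)⁻¹ * (⟨δ, hδ⟩ : D) = γ⁻¹ by group] at h1

end CfsgLib.OddLocal.CyclicLift
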