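import Cfsg.Agent.Lib.OddLocal.Beta
import Cfsg.Agent.S1451

/-!
`σ(M)` is never empty.
-/

set_option autoImplicit false
set_option linter.style.haveILetI false
set_option linter.unusedSectionVars false

namespace CfsgLib.OddLocal

universe u

variable {G : Type u} [Group G] [Finite G] {M : Subgroup G}

theorem coatom_ne_bot (hG : Cfsg.IsMinSimpleOddOrder G) (hM : IsCoatom M) : M ≠ ⊥ := by
  rintro rfl
  haveI := hG.2.1
  haveI : Nontrivial G := IsSimpleGroup.toNontrivial
  obtain ⟨x, hx⟩ := exists_ne (1 : G)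
  have h1 : Subgroup.zpowers x = ⊤ := (hM.le_iff.1 bot_le).resolve_right fun h => hx (Subgroup.zpowers_eq_bot.1 h)
  have h2 : x ∈ Subgroup.center G := Subgroup.mem_center_iff.2 fun g => by
    obtain ⟨i, rfl⟩ := Subgroup.mem_zpowers_iff.1 (h1.ge (Subgroup.mem_top g))
    exact (Commute.zpow_self x i).eq
  exact hx (Subgroup.mem_bot.1 (center_eq_bot hG ▸ h2))

/-- `σ(M) ≠ ∅`. -/
theorem exists_mem_sigma (hG : Cfsg.IsMinSimpleOddOrder G) (hM : IsCoatom M) : ∃ q, q ∈ Cfsg.sigma M := by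
  classical
  by_cases hα : ∃ q, q ∈ Cfsg.alpha M
  · obtain ⟨q, hq⟩ := hα
    haveI := Fact.mk hq.1
    exact ⟨q, mem_sigma_of_mem_alpha hG hM hq⟩
  haveI := isSolvable_of_ne_top hG hM.1
  have hM1 := coatom_ne_bot hG hM
  have hne : (Nat.card M).primeFactors.Nonempty := by
    rw [Nat.nonempty_primeFactors]
    exact lt_of_le_of_ne Nat.card_pos fun e => hM1 (Subgroup.card_eq_one.1 e.symm)
  obtain ⟨r, hr, hmax⟩ := (Nat.card M).primeFactors.exists_max_image id hne
  have hrp := Nat.prime_of_mem_primeFactors hr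
  have hrM := Nat.dvd_of_mem_primeFactors hr
  haveI := Fact.mk hrp
  have hrank : Cfsg.RankLE 2 M := fun q hq => by_contra fun h => hα ⟨q, hq, h⟩
  obtain ⟨N, hNc, hNh⟩ := (Cfsg.Agent.S1451.result (Odd.of_dvd_nat hG.1 M.card_subgroup_dvd_card) (Or.inl hrank)).2.2 (r - 1)
  haveI := hNc
  have hNr : IsPGroup r N := IsPGroup.of_card (n := (Nat.card N).primeFactorsList.length)
    (Nat.eq_prime_pow_of_unique_prime_dvd Nat.card_pos.ne' fun {d} hd hdvd => by
      obtain ⟨-, h2⟩ := hNh.1 d hd hdvd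
      have h3 := hmax d (Nat.mem_primeFactors.2 ⟨hd, hdvd.trans N.card_subgroup_dvd_card, Nat.card_pos.ne'⟩)
      simp only [id] at h3
      omega)
  have hidx : ¬ r ∣ N.index := hNh.2 r hrp ⟨hrp, by have := hrp.two_le; omega⟩
  set R := N.map M.subtype with hR
  have hR1 : R ≠ ⊥ := fun e => hidx (by
    rw [hR, Subgroup.map_eq_bot_iff_of_injective _ M.subtype_injective] at e
    rwa [e, Subgroup.index_bot])
  have hMR : M ≤ Subgroup.normalizer (R : Set G) :=
    CfsgLib.PSolvable.le_normalizer_map_of_characteristic Subgroup.le_normalizer N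
  refine ⟨r, hrp, hrM, hNr.toSylow hidx, ?_⟩
  exact (normalizer_eq_of_isCoatom hG hM (Subgroup.map_subtype_le _) hR1 hMR).le

theorem sigmaCore_ne_bot (hG : Cfsg.IsMinSimpleOddOrder G) (hM : IsCoatom M) : Cfsg.sigmaCore M ≠ ⊥ := by
  obtain ⟨q, hq⟩ := exists_mem_sigma hG hM
  intro h
  rw [Cfsg.sigmaCore, Subgroup.map_eq_bot_iff_of_injective _ M.subtype_injective] at h
  refine not_dvd_index_sigma hG hM hq.1 hq ?_
  rw [h, Subgroup.index_bot]
  exact hq.2.1

end CfsgLib.OddLocal
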