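import Cfsg.Agent.Lib.OddLocal.MaxElemCentralizer
import Cfsg.Agent.Lib.OddLocal.SigmaNonempty
import Cfsg.Agent.Lib.OddLocal.NonSigma
import Cfsg.Agent.Lib.Coprime.Generation
import Cfsg.Agent.S0033

/-!
BG §11: exceptional maximal subgroups, first part.
-/

set_option autoImplicit false
set_option linter.style.haveILetI false
set_option linter.unusedSectionVars false

open scoped commutatorElement
open scoped Pointwise

namespace CfsgLib.OddLocal

open CfsgLib.Coprime
open CfsgLib.BG.FixedLine (conj_mem_of_le_normalizer mem_normalizer_of_conj)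

universe u

variable {G : Type u} [Group G] [Finite G] {p : ℕ} {M A A₀ : Subgroup G}

/-- An exceptional maximal subgroup: `p ∉ σ(M)`, `A ∈ E_p^2(M)`, `A₀` a line of `A` with `N(A₀) ≤ M`. -/
structure Exc (p : ℕ) (M A A₀ : Subgroup G) : Prop where
  hG : Cfsg.IsMinSimpleOddOrder G
  hM : IsCoatom M
  hp : p.Prime
  hσ : p ∉ Cfsg.sigma M
  hAM : A ≤ M
  hAe : Cfsg.IsElementaryAbelian p A
  hA2 : Nat.card A = p ^ 2
  hA₀ : A₀ ≤ A
  hA₀c : Nat.card A₀ = p
  hN : Subgroup.normalizer (A₀ : Set G) ≤ M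

namespace Exc

theorem maxElem (h : Exc p M A A₀) : MaxElem p A :=
  haveI := Fact.mk h.hp
  ⟨h.hp, h.hAe, h.hA2, elementary_maximal_of_not_sigma h.hG h.hM h.hσ h.hAM h.hAe h.hA2⟩

theorem dvd_card (h : Exc p M A A₀) : p ∣ Nat.card M :=
  h.maxElem.dvd_card.trans (Subgroup.card_dvd_of_le h.hAM)

theorem ne_sigma (h : Exc p M A A₀) {q : ℕ} (hq : q ∈ Cfsg.sigma M) : q ≠ p := fun e => h.hσ (e ▸ hq)

theorem centralizer_le (h : Exc p M A A₀) : Subgroup.centralizer (A : Set G) ≤ M :=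
  (Subgroup.centralizer_le (SetLike.coe_subset_coe.2 h.hA₀)).trans
    ((Subgroup.centralizer_le_normalizer _).trans h.hN)

/-- BG 11.1. -/
theorem ti (h : Exc p M A A₀) {g : G} (hg : g ∉ M) (hAg : A ≤ MulAut.conj g • M) :
    Cfsg.sigmaCore M ⊓ MulAut.conj g • M = ⊥ := by
  classical
  set D := Cfsg.sigmaCore M ⊓ MulAut.conj g • M with hD
  by_contra hne
  obtain ⟨q, hq, hqD⟩ := Nat.exists_prime_and_dvd (fun e => hne (Subgroup.card_eq_one.1 e))
  have hqσ : q ∈ Cfsg.sigma M :=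
    isPi_piCoreOf _ M q hq (hqD.trans (Subgroup.card_dvd_of_le inf_le_left))
  have hqp := h.ne_sigma hqσ
  haveI := Fact.mk hq
  haveI := Fact.mk h.hp
  have hA := h.maxElem
  have hcoe : IsCoatom (MulAut.conj g • M) := ((MulAut.conj g).mapSubgroup).isCoatom_iff _ |>.2 h.hM
  have hAD : A ≤ Subgroup.normalizer (D : Set G) := le_normalizer_inf_of_le
    (h.hAM.trans (le_normalizer_piCoreOf _ M)) (hAg.trans Subgroup.le_normalizer)
  have hDM : D ≤ M := inf_le_left.trans (piCoreOf_le _ _)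
  haveI : Group.IsSolvable D := isSolvable_of_le hDM (isSolvable_of_ne_top h.hG h.hM.1)
  obtain ⟨X₀, hX₀⟩ := exists_invariant_sylow (p := q) hAD (by
    rw [hA.card]
    refine (h.hp.coprime_iff_not_dvd.2 fun hd => h.hσ ?_).pow_left 2
    exact isPi_piCoreOf _ M p h.hp (hd.trans (Subgroup.card_dvd_of_le inf_le_left))) (Or.inr inferInstance)
  set X := (X₀ : Subgroup D).map D.subtype with hX
  have hXD : X ≤ D := Subgroup.map_subtype_le _
  have hX1 : X ≠ ⊥ := fun e => X₀.ne_bot_of_dvd_card hqD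
    ((Subgroup.map_eq_bot_iff_of_injective _ D.subtype_injective).1 e)
  obtain ⟨S₁, hXS₁, hS₁M, hAS₁, hNS₁⟩ :=
    hA.exists_sylow_ge h.hG h.hM h.hAM hq hqσ hqp (hXD.trans hDM) (X₀.2.map _) hX₀
  set A' : Subgroup G := MulAut.conj g⁻¹ • A with hA'
  set X' : Subgroup G := MulAut.conj g⁻¹ • X with hX'
  have hback : ∀ {Y : Subgroup G}, Y ≤ MulAut.conj g • M → MulAut.conj g⁻¹ • Y ≤ M := fun {Y} hY w hw => by
    rw [mem_conj_smul_iff, inv_inv] at hw
    have := hY hw
    rw [mem_conj_smul_iff] at this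
    simpa [mul_assoc] using this
  have hnorm : ∀ {B Y : Subgroup G} (c : G), B ≤ Subgroup.normalizer (Y : Set G) →
      MulAut.conj c • B ≤ Subgroup.normalizer ((MulAut.conj c • Y : Subgroup G) : Set G) := fun {B Y} c hB =>
    (Subgroup.map_mono hB).trans (Subgroup.le_normalizer_map _)
  obtain ⟨S₂', hXS₂, hS₂M, hAS₂, -⟩ := (hA.conj g⁻¹).exists_sylow_ge h.hG h.hM (hback hAg) hq hqσ hqp
    (hback (hXD.trans inf_le_right)) ((X₀.2.map _).map _) (hnorm g⁻¹ hX₀)
  set S₂ : Sylow q G := g • S₂' with hS₂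
  have hS₂c : (S₂ : Subgroup G) = MulAut.conj g • (S₂' : Subgroup G) := Sylow.coe_subgroup_smul
  have hAS₂' : A ≤ Subgroup.normalizer ((S₂ : Subgroup G) : Set G) := by
    rw [hS₂c]
    have := hnorm g hAS₂
    rwa [← mul_smul, ← map_mul, mul_inv_cancel, map_one, one_smul] at this
  have hXS₂' : X ≤ (S₂ : Subgroup G) := by
    rw [hS₂c]
    have := Subgroup.map_mono (f := (MulAut.conj g).toMonoidHom) hXS₂
    refine le_trans (le_of_eq ?_) this
    show X = MulAut.conj g • X'
    rw [hX', ← mul_smul, ← map_mul, mul_inv_cancel, map_one, one_smul]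
  have hmeet : ∀ S : Sylow q G, X ≤ (S : Subgroup G) → MulAut.conj g • M ⊓ (S : Subgroup G) ≠ ⊥ := fun S hS e =>
    hX1 (le_bot_iff.1 ((le_inf (hXD.trans inf_le_right) hS).trans e.le))
  obtain ⟨k, hk, hkS⟩ := hA.meet_conj h.hG hq hqp (sylow_mem_maxInv S₁ hAS₁) (sylow_mem_maxInv S₂ hAS₂')
    hcoe.1 hAg (hmeet S₁ hXS₁) (hmeet S₂ hXS₂')
  have hkM := h.centralizer_le hk
  have hS₂le : (S₂ : Subgroup G) ≤ M := by
    rw [hkS]
    exact (Subgroup.map_mono hS₁M).trans (smul_eq_self hkM).le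
  have hNS₂ : Subgroup.normalizer ((S₂ : Subgroup G) : Set G) ≤ M := by
    have := sylow_normalizer_le hqσ (S₂.subtype hS₂le)
    rwa [Sylow.coe_subtype, Subgroup.map_subgroupOf_eq_of_le hS₂le] at this
  obtain ⟨m, hm⟩ := MulAction.exists_smul_eq M (S₂'.subtype hS₂M) (S₂.subtype hS₂le)
  have he : MulAut.conj (m : G) • (S₂' : Subgroup G) = MulAut.conj g • (S₂' : Subgroup G) := by
    have := map_subtype_conj_smul_sylow m (S₂'.subtype hS₂M)
    rw [hm, Sylow.coe_subtype, Sylow.coe_subtype, Subgroup.map_subgroupOf_eq_of_le hS₂le,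
      Subgroup.map_subgroupOf_eq_of_le hS₂M] at this
    rw [← hS₂c, this]
  have hgn : g * (m : G)⁻¹ ∈ Subgroup.normalizer ((S₂ : Subgroup G) : Set G) := by
    rw [mem_normalizer_iff_conj_smul]
    calc MulAut.conj (g * (m : G)⁻¹) • (S₂ : Subgroup G)
        = MulAut.conj (g * (m : G)⁻¹) • (MulAut.conj (m : G) • (S₂' : Subgroup G)) := by rw [he, ← hS₂c]
      _ = MulAut.conj g • (S₂' : Subgroup G) := by
          rw [← mul_smul, ← map_mul, inv_mul_cancel_right]
      _ = _ := hS₂c.symm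
  have := M.mul_mem (hNS₂ hgn) m.2
  rw [inv_mul_cancel_right] at this
  exact hg this

theorem exists_sylow (h : Exc p M A A₀) :
    ∃ P : Sylow p M, A ≤ (P : Subgroup M).map M.subtype := by
  obtain ⟨P, hP⟩ := (h.maxElem.isPGroup.comap_of_injective M.subtype M.subtype_injective :
    IsPGroup p (A.subgroupOf M)).exists_le_sylow
  exact ⟨P, (Subgroup.map_subgroupOf_eq_of_le h.hAM).ge.trans (Subgroup.map_mono hP)⟩

/-- A moved line acts without fixed points on `M_σ`. -/
theorem fpf (h : Exc p M A A₀) {P' : Subgroup G} (hP'M : P' ≤ M) (hAP : A ≤ P') {n : G}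
    (hn : n ∈ Subgroup.normalizer (P' : Set G)) (hnM : n ∉ M) :
    Cfsg.sigmaCore M ⊓ Subgroup.centralizer ((MulAut.conj n • A₀ : Subgroup G) : Set G) = ⊥ := by
  have hAn : A ≤ MulAut.conj n • M := (hAP.trans (conj_smul_eq_self_of_mem_normalizer hn).ge).trans
    (Subgroup.map_mono hP'M)
  rw [eq_bot_iff, ← h.ti hnM hAn]
  refine inf_le_inf_left _ fun c hc => ?_
  rw [mem_conj_smul_iff]
  refine h.hN (Subgroup.centralizer_le_normalizer _ fun y hy => ?_)
  have := hc _ (conj_mem_conj_smul (g := n) hy)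
  calc y * (n⁻¹ * c * n) = n⁻¹ * ((n * y * n⁻¹) * c) * n := by group
    _ = n⁻¹ * (c * (n * y * n⁻¹)) * n := by rw [this]
    _ = _ := by group

theorem isNilpotent_of_fpf (h : Exc p M A A₀) {b : G} (hbM : b ∈ M) (hb : b ^ p = 1)
    (hfix : Cfsg.sigmaCore M ⊓ Subgroup.centralizer ({b} : Set G) = ⊥) :
    Group.IsNilpotent ↥(Cfsg.sigmaCore M) := by
  set N := Cfsg.sigmaCore M
  have hbN : b ∈ Subgroup.normalizer (N : Set G) := le_normalizer_piCoreOf _ M hbM
  let φ : MulAut N := Subgroup.normalizerMonoidHom N ⟨b, hbN⟩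
  have hφ : ∀ x : N, ((φ x : N) : G) = b * x * b⁻¹ := fun x => rfl
  have hfpf : MonoidHom.FixedPointFree (φ : N →* N) := by
    intro x hx
    have h1 : b * (x : G) * b⁻¹ = x := (hφ x).symm.trans (congrArg Subtype.val hx)
    have h2 : (x : G) ∈ N ⊓ Subgroup.centralizer ({b} : Set G) := ⟨x.2, fun y hy => by
      rw [Set.mem_singleton_iff] at hy
      rw [hy]
      exact mul_inv_eq_iff_eq_mul.1 h1⟩
    rw [hfix, Subgroup.mem_bot] at h2
    exact Subtype.ext h2
  have hne : φ ≠ 1 := fun e => sigmaCore_ne_bot h.hG h.hM (eq_bot_iff.2 fun x hx => by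
    have := hfpf (⟨x, hx⟩ : N) (by rw [e]; rfl)
    exact congrArg Subtype.val this)
  have hpow : φ ^ p = 1 := by
    show (Subgroup.normalizerMonoidHom N ⟨b, hbN⟩) ^ p = 1
    rw [← map_pow, show (⟨b, hbN⟩ : Subgroup.normalizer (N : Set G)) ^ p = 1 from Subtype.ext hb, map_one]
  haveI := Fact.mk h.hp
  exact Cfsg.Agent.S0033.result φ hfpf p h.hp (orderOf_eq_prime hpow hne)

theorem exists_gen (h : Exc p M A A₀) : ∃ a ∈ A₀, a ≠ 1 ∧ A₀ = Subgroup.zpowers a := by
  obtain ⟨a, ha, hA₀, -⟩ := CfsgLib.BG.PLengthHall.exists_gen_of_prime (R₀ := A₀) (h.hA₀c.symm ▸ h.hp)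
  refine ⟨a, ha, fun e => h.hp.ne_one ?_, hA₀⟩
  rw [← h.hA₀c, hA₀, e, Subgroup.zpowers_one_eq_bot, Subgroup.card_bot]

/-- `M_σ` is nilpotent. -/
theorem sigmaCore_nilpotent (h : Exc p M A A₀) : Group.IsNilpotent ↥(Cfsg.sigmaCore M) := by
  haveI := Fact.mk h.hp
  obtain ⟨P, hAP⟩ := h.exists_sylow
  obtain ⟨n, hn, hnM⟩ := exists_normalizer_not_mem h.dvd_card h.hσ P
  obtain ⟨a, ha, -, hA₀⟩ := h.exists_gen
  have hPM : (P : Subgroup M).map M.subtype ≤ M := Subgroup.map_subtype_le _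
  refine h.isNilpotent_of_fpf (b := n * a * n⁻¹) ?_ ?_ ?_
  · exact hPM (conj_mem_of_le_normalizer hn a (hAP (h.hA₀ ha)))
  · rw [conj_pow, h.hAe.2 a (h.hA₀ ha), mul_one, mul_inv_cancel]
  · rw [eq_bot_iff, ← h.fpf hPM hAP hn hnM]
    refine inf_le_inf_left _ fun c hc y hy => ?_
    rw [SetLike.mem_coe, mem_conj_smul_iff, hA₀] at hy
    obtain ⟨i, hi⟩ := Subgroup.mem_zpowers_iff.1 hy
    have hy' : y = (n * a * n⁻¹) ^ i := by rw [conj_zpow, hi]; group
    rw [hy']
    exact ((show Commute (n * a * n⁻¹) c from hc _ rfl).zpow_left i).eq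

/-- A Sylow subgroup of `M_σ` is normal in `M`: every `σ`-Sylow subgroup of `G` inside `M` is normal in `M`. -/
theorem sylow_normal (h : Exc p M A A₀) {q : ℕ} [Fact q.Prime] (hqσ : q ∈ Cfsg.sigma M) (S : Sylow q G)
    (hS : (S : Subgroup G) ≤ M) : M ≤ Subgroup.normalizer ((S : Subgroup G) : Set G) := by
  set N := Cfsg.sigmaCore M with hN
  have hSN : (S : Subgroup G) ≤ N := by
    intro s hs
    have hs' : (⟨s, hS hs⟩ : M) ∈ ((S.subtype hS : Sylow q M) : Subgroup M) := hs
    set Q := ((S.subtype hS : Sylow q M) : Subgroup M)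
    have hle : Q ≤ Cfsg.piCore (Cfsg.sigma M) ↥M := by
      set K := Cfsg.piCore (Cfsg.sigma M) ↥M
      set π := QuotientGroup.mk' K
      intro w hw
      obtain ⟨k, hk⟩ := IsPGroup.iff_orderOf.mp (S.subtype hS).2 ⟨w, hw⟩
      rw [Subgroup.orderOf_mk] at hk
      have h1 : orderOf (π w) ∣ q ^ k := hk ▸ orderOf_map_dvd π w
      have h2 : orderOf (π w) ∣ K.index := Subgroup.index_eq_card K ▸ orderOf_dvd_natCard _
      have h3 : π w = 1 := orderOf_eq_one_iff.1 (Nat.eq_one_of_dvd_coprimes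
        (((Fact.out : q.Prime).coprime_iff_not_dvd.2 (not_dvd_index_sigma h.hG h.hM Fact.out hqσ)).pow_left k) h1 h2)
      exact (QuotientGroup.eq_one_iff w).1 h3
    exact ⟨_, hle hs', rfl⟩
  haveI : Group.IsNilpotent N := h.sigmaCore_nilpotent
  set T : Sylow q N := S.subtype hSN
  haveI hTn : (T : Subgroup N).Normal := CfsgLib.Splitting.sylow_normal_of_isNilpotent h.sigmaCore_nilpotent T
  haveI hTc : (T : Subgroup N).Characteristic := T.characteristic_of_normal hTn
  have := @CfsgLib.PSolvable.le_normalizer_map_of_characteristic _ _ _ _ (le_normalizer_piCoreOf (Cfsg.sigma M) M) (T : Subgroup N) hTc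
  have e : (T : Subgroup N).map N.subtype = (S : Subgroup G) := by
    rw [Sylow.coe_subtype, Subgroup.map_subgroupOf_eq_of_le hSN]
  exact e ▸ this

/-- A central element order `p` of a Sylow subgroup acts without fixed points. -/
theorem central_fpf (h : Exc p M A A₀) {P' Z : Subgroup G} (hP'M : P' ≤ M) {n : G}
    (hn : n ∈ Subgroup.normalizer (P' : Set G)) (hnM : n ∉ M) (hAP : A ≤ P') (hAZ : A ≤ Subgroup.centralizer (Z : Set G))
    (hnZ : MulAut.conj n • Z = Z) (hZ1 : Z ≠ ⊥) :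
    Cfsg.sigmaCore M ⊓ Subgroup.centralizer (Z : Set G) = ⊥ := by
  by_contra hne
  set D := Cfsg.sigmaCore M ⊓ Subgroup.centralizer (Z : Set G)
  obtain ⟨q, hq, hqD⟩ := Nat.exists_prime_and_dvd (fun e => hne (Subgroup.card_eq_one.1 e))
  have hqσ : q ∈ Cfsg.sigma M :=
    isPi_piCoreOf _ M q hq (hqD.trans (Subgroup.card_dvd_of_le inf_le_left))
  have hqp := h.ne_sigma hqσ
  haveI := Fact.mk hq
  haveI := Fact.mk h.hp
  obtain ⟨X₀⟩ : Nonempty (Sylow q D) := inferInstance
  set X := (X₀ : Subgroup D).map D.subtype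
  have hXM : X ≤ M := (Subgroup.map_subtype_le _).trans (inf_le_left.trans (piCoreOf_le _ _))
  have hX1 : X ≠ ⊥ := fun e => X₀.ne_bot_of_dvd_card hqD
    ((Subgroup.map_eq_bot_iff_of_injective _ D.subtype_injective).1 e)
  obtain ⟨Q⟩ : Nonempty (Sylow q M) := inferInstance
  obtain ⟨S, hS⟩ := exists_sylow_map_eq hqσ Q
  have hSM : (S : Subgroup G) ≤ M := hS.le.trans (Subgroup.map_subtype_le _)
  have hMS := h.sylow_normal hqσ S hSM
  have hXS : X ≤ (S : Subgroup G) := by
    have := CfsgLib.BG.PLengthHall.le_of_not_dvd_relIndex (K := (S : Subgroup G)) (L := M) (X := X) (p := q) hMS hXM (X₀.2.map _) ?_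
    · exact this
    · rw [hS, Subgroup.relIndex, Subgroup.subgroupOf, Subgroup.comap_map_eq_self_of_injective M.subtype_injective]
      exact Q.not_dvd_index
  set S₂ : Sylow q G := n • S
  have hS₂c : (S₂ : Subgroup G) = MulAut.conj n • (S : Subgroup G) := Sylow.coe_subgroup_smul
  have hA := h.maxElem
  have hAS₂ : A ≤ Subgroup.normalizer ((S₂ : Subgroup G) : Set G) := by
    rw [hS₂c]
    exact (hAP.trans (conj_smul_eq_self_of_mem_normalizer hn).ge).trans
      ((Subgroup.map_mono (hP'M.trans hMS)).trans (Subgroup.le_normalizer_map _))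
  obtain ⟨k, hk, hkS⟩ := hA.meet_conj h.hG hq hqp (sylow_mem_maxInv S (h.hAM.trans hMS)) (sylow_mem_maxInv S₂ hAS₂)
    (centralizer_ne_top h.hG hZ1) hAZ
    (fun e => hX1 (le_bot_iff.1 ((le_inf ((Subgroup.map_subtype_le _).trans inf_le_right) hXS).trans e.le)))
    (fun e => hX1 (by
      have h1 : MulAut.conj n • X ≤ ⊥ := e ▸ le_inf (fun y hy z hz => by
          rw [mem_conj_smul_iff] at hy
          have hyC : n⁻¹ * y * n ∈ Subgroup.centralizer (Z : Set G) :=
            (inf_le_right : D ≤ _) (Subgroup.map_subtype_le _ hy)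
          rw [← hnZ, SetLike.mem_coe, mem_conj_smul_iff] at hz
          have := hyC _ hz
          calc z * y = n * ((n⁻¹ * z * n) * (n⁻¹ * y * n)) * n⁻¹ := by group
            _ = n * ((n⁻¹ * y * n) * (n⁻¹ * z * n)) * n⁻¹ := by rw [this]
            _ = _ := by group)
        (hS₂c ▸ Subgroup.map_mono hXS)
      have h2 := Subgroup.card_dvd_of_le h1
      rw [card_conj_smul, Subgroup.card_bot, Nat.dvd_one] at h2
      exact Subgroup.card_eq_one.1 h2))
  refine hnM ?_
  have hkM := h.centralizer_le hk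
  rw [hS₂c, conj_smul_eq_self_of_mem_normalizer (hMS hkM)] at hkS
  have h1 : n ∈ Subgroup.normalizer ((S : Subgroup G) : Set G) := mem_normalizer_iff_conj_smul.2 hkS
  rw [hS] at h1
  exact sylow_normalizer_le hqσ Q h1

/-- `A` is central in the Sylow subgroups of `M` containing it. -/
theorem le_centralizer_sylow (h : Exc p M A A₀) (P : Sylow p M) (hAP : A ≤ (P : Subgroup M).map M.subtype) :
    A ≤ Subgroup.centralizer (((P : Subgroup M).map M.subtype : Subgroup G) : Set G) := by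
  classical
  haveI := Fact.mk h.hp
  set P' := (P : Subgroup M).map M.subtype with hP'
  have hP'M : P' ≤ M := Subgroup.map_subtype_le _
  have hP'p : IsPGroup p P' := P.2.map _
  have hA := h.maxElem
  by_contra hnc
  obtain ⟨n, hn, hnM⟩ := exists_normalizer_not_mem h.dvd_card h.hσ P
  set Z := A ⊓ Subgroup.centralizer (P' : Set G) with hZ
  -- central elements of order `p` lie in `A`
  have hcen : ∀ z ∈ P', z ∈ Subgroup.centralizer (P' : Set G) → z ^ p = 1 → z ∈ A := fun z hz hzC hzp =>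
    hA.mem_of_commutes (fun a ha => hzC a (hAP ha)) hzp
  have hnZ : MulAut.conj n • Z = Z := by
    refine Subgroup.eq_of_le_of_card_ge ?_ (card_conj_smul n Z).ge
    rintro _ ⟨z, hz, rfl⟩
    show n * z * n⁻¹ ∈ Z
    have h1 : n * z * n⁻¹ ∈ Subgroup.centralizer (P' : Set G) := by
      have := conj_mem_of_le_normalizer ((le_normalizer_centralizer (A := Subgroup.normalizer (P' : Set G))
        (H := P') le_rfl) hn) z hz.2
      exact this
    exact ⟨hcen _ (conj_mem_of_le_normalizer hn z (hAP hz.1)) h1 (by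
      rw [conj_pow, h.hAe.2 z hz.1, mul_one, mul_inv_cancel]), h1⟩
  have hZ1 : Z ≠ ⊥ := by
    intro e
    haveI : Nontrivial P' := (Subgroup.nontrivial_iff_ne_bot _).2 fun e' => hA.ne_bot (le_bot_iff.1 (hAP.trans e'.le))
    haveI := hP'p.center_nontrivial
    obtain ⟨z, hz⟩ := exists_prime_orderOf_dvd_card' (G := Subgroup.center P') p (by
      obtain ⟨k, hk⟩ := (hP'p.to_subgroup (Subgroup.center P')).exists_card_eq
      have : 1 < Nat.card (Subgroup.center P') := Finite.one_lt_card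
      rw [hk] at this ⊢
      exact dvd_pow_self p fun h0 => by rw [h0, pow_zero] at this; exact lt_irrefl 1 this)
    have hzG : ((z : P') : G) ^ p = 1 := by
      rw [← hz, ← Subgroup.orderOf_coe, ← Subgroup.orderOf_coe]
      exact pow_orderOf_eq_one _
    have hzC : ((z : P') : G) ∈ Subgroup.centralizer (P' : Set G) := fun y hy =>
      congrArg Subtype.val (Subgroup.mem_center_iff.1 z.2 ⟨y, hy⟩)
    have hmem : ((z : P') : G) ∈ Z := ⟨hcen _ (z : P').2 hzC hzG, hzC⟩
    rw [e, Subgroup.mem_bot] at hmem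
    rw [show z = 1 from Subtype.ext (Subtype.ext hmem), orderOf_one] at hz
    exact h.hp.ne_one hz.symm
  have hZp : Nat.card Z = p := by
    obtain ⟨k, hk2, hk⟩ := (Nat.dvd_prime_pow h.hp).1 (hA.card ▸ Subgroup.card_dvd_of_le (inf_le_left : Z ≤ A))
    interval_cases k
    · exact absurd (Subgroup.card_eq_one.1 (hk.trans (pow_zero p))) hZ1
    · exact hk.trans (pow_one p)
    · exact absurd (inf_eq_left.1 (Subgroup.eq_of_le_of_card_ge inf_le_left (by rw [hA.card, hk]))) hnc
  have hAZ : A ≤ Subgroup.centralizer (Z : Set G) := fun a ha z hz => hA.comm hz.1 ha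
  have hZfix := h.central_fpf hP'M hn hnM hAP hAZ hnZ hZ1
  -- the elementary subgroup `B = A^n`
  set B : Subgroup G := MulAut.conj n • A with hB
  have hBmax : MaxElem p B := hA.conj n
  have hBP : B ≤ P' := (Subgroup.map_mono hAP).trans (conj_smul_eq_self_of_mem_normalizer hn).le
  have hZB : Z ≤ B := hnZ.ge.trans (Subgroup.map_mono inf_le_left)
  haveI := hBmax.elem.1
  obtain ⟨a, ha, ha1, hA₀⟩ := h.exists_gen
  set b := n * a * n⁻¹ with hb
  have hbB : b ∈ B := conj_mem_conj_smul (h.hA₀ ha)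
  have hbfix : Cfsg.sigmaCore M ⊓ Subgroup.centralizer ({b} : Set G) = ⊥ := by
    rw [eq_bot_iff, ← h.fpf hP'M hAP hn hnM]
    refine inf_le_inf_left _ fun c hc y hy => ?_
    rw [SetLike.mem_coe, mem_conj_smul_iff, hA₀] at hy
    obtain ⟨i, hi⟩ := Subgroup.mem_zpowers_iff.1 hy
    have hy' : y = b ^ i := by rw [hb, conj_zpow, hi]; group
    rw [hy']
    exact ((show Commute b c from hc _ rfl).zpow_left i).eq
  -- an element normalizing but not centralizing `B`
  obtain ⟨g, hgP, hgB, hgC⟩ : ∃ g ∈ P', g ∈ Subgroup.normalizer (B : Set G) ∧ g ∉ Subgroup.centralizer (B : Set G) := by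
    set C := P' ⊓ Subgroup.centralizer (B : Set G) with hC
    have hne : ¬ P' ≤ C := fun hle => hnc (by
      intro a ha x hx
      have hx' : n * x * n⁻¹ ∈ Subgroup.centralizer (B : Set G) := (hle (conj_mem_of_le_normalizer hn x hx)).2
      have := hx' (n * a * n⁻¹) (conj_mem_conj_smul ha)
      calc x * a = n⁻¹ * ((n * x * n⁻¹) * (n * a * n⁻¹)) * n := by group
        _ = n⁻¹ * ((n * a * n⁻¹) * (n * x * n⁻¹)) * n := by rw [this]
        _ = _ := by group)
    obtain ⟨g, hg, hgN, hgC⟩ := exists_mem_normalizer_not_mem hP'p inf_le_left hne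
    refine ⟨g, hg, mem_normalizer_of_conj fun y hy => ?_, fun hc => hgC ⟨hg, hc⟩⟩
    have h1 : g * y * g⁻¹ ∈ C := conj_mem_of_le_normalizer hgN y ⟨hBP hy, fun w hw => hBmax.comm hw hy⟩
    exact hBmax.mem_of_commutes h1.2 (by rw [conj_pow, hBmax.elem.2 y hy, mul_one, mul_inv_cancel])
  have hbZ : b ∉ Z := fun hbz => hnM (h.hN (by
    have : a ∈ Z := by
      rw [← hnZ, mem_conj_smul_iff] at hbz
      simpa [hb, mul_assoc] using hbz
    have hA₀Z : A₀ = Z := Subgroup.eq_of_le_of_card_ge (hA₀ ▸ Subgroup.zpowers_le.2 this) (by rw [hZp, h.hA₀c])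
    rw [mem_normalizer_iff_conj_smul, hA₀Z]
    exact hnZ))
  -- `⁅g, b⁆` generates `Z`
  have hcZ : ⁅g, b⁆ ∈ Z := by
    have hgb : g * b * g⁻¹ ∈ B := conj_mem_of_le_normalizer hgB b hbB
    have hmem : ⁅g, b⁆ ∈ B := by rw [commutatorElement_def]; exact B.mul_mem hgb (B.inv_mem hbB)
    by_contra hnot
    set c := ⁅g, b⁆ with hc
    -- `B = ⟨c⟩ Z`
    have hBgen : Subgroup.zpowers c ⊔ Z = B := by
      refine Subgroup.eq_of_le_of_card_ge (sup_le (Subgroup.zpowers_le.2 hmem) hZB) ?_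
      rw [hBmax.card]
      obtain ⟨k, hk2, hk⟩ := (Nat.dvd_prime_pow h.hp).1 (hBmax.card ▸
        Subgroup.card_dvd_of_le (sup_le (Subgroup.zpowers_le.2 hmem) hZB))
      rw [hk]
      refine Nat.pow_le_pow_right h.hp.pos ?_
      by_contra hlt
      have h1 : Z = Subgroup.zpowers c ⊔ Z := Subgroup.eq_of_le_of_card_ge le_sup_right (by
        rw [hk, hZp]
        exact (Nat.pow_le_pow_right h.hp.pos (by omega : k ≤ 1)).trans (pow_one p).le)
      exact hnot (h1.ge (Subgroup.mem_sup_left (Subgroup.mem_zpowers c)))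
    -- a `p`-element cannot act as a non-trivial scalar on `B/Z`
    have hgZ : ∀ z ∈ Z, g * z * g⁻¹ = z := fun z hz => by rw [mul_inv_eq_iff_eq_mul]; exact hz.2 g hgP
    haveI hZn : (Z.subgroupOf B).Normal := Subgroup.normal_of_isMulCommutative _
    set π := QuotientGroup.mk' (Z.subgroupOf B) with hπ
    have hcardQ : Nat.card (B ⧸ Z.subgroupOf B) = p := by
      have h2 := (Z.subgroupOf B).card_mul_index
      rw [Nat.card_congr (Subgroup.subgroupOfEquivOfLe hZB).toEquiv, hZp, hBmax.card, sq,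
        Subgroup.index_eq_card] at h2
      exact Nat.eq_of_mul_eq_mul_left h.hp.pos h2
    let γ : MulAut B := Subgroup.normalizerMonoidHom B ⟨g, hgB⟩
    have hγ : ∀ y : B, ((γ y : B) : G) = g * y * g⁻¹ := fun y => rfl
    have hγZ : (Z.subgroupOf B).map γ.toMonoidHom = Z.subgroupOf B := by
      refine Subgroup.eq_of_le_of_card_ge ?_ (Subgroup.card_map_of_injective γ.injective).ge
      rintro _ ⟨z, hz, rfl⟩
      show ((γ z : B) : G) ∈ Z
      rw [hγ, show g * (z : G) * g⁻¹ = z from hgZ _ hz]; exact hz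
    set δ := QuotientGroup.congr (Z.subgroupOf B) (Z.subgroupOf B) γ hγZ
    obtain ⟨k, hk⟩ := hP'p ⟨g, hgP⟩
    have hk' : g ^ p ^ k = 1 := by simpa using congrArg Subtype.val hk
    haveI : IsCyclic (B ⧸ Z.subgroupOf B) := isCyclic_of_prime_card hcardQ
    obtain ⟨i, hi⟩ := MonoidHom.map_cyclic δ.toMonoidHom
    -- `δ` is trivial
    have hδ : ∀ w, δ w = w := by
      have hit : ∀ (j : ℕ) (y : B), ((γ ^ j : MulAut B) y : G) = g ^ j * y * (g ^ j)⁻¹ := by
        intro j
        induction j with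
        | zero => intro y; simp
        | succ j ih =>
          intro y
          rw [pow_succ, MulAut.mul_apply, ih, hγ, pow_succ]
          group
      have hit' : ∀ (j : ℕ) (w : B ⧸ Z.subgroupOf B), ((δ : MulAut (B ⧸ Z.subgroupOf B)) ^ j) w = w ^ (i ^ j) := by
        intro j
        induction j with
        | zero => intro w; simp
        | succ j ih =>
          intro w
          rw [pow_succ, MulAut.mul_apply, show (δ w : B ⧸ Z.subgroupOf B) = w ^ i from hi w, ih, ← zpow_mul,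
            pow_succ, mul_comm i]
      intro w
      by_cases hw : w = 1
      · rw [hw, map_one]
      have hw' : ((δ : MulAut (B ⧸ Z.subgroupOf B)) ^ (p ^ k)) w = w := by
        obtain ⟨y, rfl⟩ := QuotientGroup.mk'_surjective _ w
        have hd : ∀ (j : ℕ) (y : B), ((δ : MulAut _) ^ j) (QuotientGroup.mk' (Z.subgroupOf B) y) =
            QuotientGroup.mk' (Z.subgroupOf B) ((γ ^ j : MulAut B) y) := by
          intro j
          induction j with
          | zero => intro y; simp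
          | succ j ih =>
            intro y
            rw [pow_succ, MulAut.mul_apply, pow_succ, MulAut.mul_apply, ← ih]
            rfl
        rw [hd]
        congr 1
        exact Subtype.ext (by rw [hit, hk']; group)
      rw [hit'] at hw'
      have ho : orderOf w = p := by
        have hd := orderOf_dvd_natCard (G := B ⧸ Z.subgroupOf B) w
        rw [hcardQ] at hd
        exact ((Nat.dvd_prime h.hp).1 hd).resolve_left (by rwa [orderOf_eq_one_iff])
      have h2 : ((i ^ p ^ k - 1 : ℤ) : ZMod p) = 0 := by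
        rw [ZMod.intCast_zmod_eq_zero_iff_dvd]
        have h1 := orderOf_dvd_iff_zpow_eq_one.2
          (show w ^ (i ^ p ^ k - 1 : ℤ) = 1 by rw [zpow_sub, hw', zpow_one, mul_inv_cancel])
        rwa [ho] at h1
      rw [Int.cast_sub, Int.cast_pow, Int.cast_one, ZMod.pow_card_pow, sub_eq_zero] at h2
      show δ w = w
      rw [show (δ w : B ⧸ Z.subgroupOf B) = w ^ i from hi w]
      have h3 : (p : ℤ) ∣ i - 1 := by
        rw [← ZMod.intCast_zmod_eq_zero_iff_dvd, Int.cast_sub, Int.cast_one, h2, sub_self]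
      rw [← ho, orderOf_dvd_iff_zpow_eq_one, zpow_sub, zpow_one, mul_inv_eq_one] at h3
      exact h3
    have h4 := hδ (π ⟨b, hbB⟩)
    rw [hπ] at h4
    change QuotientGroup.mk' (Z.subgroupOf B) (γ ⟨b, hbB⟩) = QuotientGroup.mk' (Z.subgroupOf B) ⟨b, hbB⟩ at h4
    rw [QuotientGroup.mk'_apply, QuotientGroup.mk'_apply, eq_comm, QuotientGroup.eq, Subgroup.mem_subgroupOf] at h4
    refine hnot ?_
    have : (b⁻¹ * (g * b * g⁻¹) : G) ∈ Z := h4
    rw [hBmax.comm (B.inv_mem hbB) hgb, ← commutatorElement_def] at this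
    exact this
  have hc1 : ⁅g, b⁆ ≠ 1 := by
    intro e
    refine hgC fun y hy => ?_
    have hgb : g * b = b * g := commutatorElement_eq_one_iff_mul_comm.1 e
    have hBgen : Subgroup.zpowers b ⊔ Z = B := by
      refine Subgroup.eq_of_le_of_card_ge (sup_le (Subgroup.zpowers_le.2 hbB) hZB) ?_
      rw [hBmax.card]
      obtain ⟨k, hk2, hk⟩ := (Nat.dvd_prime_pow h.hp).1 (hBmax.card ▸
        Subgroup.card_dvd_of_le (sup_le (Subgroup.zpowers_le.2 hbB) hZB))
      rw [hk]
      refine Nat.pow_le_pow_right h.hp.pos ?_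
      by_contra hlt
      have h1 : Z = Subgroup.zpowers b ⊔ Z := Subgroup.eq_of_le_of_card_ge le_sup_right (by
        rw [hk, hZp]
        exact (Nat.pow_le_pow_right h.hp.pos (by omega : k ≤ 1)).trans (pow_one p).le)
      exact hbZ (h1.ge (Subgroup.mem_sup_left (Subgroup.mem_zpowers b)))
    have hle : B ≤ Subgroup.centralizer ({g} : Set G) := by
      rw [← hBgen]
      refine sup_le (Subgroup.zpowers_le.2 (Subgroup.mem_centralizer_singleton_iff.2 hgb.symm)) fun z hz => ?_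
      exact Subgroup.mem_centralizer_singleton_iff.2 ((hz.2 g hgP).symm)
    exact (Subgroup.mem_centralizer_singleton_iff.1 (hle hy))
  set c := ⁅g, b⁆ with hc
  have hZc : Z = Subgroup.zpowers c := (Subgroup.eq_of_le_of_card_ge (Subgroup.zpowers_le.2 hcZ) (by
    have : orderOf c = p := orderOf_eq_prime (h.hAe.2 c hcZ.1) hc1
    rw [hZp, Nat.card_zpowers, this])).symm
  have hgc : g * c = c * g := hcZ.2 g hgP
  have hiter : ∀ j : ℕ, g ^ j * b * (g ^ j)⁻¹ = c ^ j * b := by
    intro j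
    induction j with
    | zero => simp
    | succ j ih =>
      have hg1 : g * b * g⁻¹ = c * b := by rw [hc, commutatorElement_def]; group
      have hgcj : g * c ^ j * g⁻¹ = c ^ j := by
        rw [((show Commute g c from hgc).pow_right j).eq]; group
      calc g ^ (j + 1) * b * (g ^ (j + 1))⁻¹ = g * (g ^ j * b * (g ^ j)⁻¹) * g⁻¹ := by rw [pow_succ']; group
        _ = (g * c ^ j * g⁻¹) * (g * b * g⁻¹) := by rw [ih]; group
        _ = c ^ (j + 1) * b := by rw [hgcj, hg1, pow_succ]; group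
  haveI := Fact.mk h.hp
  haveI : Group.IsSolvable M := isSolvable_of_ne_top h.hG h.hM.1
  refine sigmaCore_ne_bot h.hG h.hM (le_bot_iff.1 ?_)
  refine le_of_centralizer_le hBmax.not_isCyclic (hBP.trans (hP'M.trans (le_normalizer_piCoreOf _ M))) ?_ ?_
  · rw [hBmax.card]
    exact (h.hp.coprime_iff_not_dvd.2 fun hd => h.hσ (isPi_piCoreOf _ M p h.hp hd)).pow_left 2
  intro y hy hy1
  by_cases hyZ : y ∈ Z
  · rw [← hZfix]
    refine inf_le_inf_left _ fun w hw v hv => ?_
    have hyZc : Z = Subgroup.zpowers y := (Subgroup.eq_of_le_of_card_ge (Subgroup.zpowers_le.2 hyZ) (by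
      have : orderOf y = p := orderOf_eq_prime (h.hAe.2 y hyZ.1) hy1
      rw [hZp, Nat.card_zpowers, this])).symm
    rw [SetLike.mem_coe, hyZc] at hv
    obtain ⟨i, rfl⟩ := Subgroup.mem_zpowers_iff.1 hv
    exact ((show Commute y w from hw y rfl).zpow_left i).eq
  -- `y` generates the line of a conjugate of `b`
  have hbo : orderOf b = p := orderOf_eq_prime (hBmax.elem.2 b hbB) fun e => hbZ (e ▸ one_mem Z)
  obtain ⟨i, z, hz, hyb⟩ : ∃ i : ℕ, ∃ z ∈ Z, y = z * b ^ i := by
    have hBgen : Z ⊔ Subgroup.zpowers b = B := by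
      refine Subgroup.eq_of_le_of_card_ge (sup_le hZB (Subgroup.zpowers_le.2 hbB)) ?_
      have h1 := card_sup_mul_card_inf (K := Z) (S := Subgroup.zpowers b)
        ((Subgroup.zpowers_le.2 hbB).trans fun w hw => Subgroup.centralizer_le_normalizer _ fun v hv =>
          hBmax.comm (hZB hv) hw)
      have hinf : Z ⊓ Subgroup.zpowers b = ⊥ := by
        rcases Nat.dvd_prime h.hp |>.1 (hZp ▸ Subgroup.card_dvd_of_le (inf_le_left : Z ⊓ Subgroup.zpowers b ≤ Z)) with e | e
        · exact Subgroup.card_eq_one.1 e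
        · exfalso
          have e2 : Z ⊓ Subgroup.zpowers b = Subgroup.zpowers b :=
            Subgroup.eq_of_le_of_card_ge inf_le_right (by rw [Nat.card_zpowers, hbo, e])
          exact hbZ ((inf_le_left : _ ≤ Z) (e2.ge (Subgroup.mem_zpowers b)))
      rw [hinf, Subgroup.card_bot, mul_one, hZp, Nat.card_zpowers, hbo] at h1
      rw [h1, hBmax.card, sq]
    rw [← hBgen, ← SetLike.mem_coe, Subgroup.coe_mul_of_right_le_normalizer_left Z (Subgroup.zpowers b)
      ((Subgroup.zpowers_le.2 hbB).trans fun w hw => Subgroup.centralizer_le_normalizer _ fun v hv =>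
        hBmax.comm (hZB hv) hw), Set.mem_mul] at hy
    obtain ⟨z, hz, w, hw, rfl⟩ := hy
    rw [SetLike.mem_coe, mem_zpowers_iff_mem_range_orderOf] at hw
    obtain ⟨i, -, rfl⟩ := Finset.mem_image.1 hw
    exact ⟨i, z, hz, rfl⟩
  have hpi : ¬ p ∣ i := by
    rintro ⟨t, rfl⟩
    rw [pow_mul, hBmax.elem.2 b hbB, one_pow, mul_one] at hyb
    exact hyZ (hyb ▸ hz)
  obtain ⟨j, hj⟩ : ∃ j : ℕ, (c ^ j) ^ i = z := by
    rw [hZc, mem_zpowers_iff_mem_range_orderOf] at hz
    obtain ⟨l, -, rfl⟩ := Finset.mem_image.1 hz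
    have hco : orderOf c = p := orderOf_eq_prime (h.hAe.2 c hcZ.1) hc1
    obtain ⟨i', hi'⟩ := exists_pow_eq_self_of_coprime (x := c) (n := i)
      (by rw [hco]; exact (h.hp.coprime_iff_not_dvd.2 hpi).symm)
    refine ⟨i' * l, ?_⟩
    calc (c ^ (i' * l)) ^ i = ((c ^ i) ^ i') ^ l := by rw [← pow_mul, ← pow_mul, ← pow_mul]; ring_nf
      _ = c ^ l := by rw [hi']
  intro w hw
  have hy' : y = (g ^ j * b * (g ^ j)⁻¹) ^ i := by
    rw [hyb, hiter, ← hj]
    exact ((show Commute (c ^ j) b from hBmax.comm (B.pow_mem (hZB hcZ) j) hbB).mul_pow i).symm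
  have hgj : g ^ j ∈ M := M.pow_mem (hP'M hgP) j
  have hw1 : (g ^ j)⁻¹ * w * g ^ j ∈ Cfsg.sigmaCore M ⊓ Subgroup.centralizer ({b} : Set G) := by
    refine ⟨?_, fun v hv => ?_⟩
    · have := conj_mem_of_le_normalizer (le_normalizer_piCoreOf (Cfsg.sigma M) M (inv_mem hgj)) w hw.1
      rw [inv_inv] at this
      exact this
    rw [Set.mem_singleton_iff] at hv
    rw [hv]
    obtain ⟨i', hi'⟩ := exists_pow_eq_self_of_coprime (x := b) (n := i)
      (by rw [hbo]; exact (h.hp.coprime_iff_not_dvd.2 hpi).symm)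
    have hwy : Commute y w := hw.2 y rfl
    rw [hy', conj_pow] at hwy
    have h5 : Commute (b ^ i) ((g ^ j)⁻¹ * w * g ^ j) := by
      have := hwy.eq
      calc b ^ i * ((g ^ j)⁻¹ * w * g ^ j) = (g ^ j)⁻¹ * ((g ^ j * b ^ i * (g ^ j)⁻¹) * w) * g ^ j := by group
        _ = (g ^ j)⁻¹ * (w * (g ^ j * b ^ i * (g ^ j)⁻¹)) * g ^ j := by rw [this]
        _ = _ := by group
    exact hi' ▸ (h5.pow_left i').eq
  rw [hbfix, Subgroup.mem_bot] at hw1
  rw [Subgroup.mem_bot]
  calc w = g ^ j * ((g ^ j)⁻¹ * w * g ^ j) * (g ^ j)⁻¹ := by group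
    _ = 1 := by rw [hw1]; group

end Exc

end CfsgLib.OddLocal
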