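import Cfsg.Agent.Lib.OddLocal.Exceptional
import Cfsg.Agent.Lib.BG.PLengthHall.AutImage
import Cfsg.Agent.Lib.PSolvable.Omega
import Cfsg.Agent.Lib.OddOmega.Basic

/-!
BG §11: the Sylow subgroup of an exceptional subgroup and its fixed-point-free lines.
-/

set_option autoImplicit false
set_option linter.style.haveILetI false
set_option linter.unusedSectionVars false

open scoped commutatorElement
open scoped Pointwise

namespace CfsgLib.OddLocal

open CfsgLib.Coprime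
open CfsgLib.BG.FixedLine (conj_mem_of_le_normalizer mem_normalizer_of_conj)

universe u

variable {G : Type u} [Group G] [Finite G] {p : ℕ} {M A A₀ : Subgroup G}

/-- `[X, x]` centralizes a group `R` on which `x` acts without fixed points. -/
theorem commutator_centralizes_of_fpf {q r : ℕ} (hp : p.Prime) (hq : q.Prime) (hr : r.Prime) (hq2 : q ≠ 2)
    (hqp : q ≠ p) (hrp : r ≠ p) (hrq : r ≠ q) {X R : Subgroup G} {x : G} (hX : IsPGroup q X) (hR : IsPGroup r R)
    (hxp : x ^ p = 1) (hxX : x ∈ Subgroup.normalizer (X : Set G)) (hxR : x ∈ Subgroup.normalizer (R : Set G))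
    (hXR : X ≤ Subgroup.normalizer (R : Set G))
    (hfix : R ⊓ Subgroup.centralizer ({x} : Set G) = ⊥) :
    ⁅X, Subgroup.zpowers x⁆ ≤ Subgroup.centralizer (R : Set G) := by
  haveI := Fact.mk hq
  haveI := Fact.mk hr
  set Φ := (frattini R).map R.subtype with hΦ
  have hΦR : Φ ≤ R := Subgroup.map_subtype_le _
  have hnorm : ∀ {g : G}, g ∈ Subgroup.normalizer (R : Set G) → g ∈ Subgroup.normalizer (Φ : Set G) :=
    fun hg => CfsgLib.PSolvable.le_normalizer_map_of_characteristic le_rfl _ hg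
  have htriv := CfsgLib.BG.PLengthHall.commutator_trivial_mod (q := r) hq2 hp hrq.symm hqp hrp hR hX hxp hΦR
    (Subgroup.le_normalizer.trans fun g hg => hnorm hg) (hXR.trans fun g hg => hnorm hg) (hnorm hxR) hXR hxR hxX
    (fun u hu => ⟨(⟨u, hu⟩ : R) ^ r, CfsgLib.OddOmega.pow_mem_frattini hR _, rfl⟩)
    (fun u hu v hv => ⟨⁅(⟨u, hu⟩ : R), ⟨v, hv⟩⁆, (CfsgLib.PSolvable.commutator_le_frattini hR).1
      (Subgroup.commutator_mem_commutator (Subgroup.mem_top _) (Subgroup.mem_top _)), rfl⟩)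
    (fun u hu he => by
      have h1 : u ∈ R ⊓ Subgroup.centralizer ({x} : Set G) :=
        ⟨hu, Subgroup.mem_centralizer_singleton_iff.2 he.symm⟩
      rw [hfix, Subgroup.mem_bot] at h1
      rw [h1]; exact Φ.one_mem)
  have key : ∀ s ∈ X, ⁅x, s⁆ ∈ Subgroup.centralizer (R : Set G) := by
    intro s hs
    have hc : ⁅x, s⁆ ∈ X := by
      rw [commutatorElement_def]
      exact X.mul_mem (conj_mem_of_le_normalizer hxX s hs) (X.inv_mem hs)
    have hzX : Subgroup.zpowers ⁅x, s⁆ ≤ X := Subgroup.zpowers_le.2 hc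
    let F : Subgroup G :=
      { carrier := {g | g ∈ Subgroup.normalizer (R : Set G) ∧ ∀ u ∈ R, g * u * g⁻¹ * u⁻¹ ∈ Φ}
        one_mem' := ⟨one_mem _, fun u _ => by simp⟩
        mul_mem' := fun {a b} ha hb => ⟨mul_mem ha.1 hb.1, fun u hu => by
          have h1 := ha.2 _ (conj_mem_of_le_normalizer hb.1 u hu)
          have h2 := hb.2 u hu
          have := Φ.mul_mem h1 h2
          convert this using 1; group⟩
        inv_mem' := fun {a} ha => ⟨inv_mem ha.1, fun u hu => by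
          have := Φ.inv_mem (ha.2 _ (conj_mem_of_le_normalizer (inv_mem ha.1) u hu))
          convert this using 1; group⟩ }
    have hF : Subgroup.zpowers ⁅x, s⁆ ≤ F := Subgroup.zpowers_le.2 ⟨hXR hc, fun u hu => htriv s hs u hu⟩
    exact le_centralizer_of_frattini (hzX.trans hXR) (by
      obtain ⟨k, hk⟩ := (hX.to_le hzX).exists_card_eq
      obtain ⟨l, hl⟩ := (hR.to_subgroup (frattini R)).exists_card_eq
      rw [hk, hl]
      exact ((Nat.coprime_primes hq hr).2 hrq.symm).pow k l) (fun a ha => (hF ha).2) (Subgroup.mem_zpowers _)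
  refine Subgroup.commutator_le.2 fun s hs g hg => ?_
  obtain ⟨i, rfl⟩ := (isOfFinOrder_of_finite x).mem_powers_iff_mem_zpowers.2 hg
  rw [← commutatorElement_inv]
  refine inv_mem ?_
  clear hg
  show ⁅x ^ i, s⁆ ∈ _
  induction i generalizing s with
  | zero => simp
  | succ i ih =>
    rw [show ⁅x ^ (i + 1), s⁆ = ⁅x ^ i, x * s * x⁻¹⁆ * ⁅x, s⁆ by
      simp only [commutatorElement_def, pow_succ]; group]
    exact mul_mem (ih _ (conj_mem_of_le_normalizer hxX s hs)) (key s hs)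

namespace Exc

theorem le_sylow_mem (h : Exc p M A A₀) (P : Sylow p M) (hAP : A ≤ (P : Subgroup M).map M.subtype) {x : G}
    (hx : x ∈ (P : Subgroup M).map M.subtype) : x ^ p = 1 ↔ x ∈ A :=
  ⟨fun hxp => h.maxElem.mem_of_commutes (fun a ha => (h.le_centralizer_sylow P hAP ha x hx).symm) hxp,
    fun hxA => h.hAe.2 x hxA⟩

theorem normalizer_le_normalizer (h : Exc p M A A₀) (P : Sylow p M) (hAP : A ≤ (P : Subgroup M).map M.subtype) :
    Subgroup.normalizer (((P : Subgroup M).map M.subtype : Subgroup G) : Set G) ≤ Subgroup.normalizer (A : Set G) :=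
  fun n hn => mem_normalizer_of_conj fun a ha => (h.le_sylow_mem P hAP (conj_mem_of_le_normalizer hn a (hAP ha))).1
    (by rw [conj_pow, h.hAe.2 a ha, mul_one, mul_inv_cancel])

theorem sylow_comm (h : Exc p M A A₀) (P : Sylow p M) (hAP : A ≤ (P : Subgroup M).map M.subtype) :
    ∀ x ∈ (P : Subgroup M).map M.subtype, ∀ y ∈ (P : Subgroup M).map M.subtype, x * y = y * x := by
  haveI := Fact.mk h.hp
  obtain ⟨S, hS⟩ := (P.2.map M.subtype).exists_le_sylow
  have hC := Subgroup.le_centralizer_iff.1 (h.le_centralizer_sylow P hAP)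
  intro x hx y hy
  exact h.maxElem.centralizer_comm h.hG S (hAP.trans hS) x ⟨hS hx, hC hx⟩ y ⟨hS hy, hC hy⟩

/-- An element outside `M` normalizing `A`. -/
theorem exists_normalizer_not_mem' (h : Exc p M A A₀) : ∃ n ∈ Subgroup.normalizer (A : Set G), n ∉ M := by
  haveI := Fact.mk h.hp
  obtain ⟨P, hAP⟩ := h.exists_sylow
  obtain ⟨n, hn, hnM⟩ := exists_normalizer_not_mem h.dvd_card h.hσ P
  exact ⟨n, h.normalizer_le_normalizer P hAP hn, hnM⟩

theorem not_normalizer_le (h : Exc p M A A₀) : ¬ Subgroup.normalizer (A : Set G) ≤ M := fun hle => by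
  obtain ⟨n, hn, hnM⟩ := h.exists_normalizer_not_mem'
  exact hnM (hle hn)

theorem fpf_conj (h : Exc p M A A₀) {n : G} (hn : n ∈ Subgroup.normalizer (A : Set G)) (hnM : n ∉ M) :
    Cfsg.sigmaCore M ⊓ Subgroup.centralizer ((MulAut.conj n • A₀ : Subgroup G) : Set G) = ⊥ :=
  h.fpf h.hAM le_rfl hn hnM

/-- Two distinct fixed-point-free lines. -/
theorem exists_fpf_lines (h : Exc p M A A₀) : ∃ B₁ B₂ : Subgroup G, B₁ ≤ A ∧ B₂ ≤ A ∧ Nat.card B₁ = p ∧
    Nat.card B₂ = p ∧ B₁ ⊔ B₂ = A ∧ Cfsg.sigmaCore M ⊓ Subgroup.centralizer (B₁ : Set G) = ⊥ ∧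
    Cfsg.sigmaCore M ⊓ Subgroup.centralizer (B₂ : Set G) = ⊥ := by
  haveI := Fact.mk h.hp
  obtain ⟨n, hn, hnM⟩ := h.exists_normalizer_not_mem'
  have hn2 : n ^ 2 ∉ M := by
    intro hm
    refine hnM ?_
    obtain ⟨k, hk⟩ := h.hG.1.of_dvd_nat (orderOf_dvd_natCard n)
    have h1 : n = (n ^ 2) ^ (k + 1) := by
      rw [← pow_mul, show 2 * (k + 1) = (2 * k + 1) + 1 by ring, pow_succ, ← hk, pow_orderOf_eq_one, one_mul]
    exact h1 ▸ M.pow_mem hm _
  have hn2N : n ^ 2 ∈ Subgroup.normalizer (A : Set G) := pow_mem hn 2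
  have hle : ∀ {m : G}, m ∈ Subgroup.normalizer (A : Set G) → MulAut.conj m • A₀ ≤ A := fun hm =>
    (Subgroup.map_mono h.hA₀).trans (conj_smul_eq_self_of_mem_normalizer hm).le
  refine ⟨MulAut.conj n • A₀, MulAut.conj (n ^ 2) • A₀, hle hn, hle hn2N, (card_conj_smul _ _).trans h.hA₀c,
    (card_conj_smul _ _).trans h.hA₀c, ?_, h.fpf_conj hn hnM, h.fpf_conj hn2N hn2⟩
  have hne : MulAut.conj n • A₀ ≠ MulAut.conj (n ^ 2) • A₀ := by
    intro e
    refine hnM (h.hN (mem_normalizer_iff_conj_smul.2 ?_))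
    rw [sq, map_mul, mul_smul] at e
    exact (smul_left_cancel _ e).symm
  refine Subgroup.eq_of_le_of_card_ge (sup_le (hle hn) (hle hn2N)) ?_
  obtain ⟨k, hk2, hk⟩ := (Nat.dvd_prime_pow h.hp).1 (h.hA2 ▸ Subgroup.card_dvd_of_le (sup_le (hle hn) (hle hn2N)))
  rw [h.hA2, hk]
  refine Nat.pow_le_pow_right h.hp.pos ?_
  by_contra hlt
  have hc : Nat.card ↥(MulAut.conj n • A₀ ⊔ MulAut.conj (n ^ 2) • A₀) ≤ p := by
    rw [hk]; exact (Nat.pow_le_pow_right h.hp.pos (by omega : k ≤ 1)).trans (pow_one p).le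
  have e1 := Subgroup.eq_of_le_of_card_ge (le_sup_left : MulAut.conj n • A₀ ≤ _ ⊔ MulAut.conj (n ^ 2) • A₀)
    (hc.trans ((card_conj_smul _ _).trans h.hA₀c).ge)
  have e2 := Subgroup.eq_of_le_of_card_ge (le_sup_right : MulAut.conj (n ^ 2) • A₀ ≤ MulAut.conj n • A₀ ⊔ _)
    (hc.trans ((card_conj_smul _ _).trans h.hA₀c).ge)
  exact hne (e1.trans e2.symm)

/-- `C_{M_σ}(A) = 1`. -/
theorem sigmaCore_inf_centralizer (h : Exc p M A A₀) :
    Cfsg.sigmaCore M ⊓ Subgroup.centralizer (A : Set G) = ⊥ := by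
  obtain ⟨B₁, B₂, hB₁, -, -, -, -, hf, -⟩ := h.exists_fpf_lines
  rw [eq_bot_iff, ← hf]
  exact inf_le_inf_left _ (Subgroup.centralizer_le (SetLike.coe_subset_coe.2 hB₁))

/-- `[X, B] ≤ C(M_σ)` for a fixed-point-free line `B`. -/
theorem commutator_le_centralizer (h : Exc p M A A₀) {q : ℕ} (hq : q.Prime) (hqp : q ≠ p)
    (hqσ : q ∉ Cfsg.sigma M) {B X : Subgroup G} (hBA : B ≤ A) (hBc : Nat.card B = p)
    (hB : Cfsg.sigmaCore M ⊓ Subgroup.centralizer (B : Set G) = ⊥) (hXM : X ≤ M) (hX : IsPGroup q X)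
    (hBX : B ≤ Subgroup.normalizer (X : Set G)) :
    ⁅X, B⁆ ≤ Subgroup.centralizer (Cfsg.sigmaCore M : Set G) := by
  haveI := Fact.mk h.hp
  haveI := Fact.mk hq
  obtain ⟨b, hb, hBb, -⟩ := CfsgLib.BG.PLengthHall.exists_gen_of_prime (R₀ := B) (hBc.symm ▸ h.hp)
  set N := Cfsg.sigmaCore M with hN
  by_cases hX1 : X = ⊥
  · rw [hX1, Subgroup.commutator_bot_left]; exact bot_le
  have hqG : q ∣ Nat.card G := by
    obtain ⟨k, hk⟩ := hX.exists_card_eq
    refine dvd_trans ?_ (hk ▸ X.card_subgroup_dvd_card)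
    exact dvd_pow_self q fun h0 => hX1 (Subgroup.card_eq_one.1 (by rw [hk, h0, pow_zero]))
  have hq2 : q ≠ 2 := fun e => Nat.not_even_iff_odd.2 h.hG.1 (even_iff_two_dvd.2 (e ▸ hqG))
  refine Subgroup.le_centralizer_iff.1 ?_
  have hdvd : Nat.card N ∣ Nat.card ↥(N ⊓ Subgroup.centralizer ((⁅X, B⁆ : Subgroup G) : Set G)) := by
    refine (Nat.dvd_iff_prime_pow_dvd_dvd _ _).2 fun r k hr hk => ?_
    rcases Nat.eq_zero_or_pos k with rfl | hk0
    · simp
    haveI := Fact.mk hr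
    have hrσ : r ∈ Cfsg.sigma M := isPi_piCoreOf _ M r hr ((dvd_pow_self r hk0.ne').trans hk)
    obtain ⟨Q⟩ : Nonempty (Sylow r M) := inferInstance
    obtain ⟨S, hS⟩ := exists_sylow_map_eq hrσ Q
    have hSM : (S : Subgroup G) ≤ M := hS.le.trans (Subgroup.map_subtype_le _)
    have hMS := h.sylow_normal hrσ S hSM
    have hfix : (S : Subgroup G) ⊓ Subgroup.centralizer ({b} : Set G) = ⊥ := by
      rw [eq_bot_iff, ← hB]
      refine le_inf (inf_le_left.trans ?_) (inf_le_right.trans ?_)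
      · exact le_piCoreOf hSM hMS (fun s hs hsd => by
          obtain ⟨j, hj⟩ := S.2.exists_card_eq
          rw [hj] at hsd
          exact (Nat.prime_dvd_prime_iff_eq hs hr).1 (hs.dvd_of_dvd_pow hsd) ▸ hrσ)
      · rw [hBb, Subgroup.zpowers_eq_closure, Subgroup.centralizer_closure]
    have hbM : b ∈ M := h.hAM (hBA hb)
    have h1 := commutator_centralizes_of_fpf h.hp hq hr hq2 hqp (h.ne_sigma hrσ)
      (fun e => hqσ (e ▸ hrσ)) hX S.2 (h.hAe.2 b (hBA hb)) (hBX hb) (hMS hbM) (hXM.trans hMS) hfix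
    rw [← hBb] at h1
    have hSN : (S : Subgroup G) ≤ N ⊓ Subgroup.centralizer ((⁅X, B⁆ : Subgroup G) : Set G) :=
      le_inf (le_piCoreOf hSM hMS (fun s hs hsd => by
          obtain ⟨j, hj⟩ := S.2.exists_card_eq
          rw [hj] at hsd
          exact (Nat.prime_dvd_prime_iff_eq hs hr).1 (hs.dvd_of_dvd_pow hsd) ▸ hrσ))
        (Subgroup.le_centralizer_iff.1 h1)
    refine dvd_trans ?_ (Subgroup.card_dvd_of_le hSN)
    rw [S.card_eq_multiplicity]
    exact Nat.pow_dvd_pow r ((hr.pow_dvd_iff_le_factorization Nat.card_pos.ne').1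
      (hk.trans N.card_subgroup_dvd_card))
  exact inf_eq_left.1 (Subgroup.eq_of_le_of_card_ge inf_le_left (Nat.le_of_dvd Nat.card_pos hdvd))

/-- `[X, A] ≤ C(M_σ)`. -/
theorem commutator_A_le_centralizer (h : Exc p M A A₀) {q : ℕ} (hq : q.Prime) (hqp : q ≠ p)
    (hqσ : q ∉ Cfsg.sigma M) {X : Subgroup G} (hXM : X ≤ M) (hX : IsPGroup q X)
    (hAX : A ≤ Subgroup.normalizer (X : Set G)) :
    ⁅X, A⁆ ≤ Subgroup.centralizer (Cfsg.sigmaCore M : Set G) := by
  obtain ⟨B₁, B₂, hB₁, hB₂, hc₁, hc₂, hsup, hf₁, hf₂⟩ := h.exists_fpf_lines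
  set C := Subgroup.centralizer (Cfsg.sigmaCore M : Set G) with hC
  have hMC : M ≤ Subgroup.normalizer (C : Set G) :=
    le_normalizer_centralizer (le_normalizer_piCoreOf _ M)
  let F : Subgroup G :=
    { carrier := {g | g ∈ M ∧ g ∈ Subgroup.normalizer (X : Set G) ∧ ∀ x ∈ X, ⁅x, g⁆ ∈ C}
      one_mem' := ⟨one_mem _, one_mem _, fun x _ => by simp⟩
      mul_mem' := fun {a b} ha hb => ⟨mul_mem ha.1 hb.1, mul_mem ha.2.1 hb.2.1, fun x hx => by
        rw [show ⁅x, a * b⁆ = ⁅x, a⁆ * (a * ⁅x, b⁆ * a⁻¹) by simp only [commutatorElement_def]; group]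
        exact C.mul_mem (ha.2.2 x hx) (conj_mem_of_le_normalizer (hMC ha.1) _ (hb.2.2 x hx))⟩
      inv_mem' := fun {a} ha => ⟨inv_mem ha.1, inv_mem ha.2.1, fun x hx => by
        rw [show ⁅x, a⁻¹⁆ = a⁻¹ * ⁅x, a⁆⁻¹ * a⁻¹⁻¹ by simp only [commutatorElement_def]; group]
        exact conj_mem_of_le_normalizer (hMC (inv_mem ha.1)) _ (C.inv_mem (ha.2.2 x hx))⟩ }
  have hF : ∀ {B : Subgroup G}, B ≤ A → Nat.card B = p →
      Cfsg.sigmaCore M ⊓ Subgroup.centralizer (B : Set G) = ⊥ → B ≤ F := fun hB hc hf g hg =>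
    ⟨h.hAM (hB hg), hAX (hB hg), fun x hx =>
      h.commutator_le_centralizer hq hqp hqσ hB hc hf hXM hX (hB.trans hAX) (Subgroup.commutator_mem_commutator hx hg)⟩
  have hAF : A ≤ F := hsup ▸ sup_le (hF hB₁ hc₁ hf₁) (hF hB₂ hc₂ hf₂)
  exact Subgroup.commutator_le.2 fun x hx g hg => (hAF hg).2.2 x hx

end Exc

end CfsgLib.OddLocal
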