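import Cfsg.Agent.Lib.OddLocal.ExceptionalBasic
import Cfsg.Agent.Lib.OddLocal.Cores
import Cfsg.Agent.Lib.Fitting.Basic
import Cfsg.Agent.Lib.Blocks.PrincipalPSolvable

/-!
Small lemmas for BG §11.
-/

set_option autoImplicit false
set_option linter.style.haveILetI false
set_option linter.unusedSectionVars false

open scoped commutatorElement
open scoped Pointwise

namespace CfsgLib.OddLocal

open CfsgLib.Coprime
open CfsgLib.BG.FixedLine (conj_mem_of_le_normalizer mem_normalizer_of_conj)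

universe u

variable {G : Type u} [Group G] [Finite G] {p q : ℕ} {M A A₀ : Subgroup G}

/-- `σ`-elements of prime power order lie in `M_σ`. -/
theorem le_sigmaCore_of_isPGroup (hG : Cfsg.IsMinSimpleOddOrder G) (hM : IsCoatom M) (hq : q.Prime)
    (hqσ : q ∈ Cfsg.sigma M) {X : Subgroup G} (hXM : X ≤ M) (hX : IsPGroup q X) : X ≤ Cfsg.sigmaCore M := by
  haveI := Fact.mk hq
  intro x hx
  set K := Cfsg.piCore (Cfsg.sigma M) ↥M
  obtain ⟨k, hk⟩ := IsPGroup.iff_orderOf.mp hX ⟨x, hx⟩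
  rw [Subgroup.orderOf_mk] at hk
  have h1 : orderOf (QuotientGroup.mk' K ⟨x, hXM hx⟩) ∣ q ^ k := by
    rw [← hk, ← Subgroup.orderOf_mk x (hXM hx)]
    exact orderOf_map_dvd _ _
  have h2 : orderOf (QuotientGroup.mk' K ⟨x, hXM hx⟩) ∣ K.index := Subgroup.index_eq_card K ▸ orderOf_dvd_natCard _
  have h3 : QuotientGroup.mk' K ⟨x, hXM hx⟩ = 1 := orderOf_eq_one_iff.1 (Nat.eq_one_of_dvd_coprimes
    ((hq.coprime_iff_not_dvd.2 (not_dvd_index_sigma hG hM hq hqσ)).pow_left k) h1 h2)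
  exact ⟨_, (QuotientGroup.eq_one_iff _).1 h3, rfl⟩

/-- A `q`-subgroup of `M' ∩ C(M_σ)` lies in `O_q(M)`. -/
theorem le_opOf_of_centralizes_sigmaCore (hG : Cfsg.IsMinSimpleOddOrder G) (hM : IsCoatom M) (hq : q.Prime)
    {Y : Subgroup G} (hY : IsPGroup q Y) (hYM : Y ≤ ⁅M, M⁆)
    (hYC : Y ≤ Subgroup.centralizer (Cfsg.sigmaCore M : Set G)) : Y ≤ opOf q M := by
  classical
  haveI := Fact.mk hq
  set C := Subgroup.centralizer (Cfsg.sigmaCore M : Set G)
  set K₀ : Subgroup M := commutator M ⊓ C.subgroupOf M with hK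
  haveI : (C.subgroupOf M).Normal := Subgroup.normal_subgroupOf_of_le_normalizer
    (le_normalizer_centralizer (le_normalizer_piCoreOf _ M))
  haveI : K₀.Normal := Subgroup.normal_inf_normal _ _
  set π := QuotientGroup.mk' (Cfsg.piCore (Cfsg.alpha M) ↥M) with hπ
  let f : K₀ →* commutator (↥M ⧸ Cfsg.piCore (Cfsg.alpha M) ↥M) :=
    (π.comp K₀.subtype).codRestrict _ fun k => by
      have h1 : (commutator M).map π ≤ commutator (↥M ⧸ Cfsg.piCore (Cfsg.alpha M) ↥M) := by
        rw [commutator_def, commutator_def, Subgroup.map_commutator]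
        exact Subgroup.commutator_mono le_top le_top
      exact h1 (Subgroup.mem_map_of_mem π k.2.1)
  have hker : f.ker ≤ Subgroup.center K₀ := fun k hk => Subgroup.mem_center_iff.2 fun g => by
    have h1 : π (k : M) = 1 := congrArg Subtype.val hk
    rw [hπ, QuotientGroup.mk'_apply, QuotientGroup.eq_one_iff] at h1
    have h2 : ((k : M) : G) ∈ Cfsg.sigmaCore M := alphaCore_le_sigmaCore hG hM ⟨_, h1, rfl⟩
    exact Subtype.ext (Subtype.ext ((g.2.2 : ((g : M) : G) ∈ C) _ h2).symm)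
  haveI := (derived_quotient_alpha hG hM).1
  have hnil : Group.IsNilpotent K₀ := Subgroup.isNilpotent_of_ker_le_center f hker
  have hle := CfsgLib.Fitting.le_fittingSubgroup inferInstance hnil
  intro y hy
  obtain ⟨k, hk⟩ := hY ⟨y, hy⟩
  refine mem_opOf_of_mem_fittingOf hq ?_ (k := k) (congrArg Subtype.val hk)
  have hyM : y ∈ M := (Subgroup.commutator_le_self M) (hYM hy)
  refine ⟨⟨y, hyM⟩, hle ⟨?_, hYC hy⟩, rfl⟩
  have h1 := hYM hy
  rw [← CfsgLib.BG.map_commutator_subtype] at h1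
  obtain ⟨w, hw, he⟩ := h1
  exact (show (⟨y, hyM⟩ : M) = w from Subtype.ext he.symm) ▸ hw

/-- An automorphism of `q`-power order of an elementary group of order `p ^ 2`, `q > p`, is trivial. -/
theorem MaxElem.centralizes_of_gt (hG : Cfsg.IsMinSimpleOddOrder G) (hA : MaxElem p A) (hq : q.Prime)
    (hqG : q ∣ Nat.card G) (hpq : p < q) {Y : Subgroup G} (hY : IsPGroup q Y)
    (hYA : Y ≤ Subgroup.normalizer (A : Set G)) : Y ≤ Subgroup.centralizer (A : Set G) := by
  classical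
  haveI := Fact.mk hq
  have hp := hA.prime
  have hq1 : p + 1 < q := by
    have h2 : q ≠ p + 1 := by
      intro e
      have hqo := (hG.1.of_dvd_nat hqG)
      have hpo := hp.odd_of_ne_two (hA.ne_two hG)
      rw [Nat.odd_iff] at hqo hpo
      omega
    omega
  letI : MulAction Y A := MulAction.compHom A ((Subgroup.normalizerMonoidHom A).comp (Subgroup.inclusion hYA))
  have hact : ∀ (y : Y) (a : A), ((y • a : A) : G) = (y : G) * a * (y : G)⁻¹ := fun y a => rfl
  set C := A ⊓ Subgroup.centralizer (Y : Set G) with hC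
  have hfix : Nat.card (MulAction.fixedPoints Y A) = Nat.card C := by
    refine Nat.card_congr
      { toFun := fun a => ⟨(a : A), (a : A).2, fun y hy => by
          have := congrArg Subtype.val (a.2 (⟨y, hy⟩ : Y))
          rw [hact] at this
          exact mul_inv_eq_iff_eq_mul.1 this⟩
        invFun := fun c => ⟨⟨c, c.2.1⟩, fun y => Subtype.ext (by
          rw [hact]
          exact mul_inv_eq_iff_eq_mul.2 (c.2.2 y y.2))⟩
        left_inv := fun a => rfl
        right_inv := fun c => rfl }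
  have hmod := hY.card_modEq_card_fixedPoints (α := A)
  rw [hfix, hA.card] at hmod
  obtain ⟨k, hk2, hk⟩ := (Nat.dvd_prime_pow hp).1 (hA.card ▸ Subgroup.card_dvd_of_le (inf_le_left : C ≤ A))
  rw [hk] at hmod
  have hd := (Nat.modEq_iff_dvd' (Nat.pow_le_pow_right hp.pos hk2)).1 hmod.symm
  interval_cases k
  · exfalso
    have h1 : p ^ 2 - p ^ 0 = (p + 1) * (p - 1) := by
      rw [pow_zero]
      simpa using Nat.sq_sub_sq p 1
    rw [h1] at hd
    rcases hq.dvd_mul.1 hd with hd' | hd'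
    · exact absurd (Nat.le_of_dvd (by omega) hd') (by omega)
    · exact absurd (Nat.le_of_dvd (by have := hp.two_le; omega) hd') (by omega)
  · exfalso
    have h1 : p ^ 2 - p ^ 1 = p * (p - 1) := by rw [pow_one, sq, Nat.mul_sub, mul_one]
    rw [h1] at hd
    rcases hq.dvd_mul.1 hd with hd' | hd'
    · exact absurd (Nat.le_of_dvd hp.pos hd') (by omega)
    · exact absurd (Nat.le_of_dvd (by have := hp.two_le; omega) hd') (by omega)
  · have h1 : C = A := Subgroup.eq_of_le_of_card_ge inf_le_left (by rw [hA.card, hk])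
    exact Subgroup.le_centralizer_iff.1 (inf_eq_left.1 h1)

namespace Exc

/-- `M = O_{p'}(M) N_M(A)`. -/
theorem decomp (h : Exc p M A A₀) {m : G} (hm : m ∈ M) :
    ∃ d ∈ (Cfsg.pPrimeCore p M).map M.subtype, ∃ n ∈ M ⊓ Subgroup.normalizer (A : Set G), m = d * n := by
  classical
  haveI := Fact.mk h.hp
  obtain ⟨P, hAP⟩ := h.exists_sylow
  set L := Cfsg.pPrimeCore p M
  haveI hLn : L.Normal := CfsgLib.Transfer.pPrimeCore_normal p M
  have h1 := (CfsgLib.Blocks.pLengthLE_one_iff P).1 (pLengthLE_one_of_ne_top h.hG p h.hM.1)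
  set W := ((P : Subgroup M).map (QuotientGroup.mk' L)).comap (QuotientGroup.mk' L) with hW
  haveI : W.Normal := h1.comap _
  have hWeq : W = (P : Subgroup M) ⊔ L := by rw [hW, Subgroup.comap_map_eq, QuotientGroup.ker_mk']
  have h2 := Sylow.normalizer_sup_eq_top' P (le_sup_left.trans hWeq.ge)
  have h3 : Subgroup.normalizer ((P : Subgroup M) : Set M) ⊔ L = ⊤ := by
    rw [eq_top_iff, ← h2, hWeq]
    exact sup_le le_sup_left (sup_le (Subgroup.le_normalizer.trans le_sup_left) le_sup_right)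
  have h4 : (⟨m, hm⟩ : M) ∈ L ⊔ Subgroup.normalizer ((P : Subgroup M) : Set M) :=
    (sup_comm L _).trans h3 |>.ge (Subgroup.mem_top _)
  rw [← SetLike.mem_coe, Subgroup.coe_mul_of_right_le_normalizer_left L _ Subgroup.le_normalizer_of_normal,
    Set.mem_mul] at h4
  obtain ⟨d, hd, n, hn, he⟩ := h4
  refine ⟨d, ⟨d, hd, rfl⟩, n, ⟨n.2, h.normalizer_le_normalizer P hAP ?_⟩, (congrArg Subtype.val he).symm⟩
  exact mem_normalizer_of_conj (by
    rintro _ ⟨x, hx, rfl⟩
    exact ⟨n * x * n⁻¹, conj_mem_of_le_normalizer hn x hx, rfl⟩)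

/-- For `q > p` the `q`-elements of `M` lie in `O_{p'}(M)`. -/
theorem le_pPrimeCore_of_gt (h : Exc p M A A₀) (hq : q.Prime) (hpq : p < q) {X : Subgroup G} (hXM : X ≤ M)
    (hX : IsPGroup q X) : X ≤ (Cfsg.pPrimeCore p M).map M.subtype := by
  classical
  haveI := Fact.mk h.hp
  haveI := Fact.mk hq
  intro y hy
  set D := Cfsg.pPrimeCore p M
  haveI : D.Normal := CfsgLib.Transfer.pPrimeCore_normal p M
  obtain ⟨d, ⟨d', hd', hde⟩, n, hn, hyn⟩ := h.decomp (hXM hy)
  set π := QuotientGroup.mk' D with hπ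
  have he : π ⟨y, hXM hy⟩ = π ⟨n, hn.1⟩ := by
    rw [show (⟨y, hXM hy⟩ : M) = d' * ⟨n, hn.1⟩ from Subtype.ext (show y = (d' : G) * n from hyn.trans (congrArg (· * n) hde.symm)), map_mul,
      show π d' = 1 from (QuotientGroup.eq_one_iff _).2 hd', one_mul]
  obtain ⟨k, hk⟩ := hX ⟨y, hy⟩
  have hyk : y ^ q ^ k = 1 := congrArg Subtype.val hk
  obtain ⟨a, m, hm, -, -, hord⟩ := CfsgLib.Transfer.exists_pow_coprime_part (p := q) n
  have hmem : π ⟨n, hn.1⟩ ^ m = 1 := by
    rw [← map_pow, hπ, QuotientGroup.mk'_apply, QuotientGroup.eq_one_iff]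
    by_cases hqG : q ∣ Nat.card G
    · set Y := Subgroup.zpowers (n ^ m)
      have hY : IsPGroup q Y := IsPGroup.of_card (n := a) (by rw [Nat.card_zpowers, hord])
      have hYC := h.maxElem.centralizes_of_gt h.hG hq hqG hpq hY (Subgroup.zpowers_le.2 (pow_mem hn.2 m))
      obtain ⟨w, hw, hwe⟩ := h.maxElem.le_pPrimeCore h.hG h.hM.1 h.hAM hq hpq.ne'
        (Subgroup.zpowers_le.2 (M.pow_mem hn.1 m)) hY
        (Subgroup.le_centralizer_iff.1 hYC |>.trans (Subgroup.centralizer_le_normalizer _)) (Subgroup.mem_zpowers _)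
      exact (show (⟨n, hn.1⟩ : M) ^ m = w from Subtype.ext hwe.symm) ▸ hw
    · have h0 : orderOf (n ^ m) = 1 := by
        rcases Nat.eq_zero_or_pos a with rfl | ha
        · rw [hord, pow_zero]
        · exact absurd ((hord ▸ dvd_pow_self q ha.ne').trans (orderOf_dvd_natCard (n ^ m))) hqG
      rw [show (⟨n, hn.1⟩ : M) ^ m = 1 from Subtype.ext (orderOf_eq_one_iff.1 h0)]
      exact D.one_mem
  refine ⟨⟨y, hXM hy⟩, ?_, rfl⟩
  rw [SetLike.mem_coe, ← QuotientGroup.eq_one_iff, ← QuotientGroup.mk'_apply, ← hπ, ← orderOf_eq_one_iff]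
  refine Nat.eq_one_of_dvd_coprimes (((hq.coprime_iff_not_dvd.2 hm).pow_left k))
    (orderOf_dvd_of_pow_eq_one (by rw [← map_pow, show (⟨y, hXM hy⟩ : M) ^ q ^ k = 1 from Subtype.ext hyk, map_one]))
    (orderOf_dvd_of_pow_eq_one (by rw [he, hmem]))

end Exc

end CfsgLib.OddLocal
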