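import Cfsg.Agent.Lib.BG.Narrow
import Mathlib

/-!
Coprime automorphisms of a group of order `p ^ 3` and exponent `p` centralizing the centre
have order dividing `p - 1` or `p + 1` (used in BG 15.7).
-/

set_option autoImplicit false
set_option linter.style.haveILetI false
set_option linter.unusedSectionVars false

open scoped commutatorElement

namespace CfsgLib.OddLocal

universe u

variable {p : ℕ} [hp : Fact p.Prime]

theorem matrix_order_det_one (A : Matrix (Fin 2) (Fin 2) (ZMod p)) (hdet : A.det = 1) {n : ℕ} (hn : A ^ n = 1)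
    (hco : n.Coprime p) : A ^ (p - 1) = 1 ∨ A ^ (p + 1) = 1 := by
  have hpp := hp.out
  set B := A.adjugate with hB
  have hAB : A * B = 1 := by rw [hB, Matrix.mul_adjugate, hdet, one_smul]
  have hBA : B * A = 1 := by rw [hB, Matrix.adjugate_mul, hdet, one_smul]
  have hcomm : Commute A B := hAB.trans hBA.symm
  have hsum : A + B = A.trace • (1 : Matrix (Fin 2) (Fin 2) (ZMod p)) := by
    ext i j
    fin_cases i <;> fin_cases j <;>
      simp [hB, Matrix.adjugate_fin_two, Matrix.trace_fin_two, add_comm]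
  have hfrob : A ^ p + B ^ p = A + B := by
    rw [← add_pow_char_of_commute p hcomm, hsum, smul_pow, one_pow, ZMod.pow_card]
  set C := A ^ (p - 1) with hC
  set x := A ^ p - A with hx
  have hxC : A * (C - 1) = x := by
    rw [mul_sub, mul_one, hC, ← pow_succ', Nat.sub_add_cancel hpp.one_le]
  have hxx : A ^ p * x = C - 1 := by
    have h1 : x = B - B ^ p := by rw [hx, sub_eq_sub_iff_add_eq_add, hfrob, add_comm]
    have h2 : A ^ p * B ^ p = 1 := by rw [← hcomm.mul_pow, hAB, one_pow]
    have h3 : A ^ p * B = C := by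
      calc A ^ p * B = A ^ (p - 1 + 1) * B := by rw [Nat.sub_add_cancel hpp.one_le]
        _ = C := by rw [pow_succ, mul_assoc, hAB, mul_one]
    rw [h1, mul_sub, h2, h3]
  have hfix : A ^ (p + 1) * x = x := by rw [pow_succ', mul_assoc, hxx, hxC]
  by_cases hd : x.det = 0
  swap
  · right
    have hu : IsUnit x := (Matrix.isUnit_iff_isUnit_det x).2 (isUnit_iff_ne_zero.2 hd)
    have h : A ^ (p + 1) * x = 1 * x := by rw [one_mul, hfix]
    exact hu.mul_right_cancel h
  left
  rw [← hxC, Matrix.det_mul, hdet, one_mul] at hd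
  set D := C - 1 with hD
  have hCdet : C.det = 1 := by rw [hC, Matrix.det_pow, hdet, one_pow]
  have hDD : D * D = 0 := by
    have h1 := hd
    have h2 : (D + 1).det = 1 := by rw [hD, sub_add_cancel, hCdet]
    rw [Matrix.det_fin_two] at h1 h2
    simp only [Matrix.add_apply, Matrix.one_apply_eq, Matrix.one_apply_ne (show (0 : Fin 2) ≠ 1 by decide),
      Matrix.one_apply_ne (show (1 : Fin 2) ≠ 0 by decide), add_zero] at h2
    have htr : D 1 1 = - D 0 0 := by linear_combination h2 - h1
    have e1 : D 0 0 * D 0 0 + D 0 1 * D 1 0 = 0 := by rw [htr] at h1; linear_combination -h1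
    ext i j
    fin_cases i <;> fin_cases j <;>
      simp only [Matrix.mul_apply, Fin.sum_univ_two, Matrix.zero_apply, Fin.zero_eta, Fin.mk_one, Fin.isValue, htr]
    · linear_combination e1
    · ring
    · ring
    · linear_combination e1
  have hCp : C ^ p = 1 := by
    rw [show C = D + 1 by rw [hD, sub_add_cancel], add_pow_char_of_commute p (Commute.one_right D), one_pow,
      pow_eq_zero_of_le hpp.two_le (show D ^ 2 = 0 by rw [pow_two, hDD]), zero_add]
  rw [hC, ← orderOf_dvd_iff_pow_eq_one]
  rw [hC, ← pow_mul] at hCp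
  exact ((Nat.Coprime.coprime_dvd_left (orderOf_dvd_of_pow_eq_one hn) hco)).dvd_of_dvd_mul_right
    (orderOf_dvd_of_pow_eq_one hCp)

variable {R : Type u} [Group R] [Finite R]

/-- BG 15.7, the case of a group of order `p ^ 3`. -/
theorem orderOf_dvd_of_cube (hR : Nat.card R = p ^ 3) (hexp : ∀ x : R, x ^ p = 1) (hna : ¬ IsMulCommutative R)
    {φ : MulAut R} (hfix : ∀ z ∈ Subgroup.center R, φ z = z) (hco : (orderOf φ).Coprime p) :
    orderOf φ ∣ p - 1 ∨ orderOf φ ∣ p + 1 := by
  classical
  have hpp := hp.out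
  have hRp : IsPGroup p R := IsPGroup.of_card hR
  haveI : Nontrivial R := Finite.one_lt_card_iff_nontrivial.1 (hR ▸ Nat.one_lt_pow three_ne_zero hpp.one_lt)
  obtain ⟨k, hk⟩ := (hRp.to_subgroup (Subgroup.center R)).exists_card_eq
  have hk0 : k ≠ 0 := fun e => by
    haveI := hRp.center_nontrivial
    have := Finite.one_lt_card_iff_nontrivial.2 this
    rw [hk, e, pow_zero] at this
    exact lt_irrefl 1 this
  have hmul := Subgroup.index_mul_card (Subgroup.center R)
  rw [hk, hR] at hmul
  have hk1 : k = 1 := by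
    by_contra hne
    obtain ⟨j, hj, hj'⟩ := (Nat.dvd_prime_pow hpp).1 (Dvd.intro _ hmul : (Subgroup.center R).index ∣ p ^ 3)
    rw [hj', ← pow_add] at hmul
    have := Nat.pow_right_injective hpp.two_le hmul
    have hcyc : IsCyclic (R ⧸ Subgroup.center R) := by
      rcases Nat.eq_zero_or_pos j with rfl | hj0
      · haveI : Subsingleton (R ⧸ Subgroup.center R) := (Nat.card_eq_one_iff_unique.1
          (by rw [← Subgroup.index_eq_card, hj', pow_zero])).1
        exact isCyclic_of_subsingleton
      · exact isCyclic_of_prime_card (p := p) (by rw [← Subgroup.index_eq_card, hj', show j = 1 by omega, pow_one])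
    exact hna ⟨⟨fun a b => commutative_of_cyclic_center_quotient (QuotientGroup.mk' (Subgroup.center R))
      (by rw [QuotientGroup.ker_mk']) a b⟩⟩
  subst hk1
  rw [pow_one] at hk hmul
  have hq : Nat.card (R ⧸ Subgroup.center R) = p ^ 2 := by
    rw [← Subgroup.index_eq_card]
    exact Nat.eq_of_mul_eq_mul_right hpp.pos (hmul.trans (pow_succ p 2))
  have hcc : ∀ x y : R, ⁅x, y⁆ ∈ Subgroup.center R := fun x y => (QuotientGroup.eq_one_iff _).1 (by
    show QuotientGroup.mk' (Subgroup.center R) ⁅x, y⁆ = 1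
    rw [map_commutatorElement, commutatorElement_eq_one_iff_mul_comm]
    exact IsPGroup.commutative_of_card_eq_prime_sq hq _ _)
  have hcent : ∀ x y r : R, r * ⁅x, y⁆ = ⁅x, y⁆ * r := fun x y r => Subgroup.mem_center_iff.1 (hcc x y) r
  have hleft : ∀ x y w : R, ⁅x * y, w⁆ = ⁅x, w⁆ * ⁅y, w⁆ := fun x y w => by
    calc ⁅x * y, w⁆ = (x * ⁅y, w⁆) * x⁻¹ * ⁅x, w⁆ := by simp only [commutatorElement_def]; group
      _ = ⁅y, w⁆ * ⁅x, w⁆ := by rw [hcent y w x, mul_inv_cancel_right]
      _ = _ := hcent x w _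
  have hswap : ∀ x y : R, ⁅y, x⁆ = ⁅x, y⁆⁻¹ := fun x y => (commutatorElement_inv x y).symm
  obtain ⟨a, b, hab⟩ : ∃ a b : R, ⁅a, b⁆ ≠ 1 := by
    by_contra h
    push Not at h
    exact hna ⟨⟨fun x y => commutatorElement_eq_one_iff_mul_comm.1 (h x y)⟩⟩
  set c := ⁅a, b⁆ with hc
  have hco' : orderOf c = p := orderOf_eq_prime (hexp c) hab
  have hcZ : Subgroup.zpowers c = Subgroup.center R := Subgroup.eq_of_le_of_card_ge
    (Subgroup.zpowers_le.2 (hcc a b)) (by rw [hk, Nat.card_zpowers, hco'])
  have hiff : ∀ i j : ℤ, c ^ i = c ^ j ↔ (i : ZMod p) = (j : ZMod p) := fun i j => by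
    rw [ZMod.intCast_eq_intCast_iff, zpow_eq_zpow_iff_modEq, hco']
  have hlog : ∀ x y : R, ∃ i : ℤ, c ^ i = ⁅x, y⁆ := fun x y =>
    Subgroup.mem_zpowers_iff.1 (hcZ ▸ hcc x y)
  choose lg hlg using hlog
  -- the coordinates
  let L : R → Fin 2 → ZMod p := fun v => ![(lg v b : ZMod p), -(lg v a : ZMod p)]
  have hlm : ∀ v w y : R, (lg (v * w) y : ZMod p) = (lg v y : ZMod p) + lg w y := fun v w y => by
    rw [← Int.cast_add, ← hiff, zpow_add, hlg, hlg, hlg, hleft]
  have hLmul : ∀ v w : R, L (v * w) = L v + L w := fun v w => by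
    funext i
    fin_cases i <;> simp [L, hlm, add_comm]
  have hL1 : L 1 = 0 := by
    have := hLmul 1 1
    rwa [mul_one, left_eq_add] at this
  have hLinv : ∀ v : R, L v⁻¹ = -L v := fun v => eq_neg_of_add_eq_zero_left (by rw [← hLmul, inv_mul_cancel, hL1])
  have hgen : Subgroup.closure ({a, b} : Set R) = ⊤ := by
    set Y := Subgroup.closure ({a, b} : Set R)
    by_contra hne
    obtain ⟨j, hj⟩ := (hRp.to_subgroup Y).exists_card_eq
    have hj2 : j ≤ 2 := by
      have hlt : Nat.card Y < p ^ 3 := hR ▸ lt_of_le_of_ne (Nat.le_of_dvd Nat.card_pos Y.card_subgroup_dvd_card)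
        fun e => hne (Subgroup.eq_top_of_card_eq Y e)
      rw [hj, Nat.pow_lt_pow_iff_right hpp.one_lt] at hlt
      omega
    apply hab
    rw [hc, commutatorElement_eq_one_iff_mul_comm]
    have hac : a ∈ Y := Subgroup.subset_closure (by simp)
    have hbc : b ∈ Y := Subgroup.subset_closure (by simp)
    have key : ∀ u v : Y, u * v = v * u := by
      interval_cases j
      · haveI : Subsingleton Y := (Nat.card_eq_one_iff_unique.1 (by rw [hj, pow_zero])).1
        exact fun u v => Subsingleton.elim _ _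
      · haveI := isCyclic_of_prime_card (p := p) (α := Y) (by rw [hj, pow_one])
        exact fun u v => mul_comm' u v
      · exact IsPGroup.commutative_of_card_eq_prime_sq hj
    exact congrArg Subtype.val (key ⟨a, hac⟩ ⟨b, hbc⟩)
  have hLa : L a = ![1, 0] := by
    have h1 : (lg a b : ZMod p) = ((1 : ℤ) : ZMod p) := (hiff _ _).1 (by rw [hlg, zpow_one])
    have h2 : (lg a a : ZMod p) = ((0 : ℤ) : ZMod p) := (hiff _ _).1 (by rw [hlg, zpow_zero, commutatorElement_self])
    simp [L, h1, h2]
  have hLb : L b = ![0, 1] := by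
    have h1 : (lg b b : ZMod p) = ((0 : ℤ) : ZMod p) := (hiff _ _).1 (by rw [hlg, zpow_zero, commutatorElement_self])
    have h2 : (lg b a : ZMod p) = ((-1 : ℤ) : ZMod p) := (hiff _ _).1 (by rw [hlg, zpow_neg_one, hswap a b])
    simp [L, h1, h2]
  have hpair : ∀ v w : R, (lg v w : ZMod p) = L v 0 * L w 1 - L v 1 * L w 0 := by
    intro v w
    have hv : v ∈ Subgroup.closure ({a, b} : Set R) := hgen ▸ Subgroup.mem_top v
    have h0 : ∀ y : R, (lg 1 y : ZMod p) = 0 := fun y => by
      have := hlm 1 1 y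
      rwa [mul_one, left_eq_add] at this
    induction hv using Subgroup.closure_induction with
    | mem t ht =>
      have hsw : ∀ y : R, (lg y w : ZMod p) = -(lg w y : ZMod p) := fun y => by
        rw [← Int.cast_neg, ← hiff, zpow_neg, hlg, hlg, hswap]
      rcases ht with rfl | rfl
      · rw [hLa]; simp [L, hsw]
      · rw [hLb]; simp [L, hsw]
    | one => rw [h0, hL1]; simp
    | mul x y _ _ hx hy => rw [hlm, hx, hy, hLmul]; simp only [Pi.add_apply]; ring
    | inv x _ hx =>
      have h1 := hlm x⁻¹ x w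
      rw [inv_mul_cancel, h0, hx] at h1
      rw [hLinv]
      simp only [Pi.neg_apply]
      linear_combination -h1
  have hker : ∀ d : R, L d = 0 → d ∈ Subgroup.center R := fun d hd => Subgroup.mem_center_iff.2 fun r => by
    have h1 : (lg r d : ZMod p) = ((0 : ℤ) : ZMod p) := by rw [hpair, hd]; simp
    have h2 := (hiff _ _).2 h1
    rw [hlg, zpow_zero] at h2
    exact commutatorElement_eq_one_iff_mul_comm.1 h2
  set A : Matrix (Fin 2) (Fin 2) (ZMod p) := Matrix.of fun i j => if j = 0 then L (φ a) i else L (φ b) i with hA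
  have hLA : ∀ v : R, L (φ v) = A.mulVec (L v) := by
    intro v
    have hv : v ∈ Subgroup.closure ({a, b} : Set R) := hgen ▸ Subgroup.mem_top v
    induction hv using Subgroup.closure_induction with
    | mem t ht =>
      rcases ht with rfl | rfl
      · rw [hLa]; funext i; simp [hA, Matrix.mulVec, dotProduct, Fin.sum_univ_two]
      · rw [hLb]; funext i; simp [hA, Matrix.mulVec, dotProduct, Fin.sum_univ_two]
    | one => rw [map_one, hL1, Matrix.mulVec_zero]
    | mul x y _ _ hx hy => rw [map_mul, hLmul, hx, hy, hLmul, Matrix.mulVec_add]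
    | inv x _ hx => rw [map_inv, hLinv, hx, hLinv, Matrix.mulVec_neg]
  have hdet : A.det = 1 := by
    have h1 : φ c = c := hfix c (hcc a b)
    rw [hc, map_commutatorElement, ← hc, ← hlg (φ a) (φ b)] at h1
    have h2 : (lg (φ a) (φ b) : ZMod p) = ((1 : ℤ) : ZMod p) := (hiff _ _).1 (h1.trans (zpow_one c).symm)
    rw [hpair, Int.cast_one] at h2
    rw [Matrix.det_fin_two]
    simp [hA]
    linear_combination h2
  have hpow : ∀ m : ℕ, ∀ v : R, L ((φ ^ m) v) = (A ^ m).mulVec (L v) := by
    intro m
    induction m with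
    | zero => intro v; simp
    | succ m ih => intro v; rw [pow_succ', MulAut.mul_apply, hLA, ih, Matrix.mulVec_mulVec, ← pow_succ']
  have hn : A ^ orderOf φ = 1 := by
    have h1 := hpow (orderOf φ) a
    have h2 := hpow (orderOf φ) b
    rw [pow_orderOf_eq_one, MulAut.one_apply] at h1 h2
    rw [hLa] at h1
    rw [hLb] at h2
    ext i j
    fin_cases j
    · have := congrFun h1.symm i
      fin_cases i <;> simpa [Matrix.mulVec, dotProduct, Fin.sum_univ_two] using this
    · have := congrFun h2.symm i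
      fin_cases i <;> simpa [Matrix.mulVec, dotProduct, Fin.sum_univ_two] using this
  have hback : ∀ m : ℕ, A ^ m = 1 → orderOf φ ∣ m := fun m hm => orderOf_dvd_of_pow_eq_one (MulEquiv.ext fun v => by
    rw [MulAut.one_apply]
    refine CfsgLib.BG.fixed_of_diff_fixed hRp (hco.coprime_dvd_left (orderOf_pow_dvd m)) ?_
    have hd : v⁻¹ * (φ ^ m) v ∈ Subgroup.center R := hker _ (by
      rw [hLmul, hLinv, hpow, hm, Matrix.one_mulVec, neg_add_cancel])
    have hpf : ∀ m : ℕ, ∀ z ∈ Subgroup.center R, (φ ^ m) z = z := by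
      intro m
      induction m with
      | zero => intro z _; rfl
      | succ m ih => intro z hz; rw [pow_succ, MulAut.mul_apply, hfix z hz, ih z hz]
    exact hpf m _ hd)
  exact (matrix_order_det_one A hdet hn hco).imp (hback _) (hback _)

end CfsgLib.OddLocal
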