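import Cfsg.Agent.Lib.OddLocal.TauTwoLines
import Cfsg.Agent.Lib.Gaschutz.Split

/-!
BG 12.9: the criterion for Frobenius type.
-/

set_option autoImplicit false
set_option linter.style.haveILetI false
set_option linter.unusedSectionVars false

open scoped commutatorElement
open scoped Pointwise

namespace CfsgLib.OddLocal

open CfsgLib.Coprime
open CfsgLib.BG.FixedLine (conj_mem_of_le_normalizer mem_normalizer_of_conj)

universe u

variable {G : Type u} [Group G] [Finite G] {p q : ℕ} {M E A A₀ : Subgroup G}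

theorem pow_quot_order {x : G} {r : ℕ} (hr : r.Prime) (hd : r ∣ orderOf x) :
    orderOf (x ^ (orderOf x / r)) = r := by
  have h0 := (orderOf_pos x).ne'
  rw [orderOf_pow_of_dvd (Nat.div_pos (Nat.le_of_dvd (orderOf_pos x) hd) hr.pos).ne' (Nat.div_dvd_of_dvd hd),
    Nat.div_div_self hd h0]

theorem centralizer_le_pow {x : G} (n : ℕ) :
    Subgroup.centralizer ({x} : Set G) ≤ Subgroup.centralizer ({x ^ n} : Set G) := fun g hg =>
  Subgroup.mem_centralizer_singleton_iff.2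
    ((show Commute g x from Subgroup.mem_centralizer_singleton_iff.1 hg).pow_right n).eq

theorem centralizer_zpowers_eq (x : G) :
    Subgroup.centralizer ((Subgroup.zpowers x : Subgroup G) : Set G) = Subgroup.centralizer ({x} : Set G) := by
  rw [Subgroup.zpowers_eq_closure, Subgroup.centralizer_closure]

theorem isPGroup_zpowers {x : G} {r k : ℕ} (hk : x ^ r ^ k = 1) : IsPGroup r (Subgroup.zpowers x) := fun y =>
  ⟨k, Subtype.ext (by
    obtain ⟨i, hi⟩ := Subgroup.mem_zpowers_iff.1 y.2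
    rw [SubmonoidClass.coe_pow, ← hi, ← zpow_natCast, ← zpow_mul, mul_comm, zpow_mul, zpow_natCast, hk, one_zpow]
    rfl)⟩

/-- An element lies in a subgroup containing all its primary powers. -/
theorem mem_of_primary {K : Subgroup G} {x : G}
    (h : ∀ r : ℕ, r.Prime → r ∣ orderOf x → ∀ y ∈ Subgroup.zpowers x, (∃ k : ℕ, y ^ r ^ k = 1) → y ∈ K) : x ∈ K := by
  set Z := Subgroup.zpowers x
  refine (inf_eq_left.1 (Subgroup.eq_of_le_of_card_ge (inf_le_left : Z ⊓ K ≤ Z)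
    (Nat.le_of_dvd Nat.card_pos ?_))) (Subgroup.mem_zpowers x)
  refine (Nat.dvd_iff_prime_pow_dvd_dvd _ _).2 fun r k hr hk => ?_
  rcases Nat.eq_zero_or_pos k with rfl | hk0
  · simp
  haveI := Fact.mk hr
  obtain ⟨P⟩ : Nonempty (Sylow r Z) := inferInstance
  have hPD : (P : Subgroup Z).map Z.subtype ≤ Z := Subgroup.map_subtype_le _
  refine dvd_trans ?_ (Subgroup.card_dvd_of_le (le_inf hPD fun y hy => ?_))
  · rw [Subgroup.card_subtype, P.card_eq_multiplicity]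
    exact Nat.pow_dvd_pow r ((hr.pow_dvd_iff_le_factorization Nat.card_pos.ne').1 hk)
  · obtain ⟨i, hi⟩ := (P.2.map Z.subtype) ⟨y, hy⟩
    exact h r hr (Nat.card_zpowers x ▸ (dvd_pow_self r hk0.ne').trans hk) y (hPD hy) ⟨i, congrArg Subtype.val hi⟩

section

variable (hG : Cfsg.IsMinSimpleOddOrder G) (hM : IsCoatom M) (hE : Cfsg.IsComplIn E (Cfsg.sigmaCore M) M)
  (hreg : ∀ e ∈ E, e ≠ 1 → (∀ r : ℕ, r.Prime → r ∣ orderOf e → r ∈ Cfsg.tau1 M ∪ Cfsg.tau3 M) →
    Cfsg.sigmaCore M ⊓ Subgroup.centralizer ({e} : Set G) = ⊥)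

include hG hM hE hreg

/-- An element with fixed points on `M_σ` is a `τ₂`-element. -/
theorem primes_of_fixed {e : G} (he : e ∈ E) (hfix : Cfsg.sigmaCore M ⊓ Subgroup.centralizer ({e} : Set G) ≠ ⊥)
    {r : ℕ} (hr : r.Prime) (hd : r ∣ orderOf e) : r ∈ Cfsg.tau2 M := by
  have hrE : r ∣ Nat.card E := hd.trans (Subgroup.orderOf_dvd_natCard E he)
  have hrσ := not_sigma_of_dvd_compl hG hM hE hr hrE
  refine (tau_cases hG hM hr hrσ (hrE.trans (Subgroup.card_dvd_of_le hE.1))).resolve_left fun h13 => hfix ?_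
  have ho := pow_quot_order hr hd
  rw [eq_bot_iff]
  refine (inf_le_inf_left _ (centralizer_le_pow (orderOf e / r))).trans (hreg _ (E.pow_mem he _) ?_ ?_).le
  · intro h1
    rw [h1, orderOf_one] at ho
    exact hr.ne_one ho.symm
  · intro s hs hsd
    rw [ho] at hsd
    exact (Nat.prime_dvd_prime_iff_eq hs hr).1 hsd ▸ h13

/-- The invariant cyclic subgroup of largest order at `p ∈ τ₂(M)`. -/
theorem exists_invariant_cyclic (hpτ : p ∈ Cfsg.tau2 M) [Fact p.Prime]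
    (hab : ∀ S : Sylow p G, IsMulCommutative (S : Subgroup G)) :
    ∃ (S : Sylow p G) (y : G), (S : Subgroup G) ≤ E ∧ E ≤ Subgroup.normalizer ((S : Subgroup G) : Set G) ∧
      (∀ x ∈ E, (∃ k : ℕ, x ^ p ^ k = 1) → x ∈ (S : Subgroup G)) ∧ y ∈ (S : Subgroup G) ∧ p ∣ orderOf y ∧
      E ≤ Subgroup.normalizer ((Subgroup.zpowers y : Subgroup G) : Set G) ∧
      (∀ x ∈ (S : Subgroup G), orderOf x ∣ orderOf y) ∧
      Cfsg.sigmaCore M ⊓ Subgroup.centralizer ({y ^ (orderOf y / p)} : Set G) = ⊥ := by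
  classical
  have hp : p.Prime := Fact.out
  obtain ⟨A, A₀, hAE, h⟩ := exists_elem_compl hG hM hE hpτ
  obtain ⟨S, hAS, hSE, hNS, hES, hSall⟩ := h.sylow_normal_compl hE hAE hpτ hab
  haveI := hab S
  refine ⟨S, ?_⟩
  let _ : CommGroup (S : Subgroup G) := { (inferInstance : Group (S : Subgroup G)) with mul_comm := mul_comm' }
  obtain ⟨m, hm⟩ := (Nat.dvd_prime_pow hp).1
    (show Monoid.exponent (S : Subgroup G) ∣ p ^ (Nat.card (S : Subgroup G)).factorization p from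
      S.card_eq_multiplicity ▸ (Monoid.exponent_dvd_of_forall_pow_eq_one fun g => pow_card_eq_one') |>.trans (by
        rw [S.card_eq_multiplicity, Nat.Prime.factorization_pow hp, Finsupp.single_eq_same]))
  have hm' : Monoid.exponent (S : Subgroup G) = p ^ m := hm.2
  have hpexp : ∀ x : (S : Subgroup G), x ^ p ^ m = 1 := fun x => hm' ▸ Monoid.pow_exponent_eq_one x
  obtain ⟨a, ha, ha1, -⟩ := h.exists_gen
  have hm0 : m ≠ 0 := fun h0 => ha1 (by
    simpa [h0] using congrArg Subtype.val (hpexp ⟨a, hAS (h.hA₀ ha)⟩))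
  obtain ⟨e, rfl⟩ := Nat.exists_eq_succ_of_ne_zero hm0
  set R := ((powMonoidHom (p ^ e) : (S : Subgroup G) →* (S : Subgroup G)).range).map (S : Subgroup G).subtype with hR
  have hmemR : ∀ {x : G}, x ∈ R → ∃ y₀ : (S : Subgroup G), ((y₀ ^ p ^ e : (S : Subgroup G)) : G) = x := by
    rintro x ⟨x', ⟨y₀, rfl⟩, rfl⟩
    exact ⟨y₀, rfl⟩
  have hSC : (S : Subgroup G) ≤ Subgroup.centralizer (A : Set G) := fun s hs a ha =>
    congrArg Subtype.val (mul_comm' (⟨a, hAS ha⟩ : (S : Subgroup G)) ⟨s, hs⟩)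
  have hRA : R ≤ A := fun x hx => by
    obtain ⟨y₀, rfl⟩ := hmemR hx
    exact h.maxElem.mem_of_commutes (hSC (SetLike.coe_mem _))
      (by rw [← SubmonoidClass.coe_pow, ← pow_mul, ← pow_succ, hpexp]; rfl)
  have hR1 : R ≠ ⊥ := by
    intro h1
    have h2 : Monoid.exponent (S : Subgroup G) ∣ p ^ e := Monoid.exponent_dvd_of_forall_pow_eq_one fun y₀ => by
      have : ((y₀ ^ p ^ e : (S : Subgroup G)) : G) ∈ R := ⟨_, ⟨y₀, rfl⟩, rfl⟩
      rw [h1, Subgroup.mem_bot] at this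
      exact Subtype.ext this
    rw [hm', Nat.pow_dvd_pow_iff_le_right hp.one_lt] at h2
    omega
  have hNR : ∀ {g : G}, g ∈ Subgroup.normalizer ((S : Subgroup G) : Set G) → g ∈ Subgroup.normalizer (R : Set G) :=
    fun {g} hg => mem_normalizer_of_conj fun x hx => by
      obtain ⟨y₀, rfl⟩ := hmemR hx
      exact ⟨_, ⟨⟨g * y₀ * g⁻¹, conj_mem_of_le_normalizer hg _ y₀.2⟩, rfl⟩, by simp [conj_pow]⟩
  obtain ⟨L, hLR, hLc, hEL, hLf⟩ : ∃ L ≤ R, Nat.card L = p ∧ E ≤ Subgroup.normalizer (L : Set G) ∧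
      Cfsg.sigmaCore M ⊓ Subgroup.centralizer (L : Set G) = ⊥ := by
    obtain ⟨i, hi2, hi⟩ := (Nat.dvd_prime_pow hp).1 (h.hA2 ▸ Subgroup.card_dvd_of_le hRA)
    interval_cases i
    · exact absurd (Subgroup.card_eq_one.1 (hi.trans (pow_zero p))) hR1
    · have hSM : (S : Subgroup G) ≤ M := hSE.trans hE.1
      obtain ⟨n, hn, hnM⟩ := exists_normalizer_not_mem h.dvd_card h.hσ (S.subtype hSM)
      rw [Sylow.coe_subtype, Subgroup.map_subgroupOf_eq_of_le hSM] at hn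
      exact ⟨R, le_rfl, hi.trans (pow_one p), fun g hg => hNR (hES hg),
        h.fpf_of_normalized hRA (hi.trans (pow_one p)) hnM (hNR hn)⟩
    · obtain ⟨L, hLA, hLc, hEL, hLf⟩ := h.exists_invariant_fpf_line hE hAE hab hreg
      exact ⟨L, hLA.trans (Subgroup.eq_of_le_of_card_ge hRA (by rw [h.hA2, hi])).ge, hLc, hEL, hLf⟩
  obtain ⟨l, hl, hLl, -⟩ := CfsgLib.BG.PLengthHall.exists_gen_of_prime (R₀ := L) (hLc.symm ▸ hp)
  obtain ⟨y₀, hy₀⟩ := hmemR (hLR hl)
  set l' : (S : Subgroup G) := y₀ ^ p ^ e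
  have hlo : orderOf l = p := by rw [← hLc, hLl, Nat.card_zpowers]
  have hl'o : orderOf l' = p := by rw [← Subgroup.orderOf_coe, hy₀, hlo]
  set f := (Subgroup.normalizerMonoidHom (S : Subgroup G)).comp (Subgroup.inclusion hES) with hf
  have hker : ¬ p ∣ Nat.card f.range := by
    rw [← Subgroup.index_ker]
    intro hd
    have hle : (S.subtype hSE : Subgroup E) ≤ f.ker := fun s hs => MonoidHom.mem_ker.2 (MulEquiv.ext fun x =>
      Subtype.ext (show (s : G) * x * (s : G)⁻¹ = x from mul_inv_eq_iff_eq_mul.2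
        (congrArg Subtype.val (mul_comm' (⟨s, hs⟩ : (S : Subgroup G)) x))))
    exact (S.subtype hSE).not_dvd_index' Subgroup.index_ne_zero_of_finite (hd.trans (Subgroup.index_dvd_of_le hle))
  obtain ⟨z, hz, hz1, hzinv⟩ := CyclicLift.exists_invariant_lift f.range hker e hpexp
    (l := l') (y := y₀) (fun e' => hp.ne_one (by rw [← hl'o, e', orderOf_one]))
    (orderOf_dvd_iff_pow_eq_one.1 hl'o.dvd) (by
      rintro _ ⟨g, rfl⟩
      have h1 : ((f g l' : (S : Subgroup G)) : G) ∈ Subgroup.zpowers l := by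
        rw [← hLl]
        show (g : G) * ((l' : (S : Subgroup G)) : G) * (g : G)⁻¹ ∈ L
        rw [hy₀]
        exact conj_mem_of_le_normalizer (hEL g.2) l hl
      obtain ⟨i, hi⟩ := Subgroup.mem_zpowers_iff.1 h1
      exact Subgroup.mem_zpowers_iff.2 ⟨i, Subtype.ext (by rw [SubgroupClass.coe_zpow, hy₀, hi])⟩) rfl
  have hzo : orderOf (z : G) = p ^ (e + 1) := by
    rw [Subgroup.orderOf_coe]
    exact orderOf_eq_prime_pow hz1 (hpexp z)
  refine ⟨z, hSE, hES, hSall, z.2, hzo ▸ dvd_pow_self p (Nat.succ_ne_zero e), fun g hg => ?_, fun x hx => ?_, ?_⟩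
  · obtain ⟨i, hi⟩ := Subgroup.mem_zpowers_iff.1 (hzinv _ ⟨⟨g, hg⟩, rfl⟩)
    have hgz : g * (z : G) * g⁻¹ = (z : G) ^ i :=
      (congrArg Subtype.val hi).symm.trans (SubgroupClass.coe_zpow z i)
    refine mem_normalizer_of_conj fun x hx => ?_
    obtain ⟨j, rfl⟩ := Subgroup.mem_zpowers_iff.1 hx
    rw [← conj_zpow, hgz]
    exact Subgroup.zpow_mem _ (Subgroup.zpow_mem _ (Subgroup.mem_zpowers _) i) j
  · rw [hzo, ← Subgroup.orderOf_mk x hx]
    exact orderOf_dvd_of_pow_eq_one (hpexp _)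
  · rw [hzo, pow_succ, Nat.mul_div_cancel _ hp.pos, ← centralizer_zpowers_eq]
    have hmem : (z : G) ^ p ^ e ∈ L := by
      obtain ⟨i, hi⟩ := Subgroup.mem_zpowers_iff.1 hz
      rw [← SubmonoidClass.coe_pow, ← hi, SubgroupClass.coe_zpow, hy₀]
      exact L.zpow_mem hl i
    have heq : Subgroup.zpowers ((z : G) ^ p ^ e) = L := Subgroup.eq_of_le_of_card_ge (Subgroup.zpowers_le.2 hmem) (by
      rw [hLc, Nat.card_zpowers, orderOf_pow_of_dvd (pow_ne_zero _ hp.ne_zero) (hzo ▸ pow_dvd_pow p e.le_succ), hzo,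
        pow_succ, Nat.mul_div_cancel_left _ (pow_pos hp.pos e)])
    rw [heq]; exact hLf

/-- BG 12.9 when all Sylow subgroups at `τ₂`-primes are abelian. -/
theorem frobenius_type_abelian (hab : ∀ r ∈ Cfsg.tau2 M, ∀ S : Sylow r G, IsMulCommutative (S : Subgroup G)) :
    (∃ A₁ : Subgroup G, A₁ ≤ E ∧ E ≤ Subgroup.normalizer (A₁ : Set G) ∧ IsMulCommutative A₁ ∧
        ∀ x ∈ Cfsg.sigmaCore M, x ≠ 1 → E ⊓ Subgroup.centralizer ({x} : Set G) ≤ A₁) ∧
      ∃ E₀ : Subgroup G, E₀ ≤ E ∧ Monoid.exponent E₀ = Monoid.exponent E ∧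
        ∀ e ∈ E₀, e ≠ 1 → Cfsg.sigmaCore M ⊓ Subgroup.centralizer ({e} : Set G) = ⊥ := by
  classical
  have hdata : ∀ r : {r // r ∈ Cfsg.tau2 M}, ∃ (S : Subgroup G) (y : G), IsPGroup (r : ℕ) S ∧ IsMulCommutative S ∧
      S ≤ E ∧ E ≤ Subgroup.normalizer (S : Set G) ∧
      (∀ x ∈ E, (∃ k : ℕ, x ^ (r : ℕ) ^ k = 1) → x ∈ S) ∧ y ∈ S ∧ (r : ℕ) ∣ orderOf y ∧
      E ≤ Subgroup.normalizer ((Subgroup.zpowers y : Subgroup G) : Set G) ∧
      (∀ x ∈ S, orderOf x ∣ orderOf y) ∧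
      Cfsg.sigmaCore M ⊓ Subgroup.centralizer ({y ^ (orderOf y / (r : ℕ))} : Set G) = ⊥ := by
    rintro ⟨r, hr⟩
    haveI := Fact.mk hr.1
    obtain ⟨S, y, h⟩ := exists_invariant_cyclic hG hM hE hreg hr (hab r hr)
    exact ⟨S, y, S.2, hab r hr S, h⟩
  choose S y hSp hSc hSE hES hSall hyS hry hEy hymax hyf using hdata
  set T := ⋃ r, (S r : Set G) with hT
  have hTE : T ⊆ E := Set.iUnion_subset fun r => hSE r
  have hcommT : ∀ a ∈ T, ∀ b ∈ T, a * b = b * a := by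
    intro a ha b hb
    obtain ⟨r, hr⟩ := Set.mem_iUnion.1 ha
    obtain ⟨s, hs⟩ := Set.mem_iUnion.1 hb
    by_cases hrs : r = s
    · subst hrs
      haveI := hSc r
      exact congrArg Subtype.val (mul_comm' (⟨a, hr⟩ : S r) ⟨b, hs⟩)
    · exact (commute_of_disjoint (π := {(r : ℕ)}) (ρ := {(s : ℕ)}) ((hSE r).trans (hES s)) ((hSE s).trans (hES r))
        ((isPi_singleton_iff r.2.1).2 (hSp r)) ((isPi_singleton_iff s.2.1).2 (hSp s))
        (Set.disjoint_singleton.2 fun e => hrs (Subtype.ext e)) hr b hs).symm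
  set W := Subgroup.closure T with hW
  haveI hWc : IsMulCommutative W := Subgroup.isMulCommutative_closure hcommT
  have hWE : W ≤ E := (Subgroup.closure_le _).2 hTE
  have hEW : E ≤ Subgroup.normalizer (W : Set G) := fun g hg => mem_normalizer_of_conj fun x hx => by
    have hle : W ≤ W.comap (MulAut.conj g).toMonoidHom := (Subgroup.closure_le _).2 fun t ht => by
      obtain ⟨r, hr⟩ := Set.mem_iUnion.1 ht
      exact Subgroup.subset_closure (Set.mem_iUnion.2 ⟨r, conj_mem_of_le_normalizer (hES r hg) t hr⟩)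
    exact hle hx
  have hWτ : ∀ x ∈ W, ∀ s : ℕ, s.Prime → s ∣ orderOf x → s ∈ Cfsg.tau2 M := by
    intro x hx
    induction hx using Subgroup.closure_induction with
    | mem t ht =>
      intro s hs hd
      obtain ⟨r, hr⟩ := Set.mem_iUnion.1 ht
      exact ((isPi_singleton_iff r.2.1).2 (hSp r) s hs (hd.trans (Subgroup.orderOf_dvd_natCard _ hr)) : s = r) ▸ r.2
    | one =>
      intro s hs hd
      rw [orderOf_one] at hd
      exact absurd (Nat.dvd_one.1 hd) hs.ne_one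
    | mul a b ha hb iha ihb =>
      intro s hs hd
      have hab' : Commute a b := congrArg Subtype.val (mul_comm' (⟨a, ha⟩ : W) ⟨b, hb⟩)
      rcases hs.dvd_mul.1 (hd.trans (hab'.orderOf_mul_dvd_lcm.trans (Nat.lcm_dvd_mul _ _))) with h1 | h1
      · exact iha s hs h1
      · exact ihb s hs h1
    | inv a _ iha => intro s hs hd; exact iha s hs (orderOf_inv a ▸ hd)
  have hmemW : ∀ g ∈ E, (∀ s : ℕ, s.Prime → s ∣ orderOf g → s ∈ Cfsg.tau2 M) → g ∈ W := by
    intro g hg hgτ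
    exact mem_of_primary fun s hs hd z hz hzk => Subgroup.subset_closure
      (Set.mem_iUnion.2 ⟨⟨s, hgτ s hs hd⟩, hSall _ z (Subgroup.zpowers_le.2 hg hz) hzk⟩)
  refine ⟨⟨W, hWE, hEW, hWc, fun x hx hx1 g hg => hmemW g hg.1 fun s hs hd =>
    primes_of_fixed hG hM hE hreg hg.1 (fun hb => hx1 ?_) hs hd⟩, ?_⟩
  · have hxg : x ∈ Cfsg.sigmaCore M ⊓ Subgroup.centralizer ({g} : Set G) :=
      ⟨hx, Subgroup.mem_centralizer_singleton_iff.2 (Subgroup.mem_centralizer_singleton_iff.1 hg.2).symm⟩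
    rwa [hb, Subgroup.mem_bot] at hxg
  -- the subgroup of full exponent
  set Ys := ⨆ r, Subgroup.zpowers (y r) with hYs
  have hYW : Ys ≤ W := iSup_le fun r => Subgroup.zpowers_le.2 (Subgroup.subset_closure (Set.mem_iUnion.2 ⟨r, hyS r⟩))
  have hEY : E ≤ Subgroup.normalizer (Ys : Set G) := fun g hg => mem_normalizer_iff_conj_smul.2 (by
    show (⨆ r, Subgroup.zpowers (y r)).map (MulAut.conj g).toMonoidHom = _
    rw [Subgroup.map_iSup]
    exact iSup_congr fun r => mem_normalizer_iff_conj_smul.1 (hEy r hg))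
  haveI : Group.IsSolvable E := isSolvable_of_le hE.1 (isSolvable_of_ne_top hG hM.1)
  obtain ⟨H, hH⟩ := CfsgLib.BG.exists_piHall (G := E) (Cfsg.tau1 M ∪ Cfsg.tau3 M)
  set K := H.map E.subtype with hK
  have hKE : K ≤ E := Subgroup.map_subtype_le _
  have hdisj : ∀ s : ℕ, s ∈ Cfsg.tau1 M ∪ Cfsg.tau3 M → s ∉ Cfsg.tau2 M := fun s hs h2 =>
    h2.2.2.2 (hs.elim (fun h1 => h1.2.2.2.2) (fun h3 => h3.2.2.2))
  refine ⟨Ys ⊔ K, sup_le (hYW.trans hWE) hKE, ?_, ?_⟩
  · refine Nat.dvd_antisymm (Monoid.exponent_dvd_of_forall_pow_eq_one fun x => Subtype.ext ?_)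
      (Monoid.exponent_dvd_of_forall_pow_eq_one fun x => orderOf_dvd_iff_pow_eq_one.1 ?_)
    · have h0 := congrArg Subtype.val
        (Monoid.pow_exponent_eq_one (⟨x, sup_le (hYW.trans hWE) hKE x.2⟩ : E))
      simpa only [SubmonoidClass.coe_pow, OneMemClass.coe_one] using h0
    refine (Nat.dvd_iff_prime_pow_dvd_dvd _ _).2 fun s k hs hk => ?_
    rcases Nat.eq_zero_or_pos k with rfl | hk0
    · simp
    set x' := x ^ (orderOf x / s ^ k) with hx'
    have hx'o : orderOf x' = s ^ k := by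
      rw [hx', orderOf_pow_of_dvd (Nat.div_pos (Nat.le_of_dvd (orderOf_pos x) hk) (pow_pos hs.pos k)).ne'
        (Nat.div_dvd_of_dvd hk), Nat.div_div_self hk (orderOf_pos x).ne']
    have hsE : s ∣ Nat.card E := ((dvd_pow_self s hk0.ne').trans hk).trans (orderOf_dvd_natCard x)
    rcases tau_cases hG hM hs (not_sigma_of_dvd_compl hG hM hE hs hsE) (hsE.trans (Subgroup.card_dvd_of_le hE.1))
      with h13 | h2
    · obtain ⟨g, hg⟩ := CfsgLib.BG.exists_conj_le_piHall hH (K := Subgroup.zpowers x') fun r hr hd => by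
        rw [Nat.card_zpowers, hx'o] at hd
        exact (Nat.prime_dvd_prime_iff_eq hr hs).1 (hr.dvd_of_dvd_pow hd) ▸ h13
      have h1 := hg (Subgroup.mem_zpowers x')
      rw [mem_conj_smul_iff] at h1
      have h2 : ((g⁻¹ * x' * g : E) : G) ∈ Ys ⊔ K := Subgroup.mem_sup_right ⟨_, h1, rfl⟩
      have h3 := Monoid.order_dvd_exponent (⟨_, h2⟩ : ↥(Ys ⊔ K))
      rw [Subgroup.orderOf_mk, Subgroup.orderOf_coe,
        show g⁻¹ * x' * g = MulAut.conj g⁻¹ x' by rw [MulAut.conj_apply, inv_inv], MulEquiv.orderOf_eq, hx'o] at h3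
      exact h3
    · have hxS : (x' : G) ∈ S ⟨s, h2⟩ := hSall _ _ x'.2 ⟨k, by
        rw [← hx'o, ← Subgroup.orderOf_coe, pow_orderOf_eq_one]⟩
      have hmem : y ⟨s, h2⟩ ∈ Ys ⊔ K :=
        Subgroup.mem_sup_left ((le_iSup (fun r => Subgroup.zpowers (y r)) ⟨s, h2⟩) (Subgroup.mem_zpowers _))
      have h3 := Monoid.order_dvd_exponent (⟨_, hmem⟩ : ↥(Ys ⊔ K))
      rw [Subgroup.orderOf_mk] at h3
      have h4 := hymax ⟨s, h2⟩ _ hxS
      rw [Subgroup.orderOf_coe, hx'o] at h4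
      exact h4.trans h3
  intro g hg hg1
  by_contra hfix
  have hgE : g ∈ E := sup_le (hYW.trans hWE) hKE hg
  have hgτ : ∀ s : ℕ, s.Prime → s ∣ orderOf g → s ∈ Cfsg.tau2 M :=
    fun s hs hd => primes_of_fixed hG hM hE hreg hgE hfix hs hd
  have hgY : g ∈ Ys := by
    rw [← SetLike.mem_coe, Subgroup.coe_mul_of_right_le_normalizer_left Ys K (hKE.trans hEY), Set.mem_mul] at hg
    obtain ⟨a, ha, b, hb, rfl⟩ := hg
    have hbW : b ∈ W := by
      have := W.mul_mem (W.inv_mem (hYW ha)) (hmemW _ hgE hgτ)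
      rwa [inv_mul_cancel_left] at this
    have hb1 : b = 1 := by
      by_contra hb1
      obtain ⟨s, hs, hd⟩ := Nat.exists_prime_and_dvd (fun e => hb1 (orderOf_eq_one_iff.1 e))
      refine hdisj s (hH.1 s hs ?_) (hWτ b hbW s hs hd)
      rw [← Subgroup.card_subtype E H]
      exact hd.trans (Subgroup.orderOf_dvd_natCard _ hb)
    rwa [hb1, mul_one]
  obtain ⟨r, hr, hd⟩ := Nat.exists_prime_and_dvd (fun e => hg1 (orderOf_eq_one_iff.1 e))
  set r' : {r // r ∈ Cfsg.tau2 M} := ⟨r, hgτ r hr hd⟩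
  let W' : Subgroup G :=
    { carrier := {x | x ∈ W ∧ ¬ r ∣ orderOf x}
      one_mem' := ⟨W.one_mem, by rw [orderOf_one]; exact fun hh => hr.ne_one (Nat.dvd_one.1 hh)⟩
      mul_mem' := fun {a b} ha hb => ⟨W.mul_mem ha.1 hb.1, fun hh => by
        rcases hr.dvd_mul.1 (hh.trans ((show Commute a b from congrArg Subtype.val
          (mul_comm' (⟨a, ha.1⟩ : W) ⟨b, hb.1⟩)).orderOf_mul_dvd_lcm.trans (Nat.lcm_dvd_mul _ _))) with h1 | h1
        · exact ha.2 h1
        · exact hb.2 h1⟩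
      inv_mem' := fun {a} ha => ⟨W.inv_mem ha.1, by rw [orderOf_inv]; exact ha.2⟩ }
  have hle : Ys ≤ Subgroup.zpowers (y r') ⊔ W' := iSup_le fun s => by
    by_cases hsr : s = r'
    · exact hsr ▸ le_sup_left
    refine le_sup_of_le_right (Subgroup.zpowers_le.2 ⟨Subgroup.subset_closure (Set.mem_iUnion.2 ⟨s, hyS s⟩), fun hh => ?_⟩)
    exact hsr (Subtype.ext ((isPi_singleton_iff s.2.1).2 (hSp s) r hr
      (hh.trans (Subgroup.orderOf_dvd_natCard _ (hyS s))) : r = (s : ℕ)).symm)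
  set g' := g ^ (orderOf g / r) with hg'
  have hg'o : orderOf g' = r := pow_quot_order hr hd
  have hmem := hle (Ys.pow_mem hgY (orderOf g / r))
  have hnorm : W' ≤ Subgroup.normalizer ((Subgroup.zpowers (y r') : Subgroup G) : Set G) := fun w hw => hEy r' (hWE hw.1)
  rw [← SetLike.mem_coe, Subgroup.coe_mul_of_right_le_normalizer_left _ W' hnorm, Set.mem_mul] at hmem
  obtain ⟨a, ha, b, hb, hab'⟩ := hmem
  have haW : a ∈ W := Subgroup.zpowers_le.2 (Subgroup.subset_closure (Set.mem_iUnion.2 ⟨r', hyS r'⟩)) ha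
  have hb1 : b = 1 := by
    by_contra hb1
    obtain ⟨s, hs, hsd⟩ := Nat.exists_prime_and_dvd (fun e => hb1 (orderOf_eq_one_iff.1 e))
    have h1 : b = a⁻¹ * g' := by rw [hg', ← hab', inv_mul_cancel_left]
    have h2 : Commute a⁻¹ g' := (show Commute a g' from congrArg Subtype.val
      (mul_comm' (⟨a, haW⟩ : W) ⟨g', W.pow_mem (hYW hgY) _⟩)).inv_left
    have h3 := hsd.trans (h1 ▸ h2.orderOf_mul_dvd_lcm.trans (Nat.lcm_dvd_mul _ _))
    rw [orderOf_inv, hg'o] at h3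
    rcases hs.dvd_mul.1 h3 with h4 | h4
    · exact hb.2 (((isPi_singleton_iff hr).2 (hSp r') s hs
        (h4.trans (Subgroup.orderOf_dvd_natCard _ (Subgroup.zpowers_le.2 (hyS r') ha))) : s = r) ▸ hsd)
    · exact hb.2 ((Nat.prime_dvd_prime_iff_eq hs hr).1 h4 ▸ hsd)
  rw [hb1, mul_one] at hab'
  set y' := y r' ^ (orderOf (y r') / r) with hy'
  have hy'o : orderOf y' = r := pow_quot_order hr (hry r')
  have hg'Z : g' ∈ Subgroup.zpowers y' := mem_line_of_cyclic hr inferInstance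
    (Subgroup.zpowers_le.2 (Subgroup.pow_mem _ (Subgroup.mem_zpowers _) _))
    (by rw [Nat.card_zpowers, hy'o]) (x := g') (U := Subgroup.zpowers (y r')) (hg' ▸ hab' ▸ ha)
    (hg'o ▸ pow_orderOf_eq_one g')
  have heq : Subgroup.zpowers g' = Subgroup.zpowers y' := Subgroup.eq_of_le_of_card_ge
    (Subgroup.zpowers_le.2 hg'Z) (by rw [Nat.card_zpowers, Nat.card_zpowers, hg'o, hy'o])
  refine hfix (le_bot_iff.1 ((inf_le_inf_left _ (centralizer_le_pow (orderOf g / r))).trans ?_))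
  rw [← hg', ← centralizer_zpowers_eq, heq, centralizer_zpowers_eq]
  exact (hyf r').le

/-- BG 12.9 when some Sylow subgroup at a `τ₂`-prime is nonabelian. -/
theorem frobenius_type_nonabelian (hpτ : p ∈ Cfsg.tau2 M) [Fact p.Prime]
    (hS : ∀ S : Sylow p G, ¬ IsMulCommutative (S : Subgroup G)) :
    (∃ A₁ : Subgroup G, A₁ ≤ E ∧ E ≤ Subgroup.normalizer (A₁ : Set G) ∧ IsMulCommutative A₁ ∧
        ∀ x ∈ Cfsg.sigmaCore M, x ≠ 1 → E ⊓ Subgroup.centralizer ({x} : Set G) ≤ A₁) ∧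
      ∃ E₀ : Subgroup G, E₀ ≤ E ∧ Monoid.exponent E₀ = Monoid.exponent E ∧
        ∀ e ∈ E₀, e ≠ 1 → Cfsg.sigmaCore M ⊓ Subgroup.centralizer ({e} : Set G) = ⊥ := by
  classical
  have hp : p.Prime := Fact.out
  obtain ⟨A, A₀, hAE, h⟩ := exists_elem_compl hG hM hE hpτ
  have hA := h.maxElem
  have hC := h.centralizer_sigmaCore hS
  have hA₀C : A₀ ≤ Subgroup.centralizer (Cfsg.sigmaCore M : Set G) := hC.ge.trans inf_le_right
  have hA₀E : A₀ ≤ E := h.hA₀.trans hAE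
  have hEA₀ : E ≤ Subgroup.normalizer (A₀ : Set G) := fun e he => by
    rw [← hC]
    exact le_normalizer_inf_of_le (h.compl_le_normalizer hE hAE)
      (le_normalizer_centralizer (hE.1.trans (le_normalizer_piCoreOf _ M))) he
  have hMA₀ : M ≤ Subgroup.normalizer (A₀ : Set G) := fun m hm => by
    obtain ⟨e, he, b, hb, rfl⟩ := hE.2.2.2 m hm
    exact mul_mem (hEA₀ he) (Subgroup.centralizer_le_normalizer _ (Subgroup.le_centralizer_iff.1 hA₀C hb))
  obtain ⟨Q, S, n, hAQ, hQS, hnS, hnQ, hnA, hnM, -⟩ := h.nonabelian_data hS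
  have hQC : (Q : Subgroup M).map M.subtype ≤ Subgroup.centralizer (A : Set G) :=
    Subgroup.le_centralizer_iff.1 (h.le_centralizer_sylow Q hAQ)
  obtain ⟨D, hD⟩ := hA.centralizer_shape hG S (hAQ.trans hQS) (hS S)
  have hroot : ∀ w ∈ E, (∃ k : ℕ, w ^ p ^ k = 1) → w ^ p ∈ A₀ → w ^ p = 1 := by
    intro w hw ⟨k, hk⟩ hwA
    by_contra hne
    obtain ⟨m, hm, hmQ⟩ := exists_conj_le_sylow Q (isPGroup_zpowers hk) (Subgroup.zpowers_le.2 (hE.1 hw))
    set w' := m * w * m⁻¹ with hw'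
    have hw'Q : w' ∈ (Q : Subgroup M).map M.subtype := hmQ (conj_mem_conj_smul (Subgroup.mem_zpowers w))
    have hw'A : w' ^ p ∈ A₀ := by
      rw [hw', conj_pow]; exact conj_mem_of_le_normalizer (hMA₀ hm) _ hwA
    have hw'1 : w' ^ p ≠ 1 := fun e => hne (by
      rw [hw', conj_pow, mul_inv_eq_one, mul_eq_left] at e; exact e)
    have hgen : A₀ = Subgroup.zpowers (w' ^ p) := (Subgroup.eq_of_le_of_card_ge (Subgroup.zpowers_le.2 hw'A)
      (by rw [h.hA₀c, Nat.card_zpowers, orderOf_eq_prime (h.hAe.2 _ (h.hA₀ hw'A)) hw'1])).symm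
    obtain ⟨hwD, hDc⟩ := hD w' ⟨hQS hw'Q, hQC hw'Q⟩
    have hn' : n * w' * n⁻¹ ∈ (Q : Subgroup M).map M.subtype := conj_mem_of_le_normalizer hnQ w' hw'Q
    obtain ⟨hw'D, -⟩ := hD _ ⟨hQS hn', hQC hn'⟩
    rw [conj_pow] at hw'D
    have hA₀D : A₀ ≤ D := hgen ▸ Subgroup.zpowers_le.2 hwD
    have hmem : n * w' ^ p * n⁻¹ ∈ A₀ := mem_line_of_cyclic hp hDc hA₀D h.hA₀c hw'D
      (by rw [conj_pow, h.hAe.2 _ (h.hA₀ hw'A), mul_one, mul_inv_cancel])
    refine hnM (h.hN (mem_normalizer_of_conj fun x hx => ?_))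
    rw [hgen] at hx
    obtain ⟨i, rfl⟩ := Subgroup.mem_zpowers_iff.1 hx
    rw [← conj_zpow]
    exact A₀.zpow_mem hmem i
  have hfixed : ∀ e ∈ E, Cfsg.sigmaCore M ⊓ Subgroup.centralizer ({e} : Set G) ≠ ⊥ → e ∈ A₀ := by
    intro e he hfix
    have hprimes : ∀ r : ℕ, r.Prime → r ∣ orderOf e → r = p := fun r hr hd =>
      h.tau2_eq hS hE hAE (primes_of_fixed hG hM hE hreg he hfix hr hd)
    obtain ⟨k, hk⟩ : ∃ k, orderOf e = p ^ k :=
      ⟨_, Nat.eq_prime_pow_of_unique_prime_dvd (orderOf_pos e).ne' fun {d} hd hdd => hprimes d hd hdd⟩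
    rcases Nat.eq_zero_or_pos k with rfl | hk0
    · rw [pow_zero, orderOf_eq_one_iff] at hk
      rw [hk]; exact one_mem _
    set z := e ^ (orderOf e / p) with hz
    have hzo : orderOf z = p := pow_quot_order hp (hk ▸ dvd_pow_self p hk0.ne')
    have hzA₀ : Subgroup.zpowers z = A₀ := by
      by_contra hne
      refine hfix (le_bot_iff.1 ((inf_le_inf_left _ (centralizer_le_pow (orderOf e / p))).trans ?_))
      rw [← hz, ← centralizer_zpowers_eq]
      refine (h.other_lines hS (Subgroup.zpowers_le.2 ?_) (by rw [Nat.card_zpowers, hzo]) hne).1.le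
      exact h.mem_of_compl hE hAE (E.pow_mem he _) (hzo ▸ pow_orderOf_eq_one z)
    rcases Nat.lt_or_ge k 2 with hk2 | hk2
    · obtain rfl : k = 1 := by omega
      rw [pow_one] at hk
      have : z = e := by rw [hz, hk, Nat.div_self hp.pos, pow_one]
      exact hzA₀ ▸ this ▸ Subgroup.mem_zpowers z
    exfalso
    set w := e ^ p ^ (k - 2) with hw
    have hwp : w ^ p = z := by
      rw [hw, hz, ← pow_mul, ← pow_succ, hk, show k - 2 + 1 = k - 1 by omega]
      congr 1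
      obtain ⟨t, rfl⟩ := Nat.exists_eq_add_of_le hk2
      rw [show 2 + t - 1 = t + 1 by omega, show 2 + t = t + 1 + 1 by omega, pow_succ p (t + 1),
        Nat.mul_div_cancel _ hp.pos]
    have h1 : w ^ p = 1 := hroot w (E.pow_mem he _) ⟨k, by rw [hw, ← pow_mul, mul_comm, pow_mul, ← hk, pow_orderOf_eq_one, one_pow]⟩
      (hwp ▸ hzA₀ ▸ Subgroup.mem_zpowers z)
    rw [hwp] at h1
    rw [h1, orderOf_one] at hzo
    exact hp.ne_one hzo.symm
  haveI := h.hAe.1
  have hA₀c : IsMulCommutative A₀ := ⟨⟨fun a b => Subtype.ext (hA.comm (h.hA₀ a.2) (h.hA₀ b.2))⟩⟩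
  refine ⟨⟨A₀, hA₀E, hEA₀, hA₀c, fun x hx hx1 g hg => hfixed g hg.1 fun hb => hx1 ?_⟩, ?_⟩
  · have hxg : x ∈ Cfsg.sigmaCore M ⊓ Subgroup.centralizer ({g} : Set G) :=
      ⟨hx, Subgroup.mem_centralizer_singleton_iff.2 (Subgroup.mem_centralizer_singleton_iff.1 hg.2).symm⟩
    rwa [hb, Subgroup.mem_bot] at hxg
  -- a complement of `A₀` in `E`
  set K := A₀.subgroupOf E with hKdef
  haveI hKn : K.Normal := (Subgroup.normal_subgroupOf_iff_le_normalizer hA₀E).2 hEA₀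
  haveI hKc : IsMulCommutative K := ⟨⟨fun a b => Subtype.ext (Subtype.ext (hA.comm (h.hA₀ a.2) (h.hA₀ b.2)))⟩⟩
  have hKcard : Nat.card K = p := (Nat.card_congr (Subgroup.subgroupOfEquivOfLe hA₀E).toEquiv).trans h.hA₀c
  have hKp : IsPGroup p K := IsPGroup.of_card (n := 1) (by rw [hKcard, pow_one])
  obtain ⟨P, hKP⟩ := hKp.exists_le_sylow
  have hpσ : p ∉ Cfsg.sigma M := h.hσ
  have hcommP : ∀ (P' : Sylow p E), ∀ a ∈ (P' : Subgroup E), ∀ b ∈ (P' : Subgroup E), a * b = b * a :=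
    fun P' a ha b hb => Subtype.ext (sylow_comm_of_not_sigma hG hM hp hpσ
      ((Subgroup.map_subtype_le _).trans hE.1) (P'.2.map E.subtype) _ ⟨a, ha, rfl⟩ _ ⟨b, hb, rfl⟩)
  haveI hPc : IsMulCommutative (P : Subgroup E) := ⟨⟨fun a b => Subtype.ext (hcommP P a a.2 b b.2)⟩⟩
  let _ : CommGroup (P : Subgroup E) := { (inferInstance : Group (P : Subgroup E)) with mul_comm := mul_comm' }
  set Φ := (powMonoidHom p : (P : Subgroup E) →* (P : Subgroup E)).range.map (P : Subgroup E).subtype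
  have hpow : ∀ x : E, x ∈ (P : Subgroup E) → x ^ p ∈ Φ := fun x hx => ⟨_, ⟨⟨x, hx⟩, rfl⟩, rfl⟩
  have hΦK : K ⊓ Φ = ⊥ := by
    rw [Subgroup.eq_bot_iff_forall]
    rintro x ⟨hxK, x', ⟨v, rfl⟩, rfl⟩
    obtain ⟨i, hi⟩ := IsPGroup.iff_orderOf.mp P.2 v
    refine Subtype.ext (hroot ((v : E) : G) (v : E).2 ⟨i, ?_⟩ hxK)
    rw [← hi, ← Subgroup.orderOf_coe, ← Subgroup.orderOf_coe, pow_orderOf_eq_one]
  obtain ⟨W, hΦW, hW⟩ := Finite.exists_le_maximal (p := fun W : Subgroup E => W ≤ (P : Subgroup E) ∧ K ⊓ W = ⊥)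
    (a := Φ) ⟨Subgroup.map_subtype_le _, hΦK⟩
  obtain ⟨hWP, hKW⟩ := hW.prop
  have hWn : ∀ {X : Subgroup E}, X ≤ (P : Subgroup E) → X ≤ Subgroup.normalizer (W : Set E) := fun hX x hx =>
    Subgroup.centralizer_le_normalizer _ fun w hw => hcommP P w (hWP hw) x (hX hx)
  have hsup : K ⊔ W = (P : Subgroup E) := by
    refine le_antisymm (sup_le hKP hWP) fun x hx => ?_
    by_contra hxn
    set W₁ := W ⊔ Subgroup.zpowers x with hW₁
    have hW₁P : W₁ ≤ (P : Subgroup E) := sup_le hWP (Subgroup.zpowers_le.2 hx)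
    have hne : K ⊓ W₁ ≠ ⊥ := fun hb => hxn (Subgroup.mem_sup_right
      (hW.2 ⟨hW₁P, hb⟩ le_sup_left (Subgroup.mem_sup_right (Subgroup.mem_zpowers x))))
    obtain ⟨⟨c, hc⟩, hc1⟩ := Subgroup.ne_bot_iff_exists_ne_one.mp hne
    obtain ⟨hcK, hcW⟩ := Subgroup.mem_inf.1 hc
    rw [hW₁, ← SetLike.mem_coe, Subgroup.coe_mul_of_right_le_normalizer_left W _
      (hWn (Subgroup.zpowers_le.2 hx)), Set.mem_mul] at hcW
    obtain ⟨w, hw, v, hv, hwv⟩ := hcW
    obtain ⟨i, rfl⟩ := Subgroup.mem_zpowers_iff.1 hv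
    have hxp : x ^ p ∈ W := hΦW (hpow x hx)
    by_cases hpi : (p : ℤ) ∣ i
    · obtain ⟨t, rfl⟩ := hpi
      refine hc1 (Subtype.ext (Subgroup.mem_bot.1 (hKW.le ⟨hcK, ?_⟩)))
      have h1 : w * x ^ ((p : ℤ) * t) ∈ W := by
        rw [zpow_mul, zpow_natCast]
        exact mul_mem hw (W.zpow_mem hxp t)
      exact hwv ▸ h1
    obtain ⟨u, v, huv⟩ := ((Nat.prime_iff_prime_int.1 hp).coprime_iff_not_dvd.2 hpi : IsCoprime (p : ℤ) i)
    refine hxn ?_
    have hxi : x ^ i ∈ K ⊔ W := by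
      rw [show x ^ i = w⁻¹ * c from (by rw [← hwv, inv_mul_cancel_left])]
      exact mul_mem (inv_mem (Subgroup.mem_sup_right hw)) (Subgroup.mem_sup_left hcK)
    rw [show x = (x ^ p) ^ u * (x ^ i) ^ v by
      rw [← zpow_natCast x p, ← zpow_mul, ← zpow_mul, ← zpow_add, mul_comm (p : ℤ), mul_comm i, huv, zpow_one]]
    exact mul_mem (Subgroup.zpow_mem _ (Subgroup.mem_sup_right hxp) u) (Subgroup.zpow_mem _ hxi v)
  obtain ⟨H, hH⟩ := CfsgLib.Gaschutz.exists_complement (U := (P : Subgroup E)) (A := W) hKP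
    (by rw [hKcard]; exact hp.coprime_iff_not_dvd.2 (P.not_dvd_index' Subgroup.index_ne_zero_of_finite))
    ((inf_comm _ _).trans hKW) hsup
  set E₀ := H.map E.subtype with hE₀
  have hKH : ∀ g : E, g ∈ H → (g : G) ∈ A₀ → g = 1 := fun g hg hgA => by
    have : g ∈ K ⊓ H := ⟨hgA, hg⟩
    rwa [hH.disjoint.eq_bot, Subgroup.mem_bot] at this
  refine ⟨E₀, Subgroup.map_subtype_le _, ?_, ?_⟩
  · rw [← Monoid.exponent_eq_of_mulEquiv (H.equivMapOfInjective E.subtype E.subtype_injective)]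
    refine Nat.dvd_antisymm (Monoid.exponent_dvd_of_forall_pow_eq_one fun x => Subtype.ext
      (Monoid.pow_exponent_eq_one (x : E))) ?_
    set m := Monoid.exponent H with hm
    have hHm : ∀ g ∈ H, g ^ m = 1 := fun g hg => congrArg Subtype.val (Monoid.pow_exponent_eq_one (⟨g, hg⟩ : H))
    -- `p` divides the exponent
    have hpm : p ∣ m := by
      obtain ⟨b, hb, hbA₀⟩ := SetLike.not_le_iff_exists.1 (fun hle : A ≤ A₀ => by
        have := Nat.le_of_dvd Nat.card_pos (Subgroup.card_dvd_of_le hle)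
        rw [h.hA2, h.hA₀c] at this
        exact absurd this (not_le.2 (by rw [sq]; exact lt_mul_of_one_lt_left hp.pos hp.one_lt)))
      obtain ⟨⟨a, u⟩, hau : (a : E) * (u : E) = ⟨b, hAE hb⟩⟩ := hH.2 ⟨b, hAE hb⟩
      have hu : ((u : E) : G) = ((a : E) : G)⁻¹ * b := by
        rw [show b = ((a : E) : G) * ((u : E) : G) from (congrArg Subtype.val hau).symm, inv_mul_cancel_left]
      have huA : ((u : E) : G) ∈ A := hu ▸ A.mul_mem (A.inv_mem (h.hA₀ a.2)) hb
      have huo : orderOf (u : E) = p := by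
        rw [← Subgroup.orderOf_coe]
        refine orderOf_eq_prime (h.hAe.2 _ huA) fun e => hbA₀ ?_
        rw [show b = ((a : E) : G) * ((u : E) : G) from (congrArg Subtype.val hau).symm, e, mul_one]
        exact a.2
      rw [← huo, Subgroup.orderOf_coe]
      exact Monoid.order_dvd_exponent u
    have hpel : ∀ v : E, (∃ k : ℕ, v ^ p ^ k = 1) → v ^ m = 1 := by
      intro v ⟨k, hk⟩
      obtain ⟨P', hP'⟩ := (isPGroup_zpowers hk).exists_le_sylow
      have hKP' : K ≤ (P' : Subgroup E) := (P'.is_maximal'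
        (IsPGroup.to_sup_of_normal_right' P'.2 hKp Subgroup.le_normalizer_of_normal) le_sup_left).le.trans' le_sup_right
      obtain ⟨⟨a, u⟩, hau : (a : E) * (u : E) = v⟩ := hH.2 v
      have huP : (u : E) ∈ (P' : Subgroup E) := by
        rw [show (u : E) = (a : E)⁻¹ * v by rw [← hau, inv_mul_cancel_left]]
        exact mul_mem (inv_mem (hKP' a.2)) (hP' (Subgroup.mem_zpowers v))
      rw [← hau, (show Commute (a : E) u from hcommP P' a (hKP' a.2) u huP).mul_pow, hHm u u.2, mul_one]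
      obtain ⟨t, ht⟩ : ∃ t, m = p * t := hpm
      rw [ht, pow_mul]
      have : (a : E) ^ p = 1 := Subtype.ext (h.hAe.2 _ (h.hA₀ a.2))
      rw [this, one_pow]
    refine Monoid.exponent_dvd_of_forall_pow_eq_one fun x => ?_
    have hxK : x ^ m ∈ K := by
      obtain ⟨⟨a, u⟩, hau : (a : E) * (u : E) = x⟩ := hH.2 x
      rw [← QuotientGroup.eq_one_iff, ← hau, QuotientGroup.mk_pow, QuotientGroup.mk_mul,
        (QuotientGroup.eq_one_iff (a : E)).2 a.2, one_mul, ← QuotientGroup.mk_pow, hHm u u.2, QuotientGroup.mk_one]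
    set s := ordCompl[p] (orderOf x)
    have h1 : (x ^ s) ^ m = 1 := hpel _ ⟨(orderOf x).factorization p, by
      rw [← pow_mul, mul_comm, Nat.ordProj_mul_ordCompl_eq_self, pow_orderOf_eq_one]⟩
    have h2 : (x ^ m) ^ p = 1 := Subtype.ext (h.hAe.2 _ (h.hA₀ hxK))
    rw [← pow_mul, mul_comm, pow_mul] at h1
    exact orderOf_eq_one_iff.1 (Nat.eq_one_of_dvd_coprimes (Nat.coprime_ordCompl hp (orderOf_pos x).ne')
      (orderOf_dvd_of_pow_eq_one h2) (orderOf_dvd_of_pow_eq_one h1))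
  · rintro _ ⟨g, hg, rfl⟩ hg1
    by_contra hfix
    exact hg1 (by rw [hKH g hg (hfixed g g.2 hfix)]; rfl)

/-- BG 12.9. -/
theorem frobenius_type :
    (∃ A₁ : Subgroup G, A₁ ≤ E ∧ E ≤ Subgroup.normalizer (A₁ : Set G) ∧ IsMulCommutative A₁ ∧
        ∀ x ∈ Cfsg.sigmaCore M, x ≠ 1 → E ⊓ Subgroup.centralizer ({x} : Set G) ≤ A₁) ∧
      ∃ E₀ : Subgroup G, E₀ ≤ E ∧ Monoid.exponent E₀ = Monoid.exponent E ∧
        ∀ e ∈ E₀, e ≠ 1 → Cfsg.sigmaCore M ⊓ Subgroup.centralizer ({e} : Set G) = ⊥ := by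
  classical
  by_cases hab : ∀ r ∈ Cfsg.tau2 M, ∀ S : Sylow r G, IsMulCommutative (S : Subgroup G)
  · exact frobenius_type_abelian hG hM hE hreg hab
  push Not at hab
  obtain ⟨r, hr, S, hS⟩ := hab
  haveI := Fact.mk hr.1
  refine frobenius_type_nonabelian hG hM hE hreg hr fun S' hS' => hS ?_
  obtain ⟨g, hg⟩ := MulAction.exists_smul_eq G S' S
  haveI := hS'
  rw [← hg, Sylow.coe_subgroup_smul]
  exact Subgroup.map_isMulCommutative _ _

end

end CfsgLib.OddLocal
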