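import Cfsg.Agent.Lib.OddLocal.LemmaN
import Cfsg.Agent.S1395
import Cfsg.Agent.Lib.Subnormal.Basic

/-!
BG 12.4: all lines of `A` fail to have a unique maximal normalizer.
-/

set_option autoImplicit false
set_option linter.style.haveILetI false
set_option linter.unusedSectionVars false

open scoped commutatorElement
open scoped Pointwise

namespace CfsgLib.OddLocal

open CfsgLib.Coprime
open CfsgLib.BG.FixedLine (conj_mem_of_le_normalizer mem_normalizer_of_conj)

universe u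

variable {G : Type u} [Group G] [Finite G] {p q : ℕ} {M A : Subgroup G}

/-- For `α(M) = ∅` the derived group is nilpotent. -/
theorem isNilpotent_commutator_of_alpha (hG : Cfsg.IsMinSimpleOddOrder G) (hM : IsCoatom M)
    (hα : ∀ q, q.Prime → q ∣ Nat.card M → q ∉ Cfsg.alpha M) : Group.IsNilpotent ↥(commutator M) := by
  have hbot : Cfsg.piCore (Cfsg.alpha M) ↥M = ⊥ := by
    by_contra hne
    obtain ⟨q, hq, hqd⟩ := Nat.exists_prime_and_dvd (fun e => hne (Subgroup.card_eq_one.1 e))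
    exact hα q hq (hqd.trans (Subgroup.card_subgroup_dvd_card _)) (Cfsg.Agent.S1886.piCore_isPi _ q hq hqd)
  set π := QuotientGroup.mk' (Cfsg.piCore (Cfsg.alpha M) ↥M)
  let f : commutator M →* commutator (↥M ⧸ Cfsg.piCore (Cfsg.alpha M) ↥M) :=
    (π.comp (commutator M).subtype).codRestrict _ fun k => by
      have h1 : (commutator M).map π ≤ commutator (↥M ⧸ Cfsg.piCore (Cfsg.alpha M) ↥M) := by
        rw [commutator_def, commutator_def, Subgroup.map_commutator]
        exact Subgroup.commutator_mono le_top le_top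
      exact h1 (Subgroup.mem_map_of_mem π k.2)
  haveI := (derived_quotient_alpha hG hM).1
  refine Subgroup.isNilpotent_of_ker_le_center f fun k hk => ?_
  have h1 : π (k : M) = 1 := congrArg Subtype.val hk
  rw [QuotientGroup.mk'_apply, QuotientGroup.eq_one_iff, hbot, Subgroup.mem_bot] at h1
  rw [show k = 1 from Subtype.ext h1]
  exact one_mem _

/-- A normal subgroup of a nilpotent normal subgroup: Sylow subgroups inside are normal. -/
theorem sylow_normal_of_le_nilpotent {q : ℕ} [Fact q.Prime] {N : Subgroup M} [N.Normal]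
    (hN : Group.IsNilpotent N) (P : Sylow q M) (hP : (P : Subgroup M) ≤ N) : (P : Subgroup M).Normal := by
  haveI hTn : ((P.subtype hP : Sylow q N) : Subgroup N).Normal :=
    CfsgLib.Splitting.sylow_normal_of_isNilpotent hN _
  haveI := (P.subtype hP).characteristic_of_normal hTn
  have := ConjAct.normal_of_characteristic_of_normal (H := N) (K := ((P.subtype hP : Sylow q N) : Subgroup N))
  rwa [Sylow.coe_subtype, Subgroup.map_subgroupOf_eq_of_le hP] at this

/-- The hypothesis of BG 12.4. -/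
structure AllNonUnique (p : ℕ) (M A : Subgroup G) : Prop where
  hG : Cfsg.IsMinSimpleOddOrder G
  hM : IsCoatom M
  hp : p.Prime
  hAM : A ≤ M
  hAe : Cfsg.IsElementaryAbelian p A
  hA2 : Nat.card A = p ^ 2
  hnu : ∀ A₀ : Subgroup G, A₀ ≤ A → Nat.card A₀ = p →
    ∃ L : Subgroup G, IsCoatom L ∧ Subgroup.normalizer (A₀ : Set G) ≤ L ∧ L ≠ M

namespace AllNonUnique

theorem not_uniq (h : AllNonUnique p M A) : ¬ Cfsg.InUniqueMaximal A := by
  intro hU
  haveI := Fact.mk h.hp
  haveI := h.hAe.1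
  obtain ⟨a, ha⟩ := exists_prime_orderOf_dvd_card' (G := A) p (h.hA2 ▸ dvd_pow_self p two_ne_zero)
  obtain ⟨L, hL, hNL, hLM⟩ := h.hnu (Subgroup.zpowers (a : G)) (Subgroup.zpowers_le.2 a.2)
    (by rw [Nat.card_zpowers, Subgroup.orderOf_coe, ha])
  refine hLM (uniq_eq hU hL (le_trans (fun b hb => ?_) hNL) h.hM h.hAM)
  refine Subgroup.centralizer_le_normalizer _ fun y hy => ?_
  obtain ⟨i, rfl⟩ := Subgroup.mem_zpowers_iff.1 hy
  exact ((show Commute (a : G) b from congrArg Subtype.val (mul_comm' a ⟨b, hb⟩)).zpow_left i).eq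

theorem maxElem (h : AllNonUnique p M A) : MaxElem p A := by
  refine ⟨h.hp, h.hAe, h.hA2, fun B hB hAB => ?_⟩
  haveI := Fact.mk h.hp
  haveI := hB.1
  by_contra hne
  refine h.not_uniq (uniq_of_centralizes h.hG (elementary_uniq h.hG hB ?_)
    (fun a ha b hb => congrArg Subtype.val (mul_comm' (⟨b, hb⟩ : B) ⟨a, hAB ha⟩))
    (not_rankLE_one_of_elementary h.hAe h.hA2.ge le_rfl))
  obtain ⟨m, hm⟩ := IsPGroup.iff_card.1 (isPGroup_of_elementary hB)
  by_contra hlt
  refine hne (Subgroup.eq_of_le_of_card_ge hAB ?_).symm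
  rw [hm] at hlt ⊢
  rw [h.hA2]
  have := (Nat.pow_lt_pow_iff_right h.hp.one_lt).1 (not_le.1 hlt)
  exact Nat.pow_le_pow_right h.hp.pos (by omega)

theorem exists_sylow (h : AllNonUnique p M A) :
    ∃ P : Sylow p M, A ≤ (P : Subgroup M).map M.subtype := by
  obtain ⟨P, hP⟩ := (h.maxElem.isPGroup.comap_of_injective M.subtype M.subtype_injective :
    IsPGroup p (A.subgroupOf M)).exists_le_sylow
  exact ⟨P, (Subgroup.map_subgroupOf_eq_of_le h.hAM).ge.trans (Subgroup.map_mono hP)⟩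

theorem not_mem_alpha (h : AllNonUnique p M A) : p ∉ Cfsg.alpha M := by
  intro hα
  haveI := Fact.mk h.hp
  obtain ⟨P, hAP⟩ := h.exists_sylow
  set P' := (P : Subgroup M).map M.subtype with hP'
  have hP3 : ¬ Cfsg.PRankLE p 2 ↥P' := fun hle => hα.2 (prankLE_of_sylow P hle)
  obtain ⟨B, hBP, hBe, hB3⟩ := exists_elementary hP3
  have hA := h.maxElem
  obtain ⟨z, hzP, hzC, hzo⟩ := exists_central_order h.hp (P.2.map M.subtype)
    (fun e => hA.ne_bot (le_bot_iff.1 (hAP.trans e.le)))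
  have hzA : z ∈ A := hA.mem_of_commutes (fun a ha => hzC a (hAP ha)) (hzo ▸ pow_orderOf_eq_one z)
  obtain ⟨L, hL, hNL, hLM⟩ := h.hnu (Subgroup.zpowers z) (Subgroup.zpowers_le.2 hzA)
    (by rw [Nat.card_zpowers, hzo])
  refine hLM (uniq_eq (elementary_uniq h.hG hBe hB3) hL (fun b hb => hNL ?_) h.hM
    (hBP.trans (Subgroup.map_subtype_le _)))
  refine Subgroup.centralizer_le_normalizer _ fun y hy => ?_
  obtain ⟨i, rfl⟩ := Subgroup.mem_zpowers_iff.1 hy
  exact ((show Commute z b from (hzC b (hBP hb)).symm).zpow_left i).eq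

/-- The key lemma. -/
theorem key (h : AllNonUnique p M A) (hq : q.Prime) (hqσ : q ∈ Cfsg.sigma M) (hqp : q ≠ p) (S : Sylow q G)
    (hSM : (S : Subgroup G) ≤ M) (hAS : A ≤ Subgroup.normalizer ((S : Subgroup G) : Set G)) :
    A ≤ Subgroup.centralizer ((S : Subgroup G) : Set G) ∨
      ∃ L : Subgroup G, IsCoatom L ∧ L ≠ M ∧ (S : Subgroup G) ≤ L ∧
        Subgroup.normalizer ((S : Subgroup G) : Set G) ≤ L := by
  classical
  haveI := Fact.mk hq
  haveI := Fact.mk h.hp
  have hA := h.maxElem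
  haveI := h.hAe.1
  by_cases hall : ∀ a ∈ A, a ≠ 1 → (S : Subgroup G) ⊓ Subgroup.centralizer ({a} : Set G) ≤
      Subgroup.centralizer (A : Set G)
  · refine Or.inl (Subgroup.le_centralizer_iff.1 (le_of_centralizer_le hA.not_isCyclic hAS ?_ hall))
    obtain ⟨k, hk⟩ := S.2.exists_card_eq
    rw [h.hA2, hk]
    exact ((Nat.coprime_primes h.hp hq).2 hqp.symm).pow 2 k
  push Not at hall
  obtain ⟨a, ha, ha1, hXC⟩ := hall
  set X := (S : Subgroup G) ⊓ Subgroup.centralizer ({a} : Set G) with hX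
  have hA₀ : Subgroup.zpowers a ≤ A := Subgroup.zpowers_le.2 ha
  have hA₀c : Nat.card (Subgroup.zpowers a) = p := by
    rw [Nat.card_zpowers, orderOf_eq_prime (h.hAe.2 a ha) ha1]
  obtain ⟨L, hL, hNL, hLM⟩ := h.hnu _ hA₀ hA₀c
  have hCL : Subgroup.centralizer ({a} : Set G) ≤ L := by
    refine le_trans (le_trans ?_ (Subgroup.centralizer_le_normalizer _)) hNL
    rw [Subgroup.zpowers_eq_closure, Subgroup.centralizer_closure]
  have hAa : A ≤ Subgroup.centralizer ({a} : Set G) := fun b hb =>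
    Subgroup.mem_centralizer_singleton_iff.2 (hA.comm hb ha)
  have hAL : A ≤ L := hAa.trans hCL
  have hXL : X ≤ L := inf_le_right.trans hCL
  have hXq : IsPGroup q X := S.2.to_le inf_le_left
  have hAX : A ≤ Subgroup.normalizer (X : Set G) :=
    le_normalizer_inf_of_le hAS (hAa.trans Subgroup.le_normalizer)
  have hmoved : ¬ A ≤ Subgroup.centralizer (X : Set G) := fun hle => hXC (Subgroup.le_centralizer_iff.1 hle)
  have hqσL : q ∈ Cfsg.sigma L := by
    by_contra hqσL
    by_cases hpσ : p ∈ Cfsg.sigma L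
    · refine hmoved (centralizes_of_le_derived h.hG hL h.hp hq hqp
        (fun hb => hqσL (beta_subset_sigma h.hG hL hb)) hA.isPGroup ?_ hXq hXL hAX)
      intro b hb
      obtain ⟨P₁, hP₁⟩ := (hA.isPGroup.comap_of_injective L.subtype L.subtype_injective :
        IsPGroup p (A.subgroupOf L)).exists_le_sylow
      rw [← CfsgLib.BG.map_commutator_subtype]
      exact ⟨⟨b, hAL hb⟩, sylow_le_commutator h.hG hL hpσ P₁.2 (hP₁ hb), rfl⟩
    · exact hmoved ((show Exc p L A (Subgroup.zpowers a) from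
        ⟨h.hG, hL, h.hp, hpσ, hAL, h.hAe, h.hA2, hA₀, hA₀c, hNL⟩).centralizes hq hqp hqσL hXL hXq hAX)
  obtain ⟨T, hXT, hTL, hAT, hNT⟩ := hA.exists_sylow_ge h.hG hL hAL hq hqσL hqp hXL hXq hAX
  have hX1 : X ≠ ⊥ := fun e => hXC (e ▸ bot_le)
  obtain ⟨k, hk, hkS⟩ := hA.meet_conj h.hG hq hqp (sylow_mem_maxInv T hAT) (sylow_mem_maxInv S hAS) hL.1 hAL
    (fun e => hX1 (le_bot_iff.1 ((le_inf hXL hXT).trans e.le)))
    (fun e => hX1 (le_bot_iff.1 ((le_inf hXL inf_le_left).trans e.le)))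
  have hkL : k ∈ L := hCL (Subgroup.centralizer_le (Set.singleton_subset_iff.2 ha) hk)
  have hSL : (S : Subgroup G) ≤ L := hkS.le.trans ((Subgroup.map_mono hTL).trans (smul_eq_self hkL).le)
  refine Or.inr ⟨L, hL, hLM, hSL, ?_⟩
  have := sylow_normalizer_le hqσL (S.subtype hSL)
  rwa [Sylow.coe_subtype, Subgroup.map_subgroupOf_eq_of_le hSL] at this

theorem not_mem_alpha' (h : AllNonUnique p M A) {q : ℕ} (hq : q.Prime) : q ∉ Cfsg.alpha M := by
  intro hqα
  rcases eq_or_ne q p with rfl | hqp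
  · exact h.not_mem_alpha hqα
  haveI := Fact.mk hq
  haveI := Fact.mk h.hp
  have hA := h.maxElem
  have hqσ : q ∈ Cfsg.sigma M := alpha_subset_sigma h.hG h.hM hqα
  obtain ⟨S, -, hSM, hAS, -⟩ := hA.exists_sylow_ge h.hG h.hM h.hAM hq hqσ hqp (bot_le : (⊥ : Subgroup G) ≤ M)
    IsPGroup.of_bot (fun a _ => mem_normalizer_of_conj fun x hx => by
      rw [Subgroup.mem_bot] at hx ⊢; rw [hx]; group)
  have hS3 : ¬ Cfsg.PRankLE q 2 ↥(S : Subgroup G) := fun hle => hqα.2 (prankLE_of_sylow (S.subtype hSM)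
    (by rwa [Sylow.coe_subtype, Subgroup.map_subgroupOf_eq_of_le hSM]))
  rcases h.key hq hqσ hqp S hSM hAS with hc | ⟨L, hL, hLM, hSL, -⟩
  · exact hS3 (prankLE_mono (Subgroup.le_centralizer_iff.1 hc) (hA.centralizer_rankLE h.hG h.not_uniq q hq))
  · obtain ⟨B, hBS, hBe, hB3⟩ := exists_elementary hS3
    exact hLM (uniq_eq (elementary_uniq h.hG hBe hB3) hL (hBS.trans hSL) h.hM (hBS.trans hSM))

theorem alphaCore_eq_bot (h : AllNonUnique p M A) : Cfsg.alphaCore M = ⊥ := by
  by_contra hne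
  obtain ⟨q, hq, hqd⟩ := Nat.exists_prime_and_dvd (fun e => hne (Subgroup.card_eq_one.1 e))
  exact h.not_mem_alpha' hq (isPi_piCoreOf _ M q hq hqd)

theorem commutator_nilpotent (h : AllNonUnique p M A) : Group.IsNilpotent ↥(commutator M) :=
  isNilpotent_commutator_of_alpha h.hG h.hM fun _ hq _ => h.not_mem_alpha' hq

theorem sigmaCore_nilpotent (h : AllNonUnique p M A) : Group.IsNilpotent ↥(Cfsg.sigmaCore M) := by
  haveI := h.commutator_nilpotent
  haveI : Group.IsNilpotent ↥(Cfsg.piCore (Cfsg.sigma M) ↥M) :=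
    Subgroup.isNilpotent_of_ker_le_center (Subgroup.inclusion (sigma_piCore_le_commutator h.hG h.hM)) (by
      rw [(MonoidHom.ker_eq_bot_iff _).2 (Subgroup.inclusion_injective _)]; exact bot_le)
  exact Group.nilpotent_of_mulEquiv ((Cfsg.piCore (Cfsg.sigma M) ↥M).equivMapOfInjective M.subtype M.subtype_injective)

theorem sylow_normal (h : AllNonUnique p M A) {q : ℕ} [Fact q.Prime] (hqσ : q ∈ Cfsg.sigma M) (Q : Sylow q M) :
    M ≤ Subgroup.normalizer (((Q : Subgroup M).map M.subtype : Subgroup G) : Set G) := by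
  haveI := sylow_normal_of_le_nilpotent h.commutator_nilpotent Q (sylow_le_commutator h.hG h.hM hqσ Q.2)
  exact fun m hm => mem_normalizer_of_conj (by
    rintro _ ⟨x, hx, rfl⟩
    exact ⟨(⟨m, hm⟩ : M) * x * (⟨m, hm⟩ : M)⁻¹, Subgroup.Normal.conj_mem inferInstance x hx _, rfl⟩)

theorem mem_sigma (h : AllNonUnique p M A) : p ∈ Cfsg.sigma M := by
  classical
  by_contra hpσ
  haveI := Fact.mk h.hp
  have hA := h.maxElem
  obtain ⟨P, hAP⟩ := h.exists_sylow
  set P' := (P : Subgroup M).map M.subtype with hP'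
  have hP'p : IsPGroup p P' := P.2.map _
  have hP'M : P' ≤ M := Subgroup.map_subtype_le _
  obtain ⟨r, hrσ⟩ := exists_mem_sigma h.hG h.hM
  haveI := Fact.mk (prime_of_mem_sigma hrσ)
  have hrp : r ≠ p := fun e => hpσ (e ▸ hrσ)
  obtain ⟨Q⟩ : Nonempty (Sylow r M) := inferInstance
  obtain ⟨T, hT⟩ := exists_sylow_map_eq hrσ Q
  have hTM : (T : Subgroup G) ≤ M := hT.le.trans (Subgroup.map_subtype_le _)
  have hMT : M ≤ Subgroup.normalizer ((T : Subgroup G) : Set G) := hT ▸ h.sylow_normal hrσ Q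
  have hT1 : (T : Subgroup G) ≠ ⊥ := T.ne_bot_of_dvd_card (hrσ.2.1.trans M.card_subgroup_dvd_card)
  have hNT : Subgroup.normalizer ((T : Subgroup G) : Set G) = M := normalizer_eq_of_isCoatom h.hG h.hM hTM hT1 hMT
  have hTC : (T : Subgroup G) ≤ Subgroup.centralizer (A : Set G) := by
    rcases h.key (prime_of_mem_sigma hrσ) hrσ hrp T hTM (h.hAM.trans hMT) with hc | ⟨L, hL, hLM, -, hNL⟩
    · exact Subgroup.le_centralizer_iff.1 hc
    · exact absurd (((h.hM.le_iff).1 (hNT ▸ hNL)).resolve_left hL.1) hLM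
  have hrC : r ∣ Nat.card (Subgroup.centralizer (A : Set G)) := by
    refine dvd_trans ?_ (Subgroup.card_dvd_of_le hTC)
    obtain ⟨k, hk⟩ := T.2.exists_card_eq
    rw [hk]
    exact dvd_pow_self r fun h0 => hT1 (Subgroup.card_eq_one.1 (by rw [hk, h0, pow_zero]))
  have hTH := hA.transitivityHypothesis h.hG
  have hrk : ¬ Cfsg.RankLE 1 ↥(A ⊓ Subgroup.centralizer (A : Set G)) :=
    not_rankLE_one_of_elementary h.hAe h.hA2.ge (le_inf le_rfl fun a ha b hb => hA.comm hb ha)
  haveI := hP'p.isNilpotent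
  obtain ⟨-, -, -, h4⟩ := Cfsg.Agent.S1395.result h.hG A hTH r (prime_of_mem_sigma hrσ)
    (hA.not_dvd (prime_of_mem_sigma hrσ) hrp) P' (fun e => h.hM.1 (top_unique (e.ge.trans hP'M)))
    (fun s hs hd => by
      obtain ⟨k, hk⟩ := hP'p.exists_card_eq
      rw [hk] at hd
      rw [(Nat.prime_dvd_prime_iff_eq hs h.hp).1 (hs.dvd_of_dvd_pow hd)]
      exact hA.dvd_card) hAP (CfsgLib.Subnormal.isSubnormal_of_isNilpotent _)
    (Cfsg.Agent.S1394.result h.hG A hTH hrk r (prime_of_mem_sigma hrσ) (hA.not_dvd (prime_of_mem_sigma hrσ) hrp) hrC)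
  obtain ⟨hder, hfac⟩ := h4 (T : Subgroup G) (sylow_mem_maxInv T (hP'M.trans hMT))
  -- `P` is a Sylow subgroup of `G`
  set K := Cfsg.piCoreOf (Cfsg.primesNotDvd (Nat.card A)) (Subgroup.centralizer (P' : Set G)) with hK
  set R := Subgroup.normalizer (P' : Set G) ⊓ Subgroup.normalizer ((T : Subgroup G) : Set G) with hR
  have hRM : R ≤ M := inf_le_right.trans hNT.le
  have hcard := card_sup_mul_card_inf (K := K) (S := R) (inf_le_left.trans
    ((le_normalizer_centralizer (A := Subgroup.normalizer (P' : Set G)) (H := P') le_rfl).trans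
      (piCoreOf_normalizer_le _ _)))
  rw [← hfac] at hcard
  obtain ⟨S, hS⟩ := hP'p.exists_le_sylow
  have hSP : (S : Subgroup G) ≤ P' := by
    by_contra hnle
    obtain ⟨y, hyS, hyN, hyP⟩ := exists_mem_normalizer_not_mem S.2 hS hnle
    set P₁ := (S : Subgroup G) ⊓ Subgroup.normalizer (P' : Set G)
    have hP₁ : Nat.card P' * p ∣ Nat.card P₁ := by
      obtain ⟨i, hi⟩ := hP'p.exists_card_eq
      obtain ⟨j, hj⟩ := (S.2.to_le (inf_le_left : P₁ ≤ S)).exists_card_eq
      rw [hi, hj, ← pow_succ]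
      refine pow_dvd_pow p ?_
      by_contra hlt
      have : P' = P₁ := Subgroup.eq_of_le_of_card_ge (le_inf hS Subgroup.le_normalizer) (by
        rw [hi, hj]; exact Nat.pow_le_pow_right h.hp.pos (by omega))
      exact hyP (this.ge ⟨hyS, hyN⟩)
    have h1 : Nat.card P' * p ∣ Nat.card K * Nat.card R :=
      (hP₁.trans (Subgroup.card_dvd_of_le inf_le_right)).trans ⟨_, hcard.symm⟩
    have h2 : (Nat.card P' * p).Coprime (Nat.card K) := by
      obtain ⟨i, hi⟩ := hP'p.exists_card_eq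
      rw [hi, ← pow_succ]
      refine Nat.Coprime.pow_left _ (h.hp.coprime_iff_not_dvd.2 fun hd => ?_)
      exact (isPi_piCoreOf _ _ p h.hp hd).2 hA.dvd_card
    have h3 := (h2.dvd_of_dvd_mul_left h1).trans (Subgroup.card_dvd_of_le hRM)
    rw [hP', Subgroup.card_subtype, P.card_eq_multiplicity, ← pow_succ] at h3
    exact absurd ((h.hp.pow_dvd_iff_le_factorization Nat.card_pos.ne').1 h3) (by omega)
  have hPS : P' = S := le_antisymm hS hSP
  have hPd : P' ≤ ⁅M, M⁆ := fun x hx => by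
    have h1 : x ∈ P' ⊓ ⁅Subgroup.normalizer (P' : Set G), Subgroup.normalizer (P' : Set G)⁆ :=
      ⟨hx, by rw [hPS] at hx ⊢; exact sylow_le_derived_normalizer h.hG S hx⟩
    exact hNT ▸ hder h1
  have hPle : (P : Subgroup M) ≤ commutator M := fun x hx => by
    have h1 := hPd ⟨x, hx, rfl⟩
    rw [← CfsgLib.BG.map_commutator_subtype] at h1
    obtain ⟨w, hw, he⟩ := h1
    exact (M.subtype_injective he) ▸ hw
  haveI := sylow_normal_of_le_nilpotent h.commutator_nilpotent P hPle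
  obtain ⟨n, hn, hnM⟩ := exists_normalizer_not_mem (hA.dvd_card.trans (Subgroup.card_dvd_of_le h.hAM)) hpσ P
  refine hnM ?_
  rw [normalizer_eq_of_isCoatom h.hG h.hM hP'M (fun e => hA.ne_bot (le_bot_iff.1 (hAP.trans e.le)))
    (fun m hm => mem_normalizer_of_conj (by
      rintro _ ⟨x, hx, rfl⟩
      exact ⟨(⟨m, hm⟩ : M) * x * (⟨m, hm⟩ : M)⁻¹, Subgroup.Normal.conj_mem inferInstance x hx _, rfl⟩))] at hn
  exact hn

theorem centralizer_le (h : AllNonUnique p M A) : Subgroup.centralizer (A : Set G) ≤ M := by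
  classical
  haveI := Fact.mk h.hp
  have hA := h.maxElem
  obtain ⟨P, hAP⟩ := h.exists_sylow
  set P' := (P : Subgroup M).map M.subtype with hP'
  have hMP := h.sylow_normal h.mem_sigma P
  set Z := A ⊓ Subgroup.centralizer (P' : Set G) with hZ
  have hMZ : M ≤ Subgroup.normalizer (Z : Set G) := fun m hm => mem_normalizer_of_conj fun z hz => by
    have h1 : m * z * m⁻¹ ∈ Subgroup.centralizer (P' : Set G) :=
      conj_mem_of_le_normalizer ((le_normalizer_centralizer hMP) hm) z hz.2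
    exact ⟨hA.mem_of_commutes (fun a ha => h1 a (hAP ha))
      (by rw [conj_pow, hA.elem.2 z hz.1, mul_one, mul_inv_cancel]), h1⟩
  obtain ⟨z, hzP, hzC, hzo⟩ := exists_central_order h.hp (P.2.map M.subtype)
    (fun e => hA.ne_bot (le_bot_iff.1 (hAP.trans e.le)))
  have hzZ : z ∈ Z := ⟨hA.mem_of_commutes (fun a ha => hzC a (hAP ha)) (hzo ▸ pow_orderOf_eq_one z), hzC⟩
  have hZ1 : Z ≠ ⊥ := fun e => by
    rw [e, Subgroup.mem_bot] at hzZ
    rw [hzZ, orderOf_one] at hzo
    exact h.hp.ne_one hzo.symm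
  refine le_trans ?_ (normalizer_eq_of_isCoatom h.hG h.hM ((inf_le_left : Z ≤ A).trans h.hAM) hZ1 hMZ).le
  exact (Subgroup.centralizer_le (SetLike.coe_subset_coe.2 (inf_le_left : Z ≤ A))).trans
    (Subgroup.centralizer_le_normalizer _)

end AllNonUnique

end CfsgLib.OddLocal
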