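import Mathlib
import Cfsg.Prelude.Def_OddOrderLocal
import Cfsg.Agent.Lib.Fitting.Basic
import Cfsg.Agent.Lib.Transfer.Frobenius
import Cfsg.Agent.Lib.PSolvable.Core

/-!
Elementary facts about the data of a subgroup of type P.
-/

set_option autoImplicit false
set_option linter.style.haveILetI false

namespace CfsgLib.OddLocal

open Cfsg

variable {G : Type*} [Group G]

theorem fittingHall_coprime_index [Finite G] :
    (Nat.card (fittingHall G)).Coprime (fittingHall G).index := by
  refine Nat.coprime_of_dvd fun q hq h1 h2 => ?_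
  haveI : Fact q.Prime := ⟨hq⟩
  have hle : fittingHall G ≤ pPrimeCore q G := sSup_le fun N hN => by
    have hNS : N ≤ fittingHall G := le_sSup hN
    refine Transfer.le_pPrimeCore hN.1 ((hq.coprime_iff_not_dvd.mpr fun h3 => ?_).symm)
    exact Nat.not_coprime_of_dvd_of_dvd hq.one_lt h3
      (h2.trans (Subgroup.index_dvd_of_le hNS)) hN.2.2
  exact hq.coprime_iff_not_dvd.mp
    ((Transfer.pPrimeCore_coprime (G := G) q).coprime_dvd_left (Subgroup.card_dvd_of_le hle)).symm h1

theorem le_fittingHall {N : Subgroup G} (hn : N.Normal) (hN : Group.IsNilpotent N)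
    (hc : (Nat.card N).Coprime N.index) : N ≤ fittingHall G :=
  le_sSup ⟨hn, hN, hc⟩

/-- For a unique factorisation `M = A B`, the order of `M` is the product of the orders. -/
theorem card_eq_of_isComplIn [Finite G] {A B M : Subgroup G} (h : IsComplIn A B M) :
    Nat.card M = Nat.card A * Nat.card B := by
  obtain ⟨hA, hB, hAB, hM⟩ := h
  rw [← Nat.card_prod]
  refine (Nat.card_eq_of_bijective
    (fun x : A × B => (⟨x.1 * x.2, mul_mem (hA x.1.2) (hB x.2.2)⟩ : M)) ⟨?_, ?_⟩).symm
  · rintro ⟨⟨a, ha⟩, ⟨b, hb⟩⟩ ⟨⟨a', ha'⟩, ⟨b', hb'⟩⟩ he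
    have he' : a * b = a' * b' := congrArg Subtype.val he
    have h1 : a'⁻¹ * a = b' * b⁻¹ := by
      rw [eq_mul_inv_iff_mul_eq, mul_assoc, he', inv_mul_cancel_left]
    have h2 : a'⁻¹ * a ∈ A ⊓ B :=
      Subgroup.mem_inf.mpr ⟨mul_mem (inv_mem ha') ha, h1 ▸ mul_mem hb' (inv_mem hb)⟩
    rw [hAB, Subgroup.mem_bot, inv_mul_eq_one] at h2
    subst h2
    exact Prod.ext rfl (Subtype.ext (mul_left_cancel he'))
  · rintro ⟨m, hm⟩
    obtain ⟨a, ha, b, hb, rfl⟩ := hM m hm
    exact ⟨(⟨a, ha⟩, ⟨b, hb⟩), rfl⟩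

theorem relIndex_left_of_isComplIn [Finite G] {A B M : Subgroup G} (h : IsComplIn A B M) :
    A.relIndex M = Nat.card B := by
  have h1 := card_eq_of_isComplIn h
  have h2 := Subgroup.card_mul_index (A.subgroupOf M)
  rw [Nat.card_congr (Subgroup.subgroupOfEquivOfLe h.1).toEquiv] at h2
  exact Nat.eq_of_mul_eq_mul_left Nat.card_pos (h2.trans h1)

theorem relIndex_right_of_isComplIn [Finite G] {A B M : Subgroup G} (h : IsComplIn A B M) :
    B.relIndex M = Nat.card A := by
  have h1 := card_eq_of_isComplIn h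
  have h2 := Subgroup.card_mul_index (B.subgroupOf M)
  rw [Nat.card_congr (Subgroup.subgroupOfEquivOfLe h.2.1).toEquiv, mul_comm] at h2
  exact Nat.eq_of_mul_eq_mul_right Nat.card_pos (h2.trans h1)

theorem commutator_subgroupOf_eq (M : Subgroup G) :
    (⁅M, M⁆ : Subgroup G).subgroupOf M = commutator M := by
  apply Subgroup.map_injective M.subtype_injective
  rw [Subgroup.map_subgroupOf_eq_of_le (Subgroup.commutator_le_self M), commutator_def,
    Subgroup.map_commutator, ← MonoidHom.range_eq_map, Subgroup.range_subtype]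

variable [Finite G] {M W₁ U W₂ : Subgroup G}

theorem card_coprime_of_typeP (hP : IsTypePWith M W₁ U W₂) :
    (Nat.card (fittingHallOf M)).Coprime (Nat.card U) := by
  have h1 : (Nat.card (fittingHallOf M)).Coprime (fittingHall M).index := by
    rw [fittingHallOf, Subgroup.card_map_of_injective M.subtype_injective]
    exact fittingHall_coprime_index
  refine h1.coprime_dvd_right ?_
  rw [← relIndex_left_of_isComplIn hP.U_compl]
  have h2 : (fittingHallOf M).relIndex ⁅M, M⁆ ∣ (fittingHallOf M).relIndex M :=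
    Dvd.intro _ (Subgroup.relIndex_mul_relIndex _ _ _ hP.U_compl.1
      (Subgroup.commutator_le_self M))
  refine h2.trans (dvd_of_eq ?_)
  rw [Subgroup.relIndex, fittingHallOf, Subgroup.subgroupOf,
    Subgroup.comap_map_eq_self_of_injective M.subtype_injective]

theorem inf_fitting_le_centralizer (hP : IsTypePWith M W₁ U W₂) :
    U ⊓ fittingOf M ≤ Subgroup.centralizer (fittingHallOf M : Set G) := by
  intro u hu
  obtain ⟨huU, huF⟩ := Subgroup.mem_inf.mp hu
  rw [← hP.fitting_eq] at huF
  have hMC : M ⊓ Subgroup.centralizer (fittingHallOf M : Set G) ≤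
      Subgroup.normalizer (fittingHallOf M : Set G) :=
    inf_le_right.trans (Subgroup.centralizer_le_normalizer _)
  rw [← SetLike.mem_coe, Subgroup.coe_mul_of_right_le_normalizer_left _ _ hMC, Set.mem_mul] at huF
  obtain ⟨h, hh, c, hc, rfl⟩ := huF
  have hcC := (Subgroup.mem_inf.mp hc).2
  have hcomm : Commute h c := hcC h hh
  have hn : (h * c) ^ Nat.card (fittingHallOf M) = c ^ Nat.card (fittingHallOf M) := by
    rw [hcomm.mul_pow, show h ^ Nat.card (fittingHallOf M) = 1 from
      congrArg Subtype.val (pow_card_eq_one' (x := (⟨h, hh⟩ : fittingHallOf M))), one_mul]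
  obtain ⟨k, hk⟩ := exists_pow_eq_self_of_coprime
    ((card_coprime_of_typeP hP).coprime_dvd_right (Subgroup.orderOf_dvd_natCard U huU))
  rw [← hk, hn]
  exact pow_mem (pow_mem hcC _) k

theorem derived_eq_of_le_centralizer (hP : IsTypePWith M W₁ U W₂)
    (hUC : U ≤ Subgroup.centralizer (fittingHallOf M : Set G)) :
    ⁅M, M⁆ ≤ fittingHallOf M := by
  have hle : ⁅M, M⁆ ≤ fittingOf M := by
    intro m hm
    obtain ⟨a, ha, b, hb, rfl⟩ := hP.U_compl.2.2.2 m hm
    rw [← hP.fitting_eq]
    exact mul_mem (Subgroup.mem_sup_left ha) (Subgroup.mem_sup_right (Subgroup.mem_inf.mpr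
      ⟨Subgroup.commutator_le_self M (hP.U_compl.2.1 hb), hUC hb⟩))
  have hle' : commutator M ≤ fittingSubgroup M := by
    rw [← commutator_subgroupOf_eq]
    intro x hx
    obtain ⟨y, hy, hyx⟩ := hle hx
    rwa [← Subtype.ext hyx]
  have hnil : Group.IsNilpotent (commutator M) := by
    haveI := Fitting.fittingSubgroup_isNilpotent (G := M)
    exact Subgroup.isNilpotent_of_ker_le_center (Subgroup.inclusion hle')
      (by rw [(MonoidHom.ker_eq_bot_iff _).mpr (Subgroup.inclusion_injective hle')]; exact bot_le)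
  have hcop : (Nat.card (commutator M)).Coprime (commutator M).index := by
    rw [← commutator_subgroupOf_eq,
      Nat.card_congr (Subgroup.subgroupOfEquivOfLe (Subgroup.commutator_le_self M)).toEquiv]
    change (Nat.card ↥(⁅M, M⁆ : Subgroup G)).Coprime ((⁅M, M⁆ : Subgroup G).relIndex M)
    rw [relIndex_left_of_isComplIn hP.W₁_compl, ← relIndex_right_of_isComplIn hP.W₁_compl]
    exact hP.W₁_hall.symm
  have h := le_fittingHall (N := commutator M) inferInstance hnil hcop
  rw [← Subgroup.map_subgroupOf_eq_of_le (Subgroup.commutator_le_self M), commutator_subgroupOf_eq]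
  exact Subgroup.map_mono h

end CfsgLib.OddLocal
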