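import Cfsg.Agent.Lib.OddLocal.FixedTools
import Cfsg.Agent.Lib.OddLocal.TypePBasic
import Cfsg.Agent.Lib.OddLocal.Theorem124

/-!
`M_F ≤ M_σ`, with equality when `M_σ` is nilpotent.
-/

set_option autoImplicit false
set_option linter.style.haveILetI false
set_option linter.unusedSectionVars false

open scoped commutatorElement
open scoped Pointwise

namespace CfsgLib.OddLocal

open CfsgLib.Coprime
open CfsgLib.BG.FixedLine (conj_mem_of_le_normalizer mem_normalizer_of_conj)

universe u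

variable {G : Type u} [Group G] [Finite G] {q : ℕ} {M : Subgroup G}

/-- A prime with a normal Sylow subgroup is in `σ(M)`. -/
theorem sigma_of_normal_sylow (hM : IsCoatom M) (hG : Cfsg.IsMinSimpleOddOrder G) [Fact q.Prime]
    (hd : q ∣ Nat.card M) (P : Sylow q M) (hn : (P : Subgroup M).Normal) : q ∈ Cfsg.sigma M := by
  refine ⟨Fact.out, hd, P, ?_⟩
  have hle : M ≤ Subgroup.normalizer (((P : Subgroup M).map M.subtype : Subgroup G) : Set G) := fun m hm =>
    mem_normalizer_of_conj fun x hx => by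
      obtain ⟨w, hw, rfl⟩ := hx
      exact ⟨_, hn.conj_mem w hw ⟨m, hm⟩, rfl⟩
  refine ((hM.le_iff.1 hle).resolve_left (normalizer_ne_top hG (fun e => ?_) fun e => ?_)).le
  · rw [← Subgroup.card_eq_one, Subgroup.card_subtype, P.card_eq_multiplicity] at e
    exact (Fact.out (p := q.Prime) |>.factorization_pos_of_dvd Nat.card_pos.ne' hd).ne'
      ((Nat.pow_eq_one.1 e).resolve_left (Fact.out (p := q.Prime)).ne_one)
  · exact hM.1 (top_unique (e.ge.trans (Subgroup.map_subtype_le _)))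

theorem fittingHallOf_le_sigmaCore (hG : Cfsg.IsMinSimpleOddOrder G) (hM : IsCoatom M) :
    Cfsg.fittingHallOf M ≤ Cfsg.sigmaCore M := by
  refine Subgroup.map_mono (sSup_le fun N hN => le_sSup ⟨hN.1, fun q hq hd => ?_⟩)
  haveI := Fact.mk hq
  haveI := hN.1
  obtain ⟨P₀⟩ : Nonempty (Sylow q M) := inferInstance
  have hPN : (P₀ : Subgroup M) ≤ N := le_of_coprime_index (Nat.coprime_of_dvd fun r hr h1 h2 => by
    rw [P₀.card_eq_multiplicity] at h1
    exact Nat.not_coprime_of_dvd_of_dvd hq.one_lt hd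
      ((Nat.prime_dvd_prime_iff_eq hr hq).1 (hr.dvd_of_dvd_pow h1) ▸ h2) hN.2.2)
  exact sigma_of_normal_sylow hM hG (hd.trans (Subgroup.card_subgroup_dvd_card N)) P₀
    (sylow_normal_of_le_nilpotent hN.2.1 P₀ hPN)

theorem sigmaCore_le_fittingHallOf (hG : Cfsg.IsMinSimpleOddOrder G) (hM : IsCoatom M)
    (hnil : Group.IsNilpotent (Cfsg.sigmaCore M)) : Cfsg.sigmaCore M ≤ Cfsg.fittingHallOf M := by
  haveI : Group.IsNilpotent ↥((Cfsg.piCore (Cfsg.sigma M) M).map M.subtype) := hnil
  refine Subgroup.map_mono (le_fittingHall inferInstance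
    (Group.nilpotent_of_surjective ((Subgroup.equivMapOfInjective _ _ M.subtype_injective).symm.toMonoidHom)
      (MulEquiv.surjective _)) (Nat.coprime_of_dvd fun q hq h1 h2 => ?_))
  refine not_dvd_index_sigma hG hM hq (isPi_piCoreOf _ M q hq ?_) h2
  rwa [show Cfsg.piCoreOf (Cfsg.sigma M) M = (Cfsg.piCore (Cfsg.sigma M) M).map M.subtype from rfl,
    Subgroup.card_subtype]

theorem fittingHallOf_eq_sigmaCore (hG : Cfsg.IsMinSimpleOddOrder G) (hM : IsCoatom M)
    (hnil : Group.IsNilpotent (Cfsg.sigmaCore M)) : Cfsg.fittingHallOf M = Cfsg.sigmaCore M :=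
  le_antisymm (fittingHallOf_le_sigmaCore hG hM) (sigmaCore_le_fittingHallOf hG hM hnil)

end CfsgLib.OddLocal
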