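import Cfsg.Agent.Lib.OddLocal.TauThreeBasics

/-!
Element forms of the fixed-point lemmas of BG §13.
-/

set_option autoImplicit false
set_option linter.style.haveILetI false
set_option linter.unusedSectionVars false

open scoped commutatorElement
open scoped Pointwise

namespace CfsgLib.OddLocal

open CfsgLib.Coprime
open CfsgLib.BG.FixedLine (conj_mem_of_le_normalizer mem_normalizer_of_conj)

universe u

variable {G : Type u} [Group G] [Finite G] {p q s : ℕ} {M N L E : Subgroup G}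

theorem mem_centralizer_singleton_of_commute {a b : G} (h : Commute a b) :
    b ∈ Subgroup.centralizer ({a} : Set G) := Subgroup.mem_centralizer_singleton_iff.2 h.eq.symm

theorem commute_of_mem_centralizer_singleton {a b : G} (h : b ∈ Subgroup.centralizer ({a} : Set G)) :
    Commute a b := (Subgroup.mem_centralizer_singleton_iff.1 h).symm

theorem commute_of_mem_centralizer {A : Subgroup G} {a b : G} (ha : a ∈ A)
    (hb : b ∈ Subgroup.centralizer (A : Set G)) : Commute a b := hb a ha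

theorem conj_smul_line (c u : G) :
    MulAut.conj c • Subgroup.zpowers u = Subgroup.zpowers (c * u * c⁻¹) := by
  ext x
  rw [mem_conj_smul_iff, Subgroup.mem_zpowers_iff, Subgroup.mem_zpowers_iff]
  refine exists_congr fun i => ?_
  rw [conj_zpow]
  constructor
  · intro hi; rw [hi]; group
  · intro hi; rw [← hi]; group

theorem conj_centralizer_elem (c u : G) :
    Subgroup.centralizer ({c * u * c⁻¹} : Set G) = MulAut.conj c • Subgroup.centralizer ({u} : Set G) := by
  rw [← centralizer_zpowers_eq, ← centralizer_zpowers_eq, ← conj_smul_line, conj_centralizer]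

/-- A nontrivial element of prime power order has a power of prime order. -/
theorem exists_line_pow (hs : s.Prime) {y : G} {k : ℕ} (hk : y ^ s ^ k = 1) (hy : y ≠ 1) :
    ∃ h ∈ Subgroup.zpowers y, orderOf h = s := by
  refine exists_order_of_dvd hs ?_
  rw [Nat.card_zpowers]
  obtain ⟨i, -, hi⟩ := (Nat.dvd_prime_pow hs).1 (orderOf_dvd_of_pow_eq_one hk)
  rcases Nat.eq_zero_or_pos i with rfl | hi0
  · exact absurd (orderOf_eq_one_iff.1 (by rw [hi, pow_zero])) hy
  · exact hi ▸ dvd_pow_self s hi0.ne'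

theorem prime_dvd_of_primary {r : ℕ} (hr : r.Prime) (hs : s.Prime) {y : G} {k : ℕ} (hk : y ^ s ^ k = 1)
    (hd : r ∣ orderOf y) : r = s :=
  (Nat.prime_dvd_prime_iff_eq hr hs).1 (hr.dvd_of_dvd_pow (hd.trans (orderOf_dvd_of_pow_eq_one hk)))

/-- Commuting `σ(M)'`-elements lie in a common complement. -/
theorem exists_compl_pair (hG : Cfsg.IsMinSimpleOddOrder G) (hM : IsCoatom M) {a b : G} (ha : a ∈ M) (hb : b ∈ M)
    (hab : Commute a b) (hσa : ∀ r : ℕ, r.Prime → r ∣ orderOf a → r ∉ Cfsg.sigma M)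
    (hσb : ∀ r : ℕ, r.Prime → r ∣ orderOf b → r ∉ Cfsg.sigma M) :
    ∃ F : Subgroup G, Cfsg.IsComplIn F (Cfsg.sigmaCore M) M ∧ a ∈ F ∧ b ∈ F := by
  obtain ⟨F, hF, hle⟩ := exists_compl_ge hG hM (K := Subgroup.zpowers a ⊔ Subgroup.zpowers b)
    (sup_le (Subgroup.zpowers_le.2 ha) (Subgroup.zpowers_le.2 hb))
    (isPi_sup (π := {r | r ∉ Cfsg.sigma M}) (Subgroup.zpowers_le.2 (Subgroup.centralizer_le_normalizer _
      (by rw [centralizer_zpowers_eq]; exact mem_centralizer_singleton_of_commute hab)))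
      (isPi_zpowers hσa) (isPi_zpowers hσb))
  exact ⟨F, hF, hle (Subgroup.mem_sup_left (Subgroup.mem_zpowers a)),
    hle (Subgroup.mem_sup_right (Subgroup.mem_zpowers b))⟩

/-- BG 13.4 for a commuting pair of elements of prime order. -/
theorem centralizer_le_of_commute (hG : Cfsg.IsMinSimpleOddOrder G) (hM : IsCoatom M) (hs : s ∈ Cfsg.tau1 M)
    {a b : G} (ha : a ∈ M) (hao : orderOf a = s) (hb : b ∈ M) {r : ℕ} (hr : r.Prime) (hbo : orderOf b = r)
    (hrσ : r ∉ Cfsg.sigma M) (hab : Commute a b) :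
    Cfsg.sigmaCore M ⊓ Subgroup.centralizer ({a} : Set G) ≤ Subgroup.centralizer ({b} : Set G) := by
  obtain ⟨F, hF, haF, hbF⟩ := exists_compl_pair hG hM ha hb hab
    (fun t ht hd => by rw [hao] at hd; exact (Nat.prime_dvd_prime_iff_eq ht hs.1).1 hd ▸ hs.2.1)
    (fun t ht hd => by rw [hbo] at hd; exact (Nat.prime_dvd_prime_iff_eq ht hr).1 hd ▸ hrσ)
  have h := tau_one_centralizer hG hM hF hs (P := Subgroup.zpowers a) (R := Subgroup.zpowers b)
    (Subgroup.zpowers_le.2 haF) (by rw [Nat.card_zpowers, hao])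
    (le_inf (Subgroup.zpowers_le.2 hbF) (Subgroup.zpowers_le.2
      (by rw [centralizer_zpowers_eq]; exact mem_centralizer_singleton_of_commute hab)))
    (by rw [Nat.card_zpowers, hbo]; exact hr)
  rw [centralizer_zpowers_eq, centralizer_zpowers_eq] at h
  exact h.trans inf_le_right

/-- An element of prime power order with rank one is centralized by the fixed points of its line. -/
theorem centralizer_le_of_primary (hG : Cfsg.IsMinSimpleOddOrder G) (hM : IsCoatom M) (hs : s.Prime)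
    (hsσ : s ∉ Cfsg.sigma M) (hsr : Cfsg.PRankLE s 1 M) {y h : G} (hy : y ∈ M) {k : ℕ} (hk : y ^ s ^ k = 1)
    (hh : h ∈ Subgroup.zpowers y) (hho : orderOf h = s) :
    Cfsg.sigmaCore M ⊓ Subgroup.centralizer ({h} : Set G) ≤ Subgroup.centralizer ({y} : Set G) := by
  classical
  haveI := Fact.mk hs
  have hYM : Subgroup.zpowers y ≤ M := Subgroup.zpowers_le.2 hy
  obtain ⟨SS, hSS⟩ := ((isPGroup_zpowers hk).comap_of_injective M.subtype M.subtype_injective :
    IsPGroup s ((Subgroup.zpowers y).subgroupOf M)).exists_le_sylow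
  have hySS : Subgroup.zpowers y ≤ (SS : Subgroup M).map M.subtype :=
    (Subgroup.map_subgroupOf_eq_of_le hYM).ge.trans (Subgroup.map_mono hSS)
  have h1 := fixed_line_le_centralizer hG hM hs hsσ (hho ▸ Subgroup.orderOf_dvd_natCard M (hYM hh))
    (Subgroup.map_subtype_le _) (cyclic_of_prankLE_one hG hs hsr (SS.2.map M.subtype) (Subgroup.map_subtype_le _))
    ⟨SS, rfl⟩ ((Subgroup.zpowers_le.2 hh).trans hySS) (by rw [Nat.card_zpowers, hho])
  rw [centralizer_zpowers_eq] at h1
  exact fun x hx => mem_centralizer_singleton_of_commute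
    (commute_of_mem_centralizer (hySS (Subgroup.mem_zpowers y)) (h1 hx))

/-- `τ₃`-elements lie in the derived subgroup. -/
theorem mem_derived_of_tau3 (hG : Cfsg.IsMinSimpleOddOrder G) (hM : IsCoatom M) {y : G} (hy : y ∈ M)
    (hτ : ∀ r : ℕ, r.Prime → r ∣ orderOf y → r ∈ Cfsg.tau3 M) : y ∈ ⁅M, M⁆ := by
  obtain ⟨F, hF, hle⟩ := exists_compl_ge hG hM (Subgroup.zpowers_le.2 hy)
    (isPi_zpowers (π := {r | r ∉ Cfsg.sigma M}) fun r hr hd => (hτ r hr hd).2.1)
  exact Subgroup.commutator_mono hF.1 hF.1 (tau3_le_derived hG hM hF hle (isPi_zpowers hτ) (Subgroup.mem_zpowers y))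

/-- Elements of prime power order in `σ` or `τ₃` lie in the derived subgroup. -/
theorem mem_derived_of_primary (hG : Cfsg.IsMinSimpleOddOrder G) (hM : IsCoatom M) (hs : s.Prime)
    (hst : s ∈ Cfsg.sigma M ∨ s ∈ Cfsg.tau3 M) {y : G} (hy : y ∈ M) {k : ℕ} (hk : y ^ s ^ k = 1) :
    y ∈ ⁅M, M⁆ := by
  haveI := Fact.mk hs
  rcases hst with hσ | hτ
  · exact le_derived_of_sigma hG hM hσ (isPGroup_zpowers hk) (Subgroup.zpowers_le.2 hy) (Subgroup.mem_zpowers y)
  · exact mem_derived_of_tau3 hG hM hy fun r hr hd => (prime_dvd_of_primary hr hs hk hd).symm ▸ hτ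

/-- BG 13.6 for elements. -/
theorem uniq_of_fixed_elem (hG : Cfsg.IsMinSimpleOddOrder G) (hN : IsCoatom N) (hs : s ∈ Cfsg.tau1 N) {h x : G}
    (hh : h ∈ N) (hho : orderOf h = s) (hq : q.Prime) (hx : x ∈ Cfsg.sigmaCore N) (hxo : orderOf x = q)
    (hc : Commute h x) :
    Subgroup.centralizer ({x} : Set G) ≤ N ∧
      ∀ L : Subgroup G, IsCoatom L → Subgroup.centralizer ({x} : Set G) ≤ L → L = N := by
  have h1 := uniq_of_fixed hG hN hs hh hho hq (P := Subgroup.zpowers x) (by rw [Nat.card_zpowers, hxo])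
    (Subgroup.zpowers_le.2 hx) (by rw [centralizer_zpowers_eq]; exact mem_centralizer_singleton_of_commute hc.symm)
  rwa [centralizer_zpowers_eq] at h1

theorem normalizer_le_of_uniq_elem (hG : Cfsg.IsMinSimpleOddOrder G) (hM : IsCoatom M) {x : G}
    (h : Subgroup.centralizer ({x} : Set G) ≤ M ∧
      ∀ L : Subgroup G, IsCoatom L → Subgroup.centralizer ({x} : Set G) ≤ L → L = M) :
    Subgroup.normalizer ((Subgroup.zpowers x : Subgroup G) : Set G) ≤ M :=
  normalizer_le_of_uniq hG hM (by rwa [centralizer_zpowers_eq])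

/-- A line normalized but not centralized by a line acts trivially where the latter's fixed points are
fixed. -/
theorem kernel_centralizes (hp : p.Prime) {P H K : Subgroup G} (hP : Nat.card P = p) (hs : s.Prime)
    (hH : Nat.card H = s) (hsp : s ≠ p) (hHP : H ≤ Subgroup.normalizer (P : Set G))
    (hne : ¬ H ≤ Subgroup.centralizer (P : Set G)) (hKs : Group.IsSolvable K)
    (hJK : P ⊔ H ≤ Subgroup.normalizer (K : Set G)) (hcop : (Nat.card K).Coprime (Nat.card ↥(P ⊔ H)))
    (hfix : K ⊓ Subgroup.centralizer (H : Set G) ≤ Subgroup.centralizer (P : Set G)) :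
    K ≤ Subgroup.centralizer (P : Set G) := by
  classical
  haveI := Fact.mk hp
  haveI : Fact s.Prime := ⟨hs⟩
  obtain ⟨hfpf, -⟩ := fpf_of_cyclic hp (isPGroup_line hp hP) (isCyclic_of_prime_card hP) hHP
    (hH ▸ (Nat.coprime_primes hs hp).2 hsp) hne
  have hPH : P ⊓ H = ⊥ := inf_eq_bot_of_coprime_card (by rw [hP, hH]; exact (Nat.coprime_primes hp hs).2 hsp.symm)
  have hfpf' : ∀ e ∈ H, e ≠ 1 → ∀ u ∈ P, e * u = u * e → u = 1 := fun e he he1 u hu hc => by
    have hz : Subgroup.zpowers e = H := (line_eq_zpowers hs hH he (orderOf_eq_prime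
      (pow_eq_one_of_line hs hH he) he1)).symm
    have h1 : u ∈ P ⊓ Subgroup.centralizer (H : Set G) := ⟨hu, by
      rw [← hz, centralizer_zpowers_eq]
      exact Subgroup.mem_centralizer_singleton_iff.2 hc.symm⟩
    rwa [hfpf, Subgroup.mem_bot] at h1
  have key := Cfsg.Agent.S1545.result P H K (line_ne_bot hp hP) (line_ne_bot hs hH) hPH
    (fun e he u hu => conj_mem_of_le_normalizer (hHP he) u hu) hfpf'
    (fun x hx h hh => conj_mem_of_le_normalizer (hJK hx) h hh) (inf_eq_bot_of_coprime_card hcop) hKs hcop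
  have hCeq : K ⊓ Subgroup.centralizer ((P ⊔ H : Subgroup G) : Set G) = K ⊓ Subgroup.centralizer (H : Set G) :=
    le_antisymm (inf_le_inf_left _ (Subgroup.centralizer_le (SetLike.coe_subset_coe.2 le_sup_right)))
      (le_inf inf_le_left (Subgroup.le_centralizer_iff.1 (sup_le (Subgroup.le_centralizer_iff.1 hfix)
        (Subgroup.le_centralizer_iff.1 inf_le_right))))
  rw [hCeq] at key
  exact inf_eq_left.1 (Subgroup.eq_of_le_of_card_ge inf_le_left
    (Nat.eq_of_mul_eq_mul_left (pow_pos Nat.card_pos _) key).le)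

/-- The partner data of a `τ₁`-element with a fixed element, elementwise. -/
theorem partner_kappa_elem (hG : Cfsg.IsMinSimpleOddOrder G) (hM : IsCoatom M) (hs : s ∈ Cfsg.tau1 M) {h : G}
    (hh : h ∈ M) (hho : orderOf h = s) (hq : q.Prime) {z : G} (hz : z ∈ Cfsg.sigmaCore M) (hzo : orderOf z = q)
    (hc : Commute h z) (hL : IsCoatom L)
    (hNL : Subgroup.normalizer ((Subgroup.zpowers h : Subgroup G) : Set G) ≤ L) :
    z ∈ L ∧ q ∉ Cfsg.sigma L ∧ (q ∈ Cfsg.tau1 L ∨ q ∈ Cfsg.tau3 L) :=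
  partner_kappa hG hM hs (Subgroup.zpowers_le.2 hh) (by rw [Nat.card_zpowers, hho]) hq hz hzo
    (by rw [centralizer_zpowers_eq]; exact mem_centralizer_singleton_of_commute hc) hL hNL

theorem sigma_mem_of_elem (hG : Cfsg.IsMinSimpleOddOrder G) (hM : IsCoatom M) (hq : q.Prime)
    (hσ : q ∈ Cfsg.sigma M) {z : G} (hz : z ∈ M) {k : ℕ} (hk : z ^ q ^ k = 1) : z ∈ Cfsg.sigmaCore M :=
  haveI := Fact.mk hq
  le_sigmaCore_of_isPGroup hG hM hq hσ (Subgroup.zpowers_le.2 hz) (isPGroup_zpowers hk) (Subgroup.mem_zpowers z)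

theorem sigma_of_mem_core (hq : q.Prime) {z : G} (hz : z ∈ Cfsg.sigmaCore M) (hzo : orderOf z = q) :
    q ∈ Cfsg.sigma M :=
  isPi_piCoreOf _ M q hq (hzo ▸ Subgroup.orderOf_dvd_natCard _ hz)

theorem mem_sigmaCore_conj_iff {g z : G} :
    g * z * g⁻¹ ∈ MulAut.conj g • M ↔ z ∈ M := by
  rw [mem_conj_smul_iff]
  constructor <;> intro h <;> simpa [mul_assoc] using h

end CfsgLib.OddLocal
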