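import Cfsg.Agent.Lib.OddLocal.TauThreeFixed

/-!
BG 14.3: elements centralizing an element of `M_σ`.
-/

set_option autoImplicit false
set_option linter.style.haveILetI false
set_option linter.unusedSectionVars false

open scoped commutatorElement
open scoped Pointwise

namespace CfsgLib.OddLocal

open CfsgLib.Coprime
open CfsgLib.BG.FixedLine (conj_mem_of_le_normalizer mem_normalizer_of_conj)

universe u

variable {G : Type u} [Group G] [Finite G] {p q r : ℕ} {M L E A A₀ : Subgroup G}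

/-- An abelian Sylow subgroup over a `τ₂`-plane gives a `σ`-prime of any maximal subgroup above the plane's
normalizer. -/
theorem sigma_of_normalizer_plane (h : Exc p M A A₀) [Fact p.Prime]
    (hab : ∀ S : Sylow p G, IsMulCommutative (S : Subgroup G)) (hL : Subgroup.normalizer (A : Set G) ≤ L) :
    p ∈ Cfsg.sigma L := by
  obtain ⟨T, hAT⟩ := h.maxElem.isPGroup.exists_le_sylow
  haveI := hab T
  have hTC : (T : Subgroup G) ≤ Subgroup.centralizer (A : Set G) := fun t ht a ha =>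
    congrArg Subtype.val (mul_comm' (⟨a, hAT ha⟩ : (T : Subgroup G)) ⟨t, ht⟩)
  have hNL : Subgroup.normalizer ((T : Subgroup G) : Set G) ≤ L :=
    (h.sylow_normalizer_le_normalizer T (hTC.trans h.centralizer_le) hAT).trans hL
  have hTL : (T : Subgroup G) ≤ L := Subgroup.le_normalizer.trans hNL
  exact ⟨h.hp, h.maxElem.dvd_card.trans (Subgroup.card_dvd_of_le (hAT.trans hTL)), T.subtype hTL, by
    rwa [Sylow.coe_subtype, Subgroup.map_subgroupOf_eq_of_le hTL]⟩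

/-- The `τ₂`-primes of `M` are `σ`-primes of one maximal subgroup. -/
theorem exists_sigma_tau2 (hG : Cfsg.IsMinSimpleOddOrder G) (hM : IsCoatom M) (hp : p ∈ Cfsg.tau2 M) :
    ∃ L : Subgroup G, IsCoatom L ∧ ∀ r ∈ Cfsg.tau2 M, r ∈ Cfsg.sigma L := by
  classical
  haveI := Fact.mk hp.1
  obtain ⟨E, hE⟩ := exists_compl hG hM
  obtain ⟨A, A₀, hAE, hA⟩ := exists_elem_compl hG hM hE hp
  by_cases hab : ∀ S : Sylow p G, IsMulCommutative (S : Subgroup G)
  · obtain ⟨L, hL, hNL⟩ := (eq_top_or_exists_le_coatom _).resolve_left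
      (normalizer_ne_top hG hA.maxElem.ne_bot (hA.maxElem.ne_top hG))
    have hpL := sigma_of_normalizer_plane hA hab hNL
    refine ⟨L, hL, fun r hr => ?_⟩
    by_cases hrp : r = p
    · exact hrp ▸ hpL
    haveI := Fact.mk hr.1
    obtain ⟨B, B₀, hBE, hB⟩ := exists_elem_compl hG hM hE hr
    have hBA : B ≤ Subgroup.centralizer (A : Set G) :=
      hA.sylow_centralizes hE hAE hr hp hrp hB.maxElem.isPGroup hBE
    have hBL : B ≤ L := (hBA.trans (Subgroup.centralizer_le_normalizer _)).trans hNL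
    by_contra hσ
    obtain ⟨B₁, hB'⟩ := exists_exc hG hL hr.1 hσ hBL hB.hAe hB.hA2
    have hne : M ≠ L := fun e => hp.2.1 (e ▸ hpL)
    refine hA.maxElem.ne_bot (le_bot_iff.1 (hB'.inf_eq_bot hM hne hB.hAM ▸ le_inf
      (le_sigmaCore_of_isPGroup hG hL hp.1 hpL (Subgroup.le_normalizer.trans hNL) hA.maxElem.isPGroup) hA.hAM))
  · push Not at hab
    obtain ⟨S₀, hS₀⟩ := hab
    have hall : ∀ T : Sylow p G, ¬ IsMulCommutative (T : Subgroup G) := fun T hT =>
      hS₀ (isMulCommutative_sylow_iff S₀ T hT)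
    have hne : (S₀ : Subgroup G) ≠ ⊥ := fun e => by
      refine hS₀ ?_
      rw [e]
      exact ⟨⟨fun a b => Subsingleton.elim _ _⟩⟩
    obtain ⟨L, hL, hNL⟩ := (eq_top_or_exists_le_coatom _).resolve_left
      (normalizer_ne_top hG hne (sylow_ne_top hG S₀))
    have hTL : (S₀ : Subgroup G) ≤ L := Subgroup.le_normalizer.trans hNL
    refine ⟨L, hL, fun r hr => ?_⟩
    rw [hA.tau2_eq hall hE hAE hr]
    obtain ⟨T, hAT⟩ := hA.maxElem.isPGroup.exists_le_sylow
    exact ⟨hp.1, (hA.maxElem.dvd_card.trans (Subgroup.card_dvd_of_le hAT)).trans (by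
      rw [T.card_eq_multiplicity, ← S₀.card_eq_multiplicity]; exact Subgroup.card_dvd_of_le hTL),
      S₀.subtype hTL, by rwa [Sylow.coe_subtype, Subgroup.map_subgroupOf_eq_of_le hTL]⟩

/-- A `τ₁`-element of `C(x)` for an element `x ≠ 1` of `M_σ` bounds `C(x)` by `M`. -/
theorem centralizer_le_of_tau1 (hG : Cfsg.IsMinSimpleOddOrder G) (hM : IsCoatom M) (hr : r ∈ Cfsg.tau1 M) {a x : G}
    (ha : a ∈ M) (hao : orderOf a = r) (hx : x ∈ Cfsg.sigmaCore M) (hx1 : x ≠ 1) (hax : Commute a x) :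
    Subgroup.centralizer ({x} : Set G) ≤ M := by
  obtain ⟨q, hq, hd⟩ := Nat.exists_prime_and_dvd fun e => hx1 (orderOf_eq_one_iff.1 e)
  obtain ⟨z, hz, hzo⟩ := exists_order_of_dvd hq (by rwa [Nat.card_zpowers] : q ∣ Nat.card (Subgroup.zpowers x))
  obtain ⟨i, rfl⟩ := Subgroup.mem_zpowers_iff.1 hz
  refine le_trans ?_ (uniq_of_fixed_elem hG hM hr ha hao hq (zpow_mem hx i) hzo (hax.zpow_right i)).1
  exact fun w hw => mem_centralizer_singleton_of_commute ((commute_of_mem_centralizer_singleton hw).zpow_left i)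

theorem exists_prime_power_elem {x : G} (hx1 : x ≠ 1) :
    ∃ (q : ℕ) (z : G), q.Prime ∧ z ∈ Subgroup.zpowers x ∧ orderOf z = q := by
  obtain ⟨q, hq, hd⟩ := Nat.exists_prime_and_dvd fun e => hx1 (orderOf_eq_one_iff.1 e)
  obtain ⟨z, hz, hzo⟩ := exists_order_of_dvd hq (by rwa [Nat.card_zpowers] : q ∣ Nat.card (Subgroup.zpowers x))
  exact ⟨q, z, hq, hz, hzo⟩

theorem commute_zpowers {a b c d : G} (h : Commute a b) (hc : c ∈ Subgroup.zpowers a) (hd : d ∈ Subgroup.zpowers b) :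
    Commute c d := by
  obtain ⟨i, rfl⟩ := Subgroup.mem_zpowers_iff.1 hc
  obtain ⟨j, rfl⟩ := Subgroup.mem_zpowers_iff.1 hd
  exact h.zpow_zpow i j

/-- A rank one prime line with a fixed point: the pair generates a `κ`-situation. -/
theorem kappa_line_data (hG : Cfsg.IsMinSimpleOddOrder G) (hM : IsCoatom M)
    (hr : r ∈ Cfsg.tau1 M ∨ r ∈ Cfsg.tau3 M) {b x : G} (hb : b ∈ M) (hbo : orderOf b = r)
    (hx : x ∈ Cfsg.sigmaCore M) (hx1 : x ≠ 1) (hbx : Commute b x) :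
    Subgroup.centralizer ({x} : Set G) ≤ M ∧ ∀ t ∈ Cfsg.tau2 M, ∀ c ∈ M, orderOf c = t → Commute b c → False := by
  rcases hr with h1 | h3
  · refine ⟨centralizer_le_of_tau1 hG hM h1 hb hbo hx hx1 hbx, fun t ht c hc hco hbc => ?_⟩
    obtain ⟨q, z, hq, hz, hzo⟩ := exists_prime_power_elem hx1
    refine tau2_fixed_false hG hM h1 (Subgroup.zpowers_le.2 hb) (zpowers_line h1.1 hbo).1 hq
      (Subgroup.zpowers_le.2 hx hz) hzo ?_ ht hc hco ?_
    · rw [centralizer_zpowers_eq]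
      exact mem_centralizer_singleton_of_commute (commute_zpowers hbx (Subgroup.mem_zpowers b) hz)
    · rw [centralizer_zpowers_eq]
      exact mem_centralizer_singleton_of_commute hbc
  · obtain ⟨E, hE, hbE⟩ := exists_compl_ge hG hM (Subgroup.zpowers_le.2 hb)
      (isPi_zpowers (π := {r | r ∉ Cfsg.sigma M}) fun t ht hd => by
        rw [hbo] at hd; exact (Nat.prime_dvd_prime_iff_eq ht h3.1).1 hd ▸ h3.2.1)
    obtain ⟨hBc, -, -⟩ := zpowers_line h3.1 hbo
    obtain ⟨L, hL, hN⟩ := (eq_top_or_exists_le_coatom _).resolve_left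
      (normalizer_ne_top hG (line_ne_bot h3.1 hBc) fun e => hM.1 (top_unique (e.ge.trans
        (Subgroup.zpowers_le.2 hb))))
    have hxC : x ∈ Cfsg.sigmaCore M ⊓ Subgroup.centralizer ((Subgroup.zpowers b : Subgroup G) : Set G) :=
      ⟨hx, by rw [centralizer_zpowers_eq]; exact mem_centralizer_singleton_of_commute hbx⟩
    have h : Tau3Fixed r M E (Subgroup.zpowers b) L :=
      ⟨hG, hM, hE, h3, hbE, hBc, fun e => hx1 (Subgroup.mem_bot.1 (e ▸ hxC)), hL, hN⟩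
    obtain ⟨e, he, ⟨s, k, hs, hk⟩, hne⟩ := exists_acting hG hM hE h3 hbE hBc
    obtain ⟨a, ha, hao⟩ := exists_line_pow hs hk fun e' => hne (e' ▸ one_mem _)
    refine ⟨centralizer_le_of_tau1 hG hM (h.tau1_of_acting hs he hk hne)
      (hE.1 (Subgroup.zpowers_le.2 he ha)) hao hx hx1 ?_, fun t ht _ _ _ _ => h.tau2_empty ht⟩
    have h1 := (h.acting_data hs he hk hne ha hao).1.ge hxC
    exact commute_of_mem_centralizer_singleton h1.2

/-- BG 14.3. -/
theorem sigma_dichotomy (hG : Cfsg.IsMinSimpleOddOrder G) (hM : IsCoatom M) {x x' : G}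
    (hx : x ∈ Cfsg.sigmaCore M) (hx1 : x ≠ 1) (hx'M : x' ∈ M) (hxx : Commute x' x) (hx'1 : x' ≠ 1)
    (hσ : ∀ r : ℕ, r.Prime → r ∣ orderOf x' → r ∉ Cfsg.sigma M) :
    ((∀ r : ℕ, r.Prime → r ∣ orderOf x' → r ∈ Cfsg.kappa M) ∧ Subgroup.centralizer ({x} : Set G) ≤ M) ∨
      ((∀ r : ℕ, r.Prime → r ∣ orderOf x' → r ∈ Cfsg.tau2 M) ∧
        (∃ L : Subgroup G, IsCoatom L ∧ ∀ r : ℕ, r.Prime → r ∣ orderOf x' → r ∈ Cfsg.sigma L) ∧
        (Subgroup.centralizer ({x'} : Set G) ≤ M ∧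
          ∀ L : Subgroup G, IsCoatom L → Subgroup.centralizer ({x'} : Set G) ≤ L → L = M)) := by
  have key : ∀ r : ℕ, r.Prime → r ∣ orderOf x' → ∃ b ∈ Subgroup.zpowers x', orderOf b = r ∧ b ∈ M ∧ Commute b x := by
    intro r hr hd
    obtain ⟨b, hb, hbo⟩ := exists_order_of_dvd hr (by rwa [Nat.card_zpowers] : r ∣ Nat.card (Subgroup.zpowers x'))
    exact ⟨b, hb, hbo, Subgroup.zpowers_le.2 hx'M hb, commute_zpowers hxx hb (Subgroup.mem_zpowers x)⟩
  by_cases h2 : ∀ r : ℕ, r.Prime → r ∣ orderOf x' → r ∈ Cfsg.tau2 M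
  · obtain ⟨r, hr, hd⟩ := Nat.exists_prime_and_dvd fun e => hx'1 (orderOf_eq_one_iff.1 e)
    obtain ⟨L, hL, hLσ⟩ := exists_sigma_tau2 hG hM (h2 r hr hd)
    obtain ⟨E, hE⟩ := exists_compl hG hM
    exact Or.inr ⟨h2, ⟨L, hL, fun t ht htd => hLσ t (h2 t ht htd)⟩,
      tau2_element_uniq hG hM hE hx'M hx'1 h2 ⟨hx'M, x, hx, hx1, hxx⟩⟩
  push Not at h2
  obtain ⟨r, hr, hd, hr2⟩ := h2
  obtain ⟨b, hb, hbo, hbM, hbx⟩ := key r hr hd
  have hr13 : r ∈ Cfsg.tau1 M ∨ r ∈ Cfsg.tau3 M :=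
    (tau_cases hG hM hr (hσ r hr hd) (hbo ▸ Subgroup.orderOf_dvd_natCard M hbM)).resolve_right hr2
  obtain ⟨hC, hno⟩ := kappa_line_data hG hM hr13 hbM hbo hx hx1 hbx
  refine Or.inl ⟨fun t ht htd => ?_, hC⟩
  obtain ⟨c, hc, hco, hcM, hcx⟩ := key t ht htd
  refine mem_kappa_of_line hG hM ht (hσ t ht htd) ?_ hcM hco hx hx1 hcx
  rcases tau_cases hG hM ht (hσ t ht htd) (hco ▸ Subgroup.orderOf_dvd_natCard M hcM) with (h1 | h3) | h2'
  · exact h1.2.2.2.2
  · exact h3.2.2.2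
  · exact (hno t h2' c hcM hco (commute_zpowers (Commute.refl x') hb hc)).elim

end CfsgLib.OddLocal
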