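import Cfsg.Agent.Lib.OddLocal.ExceptionalBasic
import Cfsg.Agent.Lib.OddLocal.Cores
import Cfsg.Agent.Lib.OddLocal.FrobeniusType
import Cfsg.Agent.Lib.OddLocal.FixedTools
import Cfsg.Agent.Lib.OddLocal.SigmaDichotomy

/-!
A prime action with no fixed points on the Fitting subgroup.
-/

set_option autoImplicit false
set_option linter.style.haveILetI false
set_option linter.unusedSectionVars false

open scoped commutatorElement
open scoped Pointwise

namespace CfsgLib.OddLocal

open CfsgLib.Coprime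
open CfsgLib.BG.FixedLine (conj_mem_of_le_normalizer mem_normalizer_of_conj)

universe u

variable {X : Type u} [Group X] [Finite X] {q r : ℕ}

theorem le_fittingOf_of_le_normalizer {K D : Subgroup X} (hDK : D ≤ K) (hKD : K ≤ Subgroup.normalizer (D : Set X))
    (hD : Group.IsNilpotent D) : D ≤ Cfsg.fittingOf K := by
  haveI := hD
  haveI : (D.subgroupOf K).Normal := (Subgroup.normal_subgroupOf_iff_le_normalizer hDK).2 hKD
  refine (Subgroup.map_subgroupOf_eq_of_le hDK).ge.trans (Subgroup.map_mono (CfsgLib.Fitting.le_fittingSubgroup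
    inferInstance ?_))
  exact Group.nilpotent_of_mulEquiv (Subgroup.subgroupOfEquivOfLe hDK).symm

theorem fitting_char (K : Subgroup X) : (Cfsg.fittingSubgroup K).Characteristic := by
  rw [Subgroup.characteristic_iff_map_le]
  intro φ
  haveI := CfsgLib.Fitting.fittingSubgroup_normal (G := K)
  haveI := CfsgLib.Fitting.fittingSubgroup_isNilpotent (G := K)
  exact CfsgLib.Fitting.le_fittingSubgroup (Subgroup.Normal.map inferInstance _ φ.surjective)
    (Group.nilpotent_of_mulEquiv ((Cfsg.fittingSubgroup K).equivMapOfInjective φ.toMonoidHom φ.injective))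

/-- A group whose elements of order prime to `q` are central is nilpotent. -/
theorem isNilpotent_of_central {N : Subgroup X} (hq : q.Prime)
    (h : ∀ v ∈ N, ∀ l : ℕ, l.Prime → l ≠ q → (∃ k, v ^ l ^ k = 1) → ∀ w ∈ N, Commute v w) :
    Group.IsNilpotent N := by
  haveI := Fact.mk hq
  have hp : IsPGroup q (N ⧸ Subgroup.center N) := by
    intro z
    obtain ⟨w, rfl⟩ := QuotientGroup.mk'_surjective (Subgroup.center N) z
    obtain ⟨a, m, hm, he⟩ := Nat.exists_eq_pow_mul_and_not_dvd (orderOf_pos w).ne' q hq.ne_one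
    refine ⟨a, ?_⟩
    rw [← map_pow]
    refine (QuotientGroup.eq_one_iff _).2 (mem_of_primary fun l hl hd v hv ⟨k, hk⟩ => ?_)
    have hlq : l ≠ q := fun e => hm (by
      subst e
      have h1 : orderOf (w ^ l ^ a) = m := by
        rw [orderOf_pow' _ (pow_ne_zero _ hl.ne_zero), he, Nat.gcd_mul_right_left,
          Nat.mul_div_cancel_left _ (pow_pos hl.pos _)]
      exact h1 ▸ hd)
    exact Subgroup.mem_center_iff.2 fun u => Subtype.ext (h (v : X) v.2 l hl hlq ⟨k, by
      simpa using congrArg Subtype.val hk⟩ u u.2).eq.symm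
  haveI : Group.IsNilpotent (N ⧸ Subgroup.center N) := hp.isNilpotent
  exact Subgroup.isNilpotent_of_ker_le_center (QuotientGroup.mk' (Subgroup.center N))
    (QuotientGroup.ker_mk' _).le

/-- An element of prime order without fixed points on `F(K)` centralizes `K / F(K)`. -/
theorem commutator_mem_fittingOf {K : Subgroup X} [K.Normal] [Group.IsSolvable K] (hodd : Odd (Nat.card K))
    (hr : r.Prime) {x : X} (hxo : x ^ r = 1) (hrK : ¬ r ∣ Nat.card K)
    (hfix : Cfsg.fittingOf K ⊓ Subgroup.centralizer ({x} : Set X) = ⊥) :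
    ∀ k ∈ K, ⁅k, x⁆ ∈ Cfsg.fittingOf K := by
  classical
  set F := Cfsg.fittingOf K with hF
  haveI hFN : F.Normal := Subgroup.normalizer_eq_top_iff.1 (top_unique fun g _ => by
    haveI := fitting_char K
    exact CfsgLib.PSolvable.le_normalizer_map_of_characteristic (A := ⊤)
      (le_of_eq (Subgroup.normalizer_eq_top (H := K)).symm) _ (Subgroup.mem_top g))
  set π := QuotientGroup.mk' F with hπ
  set K' := K.map π with hK'
  haveI : K'.Normal := Subgroup.Normal.map inferInstance π (QuotientGroup.mk'_surjective _)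
  haveI : Group.IsSolvable K' := Group.isSolvable_of_surjective (f := π.subgroupMap K) (π.subgroupMap_surjective K)
  have hker : ∀ {a : X}, π a = 1 ↔ a ∈ F := fun {a} => QuotientGroup.eq_one_iff a
  have hxF : ∀ {Y : Subgroup X} [Y.Normal], Subgroup.zpowers x ≤ Subgroup.normalizer (Y : Set X) :=
    fun {Y} _ => Subgroup.normalizer_eq_top (H := Y) ▸ le_top
  have hZc : ∀ {Y : Subgroup X}, Y ≤ K → (Nat.card (Subgroup.zpowers x)).Coprime (Nat.card Y) := fun {Y} hY => by
    rw [Nat.card_zpowers]
    exact ((hr.coprime_iff_not_dvd.2 hrK).coprime_dvd_left (orderOf_dvd_of_pow_eq_one hxo)).coprime_dvd_right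
      (Subgroup.card_dvd_of_le hY)
  -- `x` centralizes each `O_q(K / F)`
  have hlayer : ∀ q : ℕ, q.Prime → ∀ b ∈ opOf q K', Commute (π x) b := by
    intro q hq
    haveI := Fact.mk hq
    set P := (opOf q K').comap π ⊓ K with hP
    have hPK : P ≤ K := inf_le_right
    haveI hPN : P.Normal := by
      haveI : (opOf q K').Normal := Subgroup.normalizer_eq_top_iff.1 (top_unique fun g _ =>
        piCoreOf_normalizer_le _ _ ((Subgroup.normalizer_eq_top (H := K')).ge (Subgroup.mem_top g)))
      infer_instance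
    have hFP : F ≤ P := le_inf (fun f hf => by
      show π f ∈ opOf q K'
      rw [hker.2 hf]; exact one_mem _) (fittingOf_le K)
    have hPmap : ∀ b ∈ opOf q K', ∃ a ∈ P, π a = b := fun b hb => by
      obtain ⟨a, ha, rfl⟩ := piCoreOf_le _ K' hb
      exact ⟨a, ⟨hb, ha⟩, rfl⟩
    obtain ⟨S, hS⟩ := CfsgLib.Coprime.exists_invariant_sylow (hxF (Y := P)) (hZc hPK)
      (Or.inl inferInstance) q
    set Q := (S : Subgroup P).map P.subtype with hQ
    have hQP : Q ≤ P := Subgroup.map_subtype_le _
    -- `P = F Q` modulo `F`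
    have hcov : ∀ b ∈ opOf q K', ∃ a ∈ Q, π a = b := by
      intro b hb
      obtain ⟨a, ha, rfl⟩ := hPmap b hb
      obtain ⟨j, hj⟩ := isPGroup_opOf hq K' ⟨π a, hb⟩
      have hj' : π a ^ q ^ j = 1 := by simpa using congrArg Subtype.val hj
      let ψ : P →* X ⧸ F := π.comp P.subtype
      have hψ : IsPGroup q ψ.range := by
        rintro ⟨_, a, rfl⟩
        obtain ⟨i, hi⟩ := isPGroup_opOf hq K' ⟨π (a : X), a.2.1⟩
        exact ⟨i, Subtype.ext (by
          have h1 := congrArg Subtype.val hi
          rw [SubmonoidClass.coe_pow] at h1 ⊢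
          exact h1)⟩
      have hsurj : ((S : Subgroup P).map ψ) = ψ.range := by
        refine Subgroup.eq_of_le_of_card_ge (Subgroup.map_le_range _ _) ?_
        haveI : Fact q.Prime := ⟨hq⟩
        have h1 : ¬ q ∣ ((S : Subgroup P).map ψ.rangeRestrict).index := fun hd => by
          have h2 := Subgroup.index_map_dvd (S : Subgroup P) (f := ψ.rangeRestrict) ψ.rangeRestrict_surjective
          exact S.not_dvd_index (hd.trans h2)
        obtain ⟨n, hn⟩ := hψ.exists_card_eq
        have h3 := ((S : Subgroup P).map ψ.rangeRestrict).index_dvd_card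
        rw [hn] at h3
        obtain ⟨i, -, hi⟩ := (Nat.dvd_prime_pow hq).1 h3
        rw [hi] at h1
        have hi0 : i = 0 := by
          by_contra h0
          exact h1 (dvd_pow_self q h0)
        have h4 : (S : Subgroup P).map ψ.rangeRestrict = ⊤ := Subgroup.index_eq_one.1 (by rw [hi, hi0, pow_zero])
        have h5 := congrArg (Subgroup.map ψ.range.subtype) h4
        rw [Subgroup.map_map, MonoidHom.subtype_comp_rangeRestrict, ← MonoidHom.range_eq_map,
          Subgroup.range_subtype] at h5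
        rw [h5]
      obtain ⟨s, hs, hse⟩ := hsurj.ge ⟨⟨a, ha⟩, rfl⟩
      exact ⟨s, ⟨s, hs, rfl⟩, hse⟩
    -- the commutators lie in `F`
    set N := P ⊓ ⨅ (l : ℕ) (_ : l.Prime ∧ l ≠ q), Subgroup.centralizer (opOf l K : Set X) with hN
    have hNF : N ≤ F := by
      have hlN : ∀ l, l.Prime ∧ l ≠ q → N ≤ Subgroup.centralizer (opOf l K : Set X) := fun l hl =>
        inf_le_right.trans (iInf₂_le l hl)
      refine le_fittingOf_of_le_normalizer (inf_le_left.trans hPK) (fun g hg => ?_)
        (isNilpotent_of_central hq fun v hv l hl hlq hk w hw => ?_)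
      · refine mem_normalizer_of_conj fun n hn => ⟨hPN.conj_mem n hn.1 g, ?_⟩
        refine Subgroup.mem_iInf.2 fun l => Subgroup.mem_iInf.2 fun hl => Subgroup.mem_centralizer_iff.2 fun f hf => ?_
        have hgf := conj_mem_of_le_normalizer (inv_mem (le_normalizer_piCoreOf _ K hg)) f hf
        rw [inv_inv] at hgf
        have hc := Subgroup.mem_centralizer_iff.1 (hlN l hl hn) _ hgf
        calc f * (g * n * g⁻¹) = g * (g⁻¹ * f * g * n) * g⁻¹ := by group
          _ = g * (n * (g⁻¹ * f * g)) * g⁻¹ := by rw [hc]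
          _ = _ := by group
      · obtain ⟨k, hk⟩ := hk
        have hvF : v ∈ F := hker.1 (by
          obtain ⟨i, hi⟩ := isPGroup_opOf hq K' ⟨π v, hv.1.1⟩
          have h1 : orderOf (π v) ∣ q ^ i := orderOf_dvd_of_pow_eq_one (by simpa using congrArg Subtype.val hi)
          have h2 : orderOf (π v) ∣ l ^ k := orderOf_dvd_of_pow_eq_one (by rw [← map_pow, hk, map_one])
          exact orderOf_eq_one_iff.1
            (Nat.eq_one_of_dvd_coprimes ((Nat.coprime_primes hq hl).2 hlq.symm |>.pow i k) h1 h2))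
        exact Subgroup.mem_centralizer_iff.1 (hlN l ⟨hl, hlq⟩ hw) v (mem_opOf_of_mem_fittingOf hl hvF hk)
    have hcomm : ⁅Q, Subgroup.zpowers x⁆ ≤ F := by
      refine le_trans (le_inf ((Subgroup.commutator_mono hQP le_rfl).trans
        (commutator_le_left_of_le_normalizer hxF)) (le_iInf₂ fun l hl => ?_)) hNF
      by_cases hld : opOf l K = ⊥
      · rw [hld]
        intro w _ c hc
        rw [Subgroup.mem_bot.1 hc, one_mul, mul_one]
      have hlK : l ∣ Nat.card K :=
        ((opOf_ne_bot_iff hl.1 K).1 hld).trans (Subgroup.card_dvd_of_le (fittingOf_le K))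
      by_cases hqK : q ∣ Nat.card K
      · refine commutator_centralizes_of_fpf (p := r) hr hq hl.1 (fun e => ?_) (fun e => hrK (e ▸ hqK))
          (fun e => hrK (e ▸ hlK)) hl.2 (S.2.map _) (isPGroup_opOf hl.1 K) hxo
          (hS (Subgroup.mem_zpowers x)) ?_ ?_ (le_bot_iff.1 (hfix ▸ inf_le_inf_right _ (opOf_le_fittingOf hl.1 K)))
        · exact Nat.not_even_iff_odd.2 hodd (even_iff_two_dvd.2 (e ▸ hqK))
        · exact piCoreOf_normalizer_le _ _ ((Subgroup.normalizer_eq_top (H := K)).ge (Subgroup.mem_top x))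
        · exact (hQP.trans hPK).trans (le_normalizer_piCoreOf _ K)
      · have hQb : Q = ⊥ := by
          obtain ⟨n, hn⟩ := (S.2.map P.subtype).exists_card_eq
          rcases Nat.eq_zero_or_pos n with rfl | hn0
          · exact Subgroup.card_eq_one.1 (by rw [hQ, hn, pow_zero])
          · exact absurd ((dvd_pow_self q hn0.ne').trans (hn ▸ Subgroup.card_dvd_of_le (hQP.trans hPK))) hqK
        rw [hQb]
        exact Subgroup.commutator_le.2 fun a ha b _ => by
          rw [Subgroup.mem_bot.1 ha, commutatorElement_one_left]; exact one_mem _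
    intro b hb
    obtain ⟨a, ha, rfl⟩ := hcov b hb
    have h1 := hker.2 (hcomm (Subgroup.commutator_mem_commutator ha (Subgroup.mem_zpowers x)))
    rw [map_commutatorElement, commutatorElement_eq_one_iff_mul_comm] at h1
    exact h1.symm
  have hF' : ∀ b ∈ Cfsg.fittingOf K', Commute (π x) b := fun b hb =>
    commute_of_mem_centralizer_singleton (mem_of_primary fun l hl _ v hv ⟨i, hi⟩ =>
      mem_centralizer_singleton_of_commute
        (hlayer l hl v (mem_opOf_of_mem_fittingOf hl (Subgroup.zpowers_le.2 hb hv) hi)))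
  intro k hk
  rw [← hker, map_commutatorElement]
  set c := ⁅π k, π x⁆ with hc
  have hkK : π k ∈ K' := ⟨k, hk, rfl⟩
  have hcK : c ∈ K' := by
    rw [hc, commutatorElement_def, mul_assoc _ _ (π x)⁻¹, mul_assoc _ (π x)]
    exact K'.mul_mem hkK (by
      have := (inferInstance : K'.Normal).conj_mem _ (K'.inv_mem hkK) (π x)
      simpa [mul_assoc] using this)
  have hcF : c ∈ Cfsg.fittingOf K' := by
    refine inf_centralizer_fittingOf_le (X := K') inferInstance ⟨hcK, Subgroup.mem_centralizer_iff.2 fun f hf => ?_⟩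
    have hkf := conj_mem_of_le_normalizer (inv_mem (le_normalizer_fittingOf K' hkK)) f hf
    rw [inv_inv] at hkf
    have h1 := (hF' f hf).inv_left
    calc f * c = π k * (((π k)⁻¹ * f * π k) * π x) * (π k)⁻¹ * (π x)⁻¹ := by
          rw [hc, commutatorElement_def]; group
      _ = π k * (π x * ((π k)⁻¹ * f * π k)) * (π k)⁻¹ * (π x)⁻¹ := by rw [(hF' _ hkf).eq]
      _ = π k * π x * (π k)⁻¹ * (f * (π x)⁻¹) := by group
      _ = π k * π x * (π k)⁻¹ * ((π x)⁻¹ * f) := by rw [h1.eq]
      _ = c * f := by rw [hc, commutatorElement_def]; group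
  have hcx := hF' c hcF
  have h1 : (c * π x) ^ r = 1 := by
    rw [show c * π x = π k * π x * (π k)⁻¹ by rw [hc, commutatorElement_def]; group, conj_pow, ← map_pow, hxo,
      map_one, mul_one, mul_inv_cancel]
  rw [hcx.symm.mul_pow, ← map_pow π x, hxo, map_one, mul_one] at h1
  have h2 : orderOf c ∣ Nat.card K := (Subgroup.orderOf_dvd_natCard K' hcK).trans (Subgroup.card_map_dvd _ _)
  exact orderOf_eq_one_iff.1 (Nat.eq_one_of_dvd_coprimes (hr.coprime_iff_not_dvd.2 hrK)
    (orderOf_dvd_of_pow_eq_one h1) h2)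

/-- A prime action without fixed points on `F(K)`. -/
theorem commutator_le_fittingOf {K R : Subgroup X} [K.Normal] [Group.IsSolvable K] (hodd : Odd (Nat.card K))
    (hcop : (Nat.card K).Coprime (Nat.card R))
    (hprime : ∀ x ∈ R, x ≠ 1 → K ⊓ Subgroup.centralizer ({x} : Set X) = K ⊓ Subgroup.centralizer (R : Set X))
    (hF : Cfsg.fittingOf K ⊓ Subgroup.centralizer (R : Set X) = ⊥) : ⁅K, R⁆ ≤ Cfsg.fittingOf K := by
  classical
  by_cases hR : R = ⊥
  · rw [hR]
    exact Subgroup.commutator_le.2 fun a _ b hb => by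
      rw [Subgroup.mem_bot.1 hb, commutatorElement_one_right]; exact one_mem _
  obtain ⟨r, hr, hrd⟩ := Nat.exists_prime_and_dvd fun e : Nat.card R = 1 => hR (Subgroup.card_eq_one.1 e)
  obtain ⟨x, hx, hxo⟩ := exists_order_of_dvd hr hrd
  have hx1 : x ≠ 1 := fun e => hr.ne_one (by rw [← hxo, e, orderOf_one])
  have hrK : ¬ r ∣ Nat.card K := fun h => hr.ne_one (Nat.eq_one_of_dvd_coprimes hcop h hrd)
  have hxo' : x ^ r = 1 := by rw [← hxo, pow_orderOf_eq_one]
  have hfix : Cfsg.fittingOf K ⊓ Subgroup.centralizer ({x} : Set X) = ⊥ := le_bot_iff.1 (hF ▸ le_inf inf_le_left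
    (((inf_le_inf_right _ (fittingOf_le K)).trans (hprime x hx hx1).le).trans inf_le_right))
  have hkey := commutator_mem_fittingOf hodd hr hxo' hrK hfix
  set F := Cfsg.fittingOf K
  haveI : Group.IsSolvable F := by
    haveI := fittingOf_isNilpotent K
    infer_instance
  refine Subgroup.commutator_le.2 fun k hk a ha => ?_
  have hxN : Subgroup.zpowers x ≤ Subgroup.normalizer (K : Set X) := Subgroup.normalizer_eq_top (H := K) ▸ le_top
  have hc : (Nat.card (Subgroup.zpowers x)).Coprime (Nat.card K) := by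
    rw [Nat.card_zpowers, hxo]; exact hr.coprime_iff_not_dvd.2 hrK
  have hsup := commutator_sup_centralizer hxN hc (Or.inl inferInstance)
  have hle : ⁅K, Subgroup.zpowers x⁆ ≤ F := by
    refine Subgroup.commutator_le.2 fun k' hk' b hb => ?_
    obtain ⟨i, rfl⟩ := Subgroup.mem_zpowers_iff.1 hb
    have hFN' : ∀ {g : X}, g ∈ K → g ∈ Subgroup.normalizer (F : Set X) := fun hg => le_normalizer_fittingOf K hg
    let S : Subgroup X :=
      { carrier := {y | y ∈ Subgroup.normalizer (F : Set X) ∧ ⁅k', y⁆ ∈ F}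
        one_mem' := ⟨one_mem _, by rw [commutatorElement_one_right]; exact one_mem _⟩
        mul_mem' := fun {u v} hu hv => ⟨mul_mem hu.1 hv.1, by
          rw [show ⁅k', u * v⁆ = ⁅k', u⁆ * (u * ⁅k', v⁆ * u⁻¹) by simp only [commutatorElement_def]; group]
          exact F.mul_mem hu.2 (conj_mem_of_le_normalizer hu.1 _ hv.2)⟩
        inv_mem' := fun {u} hu => ⟨inv_mem hu.1, by
          rw [show ⁅k', u⁻¹⁆ = u⁻¹ * ⁅k', u⁆⁻¹ * u⁻¹⁻¹ by simp only [commutatorElement_def]; group]
          exact conj_mem_of_le_normalizer (inv_mem hu.1) _ (F.inv_mem hu.2)⟩ }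
    have hxS : x ∈ S := ⟨by
      have h := CfsgLib.PSolvable.le_normalizer_map_of_characteristic (A := Subgroup.zpowers x) hxN
        (C := Cfsg.fittingSubgroup K) (Subgroup.mem_zpowers x)
      exact h, hkey k' hk'⟩
    exact (S.zpow_mem hxS i).2
  have hk' : k ∈ F ⊔ (K ⊓ Subgroup.centralizer ((Subgroup.zpowers x : Subgroup X) : Set X)) :=
    (sup_le_sup_right hle _) (hsup.ge hk)
  rw [← SetLike.mem_coe, Subgroup.coe_mul_of_right_le_normalizer_left _ _
    (inf_le_left.trans (le_normalizer_fittingOf K))] at hk'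
  obtain ⟨f, hf, c, hcm, rfl⟩ := Set.mem_mul.1 hk'
  have hca : Commute a c := commute_of_mem_centralizer ha ((hprime x hx hx1).le
    ⟨hcm.1, by rw [← centralizer_zpowers_eq]; exact hcm.2⟩).2
  rw [show ⁅f * c, a⁆ = f * (c * a * c⁻¹ * f⁻¹ * a⁻¹) by rw [commutatorElement_def]; group]
  rw [← hca.eq, mul_inv_cancel_right]
  refine F.mul_mem hf (conj_mem_of_le_normalizer ?_ _ (F.inv_mem hf))
  haveI := fitting_char K
  exact CfsgLib.PSolvable.le_normalizer_map_of_characteristic (A := R)
    (Subgroup.normalizer_eq_top (H := K) ▸ le_top) _ ha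

end CfsgLib.OddLocal
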