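import Cfsg.Agent.Lib.OddLocal.NonabelianUniq
import Cfsg.Agent.Lib.PGroup.NormalFour

/-!
BG 12.14: lines of `M_σ'`.
-/

set_option autoImplicit false
set_option linter.style.haveILetI false
set_option linter.unusedSectionVars false

open scoped commutatorElement
open scoped Pointwise

namespace CfsgLib.OddLocal

open CfsgLib.Coprime
open CfsgLib.BG.FixedLine (conj_mem_of_le_normalizer mem_normalizer_of_conj)

universe u

variable {G : Type u} [Group G] [Finite G] {p : ℕ} {M : Subgroup G}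

/-- A Sylow subgroup of `M_σ` is one of `G`. -/
theorem exists_sylow_sigmaCore (hG : Cfsg.IsMinSimpleOddOrder G) (hM : IsCoatom M) [Fact p.Prime]
    (hp : p ∈ Cfsg.sigma M) (P : Sylow p ↥(Cfsg.sigmaCore M)) :
    ∃ S : Sylow p G, (S : Subgroup G) = (P : Subgroup ↥(Cfsg.sigmaCore M)).map (Cfsg.sigmaCore M).subtype ∧
      (S : Subgroup G) ≤ M := by
  set P' := (P : Subgroup (Cfsg.sigmaCore M)).map (Cfsg.sigmaCore M).subtype with hP'
  have hP'M : P' ≤ M := (Subgroup.map_subtype_le _).trans (piCoreOf_le _ M)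
  obtain ⟨Q, hQ⟩ := ((P.2.map (Cfsg.sigmaCore M).subtype).comap_of_injective M.subtype M.subtype_injective :
    IsPGroup p (P'.subgroupOf M)).exists_le_sylow
  obtain ⟨S, hS⟩ := exists_sylow_map_eq hp Q
  have hSM : (S : Subgroup G) ≤ M := hS.le.trans (Subgroup.map_subtype_le _)
  have hSN : (S : Subgroup G) ≤ (Cfsg.sigmaCore M) := le_sigmaCore_of_isPGroup hG hM Fact.out hp hSM S.2
  have hle : P' ≤ (S : Subgroup G) := ((Subgroup.map_subgroupOf_eq_of_le hP'M).ge.trans (Subgroup.map_mono hQ)).trans hS.ge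
  refine ⟨S, ?_, hSM⟩
  have h1 := P.is_maximal' (S.2.comap_of_injective (Cfsg.sigmaCore M).subtype (Cfsg.sigmaCore M).subtype_injective :
    IsPGroup p ((S : Subgroup G).subgroupOf (Cfsg.sigmaCore M))) (fun x hx => hle ⟨x, hx, rfl⟩)
  exact (Subgroup.map_subgroupOf_eq_of_le hSN).symm.trans (congrArg (Subgroup.map (Cfsg.sigmaCore M).subtype) h1)

/-- For `p ∉ β(M)`, `p`-elements of `M_σ'` are commutators in a Sylow subgroup. -/
theorem inf_derived_le (hG : Cfsg.IsMinSimpleOddOrder G) (hM : IsCoatom M) [Fact p.Prime]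
    (hp : p ∈ Cfsg.sigma M) (hβ : p ∉ Cfsg.beta M) (S : Sylow p G) (hSM : (S : Subgroup G) ≤ M) :
    (S : Subgroup G) ⊓ ⁅Cfsg.sigmaCore M, Cfsg.sigmaCore M⁆ ≤ ⁅(S : Subgroup G), (S : Subgroup G)⁆ := by
  classical
  set N := Cfsg.sigmaCore M
  have hSN : (S : Subgroup G) ≤ N := le_sigmaCore_of_isPGroup hG hM Fact.out hp hSM S.2
  obtain ⟨-, ⟨P₀, K, hK, hKP⟩, -⟩ := (beta_structure hG hM).2.2.2.2 p Fact.out hp.2.1 hβ
  haveI := hK
  set P : Sylow p N := S.subtype hSN with hP
  obtain ⟨g, hg⟩ := MulAction.exists_smul_eq N P₀ P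
  set f := QuotientGroup.mk' K with hf
  have htop : (P : Subgroup N).map f = ⊤ := by
    have h0 : (P₀ : Subgroup N).map f = ⊤ := by
      rw [eq_top_iff]
      intro w _
      obtain ⟨x, rfl⟩ := QuotientGroup.mk'_surjective K w
      obtain ⟨⟨k, q⟩, hkq⟩ := hKP.2 x
      exact ⟨q, q.2, by
        simp only at hkq
        rw [← hkq, map_mul, show f (k : N) = 1 from (QuotientGroup.eq_one_iff _).2 k.2, one_mul]⟩
    rw [← hg, Sylow.coe_subgroup_smul, eq_top_iff]
    intro w _
    obtain ⟨u, hu, rfl⟩ := h0.ge (Subgroup.mem_top ((f g)⁻¹ * w * f g))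
      |> fun ⟨u, hu, he⟩ => (⟨g * u * g⁻¹, conj_mem_conj_smul hu, by
        rw [map_mul, map_mul, map_inv, he]; group⟩ : w ∈ (MulAut.conj g • (P₀ : Subgroup N)).map f)
    exact ⟨u, hu, rfl⟩
  rintro x ⟨hxS, hxd⟩
  rw [← CfsgLib.BG.map_commutator_subtype] at hxd
  obtain ⟨y, hy, rfl⟩ := hxd
  have h1 : f y ∈ ⁅(P : Subgroup N), (P : Subgroup N)⁆.map f := by
    rw [Subgroup.map_commutator, htop]
    have := Subgroup.mem_map_of_mem f hy
    rwa [commutator_def, Subgroup.map_commutator, Subgroup.map_top_of_surjective _ (QuotientGroup.mk'_surjective K)] at this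
  obtain ⟨u, hu, hue⟩ := h1
  have huP : u ∈ (P : Subgroup N) := Subgroup.commutator_le_self _ hu
  have hk : u⁻¹ * y ∈ K := QuotientGroup.eq.1 hue
  have hP2 : IsPGroup p (Subgroup.zpowers (u⁻¹ * y)) := P.2.to_le (Subgroup.zpowers_le.2
    ((P : Subgroup N).mul_mem ((P : Subgroup N).inv_mem huP) hxS))
  have h2 : u⁻¹ * y = 1 := by
    obtain ⟨j, hj⟩ := hP2.exists_card_eq
    rw [Nat.card_zpowers] at hj
    rcases Nat.eq_zero_or_pos j with rfl | hj0
    · exact orderOf_eq_one_iff.1 (hj.trans (pow_zero p))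
    exfalso
    have h3 : p ∣ Nat.card K := (hj ▸ dvd_pow_self p hj0.ne').trans (Subgroup.orderOf_dvd_natCard K hk)
    have h4 := hKP.card_mul
    rw [P₀.card_eq_multiplicity] at h4
    have h5 : p ^ ((Nat.card N).factorization p + 1) ∣ Nat.card N := by
      generalize (Nat.card N).factorization p = v at h4 ⊢
      rw [pow_succ', ← h4]
      exact mul_dvd_mul_right h3 _
    exact absurd (((Fact.out : p.Prime).pow_dvd_iff_le_factorization Nat.card_pos.ne').1 h5) (by omega)
  rw [inv_mul_eq_one] at h2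
  subst h2
  have h3 : (u : G) ∈ ⁅(P : Subgroup N), (P : Subgroup N)⁆.map N.subtype := ⟨u, hu, rfl⟩
  rwa [Subgroup.map_commutator, hP, Sylow.coe_subtype, Subgroup.map_subgroupOf_eq_of_le hSN] at h3

/-- Lines in the derived group of a `p`-group have uniqueness centralizers. -/
theorem centralizer_uniq_of_derived (hG : Cfsg.IsMinSimpleOddOrder G) [Fact p.Prime] (S : Sylow p G) {X : Subgroup G}
    (hXc : Nat.card X = p) (hX : X ≤ ⁅(S : Subgroup G), (S : Subgroup G)⁆) :
    ∃ D : Subgroup G, D ≤ (S : Subgroup G) ∧ D ≤ Subgroup.centralizer (X : Set G) ∧ Cfsg.InUniqueMaximal D := by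
  classical
  have hp : p.Prime := Fact.out
  have hXS : X ≤ (S : Subgroup G) := hX.trans (Subgroup.commutator_le_self _)
  have hX1 : X ≠ ⊥ := fun e => hp.ne_one (by rw [← hXc, e, Subgroup.card_bot])
  have hna : ¬ IsMulCommutative (S : Subgroup G) := fun hc => hX1 (le_bot_iff.1 (hX.trans
    ((Subgroup.commutator_eq_bot_iff_le_centralizer).2 fun a ha b hb =>
      congrArg Subtype.val (hc.is_comm.comm (⟨b, hb⟩ : (S : Subgroup G)) ⟨a, ha⟩)).le))
  by_cases hr : Cfsg.PRankLE p 2 (S : Subgroup G)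
  · refine ⟨S, le_rfl, Subgroup.le_centralizer_iff.1 (hX.trans ?_), inUniqueMaximal_of_nonabelian hG S.2 hna⟩
    rcases Cfsg.Agent.S1412.result hG p S hr with hab | ⟨P₁, P₂, hsup, hcomm, -, hc3, -, hcyc, -⟩
    · exact absurd hab hna
    obtain ⟨c₀, hc₀⟩ := hcyc.exists_generator
    have hP₂c : ∀ u ∈ P₂, ∀ v ∈ P₂, u * v = v * u := fun u hu v hv => by
      obtain ⟨i, hi⟩ := Subgroup.mem_zpowers_iff.1 (hc₀ ⟨u, hu⟩)
      obtain ⟨j, hj⟩ := Subgroup.mem_zpowers_iff.1 (hc₀ ⟨v, hv⟩)
      have := congrArg Subtype.val ((Commute.zpow_zpow_self c₀ i j).eq)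
      rw [hi, hj] at this
      exact this
    have hdec : ∀ s ∈ (S : Subgroup G), ∃ a ∈ P₁, ∃ b ∈ P₂, s = a * b := by
      intro s hs
      rw [← hsup, ← SetLike.mem_coe, Subgroup.coe_mul_of_right_le_normalizer_left P₁ P₂
        (fun b hb => Subgroup.centralizer_le_normalizer _ fun a ha => hcomm a ha b hb), Set.mem_mul] at hs
      obtain ⟨a, ha, b, hb, e⟩ := hs
      exact ⟨a, ha, b, hb, e.symm⟩
    refine Subgroup.commutator_le.2 fun s hs t ht g hg => ?_
    obtain ⟨a, ha, b, hb, rfl⟩ := hdec s hs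
    obtain ⟨a', ha', b', hb', rfl⟩ := hdec t ht
    have e1 : Commute b a' := (hcomm a' ha' b hb).symm
    have e2 : Commute b b' := hP₂c b hb b' hb'
    have e3 : Commute a b' := hcomm a ha b' hb'
    have e4 : Commute a' b' := hcomm a' ha' b' hb'
    have hceq : ⁅a * b, a' * b'⁆ = ⁅a, a'⁆ := by
      have h1 : (a * b) * (a' * b') * (a * b)⁻¹ = a * a' * a⁻¹ * b' := by
        calc (a * b) * (a' * b') * (a * b)⁻¹ = a * (b * (a' * b')) * b⁻¹ * a⁻¹ := by group
          _ = a * ((a' * b') * b) * b⁻¹ * a⁻¹ := by rw [(e1.mul_right e2).eq]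
          _ = a * a' * (b' * a⁻¹) := by group
          _ = a * a' * (a⁻¹ * b') := by rw [e3.inv_left.symm.eq]
          _ = _ := by group
      rw [commutatorElement_def, h1, commutatorElement_def]; group
    rw [hceq]
    obtain ⟨u, hu, v, hv, rfl⟩ := hdec g hg
    have hce : ⁅a, a'⁆ ∈ P₁ := by
      rw [commutatorElement_def]
      exact P₁.mul_mem (P₁.mul_mem (P₁.mul_mem ha ha') (P₁.inv_mem ha)) (P₁.inv_mem ha')
    have hcen : (⟨a, ha⟩ : P₁) * ⟨a', ha'⟩ * (⟨a, ha⟩ : P₁)⁻¹ * (⟨a', ha'⟩ : P₁)⁻¹ ∈ Subgroup.center P₁ := by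
      rw [← commutatorElement_def, ← QuotientGroup.eq_one_iff]
      change QuotientGroup.mk' (Subgroup.center P₁) ⁅(⟨a, ha⟩ : P₁), ⟨a', ha'⟩⁆ = 1
      rw [map_commutatorElement, commutatorElement_eq_one_iff_mul_comm]
      have hd := (Subgroup.center P₁).card_mul_index
      obtain ⟨k, hk3, hk⟩ := (Nat.dvd_prime_pow hp).1 (hc3 ▸ (Subgroup.center P₁).card_subgroup_dvd_card)
      haveI : Nontrivial P₁ := Finite.one_lt_card_iff_nontrivial.1 (by
        rw [hc3]; exact Nat.one_lt_pow (by norm_num) hp.one_lt)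
      haveI := (IsPGroup.of_card hc3).center_nontrivial
      have hk1 : 1 ≤ k := by
        by_contra h0
        have : 1 < Nat.card (Subgroup.center P₁) := Finite.one_lt_card
        rw [hk, show k = 0 by omega, pow_zero] at this
        exact lt_irrefl 1 this
      rw [hk, hc3, show p ^ 3 = p ^ k * p ^ (3 - k) by rw [← pow_add]; congr 1; omega] at hd
      have hidx : Nat.card (P₁ ⧸ Subgroup.center P₁) = p ^ (3 - k) := by
        rw [← Subgroup.index_eq_card]; exact Nat.eq_of_mul_eq_mul_left (pow_pos hp.pos k) hd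
      rcases (show 3 - k = 2 ∨ 3 - k = 1 ∨ 3 - k = 0 by omega) with h | h | h
      · rw [h] at hidx
        exact IsPGroup.commutative_of_card_eq_prime_sq hidx _ _
      · rw [h, pow_one] at hidx
        haveI := isCyclic_of_prime_card hidx
        exact (IsCyclic.commGroup.mul_comm _ _)
      · rw [h, pow_zero] at hidx
        haveI := (Nat.card_eq_one_iff_unique.1 hidx).1
        exact Subsingleton.elim _ _
    have c1 : Commute u ⁅a, a'⁆ := congrArg Subtype.val (Subgroup.mem_center_iff.1 hcen ⟨u, hu⟩)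
    have c2 : Commute v ⁅a, a'⁆ := (hcomm _ hce v hv).symm
    exact (c1.mul_left c2).eq
  · set R := (S : Subgroup G) with hR
    obtain ⟨B, hBR, hBe, hB3⟩ := exists_elementary hr
    obtain ⟨U, hUn, hUe, hU2⟩ := CfsgLib.NormalFour.exists_normal_rank_two_any S.2 hr
    haveI := hUn
    set T := U.map R.subtype with hT
    have hTR : T ≤ R := Subgroup.map_subtype_le _
    have hRT : R ≤ Subgroup.normalizer (T : Set G) := fun g hg => mem_normalizer_of_conj (by
      rintro _ ⟨u, hu, rfl⟩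
      exact ⟨⟨g, hg⟩ * u * ⟨g, hg⟩⁻¹, hUn.conj_mem u hu _, rfl⟩)
    haveI := hUe.1
    have hTe : Cfsg.IsElementaryAbelian p T := ⟨Subgroup.map_isMulCommutative U _, by
      rintro _ ⟨u, hu, rfl⟩; rw [← map_pow, hUe.2 u hu, map_one]⟩
    have hTc : Nat.card T = p ^ 2 := by rw [hT, Subgroup.card_map_of_injective R.subtype_injective, hU2]
    haveI := hTe.1
    have hTp := isPGroup_of_elementary hTe
    -- the derived group centralizes `T`
    have hder : ⁅R, R⁆ ≤ Subgroup.centralizer (T : Set G) := by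
      haveI := S.2.isNilpotent
      have hlt : ⁅T, R⁆ < T := commutator_lt_of_isNilpotent hTR le_rfl hRT (fun e => by
        rw [e, Subgroup.card_bot] at hTc
        exact (Nat.one_lt_pow two_ne_zero hp.one_lt).ne hTc)
      obtain ⟨k, hk2, hk⟩ := (Nat.dvd_prime_pow hp).1 (hTc ▸ Subgroup.card_dvd_of_le hlt.le)
      have hk1 : k ≤ 1 := by
        by_contra hlt'
        exact hlt.ne (Subgroup.eq_of_le_of_card_ge hlt.le (by rw [hTc, hk]; exact Nat.pow_le_pow_right hp.pos (by omega)))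
      have hTRC : ⁅⁅T, R⁆, R⁆ = ⊥ := by
        refine Subgroup.commutator_eq_bot_iff_le_centralizer.2 (Subgroup.le_centralizer_iff.1 ?_)
        interval_cases k
        · rw [Subgroup.card_eq_one.1 (hk.trans (pow_zero p))]
          exact fun r _ t ht => by rw [Subgroup.mem_bot.1 ht]; group
        · exact centralizes_line hp S.2 (hk.trans (pow_one p)) (le_normalizer_commutator hRT Subgroup.le_normalizer)
      have hb : ⁅⁅R, R⁆, T⁆ = ⊥ :=
        Subgroup.commutator_commutator_eq_bot_of_rotate (by rwa [Subgroup.commutator_comm R T]) hTRC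
      exact Subgroup.commutator_eq_bot_iff_le_centralizer.1 hb
    have hXT : X ≤ Subgroup.centralizer (T : Set G) := hX.trans hder
    have hXq : ∀ x ∈ X, x ^ p = 1 := fun x hx => by
      have := pow_card_eq_one' (x := (⟨x, hx⟩ : X))
      rw [hXc] at this
      simpa using congrArg Subtype.val this
    haveI : IsCyclic X := isCyclic_of_prime_card hXc
    by_cases hle : X ≤ T
    · -- `C_R(T)` has rank three
      set B₀ := B ⊓ Subgroup.centralizer (T : Set G) with hB₀
      haveI := hBe.1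
      have hB₀C : ∀ a ∈ B₀, ∀ b ∈ B₀, a * b = b * a := fun a ha b hb =>
        congrArg Subtype.val (mul_comm' (⟨a, ha.1⟩ : B) ⟨b, hb.1⟩)
      set W := B₀ ⊔ T with hW
      have hWe : Cfsg.IsElementaryAbelian p W := by
        have hc : IsMulCommutative W := by
          rw [hW, ← Subgroup.closure_eq B₀, ← Subgroup.closure_eq T, ← Subgroup.closure_union]
          exact Subgroup.isMulCommutative_closure (by
            rintro a (ha | ha) b (hb | hb)
            · exact hB₀C a ha b hb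
            · exact (ha.2 b hb).symm
            · exact hb.2 a ha
            · exact congrArg Subtype.val (mul_comm' (⟨a, ha⟩ : T) ⟨b, hb⟩))
        refine ⟨hc, fun w hw => ?_⟩
        rw [hW, ← SetLike.mem_coe, Subgroup.coe_mul_of_right_le_normalizer_left B₀ T (fun t ht =>
          Subgroup.centralizer_le_normalizer _ fun b hb => (hb.2 t ht).symm), Set.mem_mul] at hw
        obtain ⟨a, ha, t, ht, rfl⟩ := hw
        rw [(show Commute a t from (ha.2 t ht).symm).mul_pow, hBe.2 a ha.1, hTe.2 t ht, one_mul]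
      have hWR : W ≤ R := sup_le (inf_le_left.trans hBR) hTR
      by_cases hW3 : p ^ 3 ≤ Nat.card W
      · exact ⟨W, hWR, Subgroup.le_centralizer_iff.1 (fun x hx w hw => by
          have hxW : x ∈ W := Subgroup.mem_sup_right (hle hx)
          haveI := hWe.1
          exact congrArg Subtype.val (mul_comm' (⟨w, hw⟩ : W) ⟨x, hxW⟩)), elementary_uniq hG hWe hW3⟩
      have hWT : T = W := Subgroup.eq_of_le_of_card_ge le_sup_right (by
        obtain ⟨j, hj⟩ := (isPGroup_of_elementary hWe).exists_card_eq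
        rw [hTc, hj]
        rw [hj] at hW3
        have := (Nat.pow_lt_pow_iff_right hp.one_lt).1 (not_le.1 hW3)
        exact Nat.pow_le_pow_right hp.pos (by omega))
      have hB₀T : B₀ ≤ T := le_sup_left.trans hWT.ge
      haveI := S.2.isNilpotent
      by_cases hXR : R ≤ Subgroup.centralizer (X : Set G)
      · exact ⟨B, hBR, hBR.trans hXR, elementary_uniq hG hBe hB3⟩
      -- `T = X ⊔ ⁅T, R⁆`
      set Y := ⁅T, R⁆ with hY
      have hlt : Y < T := commutator_lt_of_isNilpotent hTR le_rfl hRT (fun e => by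
        rw [e, Subgroup.card_bot] at hTc
        exact (Nat.one_lt_pow two_ne_zero hp.one_lt).ne hTc)
      have hY1 : Y ≠ ⊥ := fun e => hXR (Subgroup.le_centralizer_iff.1
        (hle.trans (Subgroup.commutator_eq_bot_iff_le_centralizer.1 e)))
      have hYc : Nat.card Y = p := by
        obtain ⟨k, hk2, hk⟩ := (Nat.dvd_prime_pow hp).1 (hTc ▸ Subgroup.card_dvd_of_le hlt.le)
        interval_cases k
        · exact absurd (Subgroup.card_eq_one.1 (hk.trans (pow_zero p))) hY1
        · exact hk.trans (pow_one p)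
        · exact absurd (Subgroup.eq_of_le_of_card_ge hlt.le (by rw [hTc, hk])) hlt.ne
      have hYcen : R ≤ Subgroup.centralizer (Y : Set G) :=
        centralizes_line hp S.2 hYc (le_normalizer_commutator hRT Subgroup.le_normalizer)
      have hXY : X ⊔ Y = T := by
        refine Subgroup.eq_of_le_of_card_ge (sup_le hle hlt.le) ?_
        obtain ⟨k, hk2, hk⟩ := (Nat.dvd_prime_pow hp).1 (hTc ▸ Subgroup.card_dvd_of_le (sup_le hle hlt.le))
        rw [hTc, hk]
        refine Nat.pow_le_pow_right hp.pos ?_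
        by_contra hlt'
        have hc : Nat.card ↥(X ⊔ Y) ≤ p := by
          rw [hk]; exact (Nat.pow_le_pow_right hp.pos (by omega : k ≤ 1)).trans (pow_one p).le
        refine hXR ?_
        rw [Subgroup.eq_of_le_of_card_ge (le_sup_left : X ≤ X ⊔ Y) (hc.trans hXc.ge),
          ← Subgroup.eq_of_le_of_card_ge (le_sup_right : Y ≤ X ⊔ Y) (hc.trans hYc.ge)]
        exact hYcen
      obtain ⟨x₀, hx₀, hXgen, -⟩ := CfsgLib.BG.PLengthHall.exists_gen_of_prime (R₀ := X) (hXc.symm ▸ hp)
      let ψ : B → Y := fun b => ⟨⁅x₀, (b : G)⁆, Subgroup.commutator_mem_commutator (hle hx₀) (hBR b.2)⟩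
      have hψ : ∀ b b' : B, ψ b = ψ b' → (b : G)⁻¹ * b' ∈ B₀ := fun b b' hbb => by
        have h1 : ⁅x₀, (b : G)⁆ = ⁅x₀, (b' : G)⁆ := congrArg Subtype.val hbb
        rw [commutatorElement_def, commutatorElement_def] at h1
        have h2 : Commute x₀⁻¹ ((b : G)⁻¹ * b') := by
          show x₀⁻¹ * ((b : G)⁻¹ * b') = (b : G)⁻¹ * b' * x₀⁻¹
          calc x₀⁻¹ * ((b : G)⁻¹ * b') = (b : G)⁻¹ * x₀⁻¹ * (x₀ * b * x₀⁻¹ * (b : G)⁻¹) * b' := by group
            _ = (b : G)⁻¹ * x₀⁻¹ * (x₀ * b' * x₀⁻¹ * (b' : G)⁻¹) * b' := by rw [h1]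
            _ = _ := by group
        have hm : (b : G)⁻¹ * b' ∈ B := B.mul_mem (B.inv_mem b.2) b'.2
        refine ⟨hm, ?_⟩
        intro t ht
        have hle' : T ≤ Subgroup.centralizer ({(b : G)⁻¹ * b'} : Set G) := by
          rw [← hXY, hXgen]
          exact sup_le (Subgroup.zpowers_le.2 (Subgroup.mem_centralizer_singleton_iff.2 (Commute.inv_left_iff.1 h2).eq))
            fun y hy => Subgroup.mem_centralizer_singleton_iff.2 (hYcen (hBR hm) y hy)
        exact Subgroup.mem_centralizer_singleton_iff.1 (hle' ht)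
      have hidx : Nat.card B ≤ Nat.card B₀ * p := by
        classical
        let sec : Y → B := fun c => if h : ∃ b, ψ b = c then h.choose else 1
        have hsec : ∀ b, ψ (sec (ψ b)) = ψ b := fun b => by
          simp only [sec, dif_pos (⟨b, rfl⟩ : ∃ b', ψ b' = ψ b)]
          exact (⟨b, rfl⟩ : ∃ b', ψ b' = ψ b).choose_spec
        calc Nat.card B ≤ Nat.card (↥B₀ × Y) := by
              refine Nat.card_le_card_of_injective (fun b => (⟨_, hψ _ _ (hsec b)⟩, ψ b)) fun b b' hbb => ?_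
              simp only [Prod.mk.injEq, Subtype.mk.injEq] at hbb
              rw [hbb.2] at hbb
              exact Subtype.ext (mul_left_cancel hbb.1)
          _ = _ := by rw [Nat.card_prod, hYc]
      have hB₀eq : B₀ = T := Subgroup.eq_of_le_of_card_ge hB₀T (by
        rw [hTc]
        obtain ⟨j, hj⟩ := (hTp.to_le hB₀T).exists_card_eq
        rw [hj] at hidx ⊢
        rw [← pow_succ] at hidx
        have := (Nat.pow_le_pow_iff_right hp.one_lt).1 (hB3.trans hidx)
        exact Nat.pow_le_pow_right hp.pos (by omega))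
      exact ⟨B, hBR, Subgroup.le_centralizer_iff.1 (fun x hx b hb =>
        congrArg Subtype.val (mul_comm' (⟨b, hb⟩ : B) ⟨x, (hB₀eq.ge.trans inf_le_left) (hle hx)⟩)),
        elementary_uniq hG hBe hB3⟩
    · set W := X ⊔ T with hW
      have hc : IsMulCommutative W := by
        rw [hW, ← Subgroup.closure_eq X, ← Subgroup.closure_eq T, ← Subgroup.closure_union]
        exact Subgroup.isMulCommutative_closure (by
          rintro a (ha | ha) b (hb | hb)
          · exact congrArg Subtype.val (IsCyclic.commGroup.mul_comm (⟨a, ha⟩ : X) ⟨b, hb⟩)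
          · exact (hXT ha b hb).symm
          · exact hXT hb a ha
          · exact congrArg Subtype.val (mul_comm' (⟨a, ha⟩ : T) ⟨b, hb⟩))
      haveI := hc
      have hWe : Cfsg.IsElementaryAbelian p W := ⟨hc, fun w hw => by
        rw [hW, ← SetLike.mem_coe, Subgroup.coe_mul_of_right_le_normalizer_left X T (fun t ht =>
          Subgroup.centralizer_le_normalizer _ fun x hx => (hXT hx t ht).symm), Set.mem_mul] at hw
        obtain ⟨a, ha, t, ht, rfl⟩ := hw
        rw [(show Commute a t from (hXT ha t ht).symm).mul_pow, hXq a ha, hTe.2 t ht, one_mul]⟩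
      refine ⟨W, sup_le hXS hTR, Subgroup.le_centralizer_iff.1 (fun x hx w hw =>
        congrArg Subtype.val (mul_comm' (⟨w, hw⟩ : W) ⟨x, Subgroup.mem_sup_left hx⟩)), elementary_uniq hG hWe ?_⟩
      obtain ⟨j, hj⟩ := (isPGroup_of_elementary hWe).exists_card_eq
      rw [hj]
      refine Nat.pow_le_pow_right hp.pos ?_
      by_contra hlt
      refine hle (le_trans le_sup_left (Subgroup.eq_of_le_of_card_ge (le_sup_right : T ≤ W) ?_).ge)
      rw [hTc, hj]
      exact Nat.pow_le_pow_right hp.pos (by omega)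

end CfsgLib.OddLocal

namespace CfsgLib.OddLocal

universe v

variable {G : Type v} [Group G] [Finite G] {p : ℕ} {M : Subgroup G}

/-- Lines for an ideal prime have uniqueness centralizers. -/
theorem centralizer_uniq_of_ideal (hG : Cfsg.IsMinSimpleOddOrder G) [Fact p.Prime] (hp : Cfsg.IsIdealPrime p G)
    (S : Sylow p G) (hS3 : ¬ Cfsg.PRankLE p 2 (S : Subgroup G)) {X : Subgroup G} (hXc : Nat.card X = p)
    (hXS : X ≤ (S : Subgroup G)) :
    ∃ D : Subgroup G, D ≤ (S : Subgroup G) ∧ D ≤ Subgroup.centralizer (X : Set G) ∧ Cfsg.InUniqueMaximal D := by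
  classical
  have hpp : p.Prime := Fact.out
  have hX1 : X ≠ ⊥ := fun e => hpp.ne_one (by rw [← hXc, e, Subgroup.card_bot])
  obtain ⟨z, hzS, hzC, hzo⟩ := exists_central_order hpp S.2 fun e => hX1 (le_bot_iff.1 (hXS.trans e.le))
  by_cases hzX : Subgroup.zpowers z = X
  · obtain ⟨B, hBS, hBe, hB3⟩ := exists_elementary hS3
    refine ⟨B, hBS, fun b hb x hx => ?_, elementary_uniq hG hBe hB3⟩
    rw [SetLike.mem_coe, ← hzX] at hx
    obtain ⟨i, rfl⟩ := Subgroup.mem_zpowers_iff.1 hx
    exact ((show Commute z b from (hzC b (hBS hb)).symm).zpow_left i).eq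
  obtain ⟨x₀, hx₀, hXgen, -⟩ := CfsgLib.BG.PLengthHall.exists_gen_of_prime (R₀ := X) (hXc.symm ▸ hpp)
  set A := Subgroup.zpowers z ⊔ X with hA
  have hc : IsMulCommutative A := by
    rw [hA, hXgen, Subgroup.zpowers_eq_closure, Subgroup.zpowers_eq_closure, ← Subgroup.closure_union]
    exact Subgroup.isMulCommutative_closure (by
      rintro a (rfl | rfl) b (rfl | rfl)
      · rfl
      · exact (hzC _ (hXS hx₀)).symm
      · exact hzC _ (hXS hx₀)
      · rfl)
  haveI := hc
  have hAS : A ≤ (S : Subgroup G) := sup_le (Subgroup.zpowers_le.2 hzS) hXS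
  have hcomm : X ≤ Subgroup.normalizer (Subgroup.zpowers z : Set G) := fun x hx =>
    Subgroup.centralizer_le_normalizer _ fun y hy => by
      obtain ⟨i, rfl⟩ := Subgroup.mem_zpowers_iff.1 hy
      exact ((show Commute z x from (hzC x (hXS hx)).symm).zpow_left i).eq
  have hAe : Cfsg.IsElementaryAbelian p A := ⟨hc, fun a ha => by
    rw [hA, ← SetLike.mem_coe, Subgroup.coe_mul_of_right_le_normalizer_left _ X hcomm, Set.mem_mul] at ha
    obtain ⟨u, hu, x, hx, rfl⟩ := ha
    obtain ⟨i, rfl⟩ := Subgroup.mem_zpowers_iff.1 hu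
    have h1 : x ^ p = 1 := by
      have := pow_card_eq_one' (x := (⟨x, hx⟩ : X))
      rw [hXc] at this
      simpa using congrArg Subtype.val this
    rw [(show Commute (z ^ i) x from (show Commute z x from (hzC x (hXS hx)).symm).zpow_left i).mul_pow, h1,
      mul_one, ← zpow_natCast, ← zpow_mul, mul_comm, zpow_mul, zpow_natCast, ← hzo, pow_orderOf_eq_one, one_zpow]⟩
  have hA2 : Nat.card A = p ^ 2 := by
    have h1 := CfsgLib.Coprime.card_sup_mul_card_inf (K := Subgroup.zpowers z) (S := X) hcomm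
    have hinf : Subgroup.zpowers z ⊓ X = ⊥ := by
      rcases (Nat.dvd_prime hpp).1 (hXc ▸ Subgroup.card_dvd_of_le
        (inf_le_right : Subgroup.zpowers z ⊓ X ≤ X)) with e | e
      · exact Subgroup.card_eq_one.1 e
      · exfalso
        have e1 : Subgroup.zpowers z ⊓ X = X := Subgroup.eq_of_le_of_card_ge inf_le_right (by rw [hXc, e])
        refine hzX (Subgroup.eq_of_le_of_card_ge (inf_eq_right.1 e1) ?_).symm
        rw [Nat.card_zpowers, hzo, hXc]
    rw [hinf, Subgroup.card_bot, mul_one, Nat.card_zpowers, hzo, hXc] at h1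
    rw [h1, sq]
  obtain ⟨B, hBS, hBe, hlt⟩ := hp.2.2 S A hAS hAe hA2
  haveI := hBe.1
  refine ⟨B, hBS, fun b hb x hx =>
    congrArg Subtype.val (mul_comm' (⟨x, hlt.le (Subgroup.mem_sup_right hx)⟩ : B) ⟨b, hb⟩), elementary_uniq hG hBe ?_⟩
  obtain ⟨j, hj⟩ := (isPGroup_of_elementary hBe).exists_card_eq
  rw [hj]
  refine Nat.pow_le_pow_right hpp.pos ?_
  by_contra hj2
  refine hlt.ne (Subgroup.eq_of_le_of_card_ge hlt.le ?_)
  rw [hj, hA2]
  exact Nat.pow_le_pow_right hpp.pos (by omega)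

/-- BG 12.14. -/
theorem sigma_line_uniq (hG : Cfsg.IsMinSimpleOddOrder G) (hM : IsCoatom M) [Fact p.Prime] (hp : p ∈ Cfsg.sigma M)
    {X : Subgroup G} (hXM : X ≤ M) (hXc : Nat.card X = p)
    (h : p ∈ Cfsg.beta M ∨ X ≤ ⁅Cfsg.sigmaCore M, Cfsg.sigmaCore M⁆) :
    (Subgroup.centralizer (X : Set G) ≤ M ∧
      ∀ L : Subgroup G, IsCoatom L → Subgroup.centralizer (X : Set G) ≤ L → L = M) ∧
    ∀ T : Sylow p G, (T : Subgroup G) ≤ M → Cfsg.InUniqueMaximal (T : Subgroup G) := by
  classical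
  have hpp : p.Prime := Fact.out
  have hX1 : X ≠ ⊥ := fun e => hpp.ne_one (by rw [← hXc, e, Subgroup.card_bot])
  obtain ⟨Q, hQ⟩ := (((IsPGroup.of_card (n := 1) (by rw [hXc, pow_one]) : IsPGroup p X)).comap_of_injective
    M.subtype M.subtype_injective : IsPGroup p (X.subgroupOf M)).exists_le_sylow
  obtain ⟨S, hS⟩ := exists_sylow_map_eq hp Q
  have hSM : (S : Subgroup G) ≤ M := hS.le.trans (Subgroup.map_subtype_le _)
  have hXS : X ≤ (S : Subgroup G) :=
    ((Subgroup.map_subgroupOf_eq_of_le hXM).ge.trans (Subgroup.map_mono hQ)).trans hS.ge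
  have hrk : ∀ (T : Sylow p G), (T : Subgroup G) ≤ M → p ∈ Cfsg.alpha M → ¬ Cfsg.PRankLE p 2 (T : Subgroup G) :=
    fun T hT hα hle => hα.2 (prankLE_of_sylow (T.subtype hT)
      (by rwa [Sylow.coe_subtype, Subgroup.map_subgroupOf_eq_of_le hT]))
  have key : (∃ D : Subgroup G, D ≤ (S : Subgroup G) ∧ D ≤ Subgroup.centralizer (X : Set G) ∧ Cfsg.InUniqueMaximal D) ∧
      ∀ T : Sylow p G, (T : Subgroup G) ≤ M → Cfsg.InUniqueMaximal (T : Subgroup G) := by
    by_cases hβ : p ∈ Cfsg.beta M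
    · refine ⟨centralizer_uniq_of_ideal hG hβ.2 S (hrk S hSM hβ.1) hXc hXS, fun T hT => ?_⟩
      obtain ⟨B, hBT, hBe, hB3⟩ := exists_elementary (hrk T hT hβ.1)
      exact uniq_mono (elementary_uniq hG hBe hB3) hBT fun e => hM.1 (top_unique (e.ge.trans hT))
    · have hXd : X ≤ ⁅(S : Subgroup G), (S : Subgroup G)⁆ :=
        (le_inf hXS (h.resolve_left hβ)).trans (inf_derived_le hG hM hp hβ S hSM)
      refine ⟨centralizer_uniq_of_derived hG S hXc hXd, fun T _ => inUniqueMaximal_of_nonabelian hG T.2 fun hc => ?_⟩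
      obtain ⟨g, hg⟩ := MulAction.exists_smul_eq G T S
      haveI := hc
      haveI hSc : IsMulCommutative (S : Subgroup G) := by
        rw [← hg, Sylow.coe_subgroup_smul]; exact Subgroup.map_isMulCommutative _ _
      refine hX1 (le_bot_iff.1 (hXd.trans ((Subgroup.commutator_eq_bot_iff_le_centralizer).2 ?_).le))
      exact fun a ha b hb => congrArg Subtype.val (mul_comm' (⟨b, hb⟩ : (S : Subgroup G)) ⟨a, ha⟩)
  obtain ⟨D, hDS, hDC, hDU⟩ := key.1
  have huniq : ∀ L : Subgroup G, IsCoatom L → Subgroup.centralizer (X : Set G) ≤ L → L = M := fun L hL hCL =>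
    uniq_eq hDU hL (hDC.trans hCL) hM (hDS.trans hSM)
  obtain ⟨L, hL, hCL⟩ := (eq_top_or_exists_le_coatom _).resolve_left (centralizer_ne_top hG hX1)
  exact ⟨⟨huniq L hL hCL ▸ hCL, huniq⟩, key.2⟩

end CfsgLib.OddLocal
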