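import Cfsg.Agent.Lib.OddLocal.TauTwoHall
import Cfsg.Agent.Lib.OddLocal.SigmaLines
import Cfsg.Agent.Lib.OddLocal.Beta

/-!
BG 12.17: the action of a complement on `M_σ` and the intersections `M_σ ∩ M^g`.
-/

set_option autoImplicit false
set_option linter.style.haveILetI false
set_option linter.unusedSectionVars false

open scoped commutatorElement
open scoped Pointwise

namespace CfsgLib.OddLocal

open CfsgLib.Coprime
open CfsgLib.BG.FixedLine (conj_mem_of_le_normalizer mem_normalizer_of_conj)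

universe u

variable {G : Type u} [Group G] [Finite G] {M E : Subgroup G}

/-- `H` normalizes `[H, K]`. -/
theorem le_normalizer_commutator_left {X : Type*} [Group X] [Finite X] (H K : Subgroup X) :
    H ≤ Subgroup.normalizer ((⁅H, K⁆ : Subgroup X) : Set X) := fun a ha => mem_normalizer_of_conj fun x hx => by
  have hle : ⁅H, K⁆ ≤ (⁅H, K⁆).comap (MulAut.conj a).toMonoidHom := Subgroup.commutator_le.2 fun b hb k hk => by
    show a * ⁅b, k⁆ * a⁻¹ ∈ ⁅H, K⁆
    rw [show a * ⁅b, k⁆ * a⁻¹ = ⁅a * b, k⁆ * ⁅a, k⁆⁻¹ by simp only [commutatorElement_def]; group]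
    exact mul_mem (Subgroup.commutator_mem_commutator (mul_mem ha hb) hk)
      (inv_mem (Subgroup.commutator_mem_commutator ha hk))
  exact hle hx

/-- `[M_σ, E] = M_σ`. -/
theorem commutator_sigmaCore_compl (hG : Cfsg.IsMinSimpleOddOrder G) (hM : IsCoatom M)
    (hE : Cfsg.IsComplIn E (Cfsg.sigmaCore M) M) : ⁅Cfsg.sigmaCore M, E⁆ = Cfsg.sigmaCore M := by
  classical
  refine le_antisymm (commutator_le_left_of_le_normalizer (hE.1.trans (le_normalizer_piCoreOf _ M))) ?_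
  haveI hMs := isSolvable_of_ne_top hG hM.1
  set N := Cfsg.piCore (Cfsg.sigma M) ↥M with hN
  set F := E.subgroupOf M with hF
  have hFm : F.map M.subtype = E := Subgroup.map_subgroupOf_eq_of_le hE.1
  set C := ⁅N, F⁆ with hC
  have hsup : N ⊔ F = ⊤ := by
    refine eq_top_iff.2 fun m _ => ?_
    obtain ⟨a, ha, b, ⟨b', hb', rfl⟩, he⟩ := hE.2.2.2 m m.2
    have h1 : m = ⟨a, hE.1 ha⟩ * b' := Subtype.ext he
    rw [h1]
    exact mul_mem (Subgroup.mem_sup_right (show (⟨a, hE.1 ha⟩ : M) ∈ F from ha)) (Subgroup.mem_sup_left hb')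
  haveI : C.Normal := Subgroup.normalizer_eq_top_iff.1 (eq_top_iff.2 (hsup.ge.trans (sup_le
    (le_normalizer_commutator_left N F)
    (le_normalizer_commutator (Subgroup.le_normalizer_of_normal) Subgroup.le_normalizer))))
  set π := QuotientGroup.mk' C with hπ
  set A := N.map π with hA
  set B := F.map π with hB
  have hAB : A ⊔ B = ⊤ := by
    rw [hA, hB, ← Subgroup.map_sup, hsup, Subgroup.map_top_of_surjective _ (QuotientGroup.mk'_surjective C)]
  have hcomm : ∀ a ∈ A, ∀ b ∈ B, Commute a b := by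
    rintro _ ⟨a, ha, rfl⟩ _ ⟨b, hb, rfl⟩
    refine commutatorElement_eq_one_iff_commute.1 ?_
    rw [← map_commutatorElement]
    exact (QuotientGroup.eq_one_iff _).2 (Subgroup.commutator_mem_commutator ha hb)
  have hdec : ∀ x : M ⧸ C, ∃ a ∈ A, ∃ b ∈ B, x = a * b := fun x => by
    have hx : x ∈ A ⊔ B := hAB.ge (Subgroup.mem_top x)
    rw [← SetLike.mem_coe, Subgroup.coe_mul_of_right_le_normalizer_left A B
      (fun b hb => Subgroup.centralizer_le_normalizer _ fun a ha => (hcomm a ha b hb).eq), Set.mem_mul] at hx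
    obtain ⟨a, ha, b, hb, e⟩ := hx
    exact ⟨a, ha, b, hb, e.symm⟩
  have hABbot : A ⊓ B = ⊥ := eq_bot_of_disjoint (π := Cfsg.sigma M) (ρ := {r | r ∉ Cfsg.sigma M})
    (fun r hr hd => Cfsg.Agent.S1886.piCore_isPi _ r hr
      ((hd.trans (Subgroup.card_dvd_of_le inf_le_left)).trans (N.card_map_dvd _)))
    (fun r hr hd => by
      refine not_sigma_of_dvd_compl hG hM hE hr ?_
      have h1 := (hd.trans (Subgroup.card_dvd_of_le inf_le_right)).trans (F.card_map_dvd _)
      rwa [Nat.card_congr (Subgroup.subgroupOfEquivOfLe hE.1).toEquiv] at h1)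
    (Set.disjoint_left.2 fun _ h1 h2 => h2 h1)
  have hAd : A ≤ ⁅A, A⁆ := by
    intro x hx
    have h1 : x ∈ ⁅A, A⁆ ⊔ B := by
      have h2 : A ≤ ⁅(⊤ : Subgroup (M ⧸ C)), ⊤⁆ := by
        rw [hA, ← Subgroup.map_top_of_surjective π (QuotientGroup.mk'_surjective C), ← Subgroup.map_commutator]
        exact Subgroup.map_mono (sigma_piCore_le_commutator hG hM)
      refine (h2.trans (Subgroup.commutator_le.2 fun u _ v _ => ?_)) hx
      obtain ⟨a, ha, b, hb, rfl⟩ := hdec u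
      obtain ⟨a', ha', b', hb', rfl⟩ := hdec v
      have e : ⁅a * b, a' * b'⁆ = ⁅a, a'⁆ * ⁅b, b'⁆ := by
        have c1 := hcomm a ha b' hb'
        have c2 := hcomm a' ha' b hb
        simp only [commutatorElement_def, mul_inv_rev]
        calc a * b * (a' * b') * (b⁻¹ * a⁻¹) * (b'⁻¹ * a'⁻¹)
            = a * (b * a') * b' * b⁻¹ * (a⁻¹ * b'⁻¹) * a'⁻¹ := by group
          _ = a * (a' * b) * b' * b⁻¹ * (b'⁻¹ * a⁻¹) * a'⁻¹ := by rw [c2.symm.eq, c1.inv_inv.eq]
          _ = a * a' * (b * b' * b⁻¹ * b'⁻¹) * (a⁻¹ * a'⁻¹) := by group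
          _ = a * a' * ((a⁻¹ * a'⁻¹) * (b * b' * b⁻¹ * b'⁻¹)) := by
              have hc : Commute (a⁻¹ * a'⁻¹) (b * b' * b⁻¹ * b'⁻¹) := hcomm _ (mul_mem (inv_mem ha) (inv_mem ha')) _
                (mul_mem (mul_mem (mul_mem hb hb') (inv_mem hb)) (inv_mem hb'))
              rw [mul_assoc (a * a'), ← hc.eq]
          _ = _ := by group
      rw [e]
      exact mul_mem (Subgroup.mem_sup_left (Subgroup.commutator_mem_commutator ha ha'))
        (Subgroup.mem_sup_right (mul_mem (mul_mem (mul_mem hb hb') (inv_mem hb)) (inv_mem hb')))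
    have hAA : ⁅A, A⁆ ≤ A := Subgroup.commutator_le_self A
    rw [← SetLike.mem_coe, Subgroup.coe_mul_of_right_le_normalizer_left ⁅A, A⁆ B
      (fun b hb => Subgroup.centralizer_le_normalizer _ fun a ha => (hcomm a (hAA ha) b hb).eq), Set.mem_mul] at h1
    obtain ⟨c, hc, b, hb, rfl⟩ := h1
    have hb1 : b ∈ A ⊓ B := ⟨by simpa using mul_mem (inv_mem (hAA hc)) hx, hb⟩
    rw [hABbot, Subgroup.mem_bot] at hb1
    rw [hb1, mul_one]; exact hc
  have hA1 : A = ⊥ := by
    by_contra hne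
    haveI : Nontrivial A := (Subgroup.nontrivial_iff_ne_bot _).2 hne
    haveI : Group.IsSolvable A := inferInstance
    have h1 := Group.IsSolvable.commutator_lt_top_of_nontrivial (G := A)
    refine h1.ne (eq_top_iff.2 fun x _ => ?_)
    have h2 := hAd x.2
    rw [← Subgroup.map_subtype_commutator] at h2
    obtain ⟨y, hy, hye⟩ := h2
    exact Subtype.ext hye ▸ hy
  rintro _ ⟨x, hx, rfl⟩
  have h1 : x ∈ C := (QuotientGroup.eq_one_iff x).1 (Subgroup.mem_bot.1 (hA1.le ⟨x, hx, rfl⟩))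
  have h2 : M.subtype x ∈ C.map M.subtype := ⟨x, h1, rfl⟩
  rw [hC, Subgroup.map_commutator, hFm] at h2
  exact h2

/-- `C_{M_σ}(E) ≤ M_σ'`. -/
theorem centralizer_compl_le_derived (hG : Cfsg.IsMinSimpleOddOrder G) (hM : IsCoatom M)
    (hE : Cfsg.IsComplIn E (Cfsg.sigmaCore M) M) :
    Cfsg.sigmaCore M ⊓ Subgroup.centralizer (E : Set G) ≤ ⁅Cfsg.sigmaCore M, Cfsg.sigmaCore M⁆ := by
  classical
  set S := Cfsg.sigmaCore M with hS
  set N := Cfsg.piCore (Cfsg.sigma M) ↥M with hN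
  set F := E.subgroupOf M with hF
  have hFm : F.map M.subtype = E := Subgroup.map_subgroupOf_eq_of_le hE.1
  haveI : N.Normal := by haveI := Cfsg.Agent.S1886.piCore_char (X := ↥M) (Cfsg.sigma M); infer_instance
  set D := ⁅N, N⁆ with hD
  set π := QuotientGroup.mk' D with hπ
  set V := N.map π with hV
  set B := F.map π with hB
  haveI : IsMulCommutative V := ⟨⟨by
    rintro ⟨_, a, ha, rfl⟩ ⟨_, b, hb, rfl⟩
    refine Subtype.ext (commutatorElement_eq_one_iff_commute.1 ?_)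
    rw [← map_commutatorElement]
    exact (QuotientGroup.eq_one_iff _).2 (Subgroup.commutator_mem_commutator ha hb)⟩⟩
  have hNF : ⁅N, F⁆ = N := by
    refine Subgroup.map_injective M.subtype_injective ?_
    rw [Subgroup.map_commutator, hFm]
    exact commutator_sigmaCore_compl hG hM hE
  have hVB : ⁅V, B⁆ = V := by rw [hV, hB, ← Subgroup.map_commutator, hNF]
  have hcop : (Nat.card B).Coprime (Nat.card V) := Nat.coprime_of_dvd fun r hr h1 h2 => by
    have h3 := h1.trans (F.card_map_dvd _)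
    rw [Nat.card_congr (Subgroup.subgroupOfEquivOfLe hE.1).toEquiv] at h3
    exact not_sigma_of_dvd_compl hG hM hE hr h3 (Cfsg.Agent.S1886.piCore_isPi _ r hr (h2.trans (N.card_map_dvd _)))
  haveI : V.Normal := Subgroup.Normal.map inferInstance _ (QuotientGroup.mk'_surjective D)
  have hbot := centralizer_inf_commutator_eq_bot (A := B) (V := V) Subgroup.le_normalizer_of_normal hcop
  rw [hVB] at hbot
  rintro _ ⟨⟨x, hx, rfl⟩, hxC⟩
  have hmem : π x ∈ (V ⊓ Subgroup.centralizer (B : Set (M ⧸ D))) ⊓ V := by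
    refine ⟨⟨⟨x, hx, rfl⟩, ?_⟩, x, hx, rfl⟩
    rintro _ ⟨b, hb, rfl⟩
    rw [← map_mul, ← map_mul]
    exact congrArg π (Subtype.ext (hxC b hb))
  rw [hbot, Subgroup.mem_bot] at hmem
  have h2 : M.subtype x ∈ D.map M.subtype := ⟨x, (QuotientGroup.eq_one_iff x).1 hmem, rfl⟩
  rw [hD, Subgroup.map_commutator] at h2
  exact h2

/-- `M_σ ∩ M^g` for `g ∉ M`. -/
theorem sigmaCore_inf_conj (hG : Cfsg.IsMinSimpleOddOrder G) (hM : IsCoatom M) {g : G} (hg : g ∉ M) :
    IsCyclic ↥(Cfsg.sigmaCore M ⊓ MulAut.conj g • M) ∧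
      (∀ r : ℕ, r.Prime → r ∣ Nat.card ↥(Cfsg.sigmaCore M ⊓ MulAut.conj g • M) → r ∉ Cfsg.beta M) ∧
      Cfsg.sigmaCore M ⊓ MulAut.conj g • M ⊓ ⁅Cfsg.sigmaCore M, Cfsg.sigmaCore M⁆ = ⊥ := by
  classical
  set X := Cfsg.sigmaCore M ⊓ MulAut.conj g • M with hX
  have hXS : X ≤ Cfsg.sigmaCore M := inf_le_left
  have hXM : X ≤ M := hXS.trans (piCoreOf_le _ M)
  have hsig : ∀ {r : ℕ}, r.Prime → r ∣ Nat.card X → r ∈ Cfsg.sigma M := fun {r} hr hd =>
    isPi_piCoreOf _ M r hr (hd.trans (Subgroup.card_dvd_of_le hXS))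
  have key : ∀ {r : ℕ} {R : Subgroup G}, r.Prime → IsPGroup r R → R ≤ X → R ≠ ⊥ →
      Subgroup.centralizer (R : Set G) ≤ M → False := by
    intro r R hr hR hRX hR1 hC
    haveI := Fact.mk hr
    obtain ⟨z, hz, -, hzo⟩ := exists_central_order hr hR hR1
    have hrσ := hsig hr (hzo ▸ Subgroup.orderOf_dvd_natCard X (hRX hz))
    have hle : MulAut.conj g⁻¹ • R ≤ M := fun y hy => by
      rw [mem_conj_smul_iff, inv_inv] at hy
      have : g * y * g⁻¹ ∈ MulAut.conj g • M := (hRX hy).2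
      rw [mem_conj_smul_iff] at this
      simpa [mul_assoc] using this
    obtain ⟨m, hm, c, hc, he⟩ := (fusion hG hM hrσ hR hR1 (hRX.trans hXM)).2 g⁻¹ hle
    exact hg (M.inv_mem_iff.1 (he ▸ M.mul_mem hm (hC hc)))
  have hline : ∀ {r : ℕ} {Z : Subgroup G}, r.Prime → Z ≤ X → Nat.card Z = r →
      r ∉ Cfsg.beta M ∧ ¬ Z ≤ ⁅Cfsg.sigmaCore M, Cfsg.sigmaCore M⁆ := by
    intro r Z hr hZX hZc
    haveI := Fact.mk hr
    have hrσ := hsig hr (hZc ▸ Subgroup.card_dvd_of_le hZX)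
    have hno : ¬ (r ∈ Cfsg.beta M ∨ Z ≤ ⁅Cfsg.sigmaCore M, Cfsg.sigmaCore M⁆) := fun h =>
      key hr (IsPGroup.of_card (n := 1) (by rw [hZc, pow_one])) hZX
        (fun e => hr.ne_one (by rw [← hZc, e, Subgroup.card_bot]))
        (sigma_line_uniq hG hM hrσ (hZX.trans hXM) hZc h).1.1
    exact ⟨fun h => hno (Or.inl h), fun h => hno (Or.inr h)⟩
  have hex : ∀ {r : ℕ} {Y : Subgroup G}, r.Prime → r ∣ Nat.card Y → ∃ Z ≤ Y, Nat.card Z = r := by
    intro r Y hr hd
    haveI := Fact.mk hr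
    obtain ⟨z, hz⟩ := exists_prime_orderOf_dvd_card' r hd
    exact ⟨Subgroup.zpowers (z : G), Subgroup.zpowers_le.2 z.2, by rw [Nat.card_zpowers, Subgroup.orderOf_coe, hz]⟩
  have hd' : X ⊓ ⁅Cfsg.sigmaCore M, Cfsg.sigmaCore M⁆ = ⊥ := by
    by_contra hne
    obtain ⟨r, hr, hrd⟩ := Nat.exists_prime_and_dvd (fun e => hne (Subgroup.card_eq_one.1 e))
    obtain ⟨Z, hZ, hZc⟩ := hex hr hrd
    exact (hline hr (hZ.trans inf_le_left) hZc).2 (hZ.trans inf_le_right)
  refine ⟨?_, fun r hr hrd => ?_, hd'⟩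
  · haveI hXc : IsMulCommutative X := ⟨⟨fun a b => Subtype.ext (commutatorElement_eq_one_iff_commute.1 (by
      have h1 : ⁅(a : G), (b : G)⁆ ∈ X ⊓ ⁅Cfsg.sigmaCore M, Cfsg.sigmaCore M⁆ :=
        Subgroup.mem_inf.2 ⟨mul_mem (mul_mem (mul_mem a.2 b.2) (inv_mem a.2)) (inv_mem b.2),
          Subgroup.commutator_mem_commutator (hXS a.2) (hXS b.2)⟩
      rwa [hd', Subgroup.mem_bot] at h1))⟩⟩
    haveI : IsZGroup X := ⟨fun r hr P => by
      haveI := Fact.mk hr
      by_contra hnc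
      set R := (P : Subgroup X).map X.subtype with hR
      have hRnc : ¬ IsCyclic R := fun hc => hnc (by
        haveI := hc
        exact isCyclic_of_surjective ((P : Subgroup X).equivMapOfInjective X.subtype X.subtype_injective).symm
          (MulEquiv.surjective _))
      have hRX : R ≤ X := Subgroup.map_subtype_le _
      have hR1 : R ≠ ⊥ := fun e => hRnc (e ▸ inferInstance)
      obtain ⟨z, hz, -, hzo⟩ := exists_central_order hr (P.2.map X.subtype) hR1
      have hrσ := hsig hr (hzo ▸ Subgroup.orderOf_dvd_natCard X (hRX hz))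
      exact key hr (P.2.map X.subtype) hRX hR1 ((Subgroup.centralizer_le_normalizer _).trans
        (normalizer_le_of_noncyclic hG hM hrσ (P.2.map X.subtype) (hRX.trans hXM) hRnc))⟩
    haveI : Group.IsNilpotent X := by
      letI : CommGroup X := { (inferInstance : Group X) with mul_comm := mul_comm' }
      infer_instance
    infer_instance
  · obtain ⟨Z, hZ, hZc⟩ := hex hr hrd
    exact (hline hr hZ hZc).1

end CfsgLib.OddLocal
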