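import Cfsg.Agent.Lib.OddLocal.FixedTools

/-!
First properties of `κ(M)`.
-/

set_option autoImplicit false
set_option linter.style.haveILetI false
set_option linter.unusedSectionVars false

open scoped commutatorElement
open scoped Pointwise

namespace CfsgLib.OddLocal

open CfsgLib.Coprime
open CfsgLib.BG.FixedLine (conj_mem_of_le_normalizer mem_normalizer_of_conj)

universe u

variable {G : Type u} [Group G] [Finite G] {p q s : ℕ} {M N L E : Subgroup G}

theorem prankLE_one_of_cyclic (hp : p.Prime) {X : Type*} [Group X] [Finite X] (hc : IsCyclic X) :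
    Cfsg.PRankLE p 1 X := fun A _ hA => by
  haveI := hc
  rw [pow_one, ← IsCyclic.exponent_eq_card (α := A)]
  exact Nat.le_of_dvd hp.pos (Monoid.exponent_dvd_of_forall_pow_eq_one fun a => Subtype.ext (by
    simpa using hA a a.2))

theorem kappa_prankLE (hq : q ∈ Cfsg.kappa M) : Cfsg.PRankLE q 1 M := by
  haveI := Fact.mk hq.1
  obtain ⟨P⟩ : Nonempty (Sylow q M) := inferInstance
  haveI : IsCyclic P := (hq.2.2.2 P).1
  exact prankLE_of_sylow P (prankLE_one_of_cyclic hq.1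
    (isCyclic_of_surjective _ (Subgroup.equivMapOfInjective (P : Subgroup M) M.subtype
      M.subtype_injective).surjective))

theorem tau13_of_kappa (hG : Cfsg.IsMinSimpleOddOrder G) (hM : IsCoatom M) (hq : q ∈ Cfsg.kappa M) :
    q ∈ Cfsg.tau1 M ∨ q ∈ Cfsg.tau3 M := by
  rcases tau_cases hG hM hq.1 hq.2.2.1 hq.2.1 with h | h
  · exact h
  · exact absurd (kappa_prankLE hq) h.2.2.2

/-- A line of rank one with a fixed point makes its prime a `κ`-prime. -/
theorem mem_kappa_of_line (hG : Cfsg.IsMinSimpleOddOrder G) (hM : IsCoatom M) (hq : q.Prime)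
    (hqσ : q ∉ Cfsg.sigma M) (hr : Cfsg.PRankLE q 1 M) {b y : G} (hb : b ∈ M) (hbo : orderOf b = q)
    (hy : y ∈ Cfsg.sigmaCore M) (hy1 : y ≠ 1) (hby : Commute b y) : q ∈ Cfsg.kappa M := by
  haveI := Fact.mk hq
  refine ⟨hq, hbo ▸ Subgroup.orderOf_dvd_natCard M hb, hqσ, fun P => ⟨?_, ?_⟩⟩
  · haveI : IsCyclic ↥((P : Subgroup M).map M.subtype) :=
      cyclic_of_prankLE_one hG hq hr (P.2.map _) (Subgroup.map_subtype_le _)
    exact isCyclic_of_surjective _ (Subgroup.equivMapOfInjective (P : Subgroup M) M.subtype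
      M.subtype_injective).symm.surjective
  obtain ⟨m, hm, hmP⟩ := exists_conj_le_sylow P (zpowers_line hq hbo).2.1 (Subgroup.zpowers_le.2 hb)
  have h1 : m * b * m⁻¹ ∈ (P : Subgroup M).map M.subtype := hmP (by
    rw [conj_smul_line]; exact Subgroup.mem_zpowers _)
  obtain ⟨x, hx, hxe⟩ := h1
  refine ⟨x, hx, fun e => (zpowers_line hq hbo).2.2 ?_, m * y * m⁻¹,
    conj_mem_of_le_normalizer (le_normalizer_piCoreOf _ M hm) y hy, fun e => hy1 (conj_eq_one_iff.1 e), ?_⟩
  · rw [e, map_one] at hxe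
    exact conj_eq_one_iff.1 hxe.symm
  · rw [show (x : G) = m * b * m⁻¹ from hxe]
    calc m * b * m⁻¹ * (m * y * m⁻¹) = m * (b * y) * m⁻¹ := by group
      _ = m * (y * b) * m⁻¹ := by rw [hby.eq]
      _ = _ := by group

/-- A `κ`-prime has a line with a fixed point inside each complement. -/
theorem exists_line_of_kappa (hG : Cfsg.IsMinSimpleOddOrder G) (hM : IsCoatom M)
    (hE : Cfsg.IsComplIn E (Cfsg.sigmaCore M) M) (hq : q ∈ Cfsg.kappa M) :
    ∃ b ∈ E, orderOf b = q ∧ ∃ y ∈ Cfsg.sigmaCore M, y ≠ 1 ∧ Commute b y := by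
  haveI := Fact.mk hq.1
  obtain ⟨P⟩ : Nonempty (Sylow q M) := inferInstance
  obtain ⟨x, hx, hx1, y, hy, hy1, hxy⟩ := (hq.2.2.2 P).2
  obtain ⟨k, hk⟩ := P.2 ⟨x, hx⟩
  have hk' : (x : G) ^ q ^ k = 1 := by simpa using congrArg (fun w : P => ((w : M) : G)) hk
  obtain ⟨b, hb, hbo⟩ := exists_line_pow hq.1 hk' fun e => hx1 (Subtype.ext e)
  have hbM : b ∈ M := Subgroup.zpowers_le.2 x.2 hb
  have hby : Commute b y := by
    obtain ⟨i, rfl⟩ := Subgroup.mem_zpowers_iff.1 hb
    exact (show Commute (x : G) y from hxy).zpow_left i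
  obtain ⟨m, hm, hmE⟩ := exists_conj_le_compl hG hM hE (Subgroup.zpowers_le.2 hbM)
    (isPi_zpowers (π := {r | r ∉ Cfsg.sigma M}) fun r hr hd => by
      rw [hbo] at hd; exact (Nat.prime_dvd_prime_iff_eq hr hq.1).1 hd ▸ hq.2.2.1)
  refine ⟨m * b * m⁻¹, hmE (by rw [conj_smul_line]; exact Subgroup.mem_zpowers _), ?_, m * y * m⁻¹,
    conj_mem_of_le_normalizer (le_normalizer_piCoreOf _ M hm) y hy, fun e => hy1 (conj_eq_one_iff.1 e), ?_⟩
  · rw [← hbo]; exact orderOf_injective (MulAut.conj m).toMonoidHom (MulAut.conj m).injective b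
  · calc m * b * m⁻¹ * (m * y * m⁻¹) = m * (b * y) * m⁻¹ := by group
      _ = m * (y * b) * m⁻¹ := by rw [hby.eq]
      _ = _ := by group

/-- A complement containing a given Hall `κ`-subgroup. -/
theorem exists_compl_ge_kappa (hG : Cfsg.IsMinSimpleOddOrder G) (hM : IsCoatom M) {K : Subgroup G}
    (hK : Cfsg.IsPiHallOf (Cfsg.kappa M) K M) :
    ∃ E : Subgroup G, Cfsg.IsComplIn E (Cfsg.sigmaCore M) M ∧ K ≤ E :=
  exists_compl_ge hG hM hK.1 fun r hr hd => (hK.2.1 r hr hd).2.2.1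

end CfsgLib.OddLocal
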