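import Cfsg.Agent.Lib.OddLocal.KappaUM
import Cfsg.Agent.Lib.OddLocal.FittingHallCore
import Cfsg.Agent.Lib.OddLocal.PrimeFitting
import Cfsg.Agent.S1426
import Cfsg.Agent.S1429
import Cfsg.Agent.S1443

/-!
BG 14.7 (c): `M'`, and the position of `K*`.
-/

set_option autoImplicit false
set_option linter.style.haveILetI false
set_option linter.unusedSectionVars false

open scoped commutatorElement
open scoped Pointwise

namespace CfsgLib.OddLocal

open CfsgLib.Coprime
open CfsgLib.BG.FixedLine (conj_mem_of_le_normalizer mem_normalizer_of_conj)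

universe u

variable {G : Type u} [Group G] [Finite G] {p q r s t : ℕ} {M L H Z K E U Ms Es Us : Subgroup G}

theorem KappaData.U_action (h : KappaData M K E U) (hU : U ≠ ⊥) :
    Cfsg.sigmaCore M ⊓ Subgroup.centralizer (U : Set G) = ⊥ ∧ Group.IsNilpotent (Cfsg.sigmaCore M) := by
  classical
  have hG := h.hG
  have hM := h.hM
  obtain ⟨p, hp, hd⟩ := Nat.exists_prime_and_dvd fun e : Nat.card U = 1 => hU (Subgroup.card_eq_one.1 e)
  haveI := Fact.mk hp
  haveI := isSolvable_of_ne_top hG hM.1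
  obtain ⟨-, hκ, hσ⟩ := h.hallU.2.1 p hp hd
  have hpM : p ∣ Nat.card M := hd.trans (Subgroup.card_dvd_of_le h.hallU.1)
  obtain ⟨S⟩ : Nonempty (Sylow p M) := inferInstance
  obtain ⟨-, hfix, hnil⟩ := Cfsg.Agent.S1429.result hG M hM (fun e => hU (h.U_eq_bot_iff.2 e)) p hpM
    (fun e => e.elim hσ hκ) S
  obtain ⟨m, hm, hmU⟩ := exists_conj_le_hallOf h.hallU (Subgroup.map_subtype_le (S : Subgroup M))
    (fun r hr hrd => by
      obtain ⟨n, hn⟩ := (S.2.map M.subtype).exists_card_eq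
      rw [hn] at hrd
      have := (Nat.prime_dvd_prime_iff_eq hr hp).1 (hr.dvd_of_dvd_pow hrd)
      exact ⟨hr, this ▸ hκ, this ▸ hσ⟩)
  refine ⟨(Subgroup.eq_bot_iff_forall _).2 fun w hw => ?_, hnil⟩
  have h1 : m⁻¹ * w * m ∈ (⊥ : Subgroup G) := by
    rw [← hfix]
    refine ⟨?_, ?_⟩
    · have := conj_mem_of_le_normalizer (le_normalizer_piCoreOf _ M (inv_mem hm)) w hw.1
      rwa [inv_inv] at this
    · rw [Subgroup.centralizer_closure]
      refine Subgroup.mem_centralizer_iff.2 fun y hy => ?_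
      have hc := commute_of_mem_centralizer (hmU (mem_sigmaCore_conj_iff.2 hy.1)) hw.2
      calc y * (m⁻¹ * w * m) = m⁻¹ * ((m * y * m⁻¹) * w) * m := by group
        _ = m⁻¹ * (w * (m * y * m⁻¹)) * m := by rw [hc.eq]
        _ = _ := by group
  rw [Subgroup.mem_bot] at h1
  calc w = m * (m⁻¹ * w * m) * m⁻¹ := by group
    _ = 1 := by rw [h1, mul_one, mul_inv_cancel]

/-- Elements of `U` are commutators with an element of `K`. -/
theorem KappaData.exists_commutator (h : KappaData M K E U) {y : G} (hy : y ∈ K) (hy1 : y ≠ 1) {u : G}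
    (hu : u ∈ U) : ∃ v ∈ U, y * v * y⁻¹ * v⁻¹ = u := by
  have hyU : y ∈ Subgroup.normalizer (U : Set G) := h.normalU (h.hKE hy)
  let f : U → U := fun v => ⟨y * v * y⁻¹ * (v : G)⁻¹,
    U.mul_mem (conj_mem_of_le_normalizer hyU v v.2) (U.inv_mem v.2)⟩
  have hfi : Function.Injective f := fun v v' he => by
    have he' : y * v * y⁻¹ * (v : G)⁻¹ = y * v' * y⁻¹ * (v' : G)⁻¹ := congrArg Subtype.val he
    have h1 : (v' : G)⁻¹ * v ∈ U ⊓ Subgroup.centralizer ({y} : Set G) := by
      refine ⟨U.mul_mem (U.inv_mem v'.2) v.2, mem_centralizer_singleton_of_commute (mul_inv_eq_iff_eq_mul.1 ?_)⟩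
      calc y * ((v' : G)⁻¹ * v) * y⁻¹ = (y * v' * y⁻¹)⁻¹ * (y * v * y⁻¹ * (v : G)⁻¹) * v := by group
        _ = (y * v' * y⁻¹)⁻¹ * (y * v' * y⁻¹ * (v' : G)⁻¹) * v := by rw [he']
        _ = _ := by group
    rw [h.fpf y hy hy1, Subgroup.mem_bot, inv_mul_eq_one] at h1
    exact Subtype.ext h1.symm
  obtain ⟨v, hv⟩ := (Finite.injective_iff_surjective.1 hfi) ⟨u, hu⟩
  exact ⟨v, v.2, congrArg Subtype.val hv⟩

theorem sigmaCore_le_derived (hG : Cfsg.IsMinSimpleOddOrder G) (hM : IsCoatom M) :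
    Cfsg.sigmaCore M ≤ ⁅M, M⁆ := by
  obtain ⟨E, hE⟩ := exists_compl hG hM
  exact (Cfsg.Agent.S1426.result hG M hM E hE).2.1.ge.trans (Subgroup.commutator_mono (piCoreOf_le _ M) hE.1)

theorem derived_eq (hG : Cfsg.IsMinSimpleOddOrder G) (hM : IsCoatom M) (hKU : Cfsg.IsSigmaDecomposition M K U)
    (hK1 : K ≠ ⊥) : ⁅M, M⁆ = U ⊔ Cfsg.sigmaCore M := by
  have h := kappaData_of_decomposition hG hM hKU hK1
  refine le_antisymm (Subgroup.commutator_le.2 fun a ha b hb => ?_)
    (sup_le (fun u hu => ?_) (sigmaCore_le_derived hG hM))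
  · set N := U ⊔ Cfsg.sigmaCore M with hN
    have hn : ∀ m ∈ M, ∀ w ∈ N, m * w * m⁻¹ ∈ N := fun m hm w hw =>
      conj_mem_of_le_normalizer (le_normalizer_UM hKU hm) w hw
    have hdec : ∀ m ∈ M, ∃ w ∈ N, ∃ k ∈ K, m = w * k := fun m hm => by
      obtain ⟨e, he, w, hw, rfl⟩ := h.hE.2.2.2 m hm
      rw [← SetLike.mem_coe, Subgroup.coe_mul_of_right_le_normalizer_left _ _ hKU.normal] at he
      obtain ⟨u, hu, k, hk, rfl⟩ := Set.mem_mul.1 he
      exact ⟨u * (k * w * k⁻¹), N.mul_mem (Subgroup.mem_sup_left hu)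
        (hn k (hKU.hall.1 hk) w (Subgroup.mem_sup_right hw)), k, hk, by group⟩
    obtain ⟨w, hw, k, hk, rfl⟩ := hdec a ha
    obtain ⟨w', hw', k', hk', rfl⟩ := hdec b hb
    haveI := hKU.cyclic
    haveI : IsMulCommutative K := IsCyclic.isMulCommutative
    have hkk : k * k' = k' * k := congrArg Subtype.val (mul_comm' (⟨k, hk⟩ : K) ⟨k', hk'⟩)
    rw [show ⁅w * k, w' * k'⁆ = w * (k * w' * k⁻¹) * (k' * w⁻¹ * k'⁻¹) * w'⁻¹ by
      rw [commutatorElement_def]
      calc w * k * (w' * k') * (w * k)⁻¹ * (w' * k')⁻¹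
          = w * (k * w' * k⁻¹) * (k * k') * (k⁻¹ * w⁻¹) * (k'⁻¹ * w'⁻¹) := by group
        _ = w * (k * w' * k⁻¹) * (k' * k) * (k⁻¹ * w⁻¹) * (k'⁻¹ * w'⁻¹) := by rw [hkk]
        _ = _ := by group]
    exact N.mul_mem (N.mul_mem (N.mul_mem hw (hn k (hKU.hall.1 hk) w' hw'))
      (hn k' (hKU.hall.1 hk') _ (N.inv_mem hw))) (N.inv_mem hw')
  · obtain ⟨s, y, hs, hy, hyo⟩ := h.exists_line
    obtain ⟨v, hv, hvu⟩ := h.exists_commutator hy (zpowers_line hs hyo).2.2 hu
    rw [← hvu]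
    exact Subgroup.commutator_mem_commutator (hKU.hall.1 hy) (hKU.compl.1 hv)

theorem star_le_second_derived (hG : Cfsg.IsMinSimpleOddOrder G) (hM : IsCoatom M)
    (hKU : Cfsg.IsSigmaDecomposition M K U) (hK1 : K ≠ ⊥) :
    Cfsg.sigmaCore M ⊓ Subgroup.centralizer (K : Set G) ≤ ⁅⁅M, M⁆, ⁅M, M⁆⁆ := by
  have h := kappaData_of_decomposition hG hM hKU hK1
  have hd := derived_eq hG hM hKU hK1
  have hσ : Cfsg.sigmaCore M ≤ ⁅M, M⁆ := hd ▸ le_sup_right
  by_cases hU : U = ⊥
  · have h1 := (Cfsg.Agent.S1426.result hG M hM _ h.hE).1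
    rw [hU, bot_sup_eq] at h1
    exact h1.trans (Subgroup.commutator_mono hσ hσ)
  · obtain ⟨hfix, -⟩ := h.U_action hU
    have hc := commutator_sup_centralizer (A := U) (K := Cfsg.sigmaCore M)
      (hKU.compl.1.trans (le_normalizer_piCoreOf _ M)) (Nat.coprime_of_dvd fun l hl h1 h2 =>
        (isPi_U hG hM hKU hl h1).2 (isPi_piCoreOf _ M l hl h2))
      (Or.inr (haveI := isSolvable_of_ne_top hG hM.1; isSolvable_of_le (piCoreOf_le _ M) inferInstance))
    rw [hfix, sup_bot_eq] at hc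
    exact (inf_le_left.trans hc.ge).trans (Subgroup.commutator_mono hσ (hd ▸ le_sup_left))

/-- A Sylow subgroup of `M` meeting `K*` is normal in `M`. -/
theorem Partner.exists_normal_sylow (h : Partner M K E U Ms Es Us) :
    ∃ (q : ℕ) (T : Sylow q M), q.Prime ∧ q ∈ Cfsg.sigma M ∧
      q ∣ Nat.card ↥(Cfsg.sigmaCore M ⊓ Subgroup.centralizer (K : Set G)) ∧ (T : Subgroup M).Normal := by
  classical
  have hd := h.data
  have hG := hd.hG
  have hM := hd.hM
  obtain ⟨q, z, hq, hz, hzo⟩ := hd.exists_star_prime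
  have hqσ := sigma_of_mem_core hq hz.1 hzo
  haveI := Fact.mk hq
  have hqd : q ∣ Nat.card ↥(Cfsg.sigmaCore M ⊓ Subgroup.centralizer (K : Set G)) :=
    hzo ▸ Subgroup.orderOf_dvd_natCard _ hz
  obtain ⟨T⟩ : Nonempty (Sylow q M) := inferInstance
  refine ⟨q, T, hq, hqσ, hqd, ?_⟩
  set N := Cfsg.piCore (Cfsg.sigma M) M with hN
  have hNmap : N.map M.subtype = Cfsg.sigmaCore M := rfl
  have hTN : (T : Subgroup M) ≤ N := fun a ha => by
    have h1 := le_sigmaCore_of_isPGroup hG hM hq hqσ (Subgroup.map_subtype_le _) (T.2.map M.subtype)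
      ⟨a, ha, rfl⟩
    obtain ⟨b, hb, hbe⟩ := h1
    exact M.subtype_injective hbe ▸ hb
  by_cases hnil : Group.IsNilpotent (Cfsg.sigmaCore M)
  · haveI : Group.IsNilpotent N := by
      haveI : Group.IsNilpotent ↥(N.map M.subtype) := hnil
      exact Group.nilpotent_of_mulEquiv (Subgroup.equivMapOfInjective _ _ M.subtype_injective).symm
    exact sylow_normal_of_le_nilpotent inferInstance T hTN
  have hU : U = ⊥ := by_contra fun hU => hnil (hd.U_action hU).2
  have hKE : E = K := by rw [← hd.sup_eq, hU, bot_sup_eq]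
  have hp := h.star_prime hU
  have hsc : Nat.card ↥(Cfsg.sigmaCore M ⊓ Subgroup.centralizer (K : Set G)) = q :=
    ((Nat.prime_dvd_prime_iff_eq hq hp).1 hqd).symm
  haveI := isSolvable_of_ne_top hG hM.1
  -- `K* ≤ F(M_σ)`
  set N' : Subgroup M := N
  set K' : Subgroup M := K.subgroupOf M with hK'
  have hFfix : Cfsg.fittingOf N' ⊓ Subgroup.centralizer (K' : Set M) ≠ ⊥ := fun e => by
    have h1 := commutator_le_fittingOf (K := N') (R := K')
      (Odd.of_dvd_nat hG.1 ((Subgroup.card_subgroup_dvd_card N').trans (Subgroup.card_subgroup_dvd_card M)))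
      (by
        rw [Nat.card_congr (Subgroup.subgroupOfEquivOfLe hd.hKM).toEquiv,
          ← Subgroup.card_map_of_injective (K := N') M.subtype_injective, hNmap]
        exact (coprime_kappa_core hd.hall).symm)
      (fun x hx hx1 => by
        refine le_antisymm (fun w hw => ⟨hw.1, Subgroup.mem_centralizer_iff.2 fun k hk => Subtype.ext ?_⟩)
          (inf_le_inf_left _ (Subgroup.centralizer_le (by simpa using hx)))
        have h2 : (w : G) ∈ Cfsg.sigmaCore M ⊓ Subgroup.centralizer ({(x : G)} : Set G) := ⟨⟨w, hw.1, rfl⟩,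
          mem_centralizer_singleton_of_commute (congrArg Subtype.val (commute_of_mem_centralizer_singleton hw.2).eq)⟩
        rw [hd.action x hx fun e => hx1 (Subtype.ext e)] at h2
        exact (commute_of_mem_centralizer (show (k : G) ∈ K from hk) h2.2).eq) e
    refine hnil ?_
    have h2 : Cfsg.sigmaCore M ≤ (Cfsg.fittingOf N').map M.subtype := by
      refine (Cfsg.Agent.S1426.result hG M hM E hd.hE).2.1.ge.trans ?_
      rw [hKE, ← hNmap]
      have h3 := Subgroup.map_mono (f := M.subtype) h1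
      rw [Subgroup.map_commutator, Subgroup.map_subgroupOf_eq_of_le hd.hKM] at h3
      exact h3
    haveI := fittingOf_isNilpotent N'
    haveI : Group.IsNilpotent ↥((Cfsg.fittingOf N').map M.subtype) :=
      Group.nilpotent_of_mulEquiv (Subgroup.equivMapOfInjective _ _ M.subtype_injective)
    exact Group.nilpotent_of_mulEquiv (_h := Subgroup.isNilpotent _) (Subgroup.subgroupOfEquivOfLe h2)
  have hle : (N' ⊓ Subgroup.centralizer (K' : Set M)) ≤ opOf q N' := fun w hw => by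
    obtain ⟨f, hf⟩ := (Subgroup.ne_bot_iff_exists_ne_one).1 hFfix
    have hmap : ∀ {v : M}, v ∈ N' → v ∈ Subgroup.centralizer (K' : Set M) →
        (v : G) ∈ Cfsg.sigmaCore M ⊓ Subgroup.centralizer (K : Set G) := fun {v} h1 h2 =>
      ⟨⟨v, h1, rfl⟩, Subgroup.mem_centralizer_iff.2 fun k hk => congrArg Subtype.val
        (Subgroup.mem_centralizer_iff.1 h2 ⟨k, hd.hKM hk⟩ hk)⟩
    have hfs := hmap (fittingOf_le N' f.2.1) f.2.2
    have hws := hmap hw.1 hw.2
    have hfo : orderOf ((f : M) : G) = q := by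
      have h3 := Subgroup.orderOf_dvd_natCard _ hfs
      rw [hsc] at h3
      exact ((Nat.dvd_prime hq).1 h3).resolve_left fun e => hf (Subtype.ext (Subtype.ext (orderOf_eq_one_iff.1 e)))
    have hline : Subgroup.zpowers ((f : M) : G) = Cfsg.sigmaCore M ⊓ Subgroup.centralizer (K : Set G) :=
      Subgroup.eq_of_le_of_card_ge (Subgroup.zpowers_le.2 hfs) (by rw [Nat.card_zpowers, hfo, hsc])
    obtain ⟨i, hi⟩ := Subgroup.mem_zpowers_iff.1 (hline.ge hws)
    have hwe : w = (f : M) ^ i := Subtype.ext (by rw [← hi]; rfl)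
    rw [hwe]
    refine Subgroup.zpow_mem _ (mem_opOf_of_mem_fittingOf hq f.2.1 (k := 1) (Subtype.ext ?_)) i
    rw [pow_one, SubmonoidClass.coe_pow, ← hfo, pow_orderOf_eq_one]
    rfl
  -- the quotient by `O_q(M_σ)`
  set Q₀ := opOf q N' with hQ₀
  haveI hQ₀n : Q₀.Normal := Subgroup.normalizer_eq_top_iff.1 (top_unique fun g _ =>
    piCoreOf_normalizer_le _ _ ((Subgroup.normalizer_eq_top (H := N')).ge (Subgroup.mem_top g)))
  set π := QuotientGroup.mk' Q₀ with hπ
  obtain ⟨s, y, hs, hy, hyo⟩ := hd.exists_line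
  set y' : M := ⟨y, hd.hKM hy⟩ with hy'
  have hyo' : y' ^ s = 1 := Subtype.ext (by rw [SubmonoidClass.coe_pow, ← hyo]; exact pow_orderOf_eq_one y)
  have hcop : (Nat.card (Subgroup.zpowers y')).Coprime (Nat.card N') := by
    rw [Nat.card_zpowers, ← Subgroup.card_map_of_injective (K := N') M.subtype_injective, hNmap,
      show orderOf y' = orderOf y from Subgroup.orderOf_mk y _]
    exact (coprime_kappa_core hd.hall).coprime_dvd_left (Subgroup.orderOf_dvd_natCard K hy)
  have hfix := map_inf_centralizer (A := Subgroup.zpowers y') (K := N')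
    (Subgroup.normalizer_eq_top (H := N') ▸ le_top) hcop (Or.inl inferInstance) π
  rw [centralizer_zpowers_eq, MonoidHom.map_zpowers, centralizer_zpowers_eq] at hfix
  have hbot : (N' ⊓ Subgroup.centralizer ({y'} : Set M)).map π = ⊥ := by
    rw [Subgroup.map_eq_bot_iff, QuotientGroup.ker_mk']
    refine fun w hw => hle ⟨hw.1, Subgroup.mem_centralizer_iff.2 fun k hk => Subtype.ext ?_⟩
    have h2 : (w : G) ∈ Cfsg.sigmaCore M ⊓ Subgroup.centralizer ({y} : Set G) := ⟨⟨w, hw.1, rfl⟩,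
      mem_centralizer_singleton_of_commute (congrArg Subtype.val (commute_of_mem_centralizer_singleton hw.2).eq)⟩
    rw [hd.action y hy (zpowers_line hs hyo).2.2] at h2
    exact (commute_of_mem_centralizer (show (k : G) ∈ K from hk) h2.2).eq
  haveI : (N'.map π).Normal := Subgroup.Normal.map inferInstance π (QuotientGroup.mk'_surjective _)
  have hn : Group.IsNilpotent (N'.map π) := isNilpotent_of_fpf_elem hs
    (show π y' ^ s = 1 by rw [← map_pow, hyo', map_one])
    ((Subgroup.normalizer_eq_top (H := N'.map π)).ge (Subgroup.mem_top _)) (hfix.symm.trans hbot)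
  set T' : Sylow q (M ⧸ Q₀) := T.mapSurjective (QuotientGroup.mk'_surjective Q₀) with hT'
  have hT'N : (T' : Subgroup (M ⧸ Q₀)) ≤ N'.map π := Subgroup.map_mono hTN
  haveI := CfsgLib.Splitting.sylow_normal_of_isNilpotent hn (T'.subtype hT'N)
  haveI := Sylow.characteristic_of_normal (T'.subtype hT'N) inferInstance
  have hTn' : (T' : Subgroup (M ⧸ Q₀)).Normal := Subgroup.normalizer_eq_top_iff.1 (top_unique fun g _ => by
    have h1 := CfsgLib.PSolvable.le_normalizer_map_of_characteristic (A := (⊤ : Subgroup (M ⧸ Q₀)))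
      (H := N'.map π) (Subgroup.normalizer_eq_top (H := N'.map π)).ge
      ((T'.subtype hT'N : Sylow q ↥(N'.map π)) : Subgroup ↥(N'.map π)) (Subgroup.mem_top g)
    rwa [Sylow.coe_subtype, Subgroup.map_subgroupOf_eq_of_le hT'N] at h1)
  have hcomap : (T' : Subgroup (M ⧸ Q₀)).comap π = T := by
    rw [show (T' : Subgroup (M ⧸ Q₀)) = (T : Subgroup M).map π from rfl, Subgroup.comap_map_eq,
      QuotientGroup.ker_mk', sup_eq_left]
    obtain ⟨T₁, hT₁⟩ := (isPGroup_opOf hq N').exists_le_sylow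
    obtain ⟨g, hg⟩ := MulAction.exists_smul_eq M T₁ T
    intro w hw
    have h1 : g⁻¹ * w * g⁻¹⁻¹ ∈ Q₀ := hQ₀n.conj_mem w hw g⁻¹
    rw [← hg]
    show w ∈ MulAut.conj g • (T₁ : Subgroup M)
    rw [mem_conj_smul_iff]
    simpa using hT₁ h1
  rw [← hcomap]
  exact hTn'.comap π

theorem Partner.star_le_fittingHallOf (h : Partner M K E U Ms Es Us) :
    (Cfsg.sigmaCore M ⊓ Subgroup.centralizer (K : Set G) ≤ Cfsg.fittingHallOf M) ∧
      ¬ IsCyclic (Cfsg.fittingHallOf M) := by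
  classical
  have hd := h.data
  have hG := hd.hG
  have hM := hd.hM
  obtain ⟨q, T, hq, hqσ, hqd, hTn⟩ := h.exists_normal_sylow
  haveI := Fact.mk hq
  haveI := hTn
  have hTF : (T : Subgroup M).map M.subtype ≤ Cfsg.fittingHallOf M :=
    Subgroup.map_mono (le_fittingHall inferInstance T.2.isNilpotent
      (Nat.coprime_of_dvd fun l hl h1 h2 => by
        obtain ⟨n, hn⟩ := T.2.exists_card_eq
        rw [hn] at h1
        exact T.not_dvd_index ((Nat.prime_dvd_prime_iff_eq hl hq).1 (hl.dvd_of_dvd_pow h1) ▸ h2)))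
  obtain ⟨z, hz, hzo⟩ := exists_order_of_dvd hq hqd
  have hmem : ∀ {v : G}, v ∈ M → (∃ k, v ^ q ^ k = 1) → v ∈ (T : Subgroup M).map M.subtype :=
    fun {v} hv ⟨k, hk⟩ => by
    have hp : IsPGroup q (Subgroup.zpowers (⟨v, hv⟩ : M)) := isPGroup_zpowers (k := k) (Subtype.ext (by simpa using hk))
    obtain ⟨T₁, hT₁⟩ := hp.exists_le_sylow
    haveI := Sylow.unique_of_normal T inferInstance
    exact ⟨⟨v, hv⟩, (Subsingleton.elim T₁ T) ▸ hT₁ (Subgroup.mem_zpowers _), rfl⟩
  refine ⟨?_, fun hc => ?_⟩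
  · by_cases hU : U = ⊥
    · have hp := h.star_prime hU
      have hsc := ((Nat.prime_dvd_prime_iff_eq hq hp).1 hqd)
      rw [← Subgroup.eq_of_le_of_card_ge (Subgroup.zpowers_le.2 hz) (by rw [Nat.card_zpowers, hzo, hsc]),
        Subgroup.zpowers_le]
      exact hTF (hmem (piCoreOf_le _ M hz.1) ⟨1, by rw [pow_one, ← hzo, pow_orderOf_eq_one]⟩)
    · rw [fittingHallOf_eq_sigmaCore hG hM (hd.U_action hU).2]
      exact inf_le_left
  · obtain ⟨T₀⟩ : Nonempty (Sylow q G) := inferInstance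
    set T₁ := (T : Subgroup M).map M.subtype with hT₁
    have hT₁c : IsCyclic T₁ := haveI := hc; Subgroup.isCyclic_of_le hTF
    have hzT : z ∈ T₁ := hmem (piCoreOf_le _ M hz.1) ⟨1, by rw [pow_one, ← hzo, pow_orderOf_eq_one]⟩
    obtain ⟨g, hg⟩ := exists_conj_sylow_normalizer hqσ T₀
    set T₂ : Sylow q G := g⁻¹ • T₀ with hT₂
    have hT₂M : (T₂ : Subgroup G) ≤ M := fun x hx => by
      replace hx : x ∈ MulAut.conj g⁻¹ • (T₀ : Subgroup G) := hx
      rw [mem_conj_smul_iff] at hx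
      have h2 := (Subgroup.le_normalizer.trans hg) hx
      rw [mem_conj_smul_iff] at h2
      simpa [mul_assoc] using h2
    refine hd.not_sylow_le_star hz hzo T₂ hT₂M fun w hw => ?_
    obtain ⟨j, hj⟩ := T₂.2 ⟨w, hw⟩
    have hwT : w ∈ T₁ := hmem (hT₂M hw) ⟨j, by simpa using congrArg Subtype.val hj⟩
    refine ⟨le_sigmaCore_of_isPGroup hG hM hq hqσ (Subgroup.map_subtype_le _) (T.2.map _) hwT,
      Subgroup.mem_centralizer_iff.2 fun k hk => ?_⟩
    have hkN : Subgroup.zpowers k ≤ Subgroup.normalizer (T₁ : Set G) := by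
      haveI := Sylow.characteristic_of_normal T inferInstance
      exact Subgroup.zpowers_le.2 (CfsgLib.PSolvable.le_normalizer_map_of_characteristic
        (Subgroup.le_normalizer (H := M)) _ (hd.hKM hk))
    have hcop : (Nat.card (Subgroup.zpowers k)).Coprime q := by
      rw [Nat.card_zpowers]
      exact ((coprime_kappa_core hd.hall).coprime_dvd_left (Subgroup.orderOf_dvd_natCard K hk)).coprime_dvd_right
        (hqd.trans (Subgroup.card_dvd_of_le inf_le_left))
    have hq2 : q ≠ 2 := fun e => Nat.not_even_iff_odd.2 hG.1 (even_iff_two_dvd.2 (e ▸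
      (hqd.trans (Subgroup.card_subgroup_dvd_card _))))
    obtain ⟨hZc, hZp, -⟩ := zpowers_line hq hzo
    have hEe : Cfsg.IsElementaryAbelian q (Subgroup.zpowers z) :=
      ⟨⟨⟨fun a b => Subtype.ext (by
        obtain ⟨i, hi⟩ := Subgroup.mem_zpowers_iff.1 a.2
        obtain ⟨j, hj⟩ := Subgroup.mem_zpowers_iff.1 b.2
        show (a : G) * b = b * a
        rw [← hi, ← hj, ← zpow_add, add_comm, zpow_add])⟩⟩, fun a ha => pow_eq_one_of_line hq hZc ha⟩
    have hfix : Subgroup.zpowers k ≤ Subgroup.centralizer (T₁ : Set G) := by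
      refine Cfsg.Agent.S1443.result q hq2 T₁ (Subgroup.zpowers z) (Subgroup.zpowers k) (T.2.map _)
        (Subgroup.zpowers_le.2 hzT) hEe hkN hcop fun v hv hvo => Subgroup.zpowers_le.2 ?_
      obtain ⟨i, hi⟩ := Subgroup.mem_zpowers_iff.1 (mem_line_of_cyclic hq hT₁c (Subgroup.zpowers_le.2 hzT) hZc hv.1
        (by rw [← hvo, pow_orderOf_eq_one]))
      rw [← hi]
      exact mem_centralizer_singleton_of_commute ((hd.star_commute hk hz).zpow_right i).symm
    exact (commute_of_mem_centralizer hwT (hfix (Subgroup.mem_zpowers k))).eq.symm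

end CfsgLib.OddLocal
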