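import Cfsg.Agent.Lib.OddLocal.Fusion

/-!
A Sylow subgroup lies in the derived group of its normalizer.
-/

set_option autoImplicit false
set_option linter.style.haveILetI false
set_option linter.unusedSectionVars false

open scoped commutatorElement
open scoped Pointwise

namespace CfsgLib.OddLocal

open CfsgLib.Coprime
open CfsgLib.BG.FixedLine (conj_mem_of_le_normalizer mem_normalizer_of_conj)

universe u

variable {G : Type u} [Group G] [Finite G] {p : ℕ} [hp : Fact p.Prime]

/-- In a group with `p`-length one, `P ∩ M' ≤ N(P)'`. -/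
theorem inf_derived_le_of_pLengthLE_one {M : Type u} [Group M] [Finite M] (hL : Cfsg.PLengthLE p 1 M) (P : Sylow p M) :
    (P : Subgroup M) ⊓ commutator M ≤
      ⁅Subgroup.normalizer ((P : Subgroup M) : Set M), Subgroup.normalizer ((P : Subgroup M) : Set M)⁆ := by
  haveI hn := (CfsgLib.BG.PLengthOne.iff_sup_normal P).1 hL
  haveI hOn := CfsgLib.Transfer.pPrimeCore_normal p M
  set O := Cfsg.pPrimeCore p M
  set N := Subgroup.normalizer ((P : Subgroup M) : Set M)
  set J := (P : Subgroup M) ⊔ O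
  have hle : (P : Subgroup M) ≤ J := le_sup_left
  have hfr : Subgroup.normalizer (((P.subtype hle : Sylow p J) : Subgroup J).map J.subtype : Set M) ⊔ J = ⊤ :=
    Sylow.normalizer_sup_eq_top _
  rw [Sylow.coe_subtype, Subgroup.map_subgroupOf_eq_of_le hle] at hfr
  have hON : O ⊔ N = ⊤ := eq_top_iff.2 (hfr.ge.trans (sup_le le_sup_right (sup_le
    (Subgroup.le_normalizer.trans le_sup_right) le_sup_left)))
  set f := QuotientGroup.mk' O
  have hfN : N.map f = ⊤ := by
    rw [← Subgroup.map_top_of_surjective f (QuotientGroup.mk'_surjective _), ← hON, Subgroup.map_sup,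
      (Subgroup.map_eq_bot_iff _).2 (QuotientGroup.ker_mk' _).ge, bot_sup_eq]
  intro s hs
  have h1 : f s ∈ (⁅N, N⁆).map f := by
    rw [Subgroup.map_commutator, hfN, ← Subgroup.map_top_of_surjective f (QuotientGroup.mk'_surjective _),
      ← Subgroup.map_commutator]
    exact Subgroup.mem_map_of_mem f hs.2
  obtain ⟨c, hc, hce⟩ := h1
  have hcN : c ∈ N := commutator_le_left_of_le_normalizer Subgroup.le_normalizer hc
  have hsN : s ∈ N := Subgroup.le_normalizer hs.1
  have hoO : c⁻¹ * s ∈ O := by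
    rw [← QuotientGroup.eq]
    exact hce
  haveI : (⁅N, N⁆.subgroupOf N).Normal :=
    Subgroup.normal_subgroupOf_of_le_normalizer (le_normalizer_commutator Subgroup.le_normalizer Subgroup.le_normalizer)
  set π := QuotientGroup.mk' (⁅N, N⁆.subgroupOf N)
  have h2 : π ⟨s, hsN⟩ = π ⟨c⁻¹ * s, N.mul_mem (N.inv_mem hcN) hsN⟩ := by
    rw [show (⟨c⁻¹ * s, N.mul_mem (N.inv_mem hcN) hsN⟩ : N) = ⟨c, hcN⟩⁻¹ * ⟨s, hsN⟩ from rfl, map_mul, map_inv,
      show π ⟨c, hcN⟩ = 1 from (QuotientGroup.eq_one_iff _).2 hc, inv_one, one_mul]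
  obtain ⟨k, hk⟩ := IsPGroup.iff_orderOf.mp P.2 ⟨s, hs.1⟩
  rw [Subgroup.orderOf_mk] at hk
  have hd1 : orderOf (π ⟨s, hsN⟩) ∣ p ^ k :=
    (orderOf_map_dvd π _).trans (by rw [Subgroup.orderOf_mk, hk])
  have hd2 : orderOf (π ⟨s, hsN⟩) ∣ Nat.card O := by
    rw [h2]
    refine (orderOf_map_dvd π _).trans ?_
    rw [Subgroup.orderOf_mk, ← Subgroup.orderOf_mk _ hoO]
    exact orderOf_dvd_natCard _
  have h3 : π ⟨s, hsN⟩ = 1 := orderOf_eq_one_iff.1
    (Nat.eq_one_of_dvd_coprimes ((CfsgLib.Transfer.pPrimeCore_coprime p).pow_right k).symm hd1 hd2)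
  exact (QuotientGroup.eq_one_iff (N := ⁅N, N⁆.subgroupOf N) _).1 h3

/-- BG 10.12: `P ≤ N(P)'`. -/
theorem sylow_le_derived_normalizer (hG : Cfsg.IsMinSimpleOddOrder G) (P : Sylow p G) :
    (P : Subgroup G) ≤ ⁅Subgroup.normalizer ((P : Subgroup G) : Set G), Subgroup.normalizer ((P : Subgroup G) : Set G)⁆ := by
  by_cases hP1 : (P : Subgroup G) = ⊥
  · rw [hP1]; exact bot_le
  obtain ⟨M, hM, hNM, hσ⟩ := exists_coatom_sylow_normalizer hG P hP1
  have hPM : (P : Subgroup G) ≤ M := Subgroup.le_normalizer.trans hNM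
  have hPd := le_derived_of_sigma hG hM hσ P.2 hPM
  intro s hs
  have hs' : (⟨s, hPM hs⟩ : M) ∈ ((P.subtype hPM : Sylow p M) : Subgroup M) ⊓ commutator M := by
    refine ⟨hs, ?_⟩
    have := hPd hs
    rw [show ⁅M, M⁆ = (commutator M).map M.subtype by
      rw [commutator_def, Subgroup.map_commutator, ← MonoidHom.range_eq_map, Subgroup.range_subtype]] at this
    exact (Subgroup.mem_map_iff_mem M.subtype_injective).1 this
  have h1 := Subgroup.mem_map_of_mem M.subtype (inf_derived_le_of_pLengthLE_one (pLengthLE_one_of_ne_top hG p hM.1) _ hs')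
  rw [Subgroup.map_commutator] at h1
  refine (Subgroup.commutator_mono ?_ ?_) h1 <;>
  · rintro _ ⟨w, hw, rfl⟩
    refine mem_normalizer_of_conj fun y hy => ?_
    exact (Subgroup.mem_normalizer_iff.1 hw ⟨y, hPM hy⟩).1 hy

end CfsgLib.OddLocal
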