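import Cfsg.Agent.Lib.OddLocal.TauTwoHall
import Cfsg.Agent.Lib.OddLocal.SylowDerived
import Cfsg.Agent.S1420
import Cfsg.Agent.Lib.Spectrum.ThreePrimes

/-!
The normal abelian Sylow subgroup of a `σ`-complement at a prime of `τ₂(M)`.
-/

set_option autoImplicit false
set_option linter.style.haveILetI false
set_option linter.unusedSectionVars false

open scoped commutatorElement
open scoped Pointwise

namespace CfsgLib.OddLocal

open CfsgLib.Coprime
open CfsgLib.BG.FixedLine (conj_mem_of_le_normalizer mem_normalizer_of_conj)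

universe u

variable {G : Type u} [Group G] [Finite G] {p q : ℕ} {M E A A₀ : Subgroup G}

theorem prankLE_two_of_not_sigma (hG : Cfsg.IsMinSimpleOddOrder G) (hM : IsCoatom M) (hq : q.Prime)
    (hqσ : q ∉ Cfsg.sigma M) : Cfsg.PRankLE q 2 M := by
  by_contra h
  exact hqσ (alpha_subset_sigma hG hM ⟨hq, h⟩)

/-- The primes of a complement. -/
theorem tau_cases (hG : Cfsg.IsMinSimpleOddOrder G) (hM : IsCoatom M) (hq : q.Prime) (hqσ : q ∉ Cfsg.sigma M)
    (hqM : q ∣ Nat.card M) : q ∈ Cfsg.tau1 M ∪ Cfsg.tau3 M ∨ q ∈ Cfsg.tau2 M := by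
  by_cases hr : Cfsg.PRankLE q 1 M
  · left
    by_cases hd : q ∣ Nat.card ↥⁅M, M⁆
    · exact Or.inr ⟨hq, hqσ, hd, hr⟩
    · exact Or.inl ⟨hq, hqσ, hqM, hd, hr⟩
  · exact Or.inr ⟨hq, hqσ, prankLE_two_of_not_sigma hG hM hq hqσ, hr⟩

/-- `q`-subgroups of `M` are cyclic for `q` outside `τ₂(M)` and `σ(M)`. -/
theorem cyclic_of_prankLE_one (hG : Cfsg.IsMinSimpleOddOrder G) (hq : q.Prime) (hr : Cfsg.PRankLE q 1 M)
    {U : Subgroup G} (hU : IsPGroup q U) (hUM : U ≤ M) : IsCyclic U := by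
  by_contra hnc
  haveI := Fact.mk hq
  obtain ⟨B, hBU, hBe, hB2⟩ := exists_elem_sq hG hq hU hnc
  refine not_rankLE_one_of_elementary hBe hB2.ge le_rfl fun s hs => ?_
  by_cases hsq : s = q
  · subst hsq; exact prankLE_mono (hBU.trans hUM) hr
  refine prankLE_of_not_dvd hs fun hd => hsq ?_
  rw [hB2] at hd
  exact (Nat.prime_dvd_prime_iff_eq hs hq).1 (hs.dvd_of_dvd_pow hd)

/-- The derived group of a group of operators centralizes a cyclic group. -/
theorem derived_le_centralizer_of_cyclic {N R : Subgroup G} (hN : N ≤ Subgroup.normalizer (R : Set G))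
    (hR : IsCyclic R) : ⁅N, N⁆ ≤ Subgroup.centralizer (R : Set G) := by
  haveI := hR
  refine Subgroup.commutator_le.2 fun a ha b hb r hr => ?_
  obtain ⟨i, hi⟩ := MonoidHom.map_cyclic (Subgroup.normalizerMonoidHom R ⟨a, hN ha⟩).toMonoidHom
  obtain ⟨j, hj⟩ := MonoidHom.map_cyclic (Subgroup.normalizerMonoidHom R ⟨b, hN hb⟩).toMonoidHom
  have ha' : ∀ x ∈ R, a * x * a⁻¹ = x ^ i := fun x hx => congrArg Subtype.val (hi ⟨x, hx⟩)
  have hb' : ∀ x ∈ R, b * x * b⁻¹ = x ^ j := fun x hx => congrArg Subtype.val (hj ⟨x, hx⟩)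
  have h2 : ∀ s ∈ R, (a * b) * s * (a * b)⁻¹ = (b * a) * s * (b * a)⁻¹ := fun s hs => by
    calc (a * b) * s * (a * b)⁻¹ = a * (b * s * b⁻¹) * a⁻¹ := by group
      _ = (s ^ j) ^ i := by rw [hb' s hs, ha' _ (R.zpow_mem hs j)]
      _ = (s ^ i) ^ j := by rw [← zpow_mul, ← zpow_mul, mul_comm]
      _ = b * (a * s * a⁻¹) * b⁻¹ := by rw [ha' s hs, hb' _ (R.zpow_mem hs i)]
      _ = (b * a) * s * (b * a)⁻¹ := by group
  have hs : (b * a)⁻¹ * r * (b * a) ∈ R := by
    have := conj_mem_of_le_normalizer (inv_mem (mul_mem (hN hb) (hN ha))) r hr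
    rwa [inv_inv] at this
  have h3 := h2 _ hs
  show r * ⁅a, b⁆ = ⁅a, b⁆ * r
  rw [commutatorElement_def]
  calc r * (a * b * a⁻¹ * b⁻¹)
      = (b * a * ((b * a)⁻¹ * r * (b * a)) * (b * a)⁻¹) * (a * b * a⁻¹ * b⁻¹) := by group
    _ = (a * b * ((b * a)⁻¹ * r * (b * a)) * (a * b)⁻¹) * (a * b * a⁻¹ * b⁻¹) := by rw [h3]
    _ = _ := by group

/-- For `p ∈ τ₂(M)` with abelian Sylow subgroups in `G`, the Sylow `p`-subgroup of a complement is
abelian, normal in the complement and a Sylow subgroup of `G`. -/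
theorem Exc.sylow_normal_compl (h : Exc p M A A₀) [Fact p.Prime] (hE : Cfsg.IsComplIn E (Cfsg.sigmaCore M) M)
    (hAE : A ≤ E) (hpτ : p ∈ Cfsg.tau2 M) (hab : ∀ S : Sylow p G, IsMulCommutative (S : Subgroup G)) :
    ∃ S : Sylow p G, A ≤ (S : Subgroup G) ∧ (S : Subgroup G) ≤ E ∧
      Subgroup.normalizer ((S : Subgroup G) : Set G) ≤ Subgroup.normalizer (A : Set G) ∧
      E ≤ Subgroup.normalizer ((S : Subgroup G) : Set G) ∧
      ∀ x ∈ E, (∃ k : ℕ, x ^ p ^ k = 1) → x ∈ (S : Subgroup G) := by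
  classical
  obtain ⟨S, hAS⟩ := h.maxElem.isPGroup.exists_le_sylow
  haveI := hab S
  have hSC : (S : Subgroup G) ≤ Subgroup.centralizer (A : Set G) := fun s hs a ha =>
    congrArg Subtype.val (mul_comm' (⟨a, hAS ha⟩ : (S : Subgroup G)) ⟨s, hs⟩)
  have hCE : Subgroup.centralizer (A : Set G) ≤ E :=
    (le_inf h.centralizer_le (Subgroup.centralizer_le_normalizer _)).trans (h.inf_normalizer_eq hE hAE).le
  have hSE : (S : Subgroup G) ≤ E := hSC.trans hCE
  have hSM : (S : Subgroup G) ≤ M := hSE.trans hE.1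
  have hNS : Subgroup.normalizer ((S : Subgroup G) : Set G) ≤ Subgroup.normalizer (A : Set G) :=
    h.sylow_normalizer_le_normalizer S hSM hAS
  set K := Subgroup.normalizer (A : Set G) with hK
  have hSK : (S : Subgroup G) ≤ ⁅K, K⁆ :=
    (sylow_le_derived_normalizer h.hG S).trans (Subgroup.commutator_mono hNS hNS)
  have hEA : E ≤ K := h.compl_le_normalizer hE hAE
  set D := ⁅E, E⁆ with hD
  have hDE : D ≤ E := Subgroup.commutator_le_self E
  have hED : E ≤ Subgroup.normalizer (D : Set G) :=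
    le_normalizer_commutator Subgroup.le_normalizer Subgroup.le_normalizer
  haveI hDc : IsMulCommutative D := (Cfsg.Agent.S1420.result h.hG M h.hM E hE).2.1
  -- primary elements of `E'` normalize `S`
  have key : ∀ (r : ℕ), r.Prime → ∀ x ∈ D, (∃ k : ℕ, x ^ r ^ k = 1) →
      x ∈ Subgroup.normalizer ((S : Subgroup G) : Set G) := by
    intro r hr x hx hxk
    haveI := Fact.mk hr
    set R := opOf r D with hR
    have hRD : R ≤ D := piCoreOf_le _ D
    have hRE : R ≤ E := hRD.trans hDE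
    have hRr : IsPGroup r R := isPGroup_opOf hr D
    have hxR : x ∈ R := by
      obtain ⟨k, hk⟩ := hxk
      refine le_piCoreOf (π := {r}) (Subgroup.zpowers_le.2 hx) ?_ ?_ (Subgroup.mem_zpowers x)
      · intro d hd
        refine Subgroup.centralizer_le_normalizer _ fun y hy => ?_
        obtain ⟨i, rfl⟩ := Subgroup.mem_zpowers_iff.1 hy
        exact congrArg Subtype.val (mul_comm' (⟨x ^ i, D.zpow_mem hx i⟩ : D) ⟨d, hd⟩)
      · refine (isPi_singleton_iff hr).2 (IsPGroup.iff_orderOf.2 fun y => ?_)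
        obtain ⟨i, hi⟩ := Subgroup.mem_zpowers_iff.1 y.2
        obtain ⟨l, -, hl⟩ := (Nat.dvd_prime_pow hr).1 (show orderOf y ∣ r ^ k from orderOf_dvd_of_pow_eq_one
          (Subtype.ext (by rw [SubmonoidClass.coe_pow, ← hi, ← zpow_natCast, ← zpow_mul, mul_comm, zpow_mul,
            zpow_natCast, hk, one_zpow]; rfl)))
        exact ⟨l, hl⟩
    haveI := Cfsg.Agent.S1886.piCore_char (X := ↥D) ({r} : Set ℕ)
    have hER : E ≤ Subgroup.normalizer (R : Set G) :=
      CfsgLib.PSolvable.le_normalizer_map_of_characteristic hED (Cfsg.piCore ({r} : Set ℕ) ↥D)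
    by_cases hrp : r = p
    · subst hrp
      have h1 : IsPGroup r ↥(R ⊔ (S : Subgroup G)) :=
        IsPGroup.to_sup_of_normal_left' hRr S.2 (hSE.trans hER)
      have h2 : R ⊔ (S : Subgroup G) = S := S.is_maximal' h1 le_sup_right
      exact Subgroup.le_normalizer (h2 ▸ Subgroup.mem_sup_left hxR)
    refine Subgroup.centralizer_le_normalizer _ ?_
    suffices (S : Subgroup G) ≤ Subgroup.centralizer (R : Set G) from Subgroup.le_centralizer_iff.1 this hxR
    by_cases hR1 : R = ⊥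
    · rw [hR1]
      exact fun s _ y hy => by rw [Subgroup.mem_bot.1 hy]; group
    obtain ⟨z, hz, -, hzo⟩ := exists_central_order hr hRr hR1
    have hrE : r ∣ Nat.card E := hzo ▸ Subgroup.orderOf_dvd_natCard E (hRE hz)
    have hrσ : r ∉ Cfsg.sigma M := not_sigma_of_dvd_compl h.hG h.hM hE hr hrE
    rcases tau_cases h.hG h.hM hr hrσ (hrE.trans (Subgroup.card_dvd_of_le hE.1)) with h13 | h2
    · rcases h13 with h1 | h3
      · exact absurd ((hzo ▸ Subgroup.orderOf_dvd_natCard D (hRD hz)).trans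
          (Subgroup.card_dvd_of_le (Subgroup.commutator_mono hE.1 hE.1))) h1.2.2.2.1
      -- `r ∈ τ₃`: `R` is cyclic and normalized by `N(A)`
      have hRc : IsCyclic R := cyclic_of_prankLE_one h.hG hr h3.2.2.2 hRr (hRE.trans hE.1)
      have hRC : R ≤ Subgroup.centralizer (A : Set G) :=
        commute_of_disjoint (π := {r}) (ρ := {p}) (hRE.trans hEA) (hAE.trans hER) ((isPi_singleton_iff hr).2 hRr)
          ((isPi_singleton_iff h.hp).2 h.maxElem.isPGroup) (Set.disjoint_singleton.2 hrp)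
      have hKR : K ≤ Subgroup.normalizer (R : Set G) := by
        intro n hn
        set R' := MulAut.conj n • R with hR'
        have hR'C : R' ≤ Subgroup.centralizer (A : Set G) := by
          intro y hy a ha
          rw [hR', mem_conj_smul_iff] at hy
          have hna : n⁻¹ * a * n ∈ A := by simpa using conj_mem_of_le_normalizer (inv_mem hn) a ha
          have := hRC hy _ hna
          calc a * y = n * ((n⁻¹ * a * n) * (n⁻¹ * y * n)) * n⁻¹ := by group
            _ = n * ((n⁻¹ * y * n) * (n⁻¹ * a * n)) * n⁻¹ := by rw [this]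
            _ = y * a := by group
        have hR'E : R' ≤ E := hR'C.trans hCE
        have hU : IsPGroup r ↥(R ⊔ R') := IsPGroup.to_sup_of_normal_left' hRr (hRr.map _) (hR'E.trans hER)
        have hUc := cyclic_of_prankLE_one h.hG hr h3.2.2.2 hU (sup_le (hRE.trans hE.1) (hR'E.trans hE.1))
        refine mem_normalizer_iff_conj_smul.2 ?_
        haveI := hUc
        exact (CfsgLib.Spectrum.eq_of_card_eq_cyclic_aux (W := R ⊔ R') le_sup_right le_sup_left
          (card_conj_smul n R))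
      exact hSK.trans (derived_le_centralizer_of_cyclic hKR hRc)
    -- `r ∈ τ₂`
    obtain ⟨B, B₀, -, hB⟩ := exists_elem_compl h.hG h.hM hE h2
    obtain ⟨L, hL, hKL⟩ := (eq_top_or_exists_le_coatom _).resolve_left
      (normalizer_ne_top h.hG h.maxElem.ne_bot (h.maxElem.ne_top h.hG))
    have hRA : R ≤ Subgroup.centralizer (A : Set G) := h.sylow_centralizes hE hAE h2 hpτ hrp hRr hRE
    exact centralizes_of_le_derived h.hG hL h.hp hr hrp (hB.maxElem.not_beta h.hG L) S.2
      (hSK.trans (Subgroup.commutator_mono hKL hKL)) hRr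
      ((hRA.trans (Subgroup.centralizer_le_normalizer _)).trans hKL) (hSE.trans hER)
  have hDS : D ≤ Subgroup.normalizer ((S : Subgroup G) : Set G) := by
    refine inf_eq_left.1 (Subgroup.eq_of_le_of_card_ge (inf_le_left :
      D ⊓ Subgroup.normalizer ((S : Subgroup G) : Set G) ≤ D) (Nat.le_of_dvd Nat.card_pos ?_))
    refine (Nat.dvd_iff_prime_pow_dvd_dvd _ _).2 fun r k hr hk => ?_
    rcases Nat.eq_zero_or_pos k with rfl | hk0
    · simp
    haveI := Fact.mk hr
    obtain ⟨P⟩ : Nonempty (Sylow r D) := inferInstance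
    have hPD : (P : Subgroup D).map D.subtype ≤ D := Subgroup.map_subtype_le _
    refine dvd_trans ?_ (Subgroup.card_dvd_of_le (le_inf hPD fun x hx => key r hr x (hPD hx) ?_))
    · rw [Subgroup.card_subtype, P.card_eq_multiplicity]
      exact Nat.pow_dvd_pow r ((hr.pow_dvd_iff_le_factorization Nat.card_pos.ne').1 hk)
    · obtain ⟨j, hj⟩ := (P.2.map D.subtype) ⟨x, hx⟩
      exact ⟨j, congrArg Subtype.val hj⟩
  have hEN : E ≤ Subgroup.normalizer ((S : Subgroup G) : Set G) := by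
    intro g hg
    set T := MulAut.conj g • (S : Subgroup G) with hT
    have hTN : T ≤ Subgroup.normalizer ((S : Subgroup G) : Set G) := by
      intro y hy
      rw [hT, mem_conj_smul_iff] at hy
      have h1 : ⁅g, g⁻¹ * y * g⁆ ∈ D := Subgroup.commutator_mem_commutator hg (hSE hy)
      have h2 : y = ⁅g, g⁻¹ * y * g⁆ * (g⁻¹ * y * g) := by rw [commutatorElement_def]; group
      rw [h2]
      exact mul_mem (hDS h1) (Subgroup.le_normalizer hy)
    have h3 : IsPGroup p ↥((S : Subgroup G) ⊔ T) := IsPGroup.to_sup_of_normal_left' S.2 (S.2.map _) hTN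
    have h4 : T ≤ (S : Subgroup G) := le_sup_right.trans (S.is_maximal' h3 le_sup_left).le
    exact mem_normalizer_iff_conj_smul.2 (Subgroup.eq_of_le_of_card_ge h4 (card_conj_smul _ _).ge)
  refine ⟨S, hAS, hSE, hNS, hEN, fun x hx ⟨k, hk⟩ => ?_⟩
  have hZ : IsPGroup p (Subgroup.zpowers x) := fun y => ⟨k, Subtype.ext (by
    obtain ⟨i, hi⟩ := Subgroup.mem_zpowers_iff.1 y.2
    rw [SubmonoidClass.coe_pow, ← hi, ← zpow_natCast, ← zpow_mul, mul_comm, zpow_mul, zpow_natCast, hk, one_zpow]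
    rfl)⟩
  exact (S.is_maximal' (IsPGroup.to_sup_of_normal_left' S.2 hZ ((Subgroup.zpowers_le.2 hx).trans hEN)) le_sup_left).le
    (Subgroup.mem_sup_right (Subgroup.mem_zpowers x))

end CfsgLib.OddLocal
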