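import Cfsg.Agent.Lib.OddLocal.TauTwoNonabelian
import Cfsg.Agent.Lib.OddLocal.TauTwoNormal
import Cfsg.Agent.Lib.OddLocal.FrobeniusType
import Cfsg.Agent.Lib.OddLocal.FixedTools
import Cfsg.Agent.Lib.OddLocal.SigmaDichotomy
import Cfsg.Agent.S1443

/-!
`τ₂`-subgroups of a complement of `M_σ` are abelian.
-/

set_option autoImplicit false
set_option linter.style.haveILetI false
set_option linter.unusedSectionVars false

open scoped commutatorElement
open scoped Pointwise

namespace CfsgLib.OddLocal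

open CfsgLib.Coprime
open CfsgLib.BG.FixedLine (conj_mem_of_le_normalizer mem_normalizer_of_conj)

universe u

variable {G : Type u} [Group G] [Finite G] {p q r : ℕ} {M E D : Subgroup G}

/-- Elements of prime power orders for `τ₂`-primes with abelian Sylow subgroups commute in `E`. -/
theorem tau2_primary_commute (hG : Cfsg.IsMinSimpleOddOrder G) (hM : IsCoatom M)
    (hE : Cfsg.IsComplIn E (Cfsg.sigmaCore M) M) (hp : p ∈ Cfsg.tau2 M) (hq : q ∈ Cfsg.tau2 M)
    (hab : ∀ S : Sylow p G, IsMulCommutative (S : Subgroup G)) {a c : G} (ha : a ∈ E) (hc : c ∈ E) {i j : ℕ}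
    (hai : a ^ p ^ i = 1) (hcj : c ^ q ^ j = 1) : Commute a c := by
  classical
  haveI := Fact.mk hp.1
  obtain ⟨A, A₀, hAE, hA⟩ := exists_elem_compl hG hM hE hp
  obtain ⟨S, hAS, hSE, -, hES, hmem⟩ := hA.sylow_normal_compl hE hAE hp hab
  have haS := hmem a ha ⟨i, hai⟩
  haveI := hab S
  by_cases hqp : q = p
  · subst hqp
    exact congrArg Subtype.val (mul_comm' (⟨a, haS⟩ : (S : Subgroup G)) ⟨c, hmem c hc ⟨j, hcj⟩⟩)
  have hZq : IsPGroup q (Subgroup.zpowers c) := isPGroup_zpowers hcj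
  have hcA : Subgroup.zpowers c ≤ Subgroup.centralizer (A : Set G) :=
    hA.sylow_centralizes hE hAE hq hp hqp hZq (Subgroup.zpowers_le.2 hc)
  have hcop : (Nat.card (Subgroup.zpowers c)).Coprime p := by
    rw [Nat.card_zpowers]
    exact (Nat.Coprime.pow_left j ((Nat.coprime_primes hq.1 hp.1).2 hqp)).coprime_dvd_left
      (orderOf_dvd_of_pow_eq_one hcj)
  have hfix : Subgroup.zpowers c ≤ Subgroup.centralizer ((S : Subgroup G) : Set G) := by
    refine Cfsg.Agent.S1443.result p (hA.maxElem.ne_two hG) (S : Subgroup G) A (Subgroup.zpowers c) S.2 hAS hA.hAe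
      ((Subgroup.zpowers_le.2 hc).trans hES) hcop fun x hx hxo => ?_
    have hxA : x ∈ A := hA.maxElem.mem_of_commutes hx.2 (by rw [← hxo, pow_orderOf_eq_one])
    exact hcA.trans (Subgroup.centralizer_le (by simpa using hxA))
  exact commute_of_mem_centralizer haS (hfix (Subgroup.mem_zpowers c))

/-- A `τ₂(M)`-subgroup of `E` is abelian. -/
theorem tau2_isMulCommutative (hG : Cfsg.IsMinSimpleOddOrder G) (hM : IsCoatom M)
    (hE : Cfsg.IsComplIn E (Cfsg.sigmaCore M) M) (hDE : D ≤ E) (hD : IsPi (Cfsg.tau2 M) D) :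
    IsMulCommutative D := by
  classical
  have hDM : D ≤ M := hDE.trans hE.1
  by_cases hab : ∀ p, p.Prime → p ∣ Nat.card D → ∀ S : Sylow p G, IsMulCommutative (S : Subgroup G)
  · refine ⟨⟨fun x y => Subtype.ext ?_⟩⟩
    suffices h : (x : G) ∈ Subgroup.centralizer ({(y : G)} : Set G) from
      (commute_of_mem_centralizer_singleton h).eq.symm
    refine mem_of_primary fun p hp hpd v hv ⟨i, hi⟩ => mem_centralizer_singleton_of_commute ?_
    have hpD : p ∣ Nat.card D := hpd.trans (Subgroup.orderOf_dvd_natCard D x.2)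
    refine Commute.symm (commute_of_mem_centralizer_singleton ?_)
    refine mem_of_primary fun q hq hqd w hw ⟨j, hj⟩ => mem_centralizer_singleton_of_commute ?_
    exact tau2_primary_commute hG hM hE (hD p hp hpD) (hD q hq (hqd.trans (Subgroup.orderOf_dvd_natCard D y.2)))
      (hab p hp hpD) (hDE (Subgroup.zpowers_le.2 x.2 hv)) (hDE (Subgroup.zpowers_le.2 y.2 hw)) hi hj
  · push Not at hab
    obtain ⟨p, hp, hpd, S₀, hS₀⟩ := hab
    haveI := Fact.mk hp
    have hpτ := hD p hp hpd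
    have hall : ∀ S : Sylow p G, ¬ IsMulCommutative (S : Subgroup G) := fun S hS =>
      hS₀ (isMulCommutative_sylow_iff S₀ S hS)
    obtain ⟨A, A₀, hAE, hA⟩ := exists_elem_compl hG hM hE hpτ
    have hDp : IsPGroup p D := IsPGroup.iff_orderOf.2 fun x => by
      obtain ⟨n, hn⟩ : ∃ n, Nat.card D = p ^ n :=
        ⟨_, Nat.eq_prime_pow_of_unique_prime_dvd Nat.card_pos.ne' fun {r} hr hrd =>
          hA.tau2_eq hall hE hAE (hD r hr hrd)⟩
      obtain ⟨k, -, hk⟩ := (Nat.dvd_prime_pow hp).1 (hn ▸ orderOf_dvd_natCard x)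
      exact ⟨k, hk⟩
    exact ⟨⟨fun x y => Subtype.ext (sylow_comm_of_not_sigma hG hM hp hpτ.2.1 hDM hDp x x.2 y y.2)⟩⟩

end CfsgLib.OddLocal
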