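import Cfsg.Agent.Lib.OddLocal.SigmaCosets
import Cfsg.Agent.Lib.OddLocal.FrobeniusType

/-!
BG 14.7, preparation: the number of conjugates of the elements of `x R(x)`, `x` in `M_σ`.
-/

set_option autoImplicit false
set_option linter.style.haveILetI false
set_option linter.unusedSectionVars false

open scoped commutatorElement
open scoped Pointwise

namespace CfsgLib.OddLocal

open CfsgLib.Coprime
open CfsgLib.BG.FixedLine (conj_mem_of_le_normalizer mem_normalizer_of_conj)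

universe u

variable {G : Type u} [Group G] [Finite G] {p q : ℕ} {M N L : Subgroup G} {x y g : G}

theorem mem_sigmaCore_of_primary (hG : Cfsg.IsMinSimpleOddOrder G) (hM : IsCoatom M) (hx : x ∈ M)
    (h : ∀ r : ℕ, r.Prime → r ∣ orderOf x → r ∈ Cfsg.sigma M) : x ∈ Cfsg.sigmaCore M :=
  mem_of_primary fun r hr hd _ hv ⟨_, hk⟩ =>
    sigma_mem_of_elem hG hM hr (h r hr hd) (Subgroup.zpowers_le.2 hx hv) hk

theorem conj_mem_sigmaCore (hG : Cfsg.IsMinSimpleOddOrder G) (hM : IsCoatom M) (g : G)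
    (hx : x ∈ Cfsg.sigmaCore M) : g * x * g⁻¹ ∈ Cfsg.sigmaCore (MulAut.conj g • M) := by
  refine mem_sigmaCore_of_primary hG (isCoatom_conj hM g) (mem_sigmaCore_conj_iff.2 (piCoreOf_le _ M hx))
    fun r hr hd => sigma_conj_iff.2 (sigma_of_orderOf hx hr ?_)
  rwa [show orderOf (g * x * g⁻¹) = orderOf x from
    orderOf_injective (MulAut.conj g).toMonoidHom (MulAut.conj g).injective x] at hd

theorem sigmaCore_conj (hG : Cfsg.IsMinSimpleOddOrder G) (hM : IsCoatom M) (g : G) :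
    Cfsg.sigmaCore (MulAut.conj g • M) = MulAut.conj g • Cfsg.sigmaCore M := by
  refine le_antisymm (fun z hz => ?_) fun z hz => ?_
  · have h := conj_mem_sigmaCore hG (isCoatom_conj hM g) g⁻¹ hz
    rw [← mul_smul, ← map_mul, inv_mul_cancel, map_one, one_smul] at h
    rw [mem_conj_smul_iff]
    simpa using h
  · rw [mem_conj_smul_iff] at hz
    have h := conj_mem_sigmaCore hG hM g hz
    simpa [mul_assoc] using h

theorem centralizer_conj (g x : G) :
    Subgroup.centralizer ({g * x * g⁻¹} : Set G) = MulAut.conj g • Subgroup.centralizer ({x} : Set G) := by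
  ext w
  rw [mem_conj_smul_iff, Subgroup.mem_centralizer_singleton_iff, Subgroup.mem_centralizer_singleton_iff]
  constructor <;> intro h
  · calc g⁻¹ * w * g * x = g⁻¹ * (w * (g * x * g⁻¹)) * g := by group
      _ = g⁻¹ * ((g * x * g⁻¹) * w) * g := by rw [h]
      _ = _ := by group
  · calc w * (g * x * g⁻¹) = g * (g⁻¹ * w * g * x) * g⁻¹ := by group
      _ = g * (x * (g⁻¹ * w * g)) * g⁻¹ := by rw [h]
      _ = _ := by group

theorem supportR_conj (hG : Cfsg.IsMinSimpleOddOrder G) (hM : IsCoatom M) (g : G) (hx : x ∈ Cfsg.sigmaCore M)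
    (hx1 : x ≠ 1) :
    Cfsg.supportR (MulAut.conj g • M) (g * x * g⁻¹) = MulAut.conj g • Cfsg.supportR M x := by
  have hxg := conj_mem_sigmaCore hG hM g hx
  have hxg1 : g * x * g⁻¹ ≠ 1 := fun e => hx1 (conj_eq_one_iff.1 e)
  by_cases hxM : Subgroup.centralizer ({x} : Set G) ≤ M
  · rw [supportR_eq_bot hxM, supportR_eq_bot (by
      rw [centralizer_conj]; exact Subgroup.pointwise_smul_le_pointwise_smul_iff.2 hxM), Subgroup.smul_bot]
  · obtain ⟨N₀, h⟩ := exists_support hG hM hx hx1 hxM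
    have hxM' : ¬ Subgroup.centralizer ({g * x * g⁻¹} : Set G) ≤ MulAut.conj g • M := by
      rw [centralizer_conj]
      exact fun e => hxM (Subgroup.pointwise_smul_le_pointwise_smul_iff.1 e)
    obtain ⟨N', h'⟩ := exists_support hG (isCoatom_conj hM g) hxg hxg1 hxM'
    have he : N' = MulAut.conj g • N₀ := (h'.uniq _ (isCoatom_conj h.hN g) (by
      rw [centralizer_conj]; exact Subgroup.pointwise_smul_le_pointwise_smul_iff.2 h.hle)).symm
    rw [supportR_eq h, supportR_eq h', Subgroup.smul_inf, he, sigmaCore_conj hG h.hN, centralizer_conj]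

theorem supportR_le_centralizer (hG : Cfsg.IsMinSimpleOddOrder G) (hM : IsCoatom M) (hx : x ∈ Cfsg.sigmaCore M)
    (hx1 : x ≠ 1) {r : G} (hr : r ∈ Cfsg.supportR M x) : Commute x r :=
  (support_cases hG hM hx hx1 hr).1

theorem exists_supportR_conj_eq (hG : Cfsg.IsMinSimpleOddOrder G) (hM : IsCoatom M) (hx : x ∈ Cfsg.sigmaCore M)
    (hx1 : x ≠ 1) {g : G} (hg : x ∈ MulAut.conj g • M) :
    ∃ k ∈ Cfsg.supportR M x, MulAut.conj g • M = MulAut.conj k • M := by
  by_cases hxM : Subgroup.centralizer ({x} : Set G) ≤ M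
  · exact ⟨1, one_mem _, by rw [(exists_conj_eq hG hM hx hx1 hg).1 hxM, map_one, one_smul]⟩
  · obtain ⟨N₀, h⟩ := exists_support hG hM hx hx1 hxM
    obtain ⟨k, hk, he⟩ := (exists_conj_eq hG hM hx hx1 hg).2 h
    exact ⟨k, by rw [supportR_eq h]; exact hk, he⟩

theorem supportR_inf_eq_bot (hG : Cfsg.IsMinSimpleOddOrder G) (hM : IsCoatom M) (hx : x ∈ Cfsg.sigmaCore M)
    (hx1 : x ≠ 1) {r : G} (hr : r ∈ Cfsg.supportR M x) (hrM : r ∈ M) : r = 1 := by
  obtain ⟨-, h | ⟨N₀, h, hrN⟩⟩ := support_cases hG hM hx hx1 hr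
  · exact h
  · exact Subgroup.mem_bot.1 (h.inf_eq ▸ ⟨hrN, hrM⟩ : r ∈ (⊥ : Subgroup G))

/-- `R(x)` depends only on the class of `M`. -/
theorem supportR_eq_of_conj (hG : Cfsg.IsMinSimpleOddOrder G) (hM : IsCoatom M) (hx : x ∈ Cfsg.sigmaCore M)
    (hx1 : x ≠ 1) {g : G} (hg : x ∈ MulAut.conj g • M) :
    Cfsg.supportR (MulAut.conj g • M) x = Cfsg.supportR M x := by
  obtain ⟨k, hk, he⟩ := exists_supportR_conj_eq hG hM hx hx1 hg
  rw [he]
  have hkx : k * x * k⁻¹ = x :=
    mul_inv_eq_iff_eq_mul.2 (supportR_le_centralizer hG hM hx hx1 hk).eq.symm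
  have h := supportR_conj hG hM k hx hx1
  rw [hkx] at h
  rw [h]
  exact conj_smul_eq_self_of_mem_normalizer (Subgroup.le_normalizer hk)

theorem mem_tilde_iff (hG : Cfsg.IsMinSimpleOddOrder G) (hM : IsCoatom M) {z : G} :
    z ∈ Cfsg.tildeOf M ((Cfsg.sigmaCore M : Set G) \ {1}) ↔
      ∃ (g : G) (a r : G), a ∈ Cfsg.sigmaCore (MulAut.conj g • M) ∧ a ≠ 1 ∧
        r ∈ Cfsg.supportR (MulAut.conj g • M) a ∧ z = a * r := by
  constructor
  · rintro ⟨a, ⟨ha, ha1⟩, r, hr, g, rfl⟩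
    refine ⟨g, g * a * g⁻¹, g * r * g⁻¹, conj_mem_sigmaCore hG hM g ha, fun e => ha1 (conj_eq_one_iff.1 e), ?_,
      by group⟩
    rw [supportR_conj hG hM g ha ha1]
    exact mem_sigmaCore_conj_iff.2 hr
  · rintro ⟨g, a, r, ha, ha1, hr, rfl⟩
    rw [sigmaCore_conj hG hM, mem_conj_smul_iff] at ha
    set b := g⁻¹ * a * g with hb
    have hab : a = g * b * g⁻¹ := by rw [hb]; group
    have hb1 : b ≠ 1 := fun e => ha1 (by rw [hab, e, mul_one, mul_inv_cancel])
    rw [hab, supportR_conj hG hM g ha hb1, mem_conj_smul_iff] at hr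
    exact ⟨b, ⟨ha, hb1⟩, g⁻¹ * r * g, hr, g, by rw [hab]; group⟩

/-- The number of conjugates of elements of `x R(x)`. -/
theorem card_tilde (hG : Cfsg.IsMinSimpleOddOrder G) (hM : IsCoatom M) :
    Set.ncard (Cfsg.tildeOf M ((Cfsg.sigmaCore M : Set G) \ {1})) =
      (Nat.card (Cfsg.sigmaCore M) - 1) * M.index := by
  classical
  haveI : Fintype G := Fintype.ofFinite G
  haveI : Fintype (G ⧸ M) := Fintype.ofFinite _
  let S : G ⧸ M → Finset G := fun c => {a | a ∈ MulAut.conj c.out • Cfsg.sigmaCore M ∧ a ≠ 1}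
  have hS : ∀ c, (S c).card = Nat.card (Cfsg.sigmaCore M) - 1 := fun c => by
    rw [show S c = (Finset.univ.filter fun a => a ∈ MulAut.conj c.out • Cfsg.sigmaCore M).erase 1 by
      ext a; simp [S, and_comm], Finset.card_erase_of_mem (by simp [one_mem]),
      Nat.card_congr (Subgroup.equivSMul (MulAut.conj c.out) (Cfsg.sigmaCore M)).toEquiv, Nat.card_eq_fintype_card]
    exact congrArg (· - 1) (Fintype.card_of_subtype _ (by simp)).symm
  set T : Finset G := Finset.univ.biUnion S with hT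
  have hTmem : ∀ {a : G}, a ∈ T → ∃ g : G, a ∈ Cfsg.sigmaCore (MulAut.conj g • M) ∧ a ≠ 1 := fun {a} ha => by
    obtain ⟨c, -, hc⟩ := Finset.mem_biUnion.1 ha
    simp only [S, Finset.mem_filter, Finset.mem_univ, true_and] at hc
    exact ⟨c.out, by rw [sigmaCore_conj hG hM]; exact hc.1, hc.2⟩
  choose! g₀ hg₀ hg₀1 using fun a (ha : a ∈ T) => hTmem ha
  let B : G → Finset G := fun a => {z | a⁻¹ * z ∈ Cfsg.supportR (MulAut.conj (g₀ a) • M) a}
  have hfib : ∀ a ∈ T, ({c | a ∈ S c} : Finset (G ⧸ M)).card = (B a).card := fun a ha => by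
    have hM₀ := isCoatom_conj hM (g₀ a)
    symm
    refine Finset.card_bij (fun z _ => (((a⁻¹ * z) * g₀ a : G) : G ⧸ M)) (fun z hz => ?_) (fun z hz w hw he => ?_)
      fun c hc => ?_
    · simp only [B, Finset.mem_filter, Finset.mem_univ, true_and] at hz
      simp only [S, Finset.mem_filter, Finset.mem_univ, true_and]
      obtain ⟨m, hm⟩ := QuotientGroup.mk_out_eq_mul M (a⁻¹ * z * g₀ a)
      refine ⟨?_, hg₀1 a ha⟩
      rw [← sigmaCore_conj hG hM, hm, map_mul, mul_smul, (conj_smul_self_iff hG hM).2 m.2, map_mul, mul_smul,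
        sigmaCore_conj hG hM₀, mem_conj_smul_iff]
      have h := supportR_le_centralizer hG hM₀ (hg₀ a ha) (hg₀1 a ha) hz
      rw [show (a⁻¹ * z)⁻¹ * a * (a⁻¹ * z) = a by rw [mul_assoc _ a, h.eq, inv_mul_cancel_left]]
      exact hg₀ a ha
    · simp only [B, Finset.mem_filter, Finset.mem_univ, true_and] at hz hw
      have h1 : (a⁻¹ * z)⁻¹ * (a⁻¹ * w) ∈ MulAut.conj (g₀ a) • M := by
        rw [mem_conj_smul_iff]
        have := QuotientGroup.eq.1 he
        rwa [show (g₀ a)⁻¹ * ((a⁻¹ * z)⁻¹ * (a⁻¹ * w)) * g₀ a = (a⁻¹ * z * g₀ a)⁻¹ * (a⁻¹ * w * g₀ a) by group]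
      have h2 := supportR_inf_eq_bot hG hM₀ (hg₀ a ha) (hg₀1 a ha)
        (mul_mem (inv_mem hz) hw) h1
      exact mul_left_cancel (inv_mul_eq_one.1 h2)
    · simp only [S, Finset.mem_filter, Finset.mem_univ, true_and] at hc
      have h1 : a ∈ MulAut.conj (c.out * (g₀ a)⁻¹) • (MulAut.conj (g₀ a) • M) := by
        rw [← mul_smul, ← map_mul, inv_mul_cancel_right]
        exact Subgroup.pointwise_smul_le_pointwise_smul_iff.2 (piCoreOf_le _ M) hc.1
      obtain ⟨k, hk, he⟩ := exists_supportR_conj_eq hG hM₀ (hg₀ a ha) (hg₀1 a ha) h1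
      rw [← mul_smul, ← map_mul, inv_mul_cancel_right, ← mul_smul, ← map_mul] at he
      refine ⟨a * k, ?_, ?_⟩
      · simp only [B, Finset.mem_filter, Finset.mem_univ, true_and, inv_mul_cancel_left]
        exact hk
      · rw [inv_mul_cancel_left]
        conv_rhs => rw [← QuotientGroup.out_eq' c]
        refine QuotientGroup.eq.2 ((conj_smul_self_iff hG hM).1 ?_)
        rw [map_mul, mul_smul, he, ← mul_smul, ← map_mul, inv_mul_cancel, map_one, one_smul]
  have hB : ∀ a ∈ T, ∀ b ∈ T, a ≠ b → Disjoint (B a) (B b) := fun a ha b hb hne => by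
    refine Finset.disjoint_left.2 fun z hza hzb => ?_
    simp only [B, Finset.mem_filter, Finset.mem_univ, true_and] at hza hzb
    exact cosets_disjoint hG (isCoatom_conj hM _) (isCoatom_conj hM _) (hg₀ a ha) (hg₀ b hb) (hg₀1 a ha)
      (hg₀1 b hb) hne hza hzb (by simp)
  have hU : Cfsg.tildeOf M ((Cfsg.sigmaCore M : Set G) \ {1}) = ↑(T.biUnion B) := by
    ext z
    rw [mem_tilde_iff hG hM, Finset.coe_biUnion]
    simp only [Set.mem_iUnion, Finset.mem_coe, exists_prop, B, Finset.mem_filter, Finset.mem_univ, true_and]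
    constructor
    · rintro ⟨g, a, r, ha, ha1, hr, rfl⟩
      have haT : a ∈ T := by
        refine Finset.mem_biUnion.2 ⟨(g : G ⧸ M), Finset.mem_univ _, ?_⟩
        simp only [S, Finset.mem_filter, Finset.mem_univ, true_and]
        obtain ⟨m, hm⟩ := QuotientGroup.mk_out_eq_mul M g
        refine ⟨?_, ha1⟩
        rwa [← sigmaCore_conj hG hM, hm, map_mul, mul_smul, (conj_smul_self_iff hG hM).2 m.2]
      refine ⟨a, haT, ?_⟩
      rw [inv_mul_cancel_left]
      have h1 : a ∈ MulAut.conj (g * (g₀ a)⁻¹) • (MulAut.conj (g₀ a) • M) := by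
        rw [← mul_smul, ← map_mul, inv_mul_cancel_right]; exact piCoreOf_le _ _ ha
      have h2 := supportR_eq_of_conj hG (isCoatom_conj hM _) (hg₀ a haT) (hg₀1 a haT) h1
      rw [← mul_smul, ← map_mul, inv_mul_cancel_right] at h2
      rwa [h2] at hr
    · rintro ⟨a, haT, h⟩
      exact ⟨g₀ a, a, a⁻¹ * z, hg₀ a haT, hg₀1 a haT, h, by simp⟩
  rw [hU, Set.ncard_coe_finset, Finset.card_biUnion hB, Finset.sum_congr rfl fun a ha => (hfib a ha).symm]
  have h := Finset.sum_card_bipartiteAbove_eq_sum_card_bipartiteBelow (fun (a : G) (c : G ⧸ M) => a ∈ S c)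
    (s := T) (t := Finset.univ)
  simp only [Finset.bipartiteAbove, Finset.bipartiteBelow] at h
  rw [h, Finset.sum_congr rfl (fun c _ => (congrArg Finset.card (show T.filter (fun a => a ∈ S c) = S c by
    ext a
    rw [Finset.mem_filter]
    exact and_iff_right_of_imp fun ha => Finset.mem_biUnion.2 ⟨c, Finset.mem_univ _, ha⟩)).trans (hS c)),
    Finset.sum_const,
    Finset.card_univ, smul_eq_mul, ← Nat.card_eq_fintype_card, mul_comm]
  rfl

/-- Elements of `x R(x)` for non-conjugate maximal subgroups differ. -/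
theorem tilde_disjoint (hG : Cfsg.IsMinSimpleOddOrder G) (hM : IsCoatom M) (hL : IsCoatom L)
    (hne : ∀ g : G, L ≠ MulAut.conj g • M) :
    Disjoint (Cfsg.tildeOf M ((Cfsg.sigmaCore M : Set G) \ {1}))
      (Cfsg.tildeOf L ((Cfsg.sigmaCore L : Set G) \ {1})) := by
  refine Set.disjoint_left.2 fun z hzM hzL => ?_
  obtain ⟨g, a, r, ha, ha1, hr, rfl⟩ := (mem_tilde_iff hG hM).1 hzM
  obtain ⟨k, b, s, hb, hb1, hs, he⟩ := (mem_tilde_iff hG hL).1 hzL
  refine cosets_disjoint hG (isCoatom_conj hM g) (isCoatom_conj hL k) ha hb ha1 hb1 (fun hab => ?_) hr hs he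
  obtain ⟨q, hq, hd⟩ := Nat.exists_prime_and_dvd fun e => ha1 (orderOf_eq_one_iff.1 e)
  obtain ⟨c, hc⟩ := sigma_disjoint hG hM hL (sigma_conj_iff.1 (sigma_of_orderOf ha hq hd))
    (sigma_conj_iff.1 (sigma_of_orderOf (hab ▸ hb) hq hd))
  exact hne c hc

end CfsgLib.OddLocal
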