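import Cfsg.Agent.Lib.OddLocal.KappaUM
import Cfsg.Agent.Lib.OddLocal.KappaDerived
import Cfsg.Agent.Lib.OddLocal.TildeCount
import Cfsg.Agent.Lib.OddLocal.TauTwoCommutative
import Cfsg.Agent.Lib.OddLocal.FrobeniusType
import Cfsg.Agent.Lib.OddLocal.PrimeFitting
import Cfsg.Agent.S1420
import Cfsg.Agent.S1426

/-!
BG 15.1, 15.3: first properties of `U` and of `F(M)`.
-/

set_option autoImplicit false
set_option linter.style.haveILetI false
set_option linter.unusedSectionVars false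

open scoped commutatorElement
open scoped Pointwise

namespace CfsgLib.OddLocal

open CfsgLib.Coprime
open CfsgLib.BG.FixedLine (conj_mem_of_le_normalizer mem_normalizer_of_conj)

universe u

variable {G : Type u} [Group G] [Finite G] {p q r : ℕ} {M E U K X : Subgroup G}

/-- A prime outside `σ ∪ κ` of an element with fixed points is a `τ₂`-prime. -/
theorem tau2_of_fixed (hG : Cfsg.IsMinSimpleOddOrder G) (hM : IsCoatom M) {x y : G} (hx : x ∈ M)
    (hy : y ∈ Cfsg.sigmaCore M) (hy1 : y ≠ 1) (hxy : Commute x y) (hr : r.Prime) (hd : r ∣ orderOf x)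
    (hσ : r ∉ Cfsg.sigma M) (hκ : r ∉ Cfsg.kappa M) :
    r ∈ Cfsg.tau2 M ∧ (Subgroup.centralizer ({x} : Set G) ≤ M ∧
      ∀ L : Subgroup G, IsCoatom L → Subgroup.centralizer ({x ^ (orderOf x / r)} : Set G) ≤ L → L = M) := by
  have hb : orderOf (x ^ (orderOf x / r)) = r := pow_quot_order hr hd
  rcases sigma_dichotomy hG hM hy hy1 (M.pow_mem hx (orderOf x / r)) (hxy.pow_left _) (zpowers_line hr hb).2.2
    (fun l hl hld => by rw [hb] at hld; exact (Nat.prime_dvd_prime_iff_eq hl hr).1 hld ▸ hσ)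
    with ⟨h1, -⟩ | ⟨h2, -, hC, hu⟩
  · exact absurd (h1 r hr (dvd_of_eq hb.symm)) hκ
  · exact ⟨h2 r hr (dvd_of_eq hb.symm), (centralizer_le_pow _).trans hC, hu⟩

/-- The elements of `U` with fixed points generate an abelian group. -/
theorem sigmaHat_inter_commute (hG : Cfsg.IsMinSimpleOddOrder G) (hM : IsCoatom M)
    (hKU : Cfsg.IsSigmaDecomposition M K U) :
    IsMulCommutative (Subgroup.closure ((U : Set G) ∩ Cfsg.sigmaHat M)) := by
  obtain ⟨hE, -⟩ := isCompl_UK hG hM hKU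
  refine Subgroup.isMulCommutative_closure ?_
  by_cases hK1 : K = ⊥
  · have hκ : ∀ l : ℕ, l ∉ Cfsg.kappa M := fun l hl => by
      refine hKU.hall.2.2 l hl.1 hl ?_
      rw [hK1, Subgroup.relIndex_bot_left]
      exact hl.2.1
    obtain ⟨⟨A₁, -, -, hA₁, hle⟩, -⟩ := frobenius_type hG hM hE fun e he he1 hpr =>
      (Subgroup.eq_bot_iff_forall _).2 fun y hy => by_contra fun hy1 => by
        obtain ⟨l, hl, hld⟩ := Nat.exists_prime_and_dvd fun e' : orderOf e = 1 => he1 (orderOf_eq_one_iff.1 e')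
        have h2 := (tau2_of_fixed hG hM (hE.1 he) hy.1 hy1 (commute_of_mem_centralizer_singleton hy.2) hl hld
          (not_sigma_of_dvd_compl hG hM hE hl (hld.trans (Subgroup.orderOf_dvd_natCard _ he))) (hκ l)).1
        exact h2.2.2.2 ((hpr l hl hld).elim (fun h1 => h1.2.2.2.2) fun h3 => h3.2.2.2)
    have hmem : ∀ a ∈ (U : Set G) ∩ Cfsg.sigmaHat M, a ∈ A₁ := fun a h' => by
      obtain ⟨ha, -, y, hy, hy1, hay⟩ := h'
      exact hle y hy hy1 ⟨Subgroup.mem_sup_left ha, Subgroup.mem_centralizer_singleton_iff.2 hay⟩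
    haveI := hA₁
    exact fun a ha b hb => congrArg Subtype.val (mul_comm' (⟨a, hmem a ha⟩ : A₁) ⟨b, hmem b hb⟩)
  · haveI := (kappaData_of_decomposition hG hM hKU hK1).comm
    exact fun a ha b hb => congrArg Subtype.val (mul_comm' (⟨a, ha.1⟩ : U) ⟨b, hb.1⟩)

/-- Centralizers of subgroups of `U` with fixed points lie in `M` only. -/
theorem centralizer_uniq_of_fixed (hG : Cfsg.IsMinSimpleOddOrder G) (hM : IsCoatom M)
    (hKU : Cfsg.IsSigmaDecomposition M K U) (hXU : X ≤ U) (hX : X ≠ ⊥)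
    (hXc : Cfsg.sigmaCore M ⊓ Subgroup.centralizer (X : Set G) ≠ ⊥) :
    Subgroup.centralizer (X : Set G) ≤ M ∧
      ∀ L : Subgroup G, IsCoatom L → Subgroup.centralizer (X : Set G) ≤ L → L = M := by
  classical
  obtain ⟨hE, -⟩ := isCompl_UK hG hM hKU
  obtain ⟨y, hy, hy1⟩ : ∃ y ∈ Cfsg.sigmaCore M ⊓ Subgroup.centralizer (X : Set G), y ≠ 1 := by
    obtain ⟨y, hy⟩ := (Subgroup.ne_bot_iff_exists_ne_one).1 hXc
    exact ⟨y, y.2, fun e => hy (Subtype.ext e)⟩
  have hdata : ∀ r : ℕ, r.Prime → r ∣ Nat.card X → ∃ x ∈ X,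
      r ∈ Cfsg.tau2 M ∧ Subgroup.centralizer ({x} : Set G) ≤ M := fun r hr hd => by
    obtain ⟨x, hx, hxo⟩ := exists_order_of_dvd hr hd
    obtain ⟨hκ, hσ⟩ := isPi_U hG hM hKU hr (hxo ▸ Subgroup.orderOf_dvd_natCard U (hXU hx))
    have h2 := tau2_of_fixed hG hM (hKU.compl.1 (hXU hx)) hy.1 hy1 (commute_of_mem_centralizer hx hy.2)
      hr (hxo ▸ dvd_rfl) hσ hκ
    exact ⟨x, hx, h2.1, h2.2.1⟩
  obtain ⟨p, hp, hpd⟩ := Nat.exists_prime_and_dvd fun e : Nat.card X = 1 => hX (Subgroup.card_eq_one.1 e)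
  obtain ⟨x, hx, hp2, hxC⟩ := hdata p hp hpd
  refine ⟨(Subgroup.centralizer_le (by simpa using hx)).trans hxC, fun L hL hle => ?_⟩
  by_contra hne
  haveI := Fact.mk hp
  haveI := isSolvable_of_ne_top hG hM.1
  haveI : Group.IsSolvable ↥(U ⊔ K) := isSolvable_of_le hE.1 inferInstance
  have hXE : X ≤ U ⊔ K := hXU.trans le_sup_left
  obtain ⟨Hl, hHl, hXH⟩ := exists_hallOf_ge (π := Cfsg.tau2 M) hXE fun r hr hd => by
    obtain ⟨-, -, h2, -⟩ := hdata r hr hd
    exact h2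
  obtain ⟨A, A₀, hAE, hA⟩ := exists_elem_compl hG hM hE hp2
  obtain ⟨m, hm, hmA⟩ := exists_conj_le_hallOf hHl hAE fun r hr hd => by
    rw [hA.hA2] at hd
    exact (Nat.prime_dvd_prime_iff_eq hr hp).1 (hr.dvd_of_dvd_pow hd) ▸ hp2
  rw [conj_smul_eq_self_of_mem_normalizer (hA.compl_le_normalizer hE hAE hm)] at hmA
  haveI := tau2_isMulCommutative hG hM hE hHl.1 hHl.2.1
  have hAL : A ≤ L := fun a ha => hle (Subgroup.mem_centralizer_iff.2 fun v hv =>
    congrArg Subtype.val (mul_comm' (⟨v, hXH hv⟩ : Hl) ⟨a, hmA ha⟩))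
  exact hy1 (Subgroup.mem_bot.1 ((Cfsg.Agent.S1417.result hG M hM p hp2 A ⟨hA.hAM, hA.hAe, hA.hA2⟩).2.2.2.2.1
    L hL hne hAL ▸ ⟨hy.1, hle hy.2⟩))

/-- `A(M) ∖ M_σ` is a TI set. -/
theorem sigmaA_diff_ti (hG : Cfsg.IsMinSimpleOddOrder G) (hM : IsCoatom M)
    (hKU : Cfsg.IsSigmaDecomposition M K U) :
    Cfsg.IsTISubset (Cfsg.sigmaA M U \ (Cfsg.sigmaCore M : Set G)) := by
  classical
  have hhat : ∀ {m a : G}, m ∈ M → a ∈ Cfsg.sigmaA M U \ (Cfsg.sigmaCore M : Set G) →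
      m * a * m⁻¹ ∈ Cfsg.sigmaA M U \ (Cfsg.sigmaCore M : Set G) := fun {m a} hm ha => by
    obtain ⟨⟨⟨haM, y, hy, hy1, hay⟩, haU⟩, haσ⟩ := ha
    refine ⟨⟨⟨M.mul_mem (M.mul_mem hm haM) (M.inv_mem hm), m * y * m⁻¹,
      conj_mem_of_le_normalizer (le_normalizer_piCoreOf _ M hm) y hy, fun e => hy1 (conj_eq_one_iff.1 e), ?_⟩,
      conj_mem_of_le_normalizer (le_normalizer_UM hKU hm) a haU⟩, fun hmem => haσ ?_⟩
    · calc m * a * m⁻¹ * (m * y * m⁻¹) = m * (a * y) * m⁻¹ := by group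
        _ = m * (y * a) * m⁻¹ := by rw [hay]
        _ = _ := by group
    · have := conj_mem_of_le_normalizer (le_normalizer_piCoreOf _ M (M.inv_mem hm)) _ hmem
      rwa [inv_inv, show m⁻¹ * (m * a * m⁻¹) * m = a by group] at this
  intro g hg x hx hgx
  by_contra -
  have hgM : g ∉ M := fun hgM => hg (Subgroup.mem_set_normalizer_iff.2 fun a => ⟨hhat hgM, fun h => by
    have := hhat (M.inv_mem hgM) h
    rwa [inv_inv, show g⁻¹ * (g * a * g⁻¹) * g = a by group] at this⟩)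
  have hxM : x ∈ M := hx.1.1.1
  obtain ⟨r, hr, hd, hrσ⟩ : ∃ r : ℕ, r.Prime ∧ r ∣ orderOf x ∧ r ∉ Cfsg.sigma M := by
    by_contra hall
    push Not at hall
    exact hx.2 (mem_sigmaCore_of_primary hG hM hxM hall)
  have hκ : r ∉ Cfsg.kappa M := ((hall_UM hG hM hKU).2.1 r hr
    (hd.trans (Subgroup.orderOf_dvd_natCard _ (show x ∈ U ⊔ Cfsg.sigmaCore M from hx.1.2)))).2
  obtain ⟨y, hy, hy1, hxy⟩ := hx.1.1.2
  obtain ⟨-, -, hu⟩ := tau2_of_fixed hG hM hxM hy hy1 hxy hr hd hrσ hκ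
  obtain ⟨y', hy', hy'1, hxy'⟩ := hgx.1.1.2
  have hd' : r ∣ orderOf (g * x * g⁻¹) := by
    rwa [show orderOf (g * x * g⁻¹) = orderOf x from
      orderOf_injective (MulAut.conj g).toMonoidHom (MulAut.conj g).injective x]
  obtain ⟨-, -, hu'⟩ := tau2_of_fixed hG hM hgx.1.1.1 hy' hy'1 hxy' hr hd' hrσ hκ
  obtain ⟨L, hL, hCL⟩ := (eq_top_or_exists_le_coatom
    (Subgroup.centralizer ((Subgroup.zpowers (x ^ (orderOf x / r)) : Subgroup G) : Set G))).resolve_left
    (centralizer_ne_top hG (line_ne_bot hr (by rw [Nat.card_zpowers, pow_quot_order hr hd])))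
  rw [centralizer_zpowers_eq] at hCL
  obtain rfl := hu L hL hCL
  refine hgM ((conj_smul_self_iff hG hM).1 (hu' _ (isCoatom_conj hM g) ?_))
  rw [show orderOf (g * x * g⁻¹) = orderOf x from
      orderOf_injective (MulAut.conj g).toMonoidHom (MulAut.conj g).injective x, conj_pow, conj_centralizer_elem]
  exact conj_le_conj.2 hCL

/-- The `σ'`-part of `F(M)`. -/
abbrev fittingPrimePart (M : Subgroup G) : Subgroup G :=
  Cfsg.piCoreOf {q | q.Prime ∧ q ∉ Cfsg.sigma M} (Cfsg.fittingOf M)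

theorem le_normalizer_fittingPrimePart (M : Subgroup G) :
    M ≤ Subgroup.normalizer (fittingPrimePart M : Set G) :=
  (le_normalizer_fittingOf M).trans (piCoreOf_normalizer_le _ _)

theorem fittingPrimePart_le (M : Subgroup G) : fittingPrimePart M ≤ M :=
  (piCoreOf_le _ _).trans (fittingOf_le M)

theorem fittingPrimePart_centralizes (M : Subgroup G) :
    fittingPrimePart M ≤ Subgroup.centralizer (Cfsg.sigmaCore M : Set G) :=
  commute_of_disjoint ((fittingPrimePart_le M).trans (le_normalizer_piCoreOf _ M))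
    ((piCoreOf_le _ M).trans (le_normalizer_fittingPrimePart M)) (isPi_piCoreOf _ _) (isPi_piCoreOf _ M)
    (Set.disjoint_left.2 fun _ h1 h2 => h1.2 h2)

theorem fittingPrimePart_tau2 (hG : Cfsg.IsMinSimpleOddOrder G) (hM : IsCoatom M) (hp : p.Prime)
    (hd : p ∣ Nat.card (fittingPrimePart M)) : p ∈ Cfsg.tau2 M := by
  classical
  obtain ⟨b, hb, hbo⟩ := exists_order_of_dvd hp hd
  obtain ⟨y, hy, hy1⟩ : ∃ y ∈ Cfsg.sigmaCore M, y ≠ 1 := by
    obtain ⟨y, hy⟩ := (Subgroup.ne_bot_iff_exists_ne_one).1 (sigmaCore_ne_bot hG hM)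
    exact ⟨y, y.2, fun e => hy (Subtype.ext e)⟩
  have hbM : b ∈ M := fittingPrimePart_le M hb
  have hcom : ∀ w ∈ Cfsg.sigmaCore M, Commute b w := fun w hw =>
    (commute_of_mem_centralizer hw (fittingPrimePart_centralizes M hb)).symm
  have hσ := (isPi_piCoreOf _ _ p hp hd : p ∈ {q | q.Prime ∧ q ∉ Cfsg.sigma M}).2
  by_cases hκ : p ∈ Cfsg.kappa M
  swap
  · exact (tau2_of_fixed hG hM hbM hy hy1 (hcom y hy) hp (hbo ▸ dvd_rfl) hσ hκ).1
  exfalso
  obtain ⟨K, hK⟩ := exists_hall_kappa hG hM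
  haveI := isSolvable_of_ne_top hG hM.1
  obtain ⟨m, hm, hmK⟩ := exists_conj_le_hallOf hK (Subgroup.zpowers_le.2 hbM) fun l hl hld => by
    rw [Nat.card_zpowers, hbo] at hld
    exact (Nat.prime_dvd_prime_iff_eq hl hp).1 hld ▸ hκ
  have hmb : m * b * m⁻¹ ∈ K := hmK (mem_sigmaCore_conj_iff.2 (Subgroup.mem_zpowers b))
  have hmb1 : m * b * m⁻¹ ≠ 1 := fun e => (zpowers_line hp hbo).2.2 (conj_eq_one_iff.1 e)
  obtain ⟨E, U, h⟩ := exists_kappaData hG hM hK fun e => hmb1 (Subgroup.mem_bot.1 (e ▸ hmb))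
  have hle : Cfsg.sigmaCore M ≤ Cfsg.sigmaCore M ⊓ Subgroup.centralizer (K : Set G) := by
    rw [← h.action _ hmb hmb1]
    refine le_inf le_rfl fun w hw => mem_centralizer_singleton_of_commute ?_
    have h1 := hcom _ (conj_mem_of_le_normalizer (le_normalizer_piCoreOf _ M (M.inv_mem hm)) w hw)
    rw [inv_inv] at h1
    show _ = _
    calc m * b * m⁻¹ * w = m * (b * (m⁻¹ * w * m)) * m⁻¹ := by group
      _ = m * (m⁻¹ * w * m * b) * m⁻¹ := by rw [h1.eq]
      _ = _ := by group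
  obtain ⟨q, z, hq, hz, hzo⟩ := h.exists_star_prime
  haveI := Fact.mk hq
  have hqσ := sigma_of_mem_core hq hz.1 hzo
  obtain ⟨P⟩ : Nonempty (Sylow q M) := inferInstance
  obtain ⟨T, hT⟩ := exists_sylow_map_eq hqσ P
  have hTM : (T : Subgroup G) ≤ M := hT.le.trans (Subgroup.map_subtype_le _)
  exact h.not_sylow_le_star hz hzo T hTM ((le_sigmaCore_of_isPGroup hG hM hq hqσ hTM T.2).trans hle)

theorem fittingPrimePart_cyclic (hG : Cfsg.IsMinSimpleOddOrder G) (hM : IsCoatom M) :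
    IsCyclic (fittingPrimePart M) := by
  classical
  haveI : Group.IsNilpotent (fittingPrimePart M) :=
    haveI := fittingOf_isNilpotent M
    Group.nilpotent_of_mulEquiv (_h := Subgroup.isNilpotent _)
      (Subgroup.subgroupOfEquivOfLe (piCoreOf_le _ (Cfsg.fittingOf M)))
  haveI : IsZGroup (fittingPrimePart M) := ⟨fun p hp P => by
    haveI := Fact.mk hp
    set P' := (P : Subgroup (fittingPrimePart M)).map (fittingPrimePart M).subtype with hP'
    suffices hc : IsCyclic P' by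
      haveI := hc
      exact isCyclic_of_surjective _ (Subgroup.equivMapOfInjective (P : Subgroup (fittingPrimePart M)) _
        (fittingPrimePart M).subtype_injective).symm.surjective
    by_contra hnc
    obtain ⟨B, hB, hBe, hB2⟩ := exists_elem_sq hG hp (P.2.map _) hnc
    have hBO : B ≤ fittingPrimePart M := hB.trans (Subgroup.map_subtype_le _)
    have hp2 := fittingPrimePart_tau2 hG hM hp ((dvd_pow_self p two_ne_zero).trans
      (hB2.symm.dvd.trans (Subgroup.card_dvd_of_le hBO)))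
    have h1 := (Cfsg.Agent.S1417.result hG M hM p hp2 B
      ⟨hBO.trans (fittingPrimePart_le M), hBe, hB2⟩).2.2.2.1
    rw [inf_eq_left.2 (Subgroup.le_centralizer_iff.1 (hBO.trans (fittingPrimePart_centralizes M)))] at h1
    exact sigmaCore_ne_bot hG hM h1⟩
  infer_instance

theorem fittingOf_sigmaCore_le (M : Subgroup G) : Cfsg.fittingOf (Cfsg.sigmaCore M) ≤ Cfsg.fittingOf M := by
  haveI := fitting_char (Cfsg.sigmaCore M)
  exact le_fittingOf_of_le_normalizer ((fittingOf_le _).trans (piCoreOf_le _ M))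
    (CfsgLib.PSolvable.le_normalizer_map_of_characteristic (H := Cfsg.sigmaCore M) (le_normalizer_piCoreOf _ M)
      (Cfsg.fittingSubgroup ↥(Cfsg.sigmaCore M)))
    (fittingOf_isNilpotent _)

theorem fittingOf_eq_sup (hG : Cfsg.IsMinSimpleOddOrder G) (hM : IsCoatom M) :
    Cfsg.fittingOf M = Cfsg.fittingOf (Cfsg.sigmaCore M) ⊔ fittingPrimePart M := by
  classical
  refine le_antisymm (fittingOf_le_of fun r hr => ?_) (sup_le (fittingOf_sigmaCore_le M) (piCoreOf_le _ _))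
  haveI := Fact.mk hr
  by_cases hrσ : r ∈ Cfsg.sigma M
  · have hle := le_sigmaCore_of_isPGroup hG hM hr hrσ (piCoreOf_le _ M) (isPGroup_opOf hr M)
    exact (le_fittingOf_of_le_normalizer hle ((piCoreOf_le _ M).trans (le_normalizer_piCoreOf _ M))
      (isPGroup_opOf hr M).isNilpotent).trans le_sup_left
  · exact (le_piCoreOf (π := {q | q.Prime ∧ q ∉ Cfsg.sigma M}) (opOf_le_fittingOf hr M) ((fittingOf_le M).trans (le_normalizer_piCoreOf _ M))
      (fun l hl hd => ⟨hl, (isPi_piCoreOf _ M l hl hd : l = r) ▸ hrσ⟩)).trans le_sup_right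

/-- In type `P₂` all `σ`-primes are `β`-primes. -/
theorem KappaData.beta_of_U_ne_bot (h : KappaData M K E U) (hKU : Cfsg.IsSigmaDecomposition M K U) (hU : U ≠ ⊥)
    (hr : r.Prime) (hd : r ∣ Nat.card (Cfsg.sigmaCore M)) : r ∈ Cfsg.beta M := by
  classical
  by_contra hβ
  haveI := Fact.mk hr
  have hG := h.hG
  have hM := h.hM
  obtain ⟨hfix, hnil⟩ := h.U_action hU
  haveI := hnil
  obtain ⟨P⟩ : Nonempty (Sylow r (Cfsg.sigmaCore M)) := inferInstance
  haveI := CfsgLib.Splitting.sylow_normal_of_isNilpotent hnil P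
  haveI := Sylow.characteristic_of_normal P inferInstance
  set P' := (P : Subgroup (Cfsg.sigmaCore M)).map (Cfsg.sigmaCore M).subtype with hP'
  have hP'σ : P' ≤ Cfsg.sigmaCore M := Subgroup.map_subtype_le _
  have hMP : M ≤ Subgroup.normalizer (P' : Set G) :=
    CfsgLib.PSolvable.le_normalizer_map_of_characteristic (H := Cfsg.sigmaCore M) (le_normalizer_piCoreOf _ M)
      (P : Subgroup (Cfsg.sigmaCore M))
  have hUd : U ≤ ⁅M, M⁆ := (derived_eq hG hM hKU h.hK1).ge.trans' le_sup_left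
  have hUC : U ≤ Subgroup.centralizer (P' : Set G) := fun u hu => mem_of_primary fun l hl hld v hv ⟨k, hk⟩ => by
    have hlU : l ∣ Nat.card U := hld.trans (Subgroup.orderOf_dvd_natCard U hu)
    have hne : r ≠ l := fun e => (h.hallU.2.1 l hl hlU).2.2 (e ▸ isPi_piCoreOf _ M r hr hd)
    exact centralizes_of_le_derived hG hM hl hr hne hβ (isPGroup_zpowers hk)
      (Subgroup.zpowers_le.2 (hUd (Subgroup.zpowers_le.2 hu hv))) (P.2.map _)
      (hP'σ.trans (piCoreOf_le _ M)) (Subgroup.zpowers_le.2 (hMP (h.hallU.1 (Subgroup.zpowers_le.2 hu hv))))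
      (Subgroup.mem_zpowers v)
  have h1 : P' ≤ ⊥ := by
    rw [← hfix]
    exact le_inf hP'σ (Subgroup.le_centralizer_iff.1 hUC)
  have hc := P.card_eq_multiplicity
  rw [← Subgroup.card_map_of_injective (f := (Cfsg.sigmaCore M).subtype) (Subgroup.subtype_injective _)
    (K := (P : Subgroup (Cfsg.sigmaCore M))), ← hP', le_bot_iff.1 h1, Subgroup.card_bot] at hc
  exact (Nat.one_lt_pow (hr.factorization_pos_of_dvd Nat.card_pos.ne' hd).ne' hr.one_lt).ne hc

/-- Reduction of the TI property of `F(M)` to elements of prime order of `M_σ`. -/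
theorem fittingOf_ti_of (hG : Cfsg.IsMinSimpleOddOrder G) (hM : IsCoatom M)
    (h : ∀ r : ℕ, r.Prime → r ∈ Cfsg.sigma M → ∀ x ∈ Cfsg.fittingOf M, orderOf x = r →
      ∀ g : G, g * x * g⁻¹ ∈ Cfsg.fittingOf M → g ∈ M) :
    Cfsg.IsTISubset (Cfsg.fittingOf M : Set G) := by
  classical
  intro g hg x hx hgx
  by_contra hx1
  have hgM : g ∉ M := fun hgM => hg (le_normalizer_fittingOf M hgM)
  obtain ⟨r, z, hr, hz, hzo⟩ := exists_prime_power_elem hx1
  have hzF : z ∈ Cfsg.fittingOf M := Subgroup.zpowers_le.2 hx hz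
  obtain ⟨i, hi⟩ := Subgroup.mem_zpowers_iff.1 hz
  have hgz : g * z * g⁻¹ ∈ Cfsg.fittingOf M := by
    rw [← hi, ← conj_zpow]; exact zpow_mem hgx i
  by_cases hrσ : r ∈ Cfsg.sigma M
  · exact hgM (h r hr hrσ z hzF hzo g hgz)
  obtain ⟨y, hy, hy1⟩ : ∃ y ∈ Cfsg.sigmaCore M, y ≠ 1 := by
    obtain ⟨y, hy⟩ := (Subgroup.ne_bot_iff_exists_ne_one).1 (sigmaCore_ne_bot hG hM)
    exact ⟨y, y.2, fun e => hy (Subtype.ext e)⟩
  have key : ∀ w ∈ Cfsg.fittingOf M, orderOf w = r → Subgroup.centralizer ({w} : Set G) ≤ M ∧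
      ∀ L : Subgroup G, IsCoatom L → Subgroup.centralizer ({w} : Set G) ≤ L → L = M := fun w hw hwo => by
    have hwO : w ∈ fittingPrimePart M := by
      refine le_piCoreOf (π := {q | q.Prime ∧ q ∉ Cfsg.sigma M}) (opOf_le_fittingOf hr M) ((fittingOf_le M).trans (le_normalizer_piCoreOf _ M))
        (fun l hl hd => ⟨hl, (isPi_piCoreOf _ M l hl hd : l = r) ▸ hrσ⟩) ?_
      exact mem_opOf_of_mem_fittingOf hr hw (k := 1) (by rw [pow_one, ← hwo, pow_orderOf_eq_one])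
    have hwM := fittingOf_le M hw
    have hr2 := fittingPrimePart_tau2 hG hM hr (hwo ▸ Subgroup.orderOf_dvd_natCard _ hwO)
    obtain ⟨E, hE⟩ := exists_compl hG hM
    exact tau2_element_uniq hG hM hE hwM (zpowers_line hr hwo).2.2
      (fun l hl hld => by rw [hwo] at hld; exact (Nat.prime_dvd_prime_iff_eq hl hr).1 hld ▸ hr2)
      ⟨hwM, y, hy, hy1, ((commute_of_mem_centralizer hy (fittingPrimePart_centralizes M hwO)).symm).eq⟩
  obtain ⟨hC, -⟩ := key z hzF hzo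
  obtain ⟨-, hu'⟩ := key (g * z * g⁻¹) hgz (by
    rw [show orderOf (g * z * g⁻¹) = orderOf z from
      orderOf_injective (MulAut.conj g).toMonoidHom (MulAut.conj g).injective z, hzo])
  refine hgM ((conj_smul_self_iff hG hM).1 (hu' _ (isCoatom_conj hM g) ?_))
  rw [conj_centralizer_elem]
  exact conj_le_conj.2 hC

/-- An element with a `β`-prime order in two conjugates of `M_σ`. -/
theorem mem_of_conj_beta (hG : Cfsg.IsMinSimpleOddOrder G) (hM : IsCoatom M) (hr : r.Prime)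
    (hβ : r ∈ Cfsg.beta M) {x g : G} (hx : x ∈ M) (hgx : g * x * g⁻¹ ∈ Cfsg.sigmaCore M) (hxo : orderOf x = r) :
    g ∈ M := by
  by_contra hg
  obtain ⟨E, hE⟩ := exists_compl hG hM
  obtain ⟨-, hb, -⟩ := (Cfsg.Agent.S1426.result hG M hM E hE).2.2 g hg
  refine hb r hr ?_ hβ
  rw [← hxo, ← show orderOf (g * x * g⁻¹) = orderOf x from
    orderOf_injective (MulAut.conj g).toMonoidHom (MulAut.conj g).injective x]
  exact Subgroup.orderOf_dvd_natCard (Cfsg.sigmaCore M ⊓ M.map (MulAut.conj g).toMonoidHom)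
    ⟨hgx, x, hx, rfl⟩

/-- BG 15: in type `P₂`, `F(M)` is TI. -/
theorem fitting_ti_of_U_ne_bot (hG : Cfsg.IsMinSimpleOddOrder G) (hM : IsCoatom M)
    (hKU : Cfsg.IsSigmaDecomposition M K U) (hK1 : K ≠ ⊥) (hU : U ≠ ⊥) :
    Cfsg.IsTISubset (Cfsg.fittingOf M : Set G) ∧ Cfsg.sigmaCore M ≤ Cfsg.fittingOf M := by
  have h := kappaData_of_decomposition hG hM hKU hK1
  refine ⟨fittingOf_ti_of hG hM fun r hr hrσ x hx hxo g hgx => ?_,
    le_fittingOf_of_le_normalizer (piCoreOf_le _ M) (le_normalizer_piCoreOf _ M) (h.U_action hU).2⟩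
  have hxM := fittingOf_le M hx
  have hgσ : g * x * g⁻¹ ∈ Cfsg.sigmaCore M := sigma_mem_of_elem hG hM hr hrσ (fittingOf_le M hgx) (k := 1)
    (by rw [pow_one, conj_pow, ← hxo, pow_orderOf_eq_one, mul_one, mul_inv_cancel])
  refine mem_of_conj_beta hG hM hr (h.beta_of_U_ne_bot hKU hU hr ?_) hxM hgσ hxo
  exact hxo ▸ Subgroup.orderOf_dvd_natCard _
    (sigma_mem_of_elem hG hM hr hrσ hxM (k := 1) (by rw [pow_one, ← hxo, pow_orderOf_eq_one]))

end CfsgLib.OddLocal
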