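import Cfsg.Agent.Lib.OddLocal.FittingStructure
import Cfsg.Agent.Lib.BG.Basic

/-!
BG 15.2 (a)-(e): `1 < M_F ≤ M_σ ≤ M' < M`, `M'' ≤ F(M)`.
-/

set_option autoImplicit false
set_option linter.style.haveILetI false
set_option linter.unusedSectionVars false

open scoped commutatorElement
open scoped Pointwise

namespace CfsgLib.OddLocal

open CfsgLib.Coprime
open CfsgLib.BG.FixedLine (conj_mem_of_le_normalizer mem_normalizer_of_conj)

universe u

variable {G : Type u} [Group G] [Finite G] {p q r : ℕ} {M E U K X : Subgroup G}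

theorem nilpotent_of_comm {H : Type*} [Group H] (h : IsMulCommutative H) : Group.IsNilpotent H := by
  haveI := h
  letI : CommGroup H := { (inferInstance : Group H) with mul_comm := mul_comm' }
  exact CommGroup.isNilpotent

/-- The partner attached to a non-nilpotent `M_σ`. -/
theorem exists_partner_of_not_nilpotent (hG : Cfsg.IsMinSimpleOddOrder G) (hM : IsCoatom M)
    (hKU : Cfsg.IsSigmaDecomposition M K U) (hnil : ¬ Group.IsNilpotent (Cfsg.sigmaCore M)) :
    K ≠ ⊥ ∧ U = ⊥ ∧ ∃ Ms Es Us : Subgroup G, Partner M K (U ⊔ K) U Ms Es Us := by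
  have hK1 : K ≠ ⊥ := fun e => hnil (nilpotent_of_kappa_empty hG hM (Set.eq_empty_iff_forall_notMem.2 fun l hl => by
    refine hKU.hall.2.2 l hl.1 hl ?_
    rw [e, Subgroup.relIndex_bot_left]
    exact hl.2.1))
  have h := kappaData_of_decomposition hG hM hKU hK1
  obtain ⟨Ms, Es, Us, hp⟩ := exists_partner h
  exact ⟨hK1, by_contra fun hU => hnil (h.U_action hU).2, Ms, Es, Us, hp⟩

theorem exists_sigmaDecomposition (hG : Cfsg.IsMinSimpleOddOrder G) (hM : IsCoatom M) :
    ∃ K U : Subgroup G, Cfsg.IsSigmaDecomposition M K U := by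
  obtain ⟨K, hK⟩ := exists_hall_kappa hG hM
  obtain ⟨U, hU⟩ := exists_decomposition hG hM hK
  exact ⟨K, U, hU⟩

theorem fittingHall_eq_core (hG : Cfsg.IsMinSimpleOddOrder G) (hM : IsCoatom M)
    (hnil : Group.IsNilpotent (Cfsg.sigmaCore M)) :
    Cfsg.fittingHall ↥M = Cfsg.piCore (Cfsg.sigma M) ↥M :=
  Subgroup.map_injective M.subtype_injective (fittingHallOf_eq_sigmaCore hG hM hnil)

theorem derived_lt (hG : Cfsg.IsMinSimpleOddOrder G) (hM : IsCoatom M) : ⁅M, M⁆ < M := by
  haveI := isSolvable_of_ne_top hG hM.1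
  haveI : Nontrivial M := (Subgroup.nontrivial_iff_ne_bot M).2 (coatom_ne_bot hG hM)
  have h := Group.IsSolvable.commutator_lt_top_of_nontrivial M
  rw [← CfsgLib.BG.map_commutator_subtype]
  refine lt_of_le_of_ne (Subgroup.map_subtype_le _) fun e => h.ne ?_
  apply Subgroup.map_injective M.subtype_injective
  rw [e, ← MonoidHom.range_eq_map, Subgroup.range_subtype]

theorem derived_eq_core (hG : Cfsg.IsMinSimpleOddOrder G) (hM : IsCoatom M)
    (hKU : Cfsg.IsSigmaDecomposition M K U) (hK1 : K ≠ ⊥) (hU : U = ⊥) : ⁅M, M⁆ = Cfsg.sigmaCore M := by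
  rw [derived_eq hG hM hKU hK1, hU, bot_sup_eq]

/-- The image of `M'` modulo `M_σ` is abelian. -/
theorem derived_map_comm (hG : Cfsg.IsMinSimpleOddOrder G) (hM : IsCoatom M) :
    haveI : (Cfsg.piCore (Cfsg.sigma M) ↥M).Normal := Subgroup.sSup_normal _ (fun _ h => h.1)
    IsMulCommutative ↥((commutator ↥M).map (QuotientGroup.mk' (Cfsg.piCore (Cfsg.sigma M) ↥M))) := by
  haveI : (Cfsg.piCore (Cfsg.sigma M) ↥M).Normal := Subgroup.sSup_normal _ (fun _ h => h.1)
  obtain ⟨E, hE⟩ := exists_compl hG hM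
  set W := Cfsg.piCore (Cfsg.sigma M) ↥M with hW
  set π := QuotientGroup.mk' W with hπ
  set E' := E.subgroupOf M with hE'
  have htop : E'.map π = ⊤ := top_unique fun x _ => by
    obtain ⟨m, rfl⟩ := QuotientGroup.mk'_surjective W x
    obtain ⟨a, ha, k, hk, he⟩ := hE.2.2.2 m m.2
    obtain ⟨k', hk', rfl⟩ := hk
    refine ⟨⟨a, hE.1 ha⟩, ha, ?_⟩
    rw [show m = ⟨a, hE.1 ha⟩ * k' from Subtype.ext he, map_mul,
      show π k' = 1 from (QuotientGroup.eq_one_iff k').2 hk', mul_one]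
  haveI hc : IsMulCommutative ↥⁅E', E'⁆ := by
    haveI := (Cfsg.Agent.S1420.result hG M hM E hE).2.1
    refine ⟨⟨fun a b => Subtype.ext (Subtype.ext ?_)⟩⟩
    have hm : ∀ c : ↥⁅E', E'⁆, ((c : M) : G) ∈ ⁅E, E⁆ := fun c => by
      have := Subgroup.mem_map_of_mem M.subtype c.2
      rw [Subgroup.map_commutator,
        show E'.map M.subtype = E from Subgroup.map_subgroupOf_eq_of_le hE.1] at this
      exact this
    have e := congrArg Subtype.val (mul_comm' (⟨_, hm a⟩ : ↥⁅E, E⁆) ⟨_, hm b⟩)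
    exact e
  have heq : (commutator ↥M).map π = (⁅E', E'⁆).map π := by
    rw [commutator_def, Subgroup.map_commutator, Subgroup.map_commutator, htop,
      Subgroup.map_top_of_surjective π (QuotientGroup.mk'_surjective W)]
  rw [heq]
  exact Subgroup.map_isMulCommutative _ π

theorem derived_quotient_nilpotent (hG : Cfsg.IsMinSimpleOddOrder G) (hM : IsCoatom M) :
    Group.IsNilpotent ↥((commutator ↥M).map (QuotientGroup.mk' (Cfsg.fittingHall ↥M))) := by
  classical
  haveI : (Cfsg.piCore (Cfsg.sigma M) ↥M).Normal := Subgroup.sSup_normal _ (fun _ h => h.1)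
  by_cases hnil : Group.IsNilpotent (Cfsg.sigmaCore M)
  · have h1 := derived_map_comm hG hM
    have h2 : Group.IsNilpotent ↥((commutator ↥M).map (QuotientGroup.mk' (Cfsg.piCore (Cfsg.sigma M) ↥M))) :=
      nilpotent_of_comm h1
    have key : ∀ N : Subgroup M, ∀ [N.Normal], N = Cfsg.piCore (Cfsg.sigma M) ↥M →
        Group.IsNilpotent ↥((commutator ↥M).map (QuotientGroup.mk' N)) := fun N _ e => by
      subst e; exact h2
    exact key _ (fittingHall_eq_core hG hM hnil)
  · obtain ⟨K, U, hKU⟩ := exists_sigmaDecomposition hG hM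
    obtain ⟨hK1, hU, Ms, Es, Us, hp⟩ := exists_partner_of_not_nilpotent hG hM hKU hnil
    have hd : commutator ↥M = Cfsg.piCore (Cfsg.sigma M) ↥M := Subgroup.map_injective M.subtype_injective
      ((CfsgLib.BG.map_commutator_subtype M).trans (derived_eq_core hG hM hKU hK1 hU))
    rw [hd]
    exact hp.data.quotient_nilpotent _ fun v hv => by
      obtain ⟨w, hw, he⟩ := hp.star_le_fittingHallOf.1 hv
      rwa [show v = w from M.subtype_injective he.symm]

theorem fittingHallOf_ne_bot (hG : Cfsg.IsMinSimpleOddOrder G) (hM : IsCoatom M) : Cfsg.fittingHallOf M ≠ ⊥ := by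
  by_cases hnil : Group.IsNilpotent (Cfsg.sigmaCore M)
  · rw [fittingHallOf_eq_sigmaCore hG hM hnil]
    exact sigmaCore_ne_bot hG hM
  · obtain ⟨K, U, hKU⟩ := exists_sigmaDecomposition hG hM
    obtain ⟨-, -, Ms, Es, Us, hp⟩ := exists_partner_of_not_nilpotent hG hM hKU hnil
    exact fun e => hp.data.fixed_ne (le_bot_iff.1 (e ▸ hp.star_le_fittingHallOf.1))

theorem nilpotent_sup_of_commute {A B : Subgroup G} (hA : Group.IsNilpotent A) (hB : Group.IsNilpotent B)
    (h : A ≤ Subgroup.centralizer (B : Set G)) : Group.IsNilpotent ↥(A ⊔ B) := by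
  haveI := hA
  haveI := hB
  refine Group.nilpotent_of_surjective (MonoidHom.noncommCoprod (Subgroup.inclusion le_sup_left)
    (Subgroup.inclusion (le_sup_right : B ≤ A ⊔ B)) fun a b => Subtype.ext
      ((commute_of_mem_centralizer b.2 (h a.2)).eq.symm)) fun w => ?_
  have hw := w.2
  rw [← SetLike.mem_coe, Subgroup.coe_mul_of_left_le_normalizer_right A B
    (h.trans (Subgroup.centralizer_le_normalizer _))] at hw
  obtain ⟨a, ha, b, hb, he⟩ := Set.mem_mul.1 hw
  exact ⟨(⟨a, ha⟩, ⟨b, hb⟩), Subtype.ext he⟩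

theorem second_derived_le (hG : Cfsg.IsMinSimpleOddOrder G) (hM : IsCoatom M) :
    ⁅⁅M, M⁆, ⁅M, M⁆⁆ ≤ Cfsg.fittingOf M := by
  classical
  haveI : (Cfsg.piCore (Cfsg.sigma M) ↥M).Normal := Subgroup.sSup_normal _ (fun _ h => h.1)
  by_cases hnil : Group.IsNilpotent (Cfsg.sigmaCore M)
  · refine le_trans ?_ (le_fittingOf_of_le_normalizer (piCoreOf_le _ M) (le_normalizer_piCoreOf _ M) hnil)
    haveI := derived_map_comm hG hM
    set π := QuotientGroup.mk' (Cfsg.piCore (Cfsg.sigma M) ↥M) with hπ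
    have h1 : ⁅commutator ↥M, commutator ↥M⁆ ≤ Cfsg.piCore (Cfsg.sigma M) ↥M :=
      Subgroup.commutator_le.2 fun a ha b hb => (QuotientGroup.eq_one_iff _).1 (by
        show π ⁅a, b⁆ = 1
        rw [map_commutatorElement, commutatorElement_eq_one_iff_mul_comm]
        exact congrArg Subtype.val (mul_comm' (⟨π a, Subgroup.mem_map_of_mem _ ha⟩ : ↥((commutator ↥M).map π))
          ⟨π b, Subgroup.mem_map_of_mem _ hb⟩))
    have h2 := Subgroup.map_mono (f := M.subtype) h1
    rw [Subgroup.map_commutator, CfsgLib.BG.map_commutator_subtype] at h2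
    exact h2
  · obtain ⟨K, U, hKU⟩ := exists_sigmaDecomposition hG hM
    obtain ⟨hK1, hU, Ms, Es, Us, hp⟩ := exists_partner_of_not_nilpotent hG hM hKU hnil
    obtain ⟨-, -, q, Q, hq, -, -, -, hQσ, -, hMQ, hQp, -, hQrel, hall⟩ := hp.fitting_structure hnil
    haveI := Fact.mk hq
    haveI : (Q.subgroupOf (Cfsg.sigmaCore M)).Normal :=
      (Subgroup.normal_subgroupOf_iff_le_normalizer hQσ).2 ((piCoreOf_le _ M).trans hMQ)
    obtain ⟨Dc, hDc⟩ := Subgroup.exists_right_complement'_of_coprime (N := Q.subgroupOf (Cfsg.sigmaCore M)) (by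
      rw [Nat.card_congr (Subgroup.subgroupOfEquivOfLe hQσ).toEquiv]
      obtain ⟨n, hn⟩ := hQp.exists_card_eq
      rw [hn]
      exact (hq.coprime_iff_not_dvd.2 hQrel).pow_left n)
    set D := Dc.map (Cfsg.sigmaCore M).subtype with hD
    have hDc' : Cfsg.IsComplIn Q D (Cfsg.sigmaCore M) := by
      refine ⟨hQσ, Subgroup.map_subtype_le _, (Subgroup.eq_bot_iff_forall _).2 fun x hx => ?_, fun x hx => ?_⟩
      · obtain ⟨hxQ, w, hw, rfl⟩ := hx
        have : w ∈ Q.subgroupOf (Cfsg.sigmaCore M) ⊓ Dc := ⟨hxQ, hw⟩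
        rw [hDc.disjoint.eq_bot, Subgroup.mem_bot] at this
        rw [this, map_one]
      · obtain ⟨⟨a, b⟩, hab⟩ := hDc.2 ⟨x, hx⟩
        exact ⟨((a : ↥(Cfsg.sigmaCore M)) : G), a.2, ((b : ↥(Cfsg.sigmaCore M)) : G),
          Subgroup.mem_map_of_mem _ b.2, (congrArg Subtype.val hab).symm⟩
    obtain ⟨hDn, -, -, -, -, hDD, -⟩ := hall D hDc'
    rw [derived_eq_core hG hM hKU hK1 hU]
    have hder : ⁅Cfsg.sigmaCore M, Cfsg.sigmaCore M⁆ ≤ Q ⊔ ⁅D, D⁆ := Subgroup.commutator_le.2 fun x hx x' hx' => by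
      obtain ⟨a, ha, d, hd, rfl⟩ := hDc'.2.2.2 x hx
      obtain ⟨a', ha', d', hd', rfl⟩ := hDc'.2.2.2 x' hx'
      set S := Cfsg.sigmaCore M
      set π := QuotientGroup.mk' (Q.subgroupOf S) with hπ
      have hQ1 : ∀ c (hc : c ∈ Q), π ⟨c, hQσ hc⟩ = 1 := fun c hc => (QuotientGroup.eq_one_iff _).2 hc
      have hdS := hDc'.2.1 hd
      have hdS' := hDc'.2.1 hd'
      have h1 : π (⁅(⟨a, hQσ ha⟩ : S) * ⟨d, hdS⟩, ⟨a', hQσ ha'⟩ * ⟨d', hdS'⟩⁆ *
          ⁅(⟨d, hdS⟩ : S), ⟨d', hdS'⟩⁆⁻¹) = 1 := by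
        rw [map_mul, map_inv, map_commutatorElement, map_commutatorElement, map_mul, map_mul, hQ1 a ha,
          hQ1 a' ha', one_mul, one_mul, mul_inv_cancel]
      have h2 : ⁅a * d, a' * d'⁆ * ⁅d, d'⁆⁻¹ ∈ Q := by
        have h3 := (QuotientGroup.eq_one_iff _).1 h1
        simpa [Subgroup.mem_subgroupOf, commutatorElement_def] using h3
      rw [show ⁅a * d, a' * d'⁆ = (⁅a * d, a' * d'⁆ * ⁅d, d'⁆⁻¹) * ⁅d, d'⁆ by group]
      exact Subgroup.mul_mem _ (Subgroup.mem_sup_left h2)
        (Subgroup.mem_sup_right (Subgroup.commutator_mem_commutator hd hd'))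
    have hDD' : ⁅D, D⁆ ≤ D := Subgroup.commutator_le.2 fun x hx x' hx' => by
      rw [commutatorElement_def]
      exact D.mul_mem (D.mul_mem (D.mul_mem hx hx') (D.inv_mem hx)) (D.inv_mem hx')
    haveI := hDn
    haveI hn : Group.IsNilpotent ↥(Q ⊔ ⁅D, D⁆) := nilpotent_sup_of_commute hQp.isNilpotent
      (Group.nilpotent_of_mulEquiv (_h := Subgroup.isNilpotent _) (Subgroup.subgroupOfEquivOfLe hDD'))
      (Subgroup.le_centralizer_iff.1 hDD)
    refine le_fittingOf_of_le_normalizer (Subgroup.commutator_le.2 fun x hx x' hx' => by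
      rw [commutatorElement_def]
      exact M.mul_mem (M.mul_mem (M.mul_mem (piCoreOf_le _ M hx) (piCoreOf_le _ M hx'))
        (M.inv_mem (piCoreOf_le _ M hx))) (M.inv_mem (piCoreOf_le _ M hx'))) ?_
      (Group.nilpotent_of_mulEquiv (_h := Subgroup.isNilpotent _) (Subgroup.subgroupOfEquivOfLe hder))
    exact le_normalizer_commutator (le_normalizer_piCoreOf _ M) (le_normalizer_piCoreOf _ M)

theorem not_kappa_of_centralizes (hG : Cfsg.IsMinSimpleOddOrder G) (hM : IsCoatom M) {l : ℕ}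
    (hκ : l ∈ Cfsg.kappa M) {b : G} (hbM : b ∈ M) (hbo : orderOf b = l)
    (hb : b ∈ Subgroup.centralizer (Cfsg.sigmaCore M : Set G)) : False := by
  classical
  have hl := hκ.1
  obtain ⟨K, U, hKU⟩ := exists_sigmaDecomposition hG hM
  have hK1 : K ≠ ⊥ := fun e => hKU.hall.2.2 l hl hκ (by rw [e, Subgroup.relIndex_bot_left]; exact hκ.2.1)
  have h := kappaData_of_decomposition hG hM hKU hK1
  haveI := isSolvable_of_ne_top hG hM.1
  obtain ⟨m, hm, hmK⟩ := exists_conj_le_hallOf hKU.hall (Subgroup.zpowers_le.2 hbM) fun t ht htd => by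
    rw [Nat.card_zpowers, hbo] at htd
    exact (Nat.prime_dvd_prime_iff_eq ht hl).1 htd ▸ hκ
  have hmb : m * b * m⁻¹ ∈ K := hmK (mem_sigmaCore_conj_iff.2 (Subgroup.mem_zpowers b))
  have hmb1 : m * b * m⁻¹ ≠ 1 := fun e => (zpowers_line hl hbo).2.2 (conj_eq_one_iff.1 e)
  have hle : Cfsg.sigmaCore M ≤ Cfsg.sigmaCore M ⊓ Subgroup.centralizer (K : Set G) := by
    rw [← h.action _ hmb hmb1]
    refine le_inf le_rfl fun w hw => mem_centralizer_singleton_of_commute (show Commute _ w from ?_)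
    have h1 := commute_of_mem_centralizer
      (conj_mem_of_le_normalizer (le_normalizer_piCoreOf _ M (M.inv_mem hm)) w hw) hb
    rw [inv_inv] at h1
    show _ = _
    calc m * b * m⁻¹ * w = m * (b * (m⁻¹ * w * m)) * m⁻¹ := by group
      _ = m * (m⁻¹ * w * m * b) * m⁻¹ := by rw [h1.eq]
      _ = _ := by group
  obtain ⟨q, z, hq, hz, hzo⟩ := h.exists_star_prime
  haveI := Fact.mk hq
  have hqσ := sigma_of_mem_core hq hz.1 hzo
  obtain ⟨P⟩ : Nonempty (Sylow q M) := inferInstance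
  obtain ⟨T, hT⟩ := exists_sylow_map_eq hqσ P
  have hTM : (T : Subgroup G) ≤ M := hT.le.trans (Subgroup.map_subtype_le _)
  exact h.not_sylow_le_star hz hzo T hTM ((le_sigmaCore_of_isPGroup hG hM hq hqσ hTM T.2).trans hle)

/-- `F(M) = C_M(M_F) M_F`. -/
theorem fittingOf_eq_centralizer_sup (hG : Cfsg.IsMinSimpleOddOrder G) (hM : IsCoatom M) :
    Cfsg.fittingOf M = (M ⊓ Subgroup.centralizer (Cfsg.fittingHallOf M : Set G)) ⊔ Cfsg.fittingHallOf M := by
  classical
  set F := Cfsg.fittingHallOf M with hF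
  set C := M ⊓ Subgroup.centralizer (F : Set G) with hC
  have hFM : F ≤ M := Subgroup.map_subtype_le _
  have hFσ : F ≤ Cfsg.sigmaCore M := fittingHallOf_le_sigmaCore hG hM
  haveI hFn : (Cfsg.fittingHall ↥M).Normal := Cfsg.fittingHall_normal M
  have hMF : M ≤ Subgroup.normalizer (F : Set G) := fun m hm => mem_normalizer_of_conj fun x hx => by
    obtain ⟨w, hw, rfl⟩ := hx
    exact ⟨_, hFn.conj_mem w hw ⟨m, hm⟩, rfl⟩
  have hMC : M ≤ Subgroup.normalizer (C : Set G) :=
    le_normalizer_inf_of_le Subgroup.le_normalizer (le_normalizer_centralizer hMF)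
  refine le_antisymm (fittingOf_le_of fun r hr => ?_) (sup_le ?_ ?_)
  · haveI := Fact.mk hr
    by_cases hrF : r ∣ Nat.card F
    · obtain ⟨x, hx, hxo⟩ := exists_order_of_dvd hr hrF
      -- the Sylow subgroup of `M` lies in `M_F`
      intro w hw
      refine Subgroup.mem_sup_right ?_
      obtain ⟨k, hk⟩ := isPGroup_opOf hr M ⟨w, hw⟩
      have hk' : w ^ r ^ k = 1 := by simpa using congrArg Subtype.val hk
      have hwM : w ∈ M := piCoreOf_le _ M hw
      refine ⟨⟨w, hwM⟩, ?_, rfl⟩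
      have hcop : (Nat.card (Subgroup.zpowers (⟨w, hwM⟩ : M))).Coprime (Cfsg.fittingHall ↥M).index :=
        Nat.coprime_of_dvd fun l hl h1 h2 => by
          rw [Nat.card_zpowers, Subgroup.orderOf_mk] at h1
          obtain rfl := prime_dvd_of_primary hl hr hk' h1
          refine absurd h2 ?_
          exact fun h3 => Nat.not_coprime_of_dvd_of_dvd hl.one_lt (by
            rwa [show F = (Cfsg.fittingHall ↥M).map M.subtype from rfl, Subgroup.card_subtype] at hrF) h3 fittingHall_coprime_index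
      exact le_of_coprime_index hcop (Subgroup.mem_zpowers _)
    · refine le_trans (le_inf (piCoreOf_le _ M) ?_) le_sup_left
      refine commute_of_disjoint ((piCoreOf_le _ M).trans hMF) (hFM.trans (le_normalizer_piCoreOf _ M))
        (isPi_piCoreOf _ M) (ρ := {l | l ∣ Nat.card F}) (fun l _ hld => hld) (Set.disjoint_left.2 fun l h1 h2 => ?_)
      rw [Set.mem_singleton_iff] at h1
      exact hrF (h1 ▸ h2)
  · haveI := isSolvable_of_ne_top hG hM.1
    by_cases hnil : Group.IsNilpotent (Cfsg.sigmaCore M)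
    · have hFe : F = Cfsg.sigmaCore M := fittingHallOf_eq_sigmaCore hG hM hnil
      obtain ⟨E, hE⟩ := exists_compl hG hM
      obtain ⟨y, hy, hy1⟩ : ∃ y ∈ Cfsg.sigmaCore M, y ≠ 1 := by
        obtain ⟨y, hy⟩ := (Subgroup.ne_bot_iff_exists_ne_one).1 (sigmaCore_ne_bot hG hM)
        exact ⟨y, y.2, fun e => hy (Subtype.ext e)⟩
      set D := E ⊓ Subgroup.centralizer (Cfsg.sigmaCore M : Set G) with hD
      have hDτ : IsPi (Cfsg.tau2 M) D := fun l hl hld => by
        obtain ⟨b, hb, hbo⟩ := exists_order_of_dvd hl hld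
        have hlσ := not_sigma_of_dvd_compl hG hM hE hl (hld.trans (Subgroup.card_dvd_of_le inf_le_left))
        exact (tau2_of_fixed hG hM (hE.1 hb.1) hy hy1 (commute_of_mem_centralizer hy hb.2).symm hl (hbo ▸ dvd_rfl)
          hlσ fun hκ => not_kappa_of_centralizes hG hM hκ (hE.1 hb.1) hbo hb.2).1
      haveI hDc : IsMulCommutative D := tau2_isMulCommutative hG hM hE inf_le_left hDτ
      set A := Cfsg.sigmaCore M ⊓ Subgroup.centralizer (Cfsg.sigmaCore M : Set G) with hA
      have hMD : M ≤ Subgroup.normalizer (D : Set G) := fun m hm => by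
        obtain ⟨e, he, k, hk, rfl⟩ := hE.2.2.2 m hm
        refine mul_mem ?_ ?_
        · exact le_normalizer_inf_of_le Subgroup.le_normalizer
            (le_normalizer_centralizer (hE.1.trans (le_normalizer_piCoreOf _ M))) he
        · exact Subgroup.centralizer_le_normalizer _ (Subgroup.le_centralizer_iff.1 inf_le_right hk)
      haveI hAc : IsMulCommutative A :=
        ⟨⟨fun a b => Subtype.ext (commute_of_mem_centralizer a.2.1 b.2.2).eq⟩⟩
      have hAD : A ≤ Subgroup.centralizer (D : Set G) :=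
        inf_le_left.trans (Subgroup.le_centralizer_iff.1 inf_le_right)
      haveI hn : Group.IsNilpotent ↥(A ⊔ D) :=
        nilpotent_sup_of_commute (nilpotent_of_comm hAc) (nilpotent_of_comm hDc) hAD
      have hCle : C ≤ A ⊔ D := fun c hc => mem_of_primary fun l hl hld v hv ⟨k, hk⟩ => by
        have hvC : v ∈ C := Subgroup.zpowers_le.2 hc hv
        by_cases hlσ : l ∈ Cfsg.sigma M
        · exact Subgroup.mem_sup_left ⟨sigma_mem_of_elem hG hM hl hlσ hvC.1 hk, hFe ▸ hvC.2⟩
        · obtain ⟨m, hm, hmE⟩ := exists_conj_le_compl hG hM hE (Subgroup.zpowers_le.2 hvC.1) fun t ht htd => by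
            rw [Nat.card_zpowers] at htd
            exact prime_dvd_of_primary ht hl hk htd ▸ hlσ
          have h1 : m * v * m⁻¹ ∈ D := ⟨hmE (mem_sigmaCore_conj_iff.2 (Subgroup.mem_zpowers v)), by
            have := (conj_mem_of_le_normalizer (hMC hm) v hvC).2
            rwa [hFe] at this⟩
          have h2 := conj_mem_of_le_normalizer (hMD (M.inv_mem hm)) _ h1
          rw [inv_inv, show m⁻¹ * (m * v * m⁻¹) * m = v by group] at h2
          exact Subgroup.mem_sup_right h2
      exact le_fittingOf_of_le_normalizer inf_le_left hMC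
        (Group.nilpotent_of_mulEquiv (_h := Subgroup.isNilpotent _) (Subgroup.subgroupOfEquivOfLe hCle))
    · obtain ⟨K, U, hKU⟩ := exists_sigmaDecomposition hG hM
      obtain ⟨hK1, hU, Ms, Es, Us, hp⟩ := exists_partner_of_not_nilpotent hG hM hKU hnil
      obtain ⟨-, -, q, Q, hq, -, -, hQF, hQσ, hSQ, hMQ, hQp, hmem, -, -⟩ := hp.fitting_structure hnil
      haveI := Fact.mk hq
      have hCσ : C ≤ Cfsg.sigmaCore M := fun c hc => mem_of_primary fun l hl hld v hv ⟨k, hk⟩ => by
        have hvC : v ∈ C := Subgroup.zpowers_le.2 hc hv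
        by_cases hv1 : v = 1
        · rw [hv1]; exact one_mem _
        by_cases hlσ : l ∈ Cfsg.sigma M
        · exact sigma_mem_of_elem hG hM hl hlσ hvC.1 hk
        exfalso
        obtain ⟨b, hb, hbo⟩ := exists_line_pow hl hk hv1
        have hbM : b ∈ M := Subgroup.zpowers_le.2 hvC.1 hb
        have hlκ : l ∈ Cfsg.kappa M := by
          by_contra hlκ
          refine ((hp.data.hallU.2.2 l hl ⟨hl, hlκ, hlσ⟩) ?_)
          rw [hU, Subgroup.relIndex_bot_left]
          exact hbo ▸ Subgroup.orderOf_dvd_natCard M hbM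
        obtain ⟨m, hm, hmK⟩ := exists_conj_le_hallOf hKU.hall (Subgroup.zpowers_le.2 hbM) fun t ht htd => by
          rw [Nat.card_zpowers, hbo] at htd
          exact (Nat.prime_dvd_prime_iff_eq ht hl).1 htd ▸ hlκ
        have hmb : m * b * m⁻¹ ∈ K := hmK (mem_sigmaCore_conj_iff.2 (Subgroup.mem_zpowers b))
        have hmb1 : m * b * m⁻¹ ≠ 1 := fun e => (zpowers_line hl hbo).2.2 (conj_eq_one_iff.1 e)
        have hmbC : m * b * m⁻¹ ∈ C := conj_mem_of_le_normalizer (hMC hm) b (Subgroup.zpowers_le.2 hvC hb)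
        have hQS : Q ≤ Cfsg.sigmaCore M ⊓ Subgroup.centralizer (K : Set G) := by
          rw [← hp.data.action _ hmb hmb1]
          exact le_inf hQσ fun w hw => mem_centralizer_singleton_of_commute
            (commute_of_mem_centralizer (hQF hw) hmbC.2).symm
        obtain ⟨q', z, hq', hz, hzo⟩ := hp.data.exists_star_prime
        obtain rfl : q = q' := by
          obtain ⟨n, hn⟩ := hQp ⟨z, hSQ hz⟩
          exact (prime_dvd_of_primary hq' hq (k := n) (by simpa using congrArg Subtype.val hn) hzo.symm.dvd).symm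
        have hqσ := sigma_of_mem_core hq hz.1 hzo
        obtain ⟨P⟩ : Nonempty (Sylow q M) := inferInstance
        obtain ⟨T, hT⟩ := exists_sylow_map_eq hqσ P
        have hTM : (T : Subgroup G) ≤ M := hT.le.trans (Subgroup.map_subtype_le _)
        refine hp.data.not_sylow_le_star hz hzo T hTM (fun w hw => hQS ?_)
        obtain ⟨i, hi⟩ := T.2 ⟨w, hw⟩
        exact hmem w (hTM hw) i (by simpa using congrArg Subtype.val hi)
      set C' := C.subgroupOf M with hC'
      set π := QuotientGroup.mk' (Cfsg.fittingHall ↥M) with hπ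
      haveI := hp.data.quotient_nilpotent (Cfsg.fittingHall ↥M) fun v hv => by
        obtain ⟨w, hw, he⟩ := hp.star_le_fittingHallOf.1 hv
        rwa [show v = w from M.subtype_injective he.symm]
      have hCW : C'.map π ≤ (Cfsg.piCore (Cfsg.sigma M) ↥M).map π := Subgroup.map_mono fun c hc => by
        obtain ⟨w, hw, he⟩ := hCσ (show (c : G) ∈ C from hc)
        rwa [show c = w from M.subtype_injective he.symm]
      haveI : Group.IsNilpotent ↥(C'.map π) :=
        Group.nilpotent_of_mulEquiv (_h := Subgroup.isNilpotent _) (Subgroup.subgroupOfEquivOfLe hCW)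
      haveI : Group.IsNilpotent C' := Subgroup.isNilpotent_of_ker_le_center (π.subgroupMap C') (fun w hw => by
        refine Subgroup.mem_center_iff.2 fun v => Subtype.ext (Subtype.ext ?_)
        have h1 : π (w : M) = 1 := congrArg Subtype.val (MonoidHom.mem_ker.1 hw)
        have h2 : (w : M) ∈ π.ker := MonoidHom.mem_ker.2 h1
        rw [hπ, QuotientGroup.ker_mk'] at h2
        exact (commute_of_mem_centralizer (A := F) (a := ((w : M) : G)) ⟨_, h2, rfl⟩
          (show ((v : M) : G) ∈ C from v.2).2).eq.symm)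
      exact le_fittingOf_of_le_normalizer inf_le_left hMC
        (Group.nilpotent_of_mulEquiv (Subgroup.subgroupOfEquivOfLe (inf_le_left : C ≤ M)))
  · exact Subgroup.map_mono (sSup_le fun N hN => CfsgLib.Fitting.le_fittingSubgroup hN.1 hN.2.1)

/-- `F(M) ≤ M'` when `κ(M)` is not empty. -/
theorem fittingOf_le_derived (hG : Cfsg.IsMinSimpleOddOrder G) (hM : IsCoatom M)
    (hκ : (Cfsg.kappa M).Nonempty) : Cfsg.fittingOf M ≤ ⁅M, M⁆ := by
  obtain ⟨K, U, hKU⟩ := exists_sigmaDecomposition hG hM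
  have hK1 : K ≠ ⊥ := fun e => by
    obtain ⟨l, hl⟩ := hκ
    refine hKU.hall.2.2 l hl.1 hl ?_
    rw [e, Subgroup.relIndex_bot_left]
    exact hl.2.1
  rw [derived_eq hG hM hKU hK1, fittingOf_eq_sup hG hM]
  refine sup_le ((fittingOf_le _).trans le_sup_right) fun x hx => mem_UM_of_primes hG hM hKU
    (fittingPrimePart_le M hx) fun l hl hld hκl => ?_
  exact (fittingPrimePart_tau2 hG hM hl (hld.trans (Subgroup.orderOf_dvd_natCard _ hx))).2.2.2
    (kappa_prankLE hκl)

/-- BG 15.2 (e): `F(M)` is TI when `M_σ` is not nilpotent. -/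
theorem fitting_ti_of_not_nilpotent (hG : Cfsg.IsMinSimpleOddOrder G) (hM : IsCoatom M)
    (hnil : ¬ Group.IsNilpotent (Cfsg.sigmaCore M)) : Cfsg.IsTISubset (Cfsg.fittingOf M : Set G) := by
  classical
  obtain ⟨K, U, hKU⟩ := exists_sigmaDecomposition hG hM
  obtain ⟨hK1, hU, Ms, Es, Us, hp⟩ := exists_partner_of_not_nilpotent hG hM hKU hnil
  obtain ⟨-, -, q, Q, hq, hsc, hβ, -, hQσ, hSQ, hMQ, hQp, hmem, -, -⟩ := hp.fitting_structure hnil
  haveI := Fact.mk hq
  refine fittingOf_ti_of hG hM fun r hr hrσ x hx hxo g hgx => ?_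
  have hxM := fittingOf_le M hx
  have hgσ : g * x * g⁻¹ ∈ Cfsg.sigmaCore M := sigma_mem_of_elem hG hM hr hrσ (fittingOf_le M hgx) (k := 1)
    (by rw [pow_one, conj_pow, ← hxo, pow_orderOf_eq_one, mul_one, mul_inv_cancel])
  by_cases hrq : r = q
  · exact mem_of_conj_beta hG hM hr (hrq ▸ hβ) hxM hgσ hxo
  have hxσ : x ∈ Cfsg.sigmaCore M :=
    sigma_mem_of_elem hG hM hr hrσ hxM (k := 1) (by rw [pow_one, ← hxo, pow_orderOf_eq_one])
  have hx1 := (zpowers_line hr hxo).2.2
  have hQC : Q ≤ Subgroup.centralizer ({x} : Set G) := fun w hw => mem_centralizer_singleton_of_commute (by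
    have hwO : w ∈ opOf q M := le_piCoreOf (π := {q}) (hQσ.trans (piCoreOf_le _ M)) hMQ
      ((isPi_singleton_iff hq).2 hQp) hw
    exact commute_of_mem_centralizer (mem_opOf_of_mem_fittingOf hr hx (k := 1)
      (by rw [pow_one, ← hxo, pow_orderOf_eq_one])) (opOf_commute (Ne.symm hrq) M hwO))
  by_contra hg
  have hxg : x ∈ MulAut.conj g⁻¹ • M := by
    rw [mem_conj_smul_iff, inv_inv]; exact piCoreOf_le _ M hgσ
  by_cases hxC : Subgroup.centralizer ({x} : Set G) ≤ M
  · exact hg (inv_mem_iff.1 ((conj_smul_self_iff hG hM).1 ((exists_conj_eq hG hM hxσ hx1 hxg).1 hxC)))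
  obtain ⟨N, hN⟩ := exists_support hG hM hxσ hx1 hxC
  obtain ⟨z, hz, hzo⟩ := exists_order_of_dvd hq (dvd_of_eq hsc.symm)
  have hqσ := sigma_of_mem_core hq hz.1 hzo
  obtain ⟨P⟩ : Nonempty (Sylow q M) := inferInstance
  obtain ⟨T, hT⟩ := exists_sylow_map_eq hqσ P
  have hTM : (T : Subgroup G) ≤ M := hT.le.trans (Subgroup.map_subtype_le _)
  have hTQ : (T : Subgroup G) ≤ Q := fun w hw => by
    obtain ⟨i, hi⟩ := T.2 ⟨w, hw⟩
    exact hmem w (hTM hw) i (by simpa using congrArg Subtype.val hi)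
  have hu := (sigma_line_uniq hG hM hqσ (Subgroup.zpowers_le.2 (piCoreOf_le _ M hz.1))
    (by rw [Nat.card_zpowers, hzo]) (Or.inl hβ)).2 T hTM
  refine hN.not_conj 1 ?_
  rw [map_one, one_smul]
  exact uniq_eq hu hN.hN ((hTQ.trans hQC).trans hN.hle) hM hTM

end CfsgLib.OddLocal
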