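import Cfsg.Agent.Lib.OddLocal.FittingOvergroup
import Cfsg.Agent.Lib.OddLocal.PrimeFitting
import Cfsg.Agent.S1442

/-!
Bender's lemma: for a maximal local subgroup `H` with `|π(F(H))| ≥ 2` the `M`-invariant
`q`-subgroups of a solvable subgroup, `q ∉ π(F(H))`, have a unique maximal member.
-/

set_option autoImplicit false
set_option linter.style.haveILetI false
set_option linter.unusedSectionVars false

open scoped Pointwise
open scoped commutatorElement

namespace CfsgLib.OddLocal.FittingInvariant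

open Cfsg
open CfsgLib.OddLocal CfsgLib.OddLocal.FittingOvergroup
open CfsgLib.Coprime (le_normalizer_inf_of_le le_normalizer_centralizer)

universe u

variable {G : Type u} [Group G] [Finite G]

/-- The hypotheses. -/
structure Data (H M R : Subgroup G) : Prop where
  hH : IsLocalSubgroup H
  hmax : ∀ L : Subgroup G, IsLocalSubgroup L → H ≤ L → L = H
  two : 2 ≤ (Nat.card (fittingOf H)).primeFactors.card
  hM : M ≤ fittingOf H
  hCM : fittingOf H ⊓ Subgroup.centralizer (M : Set G) ≤ M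
  hR : Group.IsSolvable R
  hMR : M ≤ Subgroup.normalizer (R : Set G)
  hXR : H ⊓ Subgroup.centralizer (fittingOf H : Set G) ≤ Subgroup.normalizer (R : Set G)

namespace Data

variable {H M R Y : Subgroup G} {p r : ℕ} (d : Data H M R)
include d

theorem centre_le (p : ℕ) (hp : p.Prime) :
    centrePart p H ≤ M ∧ centrePart p H ≤ fittingOf H ⊓ Subgroup.centralizer (fittingOf H : Set G) := by
  have h : centrePart p H ≤ fittingOf H ⊓ Subgroup.centralizer (fittingOf H : Set G) := fun z hz =>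
    ⟨opOf_le_fittingOf hp H hz.1, fun f hf => by
      refine Subgroup.mem_centralizer_singleton_iff.1 (fittingOf_le_of (H := Subgroup.centralizer ({z} : Set G))
        (fun t ht => ?_) hf)
      intro a ha
      refine Subgroup.mem_centralizer_singleton_iff.2 ?_
      by_cases htp : t = p
      · subst htp
        exact hz.2 a ha
      · exact (opOf_commute htp H ha z hz.1).symm⟩
  exact ⟨fun z hz => d.hCM ⟨(h hz).1, fun m hm => (h hz).2 m (d.hM hm)⟩, h⟩

theorem centralizer_le (hp : p.Prime) (hne : opOf p H ≠ ⊥) :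
    Subgroup.centralizer (centrePart p H : Set G) ≤ H := by
  have hloc : IsLocalSubgroup (Subgroup.normalizer (centrePart p H : Set G)) :=
    ⟨p, centrePart p H, hp, (isPGroup_opOf hp H).to_le inf_le_left, centrePart_ne_bot hp hne, rfl⟩
  exact (Subgroup.centralizer_le_normalizer _).trans (d.hmax _ hloc (le_normalizer_centrePart p H)).le

theorem centralizer_M_le : Subgroup.centralizer (M : Set G) ≤ H := by
  obtain ⟨p, hp⟩ : ((Nat.card (fittingOf H)).primeFactors).Nonempty :=
    Finset.card_pos.1 (by have := d.two; omega)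
  obtain ⟨hp, hd, -⟩ := Nat.mem_primeFactors.1 hp
  exact (Subgroup.centralizer_le (d.centre_le p hp).1).trans
    (d.centralizer_le hp ((opOf_ne_bot_iff hp H).2 hd))

/-- A subgroup of `C_H(F(H))` inside `R` of order prime to `|F(H)|` is trivial. -/
theorem eq_bot_of_centralizes (hY : IsPi (primesNotDvd (Nat.card (fittingOf H))) Y) (hYR : Y ≤ R)
    (hYH : Y ≤ H) (hYC : Y ≤ Subgroup.centralizer (fittingOf H : Set G)) : Y = ⊥ := by
  set X := H ⊓ Subgroup.centralizer (fittingOf H : Set G)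
  have hHX : H ≤ Subgroup.normalizer (X : Set G) :=
    le_normalizer_inf_of_le Subgroup.le_normalizer (le_normalizer_centralizer (le_normalizer_fittingOf H))
  set T := X ⊓ R
  have hXT : X ≤ Subgroup.normalizer (T : Set G) :=
    le_normalizer_inf_of_le Subgroup.le_normalizer d.hXR
  have h1 : fittingOf T ≤ fittingOf X :=
    le_fittingOf_of_le_normalizer ((fittingOf_le T).trans inf_le_left)
      (CfsgLib.PSolvable.le_normalizer_map_of_characteristic hXT (fittingSubgroup T))
      (fittingOf_isNilpotent T)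
  have h2 : fittingOf X ≤ fittingOf H :=
    le_fittingOf_of_le_normalizer ((fittingOf_le X).trans inf_le_left)
      (CfsgLib.PSolvable.le_normalizer_map_of_characteristic hHX (fittingSubgroup X))
      (fittingOf_isNilpotent X)
  haveI := d.hR
  have hTs : Group.IsSolvable T :=
    solvable_of_solvable_injective (Subgroup.inclusion_injective (inf_le_right : T ≤ R))
  have hTF : T ≤ fittingOf H := fun t ht => h1.trans h2
    (inf_centralizer_fittingOf_le hTs ⟨ht, fun f hf => ht.1.2 f ((h1.trans h2) hf)⟩)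
  refine Subgroup.card_eq_one.1 (Nat.eq_one_iff_not_exists_prime_dvd.2 fun t ht hd => ?_)
  exact (hY t ht hd).2 (hd.trans (Subgroup.card_dvd_of_le fun y hy => hTF ⟨⟨hYH hy, hYC hy⟩, hYR hy⟩))

/-- An `M`-invariant subgroup of `R ∩ H` of order prime to `|F(H)|` is trivial. -/
theorem eq_bot_of_invariant (hY : IsPi (primesNotDvd (Nat.card (fittingOf H))) Y) (hYR : Y ≤ R)
    (hYH : Y ≤ H) (hMY : M ≤ Subgroup.normalizer (Y : Set G)) : Y = ⊥ := by
  have hYF : Y ≤ Subgroup.normalizer (fittingOf H : Set G) := hYH.trans (le_normalizer_fittingOf H)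
  have hcop : (Nat.card Y).Coprime (Nat.card (fittingOf H)) :=
    Nat.coprime_of_dvd fun t ht h1 h2 => (hY t ht h1).2 h2
  have hM : ∀ y ∈ Y, ∀ m ∈ M, m * y = y * m := by
    intro y hy m hm
    have h1 : m * y * m⁻¹ * y⁻¹ ∈ Y ⊓ fittingOf H := by
      refine ⟨Y.mul_mem (Subgroup.le_normalizer_iff.1 hMY m hm y hy) (Y.inv_mem hy), ?_⟩
      rw [mul_assoc, mul_assoc]
      refine Subgroup.mul_mem _ (d.hM hm) ?_
      rw [← mul_assoc]
      exact Subgroup.le_normalizer_iff.1 hYF y hy _ (Subgroup.inv_mem _ (d.hM hm))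
    rw [Subgroup.inf_eq_bot_of_coprime hcop, Subgroup.mem_bot, mul_inv_eq_one,
      mul_inv_eq_iff_eq_mul] at h1
    exact h1
  refine d.eq_bot_of_centralizes hY hYR hYH
    (Cfsg.Agent.S1442.result (fittingOf H) Y (fittingOf_isNilpotent H) hYF hcop fun v hv => ?_)
  refine ⟨hv.1, fun y hy => ((?_ : v * y = y * v)).symm⟩
  exact (hM y hy v (d.hCM ⟨hv.1, fun m hm => hv.2 m ⟨d.hM hm, fun y' hy' => (hM y' hy' m hm).symm⟩⟩))

/-- `C_Y(Z(O_p(H))) = 1` for `M`-invariant `Y ≤ R` of order prime to `|F(H)|`. -/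
theorem free (hY : IsPi (primesNotDvd (Nat.card (fittingOf H))) Y) (hYR : Y ≤ R)
    (hMY : M ≤ Subgroup.normalizer (Y : Set G)) (hp : p.Prime) (hne : opOf p H ≠ ⊥) :
    Y ⊓ Subgroup.centralizer (centrePart p H : Set G) = ⊥ := by
  refine d.eq_bot_of_invariant (hY.mono inf_le_left) (inf_le_left.trans hYR)
    (inf_le_right.trans (d.centralizer_le hp hne))
    (le_normalizer_inf_of_le hMY (le_normalizer_centralizer fun m hm => ?_))
  refine Subgroup.centralizer_le_normalizer _ fun z hz => ?_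
  exact (((d.centre_le p hp).2 hz).2 m (d.hM hm)).symm

/-- An `M`-invariant `q`-subgroup of `R`, `q ∉ π(F(H))`, lies in `O_{π'}(R)`. -/
theorem le_core {q : ℕ} [Fact q.Prime] (hq : ¬ q ∣ Nat.card (fittingOf H)) {Q : Subgroup G}
    (hQR : Q ≤ R) (hQ : IsPGroup q Q) (hMQ : M ≤ Subgroup.normalizer (Q : Set G)) :
    Q ≤ piCoreOf (primesNotDvd (Nat.card (fittingOf H))) R := by
  classical
  set π' := primesNotDvd (Nat.card (fittingOf H)) with hπ'
  set W := piCoreOf π' R with hWdef
  have hQπ : IsPi π' Q := fun t ht hd => by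
    obtain rfl : t = q := (isPi_singleton_iff Fact.out).2 hQ t ht hd
    exact ⟨ht, hq⟩
  have hWπ : IsPi π' W := isPi_piCoreOf _ R
  have hRW : R ≤ Subgroup.normalizer (W : Set G) := le_normalizer_piCoreOf _ R
  have hMW : M ≤ Subgroup.normalizer (W : Set G) := d.hMR.trans (piCoreOf_normalizer_le _ R)
  set N := Subgroup.normalizer (W : Set G) with hN
  haveI hWn : (W.subgroupOf N).Normal :=
    (Subgroup.normal_subgroupOf_iff_le_normalizer Subgroup.le_normalizer).2 le_rfl
  set f := QuotientGroup.mk' (W.subgroupOf N) with hf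
  set bar : Subgroup G → Subgroup (N ⧸ W.subgroupOf N) := fun S => (S.subgroupOf N).map f with hbar
  have hmem : ∀ {S : Subgroup G} {v : N}, (v : G) ∈ S → f v ∈ bar S := fun {S v} h => ⟨v, h, rfl⟩
  have hker : ∀ v : N, f v = 1 ↔ (v : G) ∈ W := fun v => QuotientGroup.eq_one_iff v
  set Rb := bar R with hRb
  haveI := d.hR
  have hRbs : Group.IsSolvable Rb := by
    have h1 : Group.IsSolvable (R.subgroupOf N) :=
      solvable_of_solvable_injective (f := (Subgroup.subgroupOfEquivOfLe hRW).toMonoidHom)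
        (MulEquiv.injective _)
    exact solvable_of_surjective (f := f.subgroupMap (R.subgroupOf N)) (f.subgroupMap_surjective _)
  have hnorm : ∀ {S : Subgroup G}, S ≤ N → S ≤ Subgroup.normalizer (R : Set G) →
      bar S ≤ Subgroup.normalizer (Rb : Set (N ⧸ W.subgroupOf N)) := by
    intro S hSN hSR
    rw [Subgroup.le_normalizer_iff]
    rintro _ ⟨s, hs, rfl⟩ _ ⟨v, hv, rfl⟩
    rw [← map_inv, ← map_mul, ← map_mul]
    exact hmem (Subgroup.le_normalizer_iff.1 hSR s hs v hv)
  -- `O_t(R̄)` is trivial unless `t` divides `|F(H)|`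
  have hopt : ∀ t : ℕ, t.Prime → opOf t Rb ≠ ⊥ → t ∣ Nat.card (fittingOf H) := by
    intro t ht hne
    by_contra htd
    refine hne ?_
    set V := ((opOf t Rb).comap f ⊓ R.subgroupOf N).map N.subtype with hV
    have hVR : V ≤ R := by rintro _ ⟨v, hv, rfl⟩; exact hv.2
    have hVn : R ≤ Subgroup.normalizer (V : Set G) := by
      rw [Subgroup.le_normalizer_iff]
      rintro r hr _ ⟨v, ⟨hv, hvR⟩, rfl⟩
      refine ⟨⟨r, hRW hr⟩ * v * ⟨r, hRW hr⟩⁻¹, ⟨?_, R.mul_mem (R.mul_mem hr hvR) (R.inv_mem hr)⟩, rfl⟩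
      show f _ ∈ opOf t Rb
      rw [map_mul, map_mul, map_inv]
      exact Subgroup.le_normalizer_iff.1 (le_normalizer_piCoreOf _ Rb) _ (hmem hr) _ hv
    have hVπ : IsPi π' V := by
      intro s hs hd
      rw [Subgroup.card_map_of_injective N.subtype_injective] at hd
      haveI := Fact.mk hs
      obtain ⟨v, hv⟩ := exists_prime_orderOf_dvd_card' s hd
      by_cases hvW : ((v : N) : G) ∈ W
      · refine hWπ s hs (dvd_trans (dvd_of_eq ?_) (Subgroup.orderOf_dvd_natCard W hvW))
        rw [Subgroup.orderOf_coe, Subgroup.orderOf_coe, hv]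
      · have h1 : f (v : N) ≠ 1 := fun e => hvW ((hker _).1 e)
        have h2 : orderOf (f (v : N)) = s := by
          refine orderOf_eq_prime ?_ h1
          rw [← map_pow, ← SubmonoidClass.coe_pow, ← hv, pow_orderOf_eq_one, OneMemClass.coe_one, map_one]
        obtain rfl : s = t := isPi_piCoreOf _ Rb s hs (by
          rw [← h2]; exact Subgroup.orderOf_dvd_natCard _ v.2.1)
        exact ⟨hs, htd⟩
    have hVW : V ≤ W := le_piCoreOf hVR hVn hVπ
    refine le_bot_iff.1 fun b hb => ?_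
    obtain ⟨v, hv, rfl⟩ := piCoreOf_le _ Rb hb
    exact (hker v).2 (hVW ⟨v, ⟨hb, hv⟩, rfl⟩)
  -- `Q` centralizes every `O_p(R̄)`
  have hQN : Q ≤ N := hQR.trans hRW
  have hFQ : bar Q ≤ Rb ⊓ Subgroup.centralizer (fittingOf Rb : Set (N ⧸ W.subgroupOf N)) := by
    refine le_inf (Subgroup.map_mono fun v hv => hQR hv) (Subgroup.le_centralizer_iff.1 ?_)
    refine fittingOf_le_of fun p hp => ?_
    by_cases hb : opOf p Rb = ⊥
    · rw [hb]; exact bot_le
    have hpd := hopt p hp hb
    haveI := Fact.mk hp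
    have hpH : opOf p H ≠ ⊥ := (opOf_ne_bot_iff hp H).2 hpd
    obtain ⟨r, hr, hrp⟩ : ∃ r ∈ (Nat.card (fittingOf H)).primeFactors, r ≠ p := by
      obtain ⟨a, ha, b, hb', hab⟩ := Finset.one_lt_card.1 d.two
      by_cases h : a = p
      · exact ⟨b, hb', fun e => hab (h.trans e.symm)⟩
      · exact ⟨a, ha, h⟩
    obtain ⟨hr, hrd, -⟩ := Nat.mem_primeFactors.1 hr
    haveI := Fact.mk hr
    have hrH : opOf r H ≠ ⊥ := (opOf_ne_bot_iff hr H).2 hrd
    have hZN : ∀ {s : ℕ}, s.Prime → centrePart s H ≤ N := fun {s} hs => (d.centre_le s hs).1.trans hMW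
    set U := opOf p Rb with hU
    have hUN : ∀ {S : Subgroup G}, S ≤ N → S ≤ Subgroup.normalizer (R : Set G) →
        bar S ≤ Subgroup.normalizer (U : Set (N ⧸ W.subgroupOf N)) := fun h1 h2 =>
      (hnorm h1 h2).trans (piCoreOf_normalizer_le _ Rb)
    have hbarp : ∀ {s : ℕ}, s.Prime → IsPGroup s (bar (centrePart s H)) := fun {s} hs =>
      (((isPGroup_opOf hs H).to_le inf_le_left).comap_of_injective N.subtype N.subtype_injective).map f
    have hcopr : (Nat.card (bar (centrePart r H))).Coprime p := by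
      obtain ⟨k, hk⟩ := (hbarp hr).exists_card_eq
      rw [hk]
      exact ((Nat.coprime_primes hr hp).2 hrp).pow_left k
    -- `Z(O_r(H))` centralizes `O_p(R̄)`
    have hZU : bar (centrePart r H) ≤ Subgroup.centralizer (U : Set (N ⧸ W.subgroupOf N)) := by
      refine CfsgLib.Coprime.pxq (hbarp hp) hcopr ?_ (isPGroup_opOf hp Rb)
        (hUN (hZN hp) ((d.centre_le p hp).1.trans d.hMR))
        (hUN (hZN hr) ((d.centre_le r hr).1.trans d.hMR)) ?_
      · rintro _ ⟨a, ha, rfl⟩ _ ⟨b, hb', rfl⟩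
        rw [← map_mul, ← map_mul]
        congr 1
        exact Subtype.ext ((((d.centre_le p hp).2 ha).2 _ ((d.centre_le r hr).2 hb').1))
      intro u hu
      obtain ⟨hu1, hu2⟩ := hu
      obtain ⟨k, hkR, rfl⟩ := piCoreOf_le _ Rb hu1
      set A := centrePart p H with hA
      have hAF : A ≤ fittingOf H := fun z hz => ((d.centre_le p hp).2 hz).1
      have hcop : (Nat.card W).Coprime (Nat.card A) := Nat.coprime_of_dvd fun t ht h1 h2 =>
        (hWπ t ht h1).2 (h2.trans (Subgroup.card_dvd_of_le hAF))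
      have hcomm : ∀ a ∈ A, (k : G) * a * (k : G)⁻¹ * a⁻¹ ∈ W := by
        intro a ha
        have h1 := hu2 (f ⟨a, hZN hp ha⟩) (hmem ha)
        refine (hker (k * ⟨a, hZN hp ha⟩ * k⁻¹ * ⟨a, hZN hp ha⟩⁻¹)).1 ?_
        rw [map_mul, map_mul, map_mul, map_inv, map_inv, ← h1]
        group
      have hsup : W ⊔ A = W ⊔ MulAut.conj ((k : G)⁻¹) • A := by
        have key : ∀ a ∈ A, ∃ w ∈ W, (k : G)⁻¹ * a * k = w * a := by
          intro a ha
          refine ⟨(k : G)⁻¹ * ((k : G) * a * (k : G)⁻¹ * a⁻¹)⁻¹ * k, ?_, by group⟩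
          have := Subgroup.le_normalizer_iff.1 (le_refl N) _ (inv_mem k.2) _ (inv_mem (hcomm a ha))
          rwa [inv_inv] at this
        refine le_antisymm (sup_le le_sup_left fun a ha => ?_) (sup_le le_sup_left fun b hb => ?_)
        · obtain ⟨w, hw, he⟩ := key a ha
          rw [show a = w⁻¹ * ((k : G)⁻¹ * a * k) by rw [he, inv_mul_cancel_left]]
          refine Subgroup.mul_mem _ (Subgroup.mem_sup_left (inv_mem hw)) (Subgroup.mem_sup_right ?_)
          rw [CfsgLib.Coprime.mem_conj_smul_iff, inv_inv]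
          simpa [mul_assoc] using ha
        · rw [CfsgLib.Coprime.mem_conj_smul_iff, inv_inv] at hb
          obtain ⟨w, hw, he⟩ := key _ hb
          rw [show b = w * ((k : G) * b * (k : G)⁻¹) by rw [← he]; group]
          exact Subgroup.mul_mem _ (Subgroup.mem_sup_left hw) (Subgroup.mem_sup_right hb)
      obtain ⟨w, hw, hwA⟩ := CfsgLib.Coprime.exists_conj_of_coprime (hZN hp) hcop
        (by rwa [CfsgLib.Coprime.card_conj_smul]) hsup (Or.inl (solvable_of_solvable_injective
          (Subgroup.inclusion_injective (piCoreOf_le π' R : W ≤ R))))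
      set c := (k : G) * w with hc
      have hcA : c ∈ Subgroup.normalizer (A : Set G) := by
        rw [CfsgLib.Coprime.mem_normalizer_iff_conj_smul, hc, map_mul, mul_smul, hwA, ← mul_smul, ← map_mul,
          mul_inv_cancel, map_one, one_smul]
      have hbot : W ⊓ A = ⊥ := Subgroup.inf_eq_bot_of_coprime hcop
      have hcN : c ∈ N := Subgroup.mul_mem _ k.2 (Subgroup.le_normalizer hw)
      have hcC : c ∈ Subgroup.centralizer (A : Set G) := by
        intro a ha
        have hca : c * a * c⁻¹ ∈ A := Subgroup.le_normalizer_iff.1 (le_refl _) c hcA a ha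
        have h1 : c * a * c⁻¹ * a⁻¹ ∈ W ⊓ A := by
          refine ⟨?_, A.mul_mem hca (A.inv_mem ha)⟩
          have h2 : w * a * w⁻¹ * a⁻¹ ∈ W := by
            rw [mul_assoc, mul_assoc, ← mul_assoc a]
            exact W.mul_mem hw (Subgroup.le_normalizer_iff.1 (le_refl N) a (hZN hp ha) _ (W.inv_mem hw))
          rw [hc, show (k : G) * w * a * ((k : G) * w)⁻¹ * a⁻¹ =
            (k : G) * (w * a * w⁻¹ * a⁻¹) * (k : G)⁻¹ * ((k : G) * a * (k : G)⁻¹ * a⁻¹) by group]
          exact W.mul_mem (Subgroup.le_normalizer_iff.1 (le_refl N) k k.2 _ h2) (hcomm a ha)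
        rw [hbot, Subgroup.mem_bot, mul_inv_eq_one, mul_inv_eq_iff_eq_mul] at h1
        exact h1.symm
      have hcH : c ∈ H := d.centralizer_le hp hpH hcC
      have hfk : f k = f ⟨c, hcN⟩ := by
        have hfw : f ⟨w, Subgroup.le_normalizer hw⟩ = 1 := (hker _).2 hw
        rw [show (⟨c, hcN⟩ : N) = k * ⟨w, Subgroup.le_normalizer hw⟩ from rfl, map_mul, hfw, mul_one]
      rintro _ ⟨z, hz, rfl⟩
      rw [hfk]
      set e := (z : G) * c * (z : G)⁻¹ * c⁻¹ with he
      have heZ : e ∈ centrePart r H := by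
        rw [he, mul_assoc, mul_assoc, ← mul_assoc c]
        exact Subgroup.mul_mem _ hz (Subgroup.le_normalizer_iff.1 (le_normalizer_centrePart r H) c hcH _
          (inv_mem hz))
      have heU : f z * f ⟨c, hcN⟩ * (f z)⁻¹ * (f ⟨c, hcN⟩)⁻¹ ∈ U ⊓ bar (centrePart r H) := by
        refine ⟨U.mul_mem (Subgroup.le_normalizer_iff.1 (hUN (hZN hr) ((d.centre_le r hr).1.trans d.hMR))
          _ (hmem hz) _ (hfk ▸ hu1)) (U.inv_mem (hfk ▸ hu1)), ?_⟩
        rw [← map_inv, ← map_mul, ← map_mul, ← map_inv, ← map_mul]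
        exact hmem (show ((z * ⟨c, hcN⟩ * z⁻¹ * (⟨c, hcN⟩ : N)⁻¹ : N) : G) ∈ centrePart r H from heZ)
      have hbotU : U ⊓ bar (centrePart r H) = ⊥ :=
        eq_bot_of_disjoint (π := {p}) (ρ := {r}) ((isPi_piCoreOf _ Rb).mono inf_le_left)
          ((isPi_singleton_iff hr).2 ((hbarp hr).to_le inf_le_right)) (Set.disjoint_singleton.2 hrp.symm)
      rw [hbotU, Subgroup.mem_bot, mul_inv_eq_one, mul_inv_eq_iff_eq_mul] at heU
      exact heU
    -- `Q = [Q, Z(O_r(H))]`
    have hZF : centrePart r H ≤ fittingOf H := fun z hz => ((d.centre_le r hr).2 hz).1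
    have hQZ : centrePart r H ≤ Subgroup.normalizer (Q : Set G) := (d.centre_le r hr).1.trans hMQ
    have hQe : ⁅Q, centrePart r H⁆ = Q := by
      have h1 := CfsgLib.Coprime.commutator_sup_centralizer hQZ
        (Nat.coprime_of_dvd fun t ht h1 h2 => (hQπ t ht h2).2 (h1.trans (Subgroup.card_dvd_of_le hZF)))
        (Or.inr (solvable_of_solvable_injective (Subgroup.inclusion_injective hQR)))
      rwa [d.free hQπ hQR hMQ hr hrH, sup_bot_eq] at h1
    set C := (Subgroup.centralizer (U : Set (N ⧸ W.subgroupOf N))).comap f with hC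
    have hle : ⁅Q, centrePart r H⁆ ≤ C.map N.subtype := by
      rw [Subgroup.commutator_le]
      intro y hy z hz
      refine ⟨⁅(⟨y, hQN hy⟩ : N), (⟨z, hZN hr hz⟩ : N)⁆, ?_, rfl⟩
      rw [SetLike.mem_coe, Subgroup.mem_comap, commutatorElement_def, map_mul, map_mul, map_mul,
        map_inv, map_inv]
      have hz' : f ⟨z, hZN hr hz⟩ ∈ Subgroup.centralizer (U : Set (N ⧸ W.subgroupOf N)) :=
        hZU (hmem hz)
      refine Subgroup.mul_mem _ (Subgroup.le_normalizer_iff.1
        (le_normalizer_centralizer (hUN hQN (hQR.trans Subgroup.le_normalizer))) _ (hmem hy) _ hz')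
        (Subgroup.inv_mem _ hz')
    rintro v hv _ ⟨y, hy, rfl⟩
    rw [hQe] at hle
    obtain ⟨y', hy', e⟩ := hle hy
    obtain rfl : y' = y := N.subtype_injective e
    exact (hy' v hv).symm
  intro y hy
  have hyb : f ⟨y, hQN hy⟩ ∈ fittingOf Rb := inf_centralizer_fittingOf_le hRbs (hFQ (hmem hy))
  obtain ⟨n, hn⟩ := hQ ⟨y, hy⟩
  have h1 := mem_opOf_of_mem_fittingOf Fact.out hyb (k := n) (by
    rw [← map_pow, (hker _).2]
    rw [SubmonoidClass.coe_pow]
    have e := congrArg Subtype.val hn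
    simp only [SubmonoidClass.coe_pow, OneMemClass.coe_one] at e
    rw [e]
    exact W.one_mem)
  have h2 : opOf q Rb = ⊥ := by_contra fun h => hq (hopt q Fact.out h)
  rw [h2, Subgroup.mem_bot] at h1
  exact (hker _).1 h1

/-- Bender's lemma. -/
theorem existsUnique_max {q : ℕ} [Fact q.Prime] (hq : ¬ q ∣ Nat.card (fittingOf H)) :
    ∃! Q : Subgroup G, Q ∈ maxInvSubgroups R M {q} ∧
      (∀ Q' : Subgroup G, Q' ∈ maxInvSubgroups R M {q} →
        Q' ≤ piCoreOf (primesNotDvd (Nat.card (fittingOf H))) R ∧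
        ¬ q ∣ Q'.relIndex (piCoreOf (primesNotDvd (Nat.card (fittingOf H))) R)) := by
  set W := piCoreOf (primesNotDvd (Nat.card (fittingOf H))) R with hW
  have hWR : W ≤ R := piCoreOf_le _ R
  have hMW : M ≤ Subgroup.normalizer (W : Set G) := d.hMR.trans (piCoreOf_normalizer_le _ R)
  haveI := d.hR
  have hWs : Group.IsSolvable W := solvable_of_solvable_injective (Subgroup.inclusion_injective hWR)
  have hcop : (Nat.card M).Coprime (Nat.card W) := Nat.coprime_of_dvd fun t ht h1 h2 =>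
    (isPi_piCoreOf _ R t ht h2).2 (h1.trans (Subgroup.card_dvd_of_le d.hM))
  have hC : ∀ c : W, (c : G) ∈ Subgroup.centralizer (M : Set G) → c = 1 := by
    intro c hc
    have h := d.eq_bot_of_invariant (Y := W ⊓ Subgroup.centralizer (M : Set G))
      ((isPi_piCoreOf _ R).mono inf_le_left) (inf_le_left.trans hWR)
      (inf_le_right.trans d.centralizer_M_le)
      (le_normalizer_inf_of_le hMW (le_normalizer_centralizer Subgroup.le_normalizer))
    exact Subtype.ext (Subgroup.mem_bot.1 (h ▸ ⟨c.2, hc⟩))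
  -- maximal invariant `q`-subgroups are Sylow subgroups of `W`
  have hsyl : ∀ Q' ∈ maxInvSubgroups R M {q}, ∃ S : Sylow q W,
      (S : Subgroup W).map W.subtype = Q' ∧
      M ≤ Subgroup.normalizer (((S : Subgroup W).map W.subtype : Subgroup G) : Set G) := by
    rintro Q' ⟨⟨hQR, hQq, hMQ⟩, hmax⟩
    have hQp : IsPGroup q Q' := (isPi_singleton_iff Fact.out).1 hQq
    obtain ⟨S, hQS, hMS⟩ := CfsgLib.Coprime.exists_invariant_sylow_ge hMW hcop (Or.inr hWs)
      (d.le_core hq hQR hQp hMQ) hQp hMQ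
    exact ⟨S, hmax _ ⟨(Subgroup.map_subtype_le _).trans hWR,
      (isPi_singleton_iff Fact.out).2 (S.2.map _), hMS⟩ hQS, hMS⟩
  obtain ⟨Q, hQ⟩ : ∃ Q, Q ∈ maxInvSubgroups R M {q} := by
    obtain ⟨Q, -, hQ⟩ := Finite.exists_le_maximal
      (p := fun Y : Subgroup G => Y ∈ invSubgroups R M {q}) (a := ⊥)
      ⟨bot_le, fun t ht hd => by rw [Subgroup.card_bot] at hd; exact absurd (Nat.dvd_one.1 hd) ht.ne_one,
        fun m _ => by rw [Subgroup.normalizer_eq_top]; exact Subgroup.mem_top m⟩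
    exact ⟨Q, hQ.prop, fun Y hY hle => le_antisymm (hQ.2 hY hle) hle⟩
  refine ⟨Q, ⟨hQ, fun Q' hQ' => ?_⟩, fun Q' hQ' => ?_⟩
  · obtain ⟨S, rfl, -⟩ := hsyl Q' hQ'
    refine ⟨Subgroup.map_subtype_le _, ?_⟩
    rw [Subgroup.relIndex, Subgroup.subgroupOf,
      Subgroup.comap_map_eq_self_of_injective W.subtype_injective]
    exact S.not_dvd_index
  · obtain ⟨S, rfl, hS⟩ := hsyl Q hQ
    obtain ⟨T, rfl, hT⟩ := hsyl Q' hQ'.1
    obtain ⟨c, hc, hcST⟩ := CfsgLib.Coprime.invariant_sylow_conj hMW hcop (Or.inr hWs) S T hS hT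
    rw [hC c hc, one_smul] at hcST
    rw [hcST]

end Data

end CfsgLib.OddLocal.FittingInvariant
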