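import Cfsg.Agent.Lib.OddLocal.Uniqueness
import Cfsg.Agent.Lib.OddLocal.SigmaCompl
import Cfsg.Agent.S1451

/-!
BG §8: a maximal subgroup containing the centre of the Fitting subgroup of another one.
-/

set_option autoImplicit false
set_option linter.style.haveILetI false
set_option linter.unusedSectionVars false

open scoped Pointwise
open scoped commutatorElement

namespace CfsgLib.OddLocal.FittingOvergroup

open Cfsg
open CfsgLib.OddLocal

universe u

variable {G : Type u} [Group G] [Finite G] {H L : Subgroup G} {p q r : ℕ}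

/-- `Z(O_r(X))`. -/
def centrePart (r : ℕ) (X : Subgroup G) : Subgroup G :=
  opOf r X ⊓ Subgroup.centralizer (opOf r X : Set G)

theorem centrePart_le (r : ℕ) (X : Subgroup G) : centrePart r X ≤ X :=
  inf_le_left.trans (piCoreOf_le _ X)

theorem le_normalizer_centrePart (r : ℕ) (X : Subgroup G) :
    X ≤ Subgroup.normalizer (centrePart r X : Set G) :=
  CfsgLib.Coprime.le_normalizer_inf_of_le (le_normalizer_piCoreOf _ X)
    (CfsgLib.Coprime.le_normalizer_centralizer (le_normalizer_piCoreOf _ X))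

theorem centrePart_ne_bot (hr : r.Prime) {X : Subgroup G} (h : opOf r X ≠ ⊥) :
    centrePart r X ≠ ⊥ := by
  haveI := Fact.mk hr
  haveI : Nontrivial (opOf r X) := (Subgroup.nontrivial_iff_ne_bot _).2 h
  haveI := (isPGroup_opOf hr X).center_nontrivial
  obtain ⟨z, hz⟩ := exists_ne (1 : Subgroup.center (opOf r X))
  intro e
  refine hz (Subtype.ext (Subtype.ext ?_))
  refine Subgroup.mem_bot.1 (e ▸ (⟨z.1.2, fun a ha => ?_⟩ : ((z : opOf r X) : G) ∈ centrePart r X))
  exact congrArg Subtype.val (Subgroup.mem_center_iff.1 z.2 ⟨a, ha⟩)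

theorem centralizer_centrePart_le (hG : IsMinSimpleOddOrder G) (hH : IsCoatom H) (hr : r.Prime)
    (h : opOf r H ≠ ⊥) : Subgroup.centralizer (centrePart r H : Set G) ≤ H :=
  (Subgroup.centralizer_le_normalizer _).trans (normalizer_eq_of_isCoatom hG hH (centrePart_le r H)
    (centrePart_ne_bot hr h) (le_normalizer_centrePart r H)).le

/-- If `Z(O_r(H))` lies in `L` for all `r`, then `O_p(L)` centralizes `Z(O_r(H))`, `r ≠ p`. -/
theorem opOf_centralizes (hG : IsMinSimpleOddOrder G) (hH : IsCoatom H) (hp : p.Prime) (hr : r.Prime)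
    (hne : r ≠ p) (hpH : opOf p H ≠ ⊥) (hZp : centrePart p H ≤ L) (hZr : centrePart r H ≤ L) :
    opOf p L ≤ Subgroup.centralizer (centrePart r H : Set G) := by
  haveI := Fact.mk hp
  have hrp : IsPGroup r (centrePart r H) := (isPGroup_opOf hr H).to_le inf_le_left
  have hcop : (Nat.card (centrePart r H)).Coprime p := by
    obtain ⟨k, hk⟩ := (haveI := Fact.mk hr; hrp.exists_card_eq)
    rw [hk]
    exact ((Nat.coprime_primes hr hp).2 hne).pow_left k
  have hcomm : centrePart p H ≤ Subgroup.centralizer (centrePart r H : Set G) :=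
    Subgroup.le_centralizer_iff.1 fun a ha b hb => (opOf_commute hne.symm H hb.1 a ha.1).symm
  refine Subgroup.le_centralizer_iff.1 (CfsgLib.Coprime.pxq ((isPGroup_opOf hp H).to_le inf_le_left)
    hcop hcomm (isPGroup_opOf hp L) (hZp.trans (le_normalizer_piCoreOf _ L))
    (hZr.trans (le_normalizer_piCoreOf _ L)) ?_)
  rintro v ⟨hv, hvC⟩
  have hvH : v ∈ H := centralizer_centrePart_le hG hH hp hpH hvC
  exact commute_of_disjoint (A := opOf p L ⊓ H) (B := centrePart r H)
    (inf_le_right.trans (le_normalizer_centrePart r H))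
    (CfsgLib.Coprime.le_normalizer_inf_of_le (hZr.trans (le_normalizer_piCoreOf _ L))
      ((centrePart_le r H).trans Subgroup.le_normalizer))
    (IsPi.mono (isPi_piCoreOf _ L) inf_le_left) (IsPi.mono (isPi_piCoreOf _ H) inf_le_left)
    (Set.disjoint_singleton.2 hne.symm) ⟨hv, hvH⟩

theorem rankLE_fittingSubgroup {X : Subgroup G} (h : RankLE 2 (fittingOf X)) :
    RankLE 2 (fittingSubgroup X) := by
  intro t ht A hA he
  have hinj : Function.Injective (X.subtype.comp (fittingSubgroup X).subtype) :=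
    X.subtype_injective.comp (fittingSubgroup X).subtype_injective
  have hle : A.map (X.subtype.comp (fittingSubgroup X).subtype) ≤ fittingOf X := by
    rintro _ ⟨a, -, rfl⟩
    exact ⟨(a : X), a.2, rfl⟩
  haveI := hA
  haveI : IsMulCommutative (A.map (X.subtype.comp (fittingSubgroup X).subtype)) :=
    Subgroup.map_isMulCommutative _ _
  have hcard : Nat.card (A.map (X.subtype.comp (fittingSubgroup X).subtype)) = Nat.card A :=
    Subgroup.card_map_of_injective hinj
  rw [← hcard, ← Nat.card_congr (Subgroup.subgroupOfEquivOfLe hle).toEquiv]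
  refine h t ht _ ⟨⟨fun a b => Subtype.ext (Subtype.ext ?_)⟩⟩ fun a ha => Subtype.ext ?_
  · simp only [Subgroup.coe_mul]
    have := mul_comm' (⟨((a : fittingOf X) : G), a.2⟩ : A.map (X.subtype.comp (fittingSubgroup X).subtype))
      ⟨((b : fittingOf X) : G), b.2⟩
    exact congrArg Subtype.val this
  · obtain ⟨c, hc, e⟩ := ha
    rw [SubmonoidClass.coe_pow]
    show (a : G) ^ t = 1
    have e' : X.subtype.comp (fittingSubgroup X).subtype c = (a : G) := e
    rw [← e', ← map_pow, he c hc, map_one]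

/-- In rank two the Sylow subgroup at the largest prime is normal. -/
theorem le_opOf_max (hG : IsMinSimpleOddOrder G) {X : Subgroup G} (hX : X ≠ ⊤) (hq : q.Prime)
    (hmax : ∀ t : ℕ, t.Prime → t ∣ Nat.card X → t ≤ q) (hrk : RankLE 2 (fittingOf X)) {Q : Subgroup G}
    (hQX : Q ≤ X) (hQ : IsPGroup q Q) : Q ≤ opOf q X := by
  haveI := isSolvable_of_ne_top hG hX
  obtain ⟨-, -, htow⟩ := Cfsg.Agent.S1451.result (G := X)
    (hG.1.of_dvd_nat X.card_subgroup_dvd_card) (Or.inr (rankLE_fittingSubgroup hrk))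
  obtain ⟨N, hN, hπ, hidx⟩ := htow (q - 1)
  have hNn : X ≤ Subgroup.normalizer ((N.map X.subtype : Subgroup G) : Set G) :=
    CfsgLib.PSolvable.le_normalizer_map_of_characteristic Subgroup.le_normalizer _
  have hNp : IsPi {q} (N.map X.subtype : Subgroup G) := fun t ht hd => by
    rw [Subgroup.card_map_of_injective X.subtype_injective] at hd
    have h2 : q - 1 < t := (hπ t ht hd).2
    have h3 := hmax t ht (hd.trans N.card_subgroup_dvd_card)
    show t = q
    omega
  refine le_trans ?_ (le_piCoreOf (Subgroup.map_subtype_le _) hNn hNp)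
  rw [← Subgroup.map_subgroupOf_eq_of_le hQX]
  refine Subgroup.map_mono ?_
  haveI := hN
  haveI : N.Normal := inferInstance
  refine le_of_coprime_index ?_
  obtain ⟨k, hk⟩ := (haveI := Fact.mk hq; (hQ.comap_of_injective X.subtype X.subtype_injective).exists_card_eq)
  rw [show Nat.card (Q.subgroupOf X) = q ^ k from hk]
  exact ((hq.coprime_iff_not_dvd).2 (hidx q hq ⟨hq, Nat.sub_lt hq.pos one_pos⟩)).pow_left k

/-- BG §8: `H` is the only maximal subgroup over a subgroup `M` of `F(H)` containing `Z(F(H))` and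
normalizing no nontrivial subgroup of order prime to `|F(H)|`. -/
theorem overgroup_eq (hG : IsMinSimpleOddOrder G) (hH : IsCoatom H)
    (h2 : 2 ≤ (Nat.card (fittingOf H)).primeFactors.card) {M : Subgroup G}
    (hZM : fittingOf H ⊓ Subgroup.centralizer (fittingOf H : Set G) ≤ M)
    (hinv : ∀ Y ∈ invSubgroups ⊤ M (primesNotDvd (Nat.card (fittingOf H))), Y = ⊥)
    (hL : IsCoatom L) (hML : M ≤ L) : L = H := by
  classical
  set π := (Nat.card (fittingOf H)).primeFactors with hπdef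
  have hmem : ∀ {t : ℕ}, t ∈ π ↔ t.Prime ∧ t ∣ Nat.card (fittingOf H) := fun {t} => by
    rw [hπdef, Nat.mem_primeFactors]; exact ⟨fun h => ⟨h.1, h.2.1⟩, fun h => ⟨h.1, h.2, Nat.card_pos.ne'⟩⟩
  have hop : ∀ {t : ℕ}, t.Prime → (opOf t H ≠ ⊥ ↔ t ∈ π) := fun {t} ht => by
    rw [opOf_ne_bot_iff ht, hmem]; exact ⟨fun h => ⟨ht, h⟩, fun h => h.2⟩
  have hother : ∀ p : ℕ, ∃ r, r ∈ π ∧ r ≠ p := fun p => by
    obtain ⟨a, ha, b, hb, hab⟩ := Finset.one_lt_card.1 h2
    by_cases h : a = p
    · exact ⟨b, hb, fun e => hab (h.trans e.symm)⟩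
    · exact ⟨a, ha, h⟩
  -- `Z(O_r(H)) ≤ M`
  have hZ : ∀ {r : ℕ}, r ∈ π → centrePart r H ≤ L := fun {r} hr z hz => hML <| hZM
    ⟨opOf_le_fittingOf (hmem.1 hr).1 H hz.1, fun f hf => by
      refine Subgroup.mem_centralizer_singleton_iff.1 (fittingOf_le_of (H := Subgroup.centralizer ({z} : Set G))
        (fun t ht => ?_) hf)
      intro a ha
      refine Subgroup.mem_centralizer_singleton_iff.2 ?_
      by_cases htr : t = r
      · subst htr
        exact hz.2 a ha
      · exact (opOf_commute htr H ha z hz.1).symm⟩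
  have hLπ : ∀ {t : ℕ}, t.Prime → opOf t L ≠ ⊥ → t ∈ π := fun {t} ht hne => by
    by_contra htπ
    refine hne (hinv _ ⟨le_top, fun s hs hd => ?_, hML.trans (le_normalizer_piCoreOf _ L)⟩)
    obtain rfl : s = t := (isPi_singleton_iff ht).2 (isPGroup_opOf ht L) s hs hd
    exact ⟨hs, fun hd' => htπ (hmem.2 ⟨hs, hd'⟩)⟩
  have hFLH : fittingOf L ≤ H := fittingOf_le_of fun t ht => by
    by_cases hb : opOf t L = ⊥
    · rw [hb]; exact bot_le
    have htπ := hLπ ht hb
    obtain ⟨r, hr, hrt⟩ := hother t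
    exact (opOf_centralizes hG hH ht (hmem.1 hr).1 hrt ((hop ht).2 htπ) (hZ htπ) (hZ hr)).trans
      (centralizer_centrePart_le hG hH (hmem.1 hr).1 ((hop (hmem.1 hr).1).2 hr))
  have hsol := isSolvable_of_ne_top hG hL.1
  have hπL : ∀ {r : ℕ}, r ∈ π → opOf r L ≠ ⊥ := fun {r} hr hb => by
    have hr' := (hmem.1 hr).1
    have hle : fittingOf L ≤ Subgroup.centralizer (centrePart r H : Set G) := fittingOf_le_of fun t ht => by
      by_cases htb : opOf t L = ⊥
      · rw [htb]; exact bot_le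
      have htr : r ≠ t := fun e => htb (e ▸ hb)
      exact opOf_centralizes hG hH ht hr' htr ((hop ht).2 (hLπ ht htb)) (hZ (hLπ ht htb)) (hZ hr)
    refine centrePart_ne_bot hr' ((hop hr').2 hr) (le_bot_iff.1 fun z hz => ?_)
    have hzF : z ∈ fittingOf L :=
      inf_centralizer_fittingOf_le hsol ⟨hZ hr hz, Subgroup.le_centralizer_iff.1 hle hz⟩
    obtain ⟨k, hk⟩ := (isPGroup_opOf hr' H) ⟨z, hz.1⟩
    rw [← hb]
    exact mem_opOf_of_mem_fittingOf hr' hzF (k := k) (congrArg Subtype.val hk)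
  have hFHL : fittingOf H ≤ L := fittingOf_le_of fun t ht => by
    by_cases hb : opOf t H = ⊥
    · rw [hb]; exact bot_le
    have htπ := (hop ht).1 hb
    obtain ⟨r, hr, hrt⟩ := hother t
    have hW : ∀ {s : ℕ}, s ∈ π → centrePart s L ≤ H := fun {s} hs =>
      inf_le_left.trans ((opOf_le_fittingOf (hmem.1 hs).1 L).trans hFLH)
    exact (opOf_centralizes hG hL ht (hmem.1 hr).1 hrt (hπL htπ) (hW htπ) (hW hr)).trans
      (centralizer_centrePart_le hG hL (hmem.1 hr).1 (hπL hr))
  -- rank three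
  by_cases hrH : RankLE 2 (fittingOf H)
  swap
  · obtain ⟨D, hD, hu⟩ := exists_uniq_of_rank_three hG hrH
    exact hu.unique ⟨hL, hD.trans hFHL⟩ ⟨hH, hD.trans (fittingOf_le H)⟩
  by_cases hrL : RankLE 2 (fittingOf L)
  swap
  · obtain ⟨D, hD, hu⟩ := exists_uniq_of_rank_three hG hrL
    exact hu.unique ⟨hL, hD.trans (fittingOf_le L)⟩ ⟨hH, hD.trans hFLH⟩
  -- rank two: the Sylow subgroup at the largest prime
  have hπne : π.Nonempty := Finset.card_pos.1 (by omega)
  set q := π.max' hπne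
  have hq := (hmem.1 (π.max'_mem hπne)).1
  have hbound : ∀ X : Subgroup G, X ≠ ⊤ → RankLE 2 (fittingOf X) →
      (∀ {t : ℕ}, t.Prime → opOf t X ≠ ⊥ → t ∈ π) → ∀ t, t.Prime → t ∣ Nat.card X → t ≤ q := by
    intro X hX hrk hXπ t ht htd
    have hne : ((Nat.card X).primeFactors).Nonempty :=
      ⟨t, Nat.mem_primeFactors.2 ⟨ht, htd, Nat.card_pos.ne'⟩⟩
    set s := (Nat.card X).primeFactors.max' hne
    have hs := Nat.mem_primeFactors.1 ((Nat.card X).primeFactors.max'_mem hne)
    have hts : t ≤ s := Finset.le_max' _ _ (Nat.mem_primeFactors.2 ⟨ht, htd, Nat.card_pos.ne'⟩)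
    haveI := Fact.mk hs.1
    obtain ⟨⟨a, ha⟩, hao⟩ := exists_prime_orderOf_dvd_card' (G := X) s hs.2.1
    rw [Subgroup.orderOf_mk] at hao
    have hsub := le_opOf_max hG hX hs.1 (fun t' ht' hd' => Finset.le_max' _ _
      (Nat.mem_primeFactors.2 ⟨ht', hd', Nat.card_pos.ne'⟩)) hrk (Subgroup.zpowers_le.2 ha)
      (IsPGroup.of_card (n := 1) (by rw [Nat.card_zpowers, hao, pow_one]))
    refine hts.trans (Finset.le_max' _ _ (hXπ hs.1 fun e => hs.1.ne_one ?_))
    exact hao.symm.trans (orderOf_eq_one_iff.2 (Subgroup.mem_bot.1 (e ▸ hsub (Subgroup.mem_zpowers a))))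
  have hle : ∀ X Y : Subgroup G, X ≠ ⊤ → RankLE 2 (fittingOf X) →
      (∀ {t : ℕ}, t.Prime → opOf t X ≠ ⊥ → t ∈ π) → fittingOf Y ≤ X → opOf q Y ≤ opOf q X :=
    fun X Y hX hrk hXπ hYX => le_opOf_max hG hX hq (hbound X hX hrk hXπ) hrk
      ((opOf_le_fittingOf hq Y).trans hYX) (isPGroup_opOf hq Y)
  have heq : opOf q H = opOf q L := le_antisymm (hle L H hL.1 hrL hLπ hFHL)
    (hle H L hH.1 hrH (fun ht => (hop ht).1) hFLH)
  rw [← normalizer_eq_of_isCoatom hG hL (piCoreOf_le _ L) (hπL (π.max'_mem hπne)) (le_normalizer_piCoreOf _ L),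
    ← normalizer_eq_of_isCoatom hG hH (piCoreOf_le _ H) ((hop hq).2 (π.max'_mem hπne)) (le_normalizer_piCoreOf _ H)]
  rw [show piCoreOf _ L = opOf q L from rfl]
  exact (congrArg (fun W : Subgroup G => Subgroup.normalizer (W : Set G)) heq).symm

end CfsgLib.OddLocal.FittingOvergroup
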