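import Cfsg.Agent.Lib.OddLocal.TauTwoHall

/-!
BG 12.13: nonabelian `p`-subgroups are uniqueness subgroups.
-/

set_option autoImplicit false
set_option linter.style.haveILetI false
set_option linter.unusedSectionVars false

open scoped commutatorElement
open scoped Pointwise

namespace CfsgLib.OddLocal

open CfsgLib.Coprime
open CfsgLib.BG.FixedLine (conj_mem_of_le_normalizer mem_normalizer_of_conj)

universe u

variable {G : Type u} [Group G] [Finite G] {p : ℕ}

/-- `L = L_α N_L(S)` for `p ∈ σ(L)`. -/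
theorem le_of_alphaCore_le (hG : Cfsg.IsMinSimpleOddOrder G) {L M : Subgroup G} (hL : IsCoatom L) [Fact p.Prime]
    (hpσ : p ∈ Cfsg.sigma L) (S : Sylow p G) (hSL : (S : Subgroup G) ≤ L)
    (hN : Subgroup.normalizer ((S : Subgroup G) : Set G) ≤ M) (hα : Cfsg.alphaCore L ≤ M) : L ≤ M := by
  classical
  set K := Cfsg.piCore (Cfsg.alpha L) ↥L
  set f := QuotientGroup.mk' K with hf
  set P : Sylow p L := S.subtype hSL with hP
  haveI := Fitting.pCore_normal (G := ↥L ⧸ K) p
  set B := (Cfsg.pCore p (↥L ⧸ K)).comap f with hB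
  haveI : B.Normal := Subgroup.Normal.comap inferInstance _
  have hPB : (P : Subgroup L) ≤ B := Subgroup.map_le_iff_le_comap.1 (map_sylow_le_pCore hG hL hpσ P)
  have hpc : Cfsg.pCore p (↥L ⧸ K) = (P : Subgroup L).map f := by
    refine ((P.mapSurjective (QuotientGroup.mk'_surjective K)).3 (CfsgLib.Fitting.pCore_isPGroup p) ?_).trans
      (Sylow.coe_mapSurjective _ P)
    exact (Sylow.coe_mapSurjective _ P).le.trans (map_sylow_le_pCore hG hL hpσ P)
  have hBeq : B = (P : Subgroup L) ⊔ K := by rw [hB, hpc, Subgroup.comap_map_eq, hf, QuotientGroup.ker_mk']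
  have hN' : (Subgroup.normalizer ((P : Subgroup L) : Set L)).map L.subtype ≤ M := by
    rintro _ ⟨n, hn, rfl⟩
    refine hN (mem_normalizer_of_conj fun s hs => ?_)
    exact conj_mem_of_le_normalizer hn ⟨s, hSL hs⟩ hs
  have hK' : K.map L.subtype ≤ M := hα
  have htop := Sylow.normalizer_sup_eq_top' P hPB
  have h1 : (⊤ : Subgroup L).map L.subtype ≤ M := by
    rw [← htop, hBeq, Subgroup.map_sup, Subgroup.map_sup]
    exact sup_le hN' (sup_le ((Subgroup.map_mono Subgroup.le_normalizer).trans hN') hK')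
  rwa [← MonoidHom.range_eq_map, Subgroup.range_subtype] at h1

/-- Two maximal subgroups through a noncyclic `σ`-subgroup share a Sylow subgroup with its normalizer. -/
theorem exists_common_sylow (hG : Cfsg.IsMinSimpleOddOrder G) {L M P : Subgroup G} [Fact p.Prime]
    (hL : IsCoatom L) (hM : IsCoatom M) (hLσ : p ∈ Cfsg.sigma L) (hMσ : p ∈ Cfsg.sigma M) (hP : IsPGroup p P)
    (hPL : P ≤ L) (hPM : P ≤ M) (hnc : ¬ IsCyclic P) :
    ∃ S : Sylow p G, P ≤ (S : Subgroup G) ∧ (S : Subgroup G) ≤ L ∧ (S : Subgroup G) ≤ M ∧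
      Subgroup.normalizer ((S : Subgroup G) : Set G) ≤ L ∧ Subgroup.normalizer ((S : Subgroup G) : Set G) ≤ M := by
  classical
  obtain ⟨R, hPR, hR⟩ := Finite.exists_le_maximal (p := fun R : Subgroup G => IsPGroup p R ∧ R ≤ L ⊓ M) (a := P)
    ⟨hP, le_inf hPL hPM⟩
  have hRnc : ¬ IsCyclic R := fun hc => hnc (by
    haveI := hc; exact isCyclic_of_injective (Subgroup.inclusion hPR) (Subgroup.inclusion_injective _))
  have hNL := normalizer_le_of_noncyclic hG hL hLσ hR.prop.1 (hR.prop.2.trans inf_le_left) hRnc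
  have hNM := normalizer_le_of_noncyclic hG hM hMσ hR.prop.1 (hR.prop.2.trans inf_le_right) hRnc
  obtain ⟨S, hS⟩ := hR.prop.1.exists_le_sylow
  have hSR : (S : Subgroup G) = R := by
    refine le_antisymm ?_ hS
    by_contra hne
    obtain ⟨y, hyS, hyN, hyR⟩ := exists_mem_normalizer_not_mem S.2 hS hne
    refine hyR (hR.2 ⟨S.2.to_le (sup_le hS (Subgroup.zpowers_le.2 hyS)), sup_le hR.prop.2
      (Subgroup.zpowers_le.2 ⟨hNL hyN, hNM hyN⟩)⟩ le_sup_left (Subgroup.mem_sup_right (Subgroup.mem_zpowers y)))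
  exact ⟨S, hPR.trans hS, hSR.le.trans (hR.prop.2.trans inf_le_left), hSR.le.trans (hR.prop.2.trans inf_le_right),
    hSR ▸ hNL, hSR ▸ hNM⟩

variable {L M P₁ : Subgroup G}

/-- If the centre line of `P₁` is not unique in `M`, then `L ≤ M`. -/
theorem le_of_center_line (hG : Cfsg.IsMinSimpleOddOrder G) [Fact p.Prime] (hL : IsCoatom L) (hM : IsCoatom M)
    (hLσ : p ∈ Cfsg.sigma L) (hMσ : p ∈ Cfsg.sigma M) (hLα : p ∉ Cfsg.alpha L) (S : Sylow p G)
    (hSL : (S : Subgroup G) ≤ L) (hSM : (S : Subgroup G) ≤ M)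
    (hNL : Subgroup.normalizer ((S : Subgroup G) : Set G) ≤ L) (hNM : Subgroup.normalizer ((S : Subgroup G) : Set G) ≤ M)
    (hP₁S : P₁ ≤ (S : Subgroup G)) (hna : ¬ IsMulCommutative P₁) (hc3 : Nat.card P₁ = p ^ 3)
    (hexp : ∀ x ∈ P₁, x ^ p = 1)
    (hU : ¬ (Subgroup.normalizer ((P₁ ⊓ Subgroup.centralizer (P₁ : Set G) : Subgroup G) : Set G) ≤ M ∧
      ∀ K : Subgroup G, IsCoatom K →
        Subgroup.normalizer ((P₁ ⊓ Subgroup.centralizer (P₁ : Set G) : Subgroup G) : Set G) ≤ K → K = M)) :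
    L = M := by
  classical
  have hp : p.Prime := Fact.out
  suffices hle : L ≤ M from ((hL.le_iff).1 hle).resolve_left hM.1 |>.symm
  set Z := P₁ ⊓ Subgroup.centralizer (P₁ : Set G) with hZdef
  have hP₁p : IsPGroup p P₁ := IsPGroup.of_card hc3
  have hzsub : ∀ z : P₁, z ∈ Subgroup.center P₁ ↔ (z : G) ∈ Z := fun z => by
    refine ⟨fun hz => ⟨z.2, fun y hy => congrArg Subtype.val (Subgroup.mem_center_iff.1 hz ⟨y, hy⟩)⟩, fun hz => ?_⟩
    exact Subgroup.mem_center_iff.2 fun y => Subtype.ext (hz.2 y y.2)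
  have hquot : ∀ a b : P₁, a ^ p ∈ Subgroup.center P₁ ∧ ⁅a, b⁆ ∈ Subgroup.center P₁ ∧
      Nat.card (Subgroup.center P₁) = p := by
    intro a b
    obtain ⟨k, hk3, hk⟩ := (Nat.dvd_prime_pow hp).1 (hc3 ▸ (Subgroup.center P₁).card_subgroup_dvd_card)
    haveI : Nontrivial P₁ := Finite.one_lt_card_iff_nontrivial.1 (by
      rw [hc3]; exact Nat.one_lt_pow (by norm_num) hp.one_lt)
    haveI := hP₁p.center_nontrivial
    have hk1 : 1 ≤ k := by
      by_contra h0
      have : 1 < Nat.card (Subgroup.center P₁) := Finite.one_lt_card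
      rw [hk, show k = 0 by omega, pow_zero] at this
      exact lt_irrefl 1 this
    have hnc : ¬ IsCyclic (P₁ ⧸ Subgroup.center P₁) := fun hc => by
      haveI := hc
      exact hna ⟨⟨fun x y => commutative_of_cyclic_center_quotient (QuotientGroup.mk' (Subgroup.center P₁))
        (by simp) x y⟩⟩
    have hdvd := (Subgroup.center P₁).card_mul_index
    have hidx : Nat.card (P₁ ⧸ Subgroup.center P₁) = p ^ (3 - k) := by
      rw [← Subgroup.index_eq_card]
      rw [hk, hc3, show p ^ 3 = p ^ k * p ^ (3 - k) by rw [← pow_add]; congr 1; omega] at hdvd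
      exact Nat.eq_of_mul_eq_mul_left (pow_pos hp.pos k) hdvd
    have hk' : 3 - k = 2 := by
      by_contra hne
      rcases (show 3 - k = 0 ∨ 3 - k = 1 by omega) with h | h
      · rw [h, pow_zero] at hidx
        exact hnc (haveI := (Nat.card_eq_one_iff_unique.1 hidx).1; inferInstance)
      · rw [h, pow_one] at hidx; exact hnc (isCyclic_of_prime_card hidx)
    rw [hk'] at hidx
    refine ⟨pow_mem_center_of_cube hc3 hna a, ?_, by rw [hk, show k = 1 by omega, pow_one]⟩
    rw [← QuotientGroup.eq_one_iff]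
    change QuotientGroup.mk' (Subgroup.center P₁) ⁅a, b⁆ = 1
    rw [map_commutatorElement, commutatorElement_eq_one_iff_mul_comm]
    exact IsPGroup.commutative_of_card_eq_prime_sq hidx _ _
  have hZc : Nat.card Z = p := by
    rw [← (hquot 1 1).2.2]
    refine Nat.card_congr
      { toFun := fun z => ⟨⟨z, z.2.1⟩, (hzsub _).2 z.2⟩
        invFun := fun z => ⟨(z : P₁), (hzsub z).1 z.2⟩
        left_inv := fun z => rfl
        right_inv := fun z => rfl }
  have hZP : Z ≤ P₁ := inf_le_left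
  have hZ1 : Z ≠ ⊥ := fun e => hp.ne_one (by rw [← hZc, e, Subgroup.card_bot])
  have hP₁M : P₁ ≤ M := hP₁S.trans hSM
  have hP₁L : P₁ ≤ L := hP₁S.trans hSL
  -- the elementary subgroups `Z ⟨x⟩`
  have helem : ∀ x ∈ P₁, x ∉ Z → ∃ A : Subgroup G, A = Z ⊔ Subgroup.zpowers x ∧ A ≤ P₁ ∧
      Cfsg.IsElementaryAbelian p A ∧ Nat.card A = p ^ 2 := by
    intro x hx hxZ
    have hx1 : orderOf x = p := orderOf_eq_prime (hexp x hx) fun e => hxZ (e ▸ one_mem Z)
    have hcomm : Subgroup.zpowers x ≤ Subgroup.centralizer (Z : Set G) :=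
      Subgroup.zpowers_le.2 fun z hz => (hz.2 x hx).symm
    have hle : Z ⊔ Subgroup.zpowers x ≤ P₁ := sup_le hZP (Subgroup.zpowers_le.2 hx)
    refine ⟨_, rfl, hle, ⟨?_, fun y hy => hexp y (hle hy)⟩, ?_⟩
    · rw [← Subgroup.closure_eq Z, Subgroup.zpowers_eq_closure, ← Subgroup.closure_union]
      exact Subgroup.isMulCommutative_closure (by
        rintro a (ha | rfl) b (hb | rfl)
        · exact ha.2 b hb.1 |>.symm
        · exact (ha.2 b hx).symm
        · exact hb.2 a hx
        · rfl)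
    · have h1 := card_sup_mul_card_inf (K := Z) (S := Subgroup.zpowers x) (hcomm.trans (Subgroup.centralizer_le_normalizer _))
      have hinf : Z ⊓ Subgroup.zpowers x = ⊥ := by
        rcases (Nat.dvd_prime hp).1 (hZc ▸ Subgroup.card_dvd_of_le (inf_le_left : Z ⊓ Subgroup.zpowers x ≤ Z)) with e | e
        · exact Subgroup.card_eq_one.1 e
        · exfalso
          have e2 : Z ⊓ Subgroup.zpowers x = Subgroup.zpowers x :=
            Subgroup.eq_of_le_of_card_ge inf_le_right (by rw [Nat.card_zpowers, hx1, e])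
          exact hxZ ((inf_le_left : _ ≤ Z) (e2.ge (Subgroup.mem_zpowers x)))
      rw [hinf, Subgroup.card_bot, mul_one, hZc, Nat.card_zpowers, hx1] at h1
      rw [h1, sq]
  by_cases hstop : Cfsg.alphaCore L ≤ M
  · exact le_of_alphaCore_le hG hL hLσ S hSL hNM hstop
  -- every noncentral element has its centralizer in `M`, unless `M_α = 1`
  have hline : ∀ x ∈ P₁, x ∉ Z → Subgroup.centralizer ({x} : Set G) ≤ M := by
    intro x hx hxZ
    obtain ⟨A, hA, hAP, hAe, hA2⟩ := helem x hx hxZ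
    by_cases hnu : ∀ B : Subgroup G, B ≤ A → Nat.card B = p →
        ∃ K : Subgroup G, IsCoatom K ∧ Subgroup.normalizer (B : Set G) ≤ K ∧ K ≠ M
    · have h0 := AllNonUnique.alphaCore_eq_bot (p := p) (M := M) (A := A) ⟨hG, hM, hp, hAP.trans hP₁M, hAe, hA2, hnu⟩
      have hML := le_of_alphaCore_le hG hM hMσ S hSM hNL (h0 ▸ bot_le)
      exact absurd (((hM.le_iff).1 hML).resolve_left hL.1) fun e => hstop (e ▸ piCoreOf_le _ _)
    push Not at hnu
    obtain ⟨B, hBA, hBc, hBu⟩ := hnu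
    have hbot : B ≠ ⊥ := fun e => hp.ne_one (by rw [← hBc, e, Subgroup.card_bot])
    obtain ⟨K, hK, hNK⟩ := (eq_top_or_exists_le_coatom _).resolve_left
      (normalizer_ne_top hG hbot fun e => hM.1 (top_unique (e.ge.trans (hBA.trans (hAP.trans hP₁M)))))
    have hNB : Subgroup.normalizer (B : Set G) ≤ M := hBu K hK hNK ▸ hNK
    have hBZ : B ≠ Z := fun e => hU ⟨e ▸ hNB, fun K' hK' hN' => hBu K' hK' (e ▸ hN')⟩
    obtain ⟨b, hb, hBb, -⟩ := CfsgLib.BG.PLengthHall.exists_gen_of_prime (R₀ := B) (hBc.symm ▸ hp)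
    have hbA := hBA hb
    have hcomm : Subgroup.zpowers x ≤ Subgroup.normalizer (Z : Set G) :=
      Subgroup.zpowers_le.2 (Subgroup.centralizer_le_normalizer _ fun z hz => (hz.2 x hx).symm)
    rw [hA, ← SetLike.mem_coe, Subgroup.coe_mul_of_right_le_normalizer_left Z (Subgroup.zpowers x) hcomm, Set.mem_mul] at hbA
    obtain ⟨w, hw, v, hv, hwv⟩ := hbA
    have hxo : orderOf x = p := orderOf_eq_prime (hexp x hx) fun e => hxZ (e ▸ one_mem Z)
    rw [SetLike.mem_coe, mem_zpowers_iff_mem_range_orderOf] at hv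
    obtain ⟨i, -, rfl⟩ := Finset.mem_image.1 hv
    have hpi : ¬ p ∣ i := by
      rintro ⟨t, rfl⟩
      rw [pow_mul, hexp x hx, one_pow, mul_one] at hwv
      refine hBZ (Subgroup.eq_of_le_of_card_ge ?_ (by rw [hZc, hBc]))
      rw [hBb, ← hwv]; exact Subgroup.zpowers_le.2 hw
    -- some `y` moves `x`
    obtain ⟨y, hy, hyx⟩ : ∃ y ∈ P₁, ⁅y, x⁆ ≠ 1 := by
      by_contra hne
      push Not at hne
      exact hxZ ⟨hx, fun y hy => commutatorElement_eq_one_iff_mul_comm.1 (hne y hy)⟩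
    set c := ⁅y, x⁆ with hc
    have hcZ : c ∈ Z := by
      have := (hzsub _).1 (hquot ⟨y, hy⟩ ⟨x, hx⟩).2.1
      exact this
    have hco : orderOf c = p := orderOf_eq_prime (hexp c hcZ.1) hyx
    have hZgen : Z = Subgroup.zpowers c := (Subgroup.eq_of_le_of_card_ge (Subgroup.zpowers_le.2 hcZ) (by
      rw [hZc, Nat.card_zpowers, hco])).symm
    have hiter : ∀ j : ℕ, y ^ j * x * (y ^ j)⁻¹ = c ^ j * x := by
      intro j
      induction j with
      | zero => simp
      | succ j ih =>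
        have hg1 : y * x * y⁻¹ = c * x := by rw [hc, commutatorElement_def]; group
        have hgcj : y * c ^ j * y⁻¹ = c ^ j := by
          rw [((show Commute y c from hcZ.2 y hy).pow_right j).eq]; group
        calc y ^ (j + 1) * x * (y ^ (j + 1))⁻¹ = y * (y ^ j * x * (y ^ j)⁻¹) * y⁻¹ := by rw [pow_succ']; group
          _ = (y * c ^ j * y⁻¹) * (y * x * y⁻¹) := by rw [ih]; group
          _ = c ^ (j + 1) * x := by rw [hgcj, hg1, pow_succ]; group
    obtain ⟨j, hj⟩ : ∃ j : ℕ, (c ^ j) ^ i = w := by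
      rw [SetLike.mem_coe, hZgen, mem_zpowers_iff_mem_range_orderOf] at hw
      obtain ⟨l, -, rfl⟩ := Finset.mem_image.1 hw
      obtain ⟨i', hi'⟩ := exists_pow_eq_self_of_coprime (x := c) (n := i)
        (by rw [hco]; exact (hp.coprime_iff_not_dvd.2 hpi).symm)
      refine ⟨i' * l, ?_⟩
      calc (c ^ (i' * l)) ^ i = ((c ^ i) ^ i') ^ l := by rw [← pow_mul, ← pow_mul, ← pow_mul]; ring_nf
        _ = c ^ l := by rw [hi']
    have hbeq : b = y ^ j * x ^ i * (y ^ j)⁻¹ := by
      rw [← conj_pow, hiter, ((show Commute c x from (hcZ.2 x hx).symm).pow_left j).mul_pow, hj, hwv]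
    intro g hg
    have hgb : y ^ j * g * (y ^ j)⁻¹ ∈ Subgroup.centralizer (B : Set G) := fun u hu => by
      rw [SetLike.mem_coe, hBb] at hu
      obtain ⟨l, rfl⟩ := Subgroup.mem_zpowers_iff.1 hu
      have hcomm' : Commute b (y ^ j * g * (y ^ j)⁻¹) := by
        have h1 : Commute (x ^ i) g := (show Commute g x from Subgroup.mem_centralizer_singleton_iff.1 hg).symm.pow_left i
        show b * _ = _ * b
        rw [hbeq]
        calc y ^ j * x ^ i * (y ^ j)⁻¹ * (y ^ j * g * (y ^ j)⁻¹) = y ^ j * (x ^ i * g) * (y ^ j)⁻¹ := by group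
          _ = y ^ j * (g * x ^ i) * (y ^ j)⁻¹ := by rw [h1.eq]
          _ = _ := by group
      exact (hcomm'.zpow_left l).eq
    have h2 := hNB (Subgroup.centralizer_le_normalizer _ hgb)
    have hyM : y ^ j ∈ M := M.pow_mem (hP₁M hy) j
    have := M.mul_mem (M.mul_mem (M.inv_mem hyM) h2) hyM
    simpa [mul_assoc] using this
  -- the centralizer of `Z` in `L_α`
  refine le_of_alphaCore_le hG hL hLσ S hSL hNM ?_
  set W₀ := Cfsg.alphaCore L
  have hcopW : ∀ {D : Subgroup G}, D ≤ W₀ → ∀ {Q : Subgroup G}, IsPGroup p Q → (Nat.card Q).Coprime (Nat.card D) := by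
    intro D hD Q hQ
    obtain ⟨k, hk⟩ := hQ.exists_card_eq
    rw [hk]
    exact (hp.coprime_iff_not_dvd.2 fun hd => hLα (isPi_piCoreOf _ L p hp (hd.trans (Subgroup.card_dvd_of_le hD)))).pow_left k
  set W := W₀ ⊓ Subgroup.centralizer (Z : Set G) with hW
  have hP₁C : P₁ ≤ Subgroup.centralizer (Z : Set G) := fun g hg z hz => (hz.2 g hg).symm
  have hWnorm : P₁ ≤ Subgroup.normalizer (W : Set G) := le_normalizer_inf_of_le
    (hP₁L.trans (le_normalizer_piCoreOf _ L)) (hP₁C.trans Subgroup.le_normalizer)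
  have hWM : W ≤ M := by
    set C := Subgroup.centralizer (Z : Set G) with hC
    have hZC : Z ≤ C := hZP.trans hP₁C
    haveI : (Z.subgroupOf C).Normal :=
      (Subgroup.normal_subgroupOf_iff_le_normalizer hZC).2 (Subgroup.centralizer_le_normalizer _)
    set π := QuotientGroup.mk' (Z.subgroupOf C) with hπ
    set A' := (P₁.subgroupOf C).map π with hA'
    haveI hcA : IsMulCommutative A' := ⟨⟨by
      rintro ⟨_, u, hu, rfl⟩ ⟨_, v, hv, rfl⟩
      refine Subtype.ext (commutatorElement_eq_one_iff_mul_comm.1 ?_)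
      rw [← map_commutatorElement, hπ, QuotientGroup.mk'_apply, QuotientGroup.eq_one_iff, Subgroup.mem_subgroupOf]
      exact (hzsub _).1 (hquot ⟨u, hu⟩ ⟨v, hv⟩).2.1⟩⟩
    have hA'c : ¬ IsCyclic A' := by
      refine not_isCyclic_of_exponent (p := p) ?_ hp.pos ?_
      · rintro _ ⟨u, hu, rfl⟩
        rw [← map_pow, show u ^ p = 1 from Subtype.ext (hexp _ hu), map_one]
      · have h2 := (π.domRestrict (P₁.subgroupOf C)).ker.card_mul_index
        rw [Subgroup.index_ker, MonoidHom.domRestrict_range, Nat.card_congr (Subgroup.subgroupOfEquivOfLe hP₁C).toEquiv,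
          hc3] at h2
        have hker : Nat.card (π.domRestrict (P₁.subgroupOf C)).ker ≤ p := by
          rw [← hZc]
          refine Nat.le_of_dvd Nat.card_pos (Subgroup.card_dvd_of_injective
            (((C.subtype.comp (P₁.subgroupOf C).subtype).comp (π.domRestrict (P₁.subgroupOf C)).ker.subtype).codRestrict Z
              fun k => ?_) ?_)
          · exact Subgroup.mem_subgroupOf.1 ((QuotientGroup.eq_one_iff _).1 k.2)
          · exact fun a b hab => Subtype.ext (Subtype.ext (Subtype.ext (congrArg (fun x : Z => (x : G)) hab)))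
        by_contra hle
        have hle' : Nat.card A' ≤ p := not_lt.1 hle
        have h3 := Nat.mul_le_mul hker hle'
        rw [hA'] at h3
        rw [h2] at h3
        exact absurd h3 (not_le.2 (by rw [← sq]; exact Nat.pow_lt_pow_right hp.one_lt (by norm_num)))
    have hnormW : P₁.subgroupOf C ≤ Subgroup.normalizer ((W.subgroupOf C : Subgroup C) : Set C) := fun u hu =>
      mem_normalizer_of_conj fun w hw => conj_mem_of_le_normalizer (hWnorm hu) (w : G) hw
    have hres : (W.subgroupOf C).map π ≤ (M.subgroupOf C).map π := by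
      refine le_of_centralizer_le hA'c ((Subgroup.map_mono hnormW).trans (Subgroup.le_normalizer_map _)) ?_ ?_
      · exact ((hcopW (inf_le_left : W ≤ W₀) hP₁p).coprime_dvd_left ((Subgroup.card_map_dvd _ π).trans
          (Nat.card_congr (Subgroup.subgroupOfEquivOfLe hP₁C).toEquiv).dvd)).coprime_dvd_right
          ((Subgroup.card_map_dvd _ π).trans (Nat.card_congr (Subgroup.subgroupOfEquivOfLe inf_le_right).toEquiv).dvd)
      rintro _ ⟨u, hu, rfl⟩ hu1
      have huZ : (u : G) ∉ Z := fun hh => hu1 ((QuotientGroup.eq_one_iff _).2 hh)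
      have hX : Subgroup.zpowers u ≤ Subgroup.normalizer ((W.subgroupOf C : Subgroup C) : Set C) :=
        Subgroup.zpowers_le.2 (hnormW hu)
      have hcop : (Nat.card (Subgroup.zpowers u)).Coprime (Nat.card (W.subgroupOf C)) := by
        rw [Nat.card_zpowers, Nat.card_congr (Subgroup.subgroupOfEquivOfLe inf_le_right).toEquiv, ← Subgroup.orderOf_coe]
        exact (hcopW (inf_le_left : W ≤ W₀) hP₁p).coprime_dvd_left (Subgroup.orderOf_dvd_natCard P₁ hu)
      intro w hw
      have hw' : w ∈ (W.subgroupOf C ⊓ Subgroup.centralizer (Subgroup.zpowers u : Set C)).map π := by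
        rw [map_inf_centralizer hX hcop (Or.inl inferInstance) π, MonoidHom.map_zpowers]
        refine ⟨hw.1, fun g hg => ?_⟩
        obtain ⟨i, rfl⟩ := Subgroup.mem_zpowers_iff.1 hg
        exact ((show Commute (π u) w from hw.2 _ rfl).zpow_left i).eq
      obtain ⟨v, ⟨-, hvC⟩, rfl⟩ := hw'
      refine ⟨v, hline (u : G) hu huZ ?_, rfl⟩
      exact Subgroup.mem_centralizer_singleton_iff.2 (congrArg Subtype.val (hvC u (Subgroup.mem_zpowers u))).symm
    intro w hw
    obtain ⟨v, hv, hve⟩ := hres (Subgroup.mem_map_of_mem π (show (⟨w, hw.2⟩ : C) ∈ W.subgroupOf C from hw))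
    rw [hπ, QuotientGroup.mk'_apply, QuotientGroup.mk'_apply, QuotientGroup.eq, Subgroup.mem_subgroupOf] at hve
    have h5 := M.mul_mem (show (v : G) ∈ M from hv) (hP₁M (hZP hve))
    simpa using h5
  obtain ⟨x, hx, hxZ⟩ : ∃ x ∈ P₁, x ∉ Z := SetLike.not_le_iff_exists.1 fun hle => hna ⟨⟨fun a b =>
    Subtype.ext ((hle b.2).2 a a.2)⟩⟩
  obtain ⟨A, hA, hAP, hAe, hA2⟩ := helem x hx hxZ
  haveI := hAe.1
  refine le_of_centralizer_le (not_isCyclic_of_exponent hAe.2 hp.pos
    (hA2 ▸ (by rw [sq]; exact lt_mul_of_one_lt_left hp.pos hp.one_lt)))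
    ((hAP.trans hP₁L).trans (le_normalizer_piCoreOf _ L)) (hcopW le_rfl (hP₁p.to_le hAP)) fun g hg hg1 => ?_
  by_cases hgZ : g ∈ Z
  · refine le_trans (inf_le_inf_left _ ?_) hWM
    intro v hv z hz
    have hgen : Z = Subgroup.zpowers g := (Subgroup.eq_of_le_of_card_ge (Subgroup.zpowers_le.2 hgZ) (by
      rw [hZc, Nat.card_zpowers, orderOf_eq_prime (hexp g (hAP hg)) hg1])).symm
    rw [SetLike.mem_coe, hgen] at hz
    obtain ⟨i, rfl⟩ := Subgroup.mem_zpowers_iff.1 hz
    exact ((show Commute g v from (Subgroup.mem_centralizer_singleton_iff.1 hv).symm).zpow_left i).eq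
  · exact inf_le_right.trans (hline g (hAP hg) hgZ)

/-- BG 12.13. -/
theorem nonabelian_uniq (hG : Cfsg.IsMinSimpleOddOrder G) [Fact p.Prime] {P : Subgroup G} (hP : IsPGroup p P)
    (hna : ¬ IsMulCommutative P) : ∀ {L M : Subgroup G}, IsCoatom L → IsCoatom M → P ≤ L → P ≤ M → L = M := by
  classical
  intro L M hL hM hPL hPM
  have hp : p.Prime := Fact.out
  have hσ : ∀ {K : Subgroup G}, IsCoatom K → P ≤ K → p ∈ Cfsg.sigma K := fun hK hPK => by
    by_contra h
    exact hna ⟨⟨fun a b => Subtype.ext (sylow_comm_of_not_sigma hG hK hp h hPK hP _ a.2 _ b.2)⟩⟩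
  have hnc : ¬ IsCyclic P := fun hc => hna (by
    obtain ⟨g, hg⟩ := hc.exists_generator
    exact ⟨⟨fun a b => by
      obtain ⟨i, rfl⟩ := Subgroup.mem_zpowers_iff.1 (hg a)
      obtain ⟨j, rfl⟩ := Subgroup.mem_zpowers_iff.1 (hg b)
      exact (Commute.zpow_zpow_self g i j).eq⟩⟩)
  obtain ⟨S, hPS, hSL, hSM, hNL, hNM⟩ := exists_common_sylow hG hL hM (hσ hL hPL) (hσ hM hPM) hP hPL hPM hnc
  by_cases hr : Cfsg.PRankLE p 2 (S : Subgroup G)
  swap
  · obtain ⟨B, hBS, hBe, hB3⟩ := exists_elementary hr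
    exact uniq_eq (elementary_uniq hG hBe hB3) hL (hBS.trans hSL) hM (hBS.trans hSM)
  have hα : ∀ {K : Subgroup G}, (S : Subgroup G) ≤ K → p ∉ Cfsg.alpha K := fun hSK hα => hα.2
    (prankLE_of_sylow (S.subtype hSK) (by rwa [Sylow.coe_subtype, Subgroup.map_subgroupOf_eq_of_le hSK]))
  rcases Cfsg.Agent.S1412.result hG p S hr with hab | ⟨P₁, P₂, hsup, -, hP₁na, hc3, hexp, -, -⟩
  · exact absurd ⟨⟨fun a b => Subtype.ext (congrArg Subtype.val
      (hab.is_comm.comm (⟨a, hPS a.2⟩ : (S : Subgroup G)) ⟨b, hPS b.2⟩) :)⟩⟩ hna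
  have hexp' : ∀ x ∈ P₁, x ^ p = 1 := fun x hx => by
    have h1 := Monoid.pow_exponent_eq_one (⟨x, hx⟩ : P₁)
    rw [hexp] at h1
    simpa using congrArg Subtype.val h1
  have hP₁S : P₁ ≤ (S : Subgroup G) := hsup ▸ le_sup_left
  set Z := P₁ ⊓ Subgroup.centralizer (P₁ : Set G) with hZ
  by_cases hU : Subgroup.normalizer (Z : Set G) ≤ M ∧
      ∀ K : Subgroup G, IsCoatom K → Subgroup.normalizer (Z : Set G) ≤ K → K = M
  · by_cases hU' : Subgroup.normalizer (Z : Set G) ≤ L ∧
        ∀ K : Subgroup G, IsCoatom K → Subgroup.normalizer (Z : Set G) ≤ K → K = L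
    · exact hU.2 L hL hU'.1
    · exact (le_of_center_line hG hM hL (hσ hM hPM) (hσ hL hPL) (hα hSM) S hSM hSL hNM hNL hP₁S hP₁na hc3 hexp' hU').symm
  · exact le_of_center_line hG hL hM (hσ hL hPL) (hσ hM hPM) (hα hSL) S hSL hSM hNL hNM hP₁S hP₁na hc3 hexp' hU

theorem inUniqueMaximal_of_nonabelian (hG : Cfsg.IsMinSimpleOddOrder G) [Fact p.Prime] {P : Subgroup G} (hP : IsPGroup p P)
    (hna : ¬ IsMulCommutative P) : Cfsg.InUniqueMaximal P := by
  have hne : P ≠ ⊤ := fun e => by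
    subst e
    haveI := hP.isNilpotent
    haveI : Nontrivial G := (subsingleton_or_nontrivial G).resolve_left fun hs =>
      hna ⟨⟨fun a b => Subsingleton.elim _ _⟩⟩
    have h1 := (hP.of_equiv (Subgroup.topEquiv : (⊤ : Subgroup G) ≃* G)).center_nontrivial
    rw [center_eq_bot hG] at h1
    exact false_of_nontrivial_of_subsingleton (⊥ : Subgroup G)
  obtain ⟨M, hM, hPM⟩ := (eq_top_or_exists_le_coatom P).resolve_left hne
  exact ⟨M, ⟨hM, hPM⟩, fun L hL => nonabelian_uniq hG hP hna hL.1 hM hL.2 hPM⟩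

end CfsgLib.OddLocal
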