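import Cfsg.Agent.Lib.OddLocal.TauTwoHall
import Cfsg.Agent.Lib.OddLocal.NonabelianUniq
import Cfsg.Agent.S1394
import Cfsg.Agent.S1424

/-!
BG 12.16: `σ(M)`-subgroups are conjugate into `M_σ`.
-/

set_option autoImplicit false
set_option linter.style.haveILetI false
set_option linter.unusedSectionVars false

open scoped commutatorElement
open scoped Pointwise

namespace CfsgLib.OddLocal

open CfsgLib.Coprime
open CfsgLib.BG.FixedLine (conj_mem_of_le_normalizer mem_normalizer_of_conj)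

universe u

variable {G : Type u} [Group G] [Finite G] {M L Y : Subgroup G}

/-- Maximal subgroups sharing an `α`-prime in their `σ`-sets are conjugate. -/
theorem conj_of_alpha (hG : Cfsg.IsMinSimpleOddOrder G) (hM : IsCoatom M) (hL : IsCoatom L) {r : ℕ}
    (hM' : r ∈ Cfsg.sigma M) (hL' : r ∈ Cfsg.sigma L) (hα : r ∈ Cfsg.alpha M ∨ r ∈ Cfsg.alpha L) :
    ∃ g : G, L = MulAut.conj g • M := by
  classical
  have hr : r.Prime := hM'.1
  haveI := Fact.mk hr
  obtain ⟨P⟩ : Nonempty (Sylow r M) := inferInstance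
  obtain ⟨R, hR⟩ := exists_sylow_map_eq hM' P
  obtain ⟨Q⟩ : Nonempty (Sylow r L) := inferInstance
  obtain ⟨R', hR'⟩ := exists_sylow_map_eq hL' Q
  have hRM : (R : Subgroup G) ≤ M := hR.le.trans (Subgroup.map_subtype_le _)
  have hR'L : (R' : Subgroup G) ≤ L := hR'.le.trans (Subgroup.map_subtype_le _)
  obtain ⟨g, hg⟩ := MulAction.exists_smul_eq G R R'
  have hgM : IsCoatom (MulAut.conj g • M) := ((MulAut.conj g).mapSubgroup).isCoatom_iff _ |>.2 hM
  have hR'M : (R' : Subgroup G) ≤ MulAut.conj g • M := by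
    rw [← hg, Sylow.coe_subgroup_smul]; exact Subgroup.map_mono hRM
  have h3 : ¬ Cfsg.PRankLE r 2 (R' : Subgroup G) := by
    intro hle
    rcases hα with hα | hα
    · refine hα.2 (prankLE_of_sylow (R.subtype hRM) ?_)
      rw [Sylow.coe_subtype, Subgroup.map_subgroupOf_eq_of_le hRM]
      have e : (R' : Subgroup G) = MulAut.conj g • (R : Subgroup G) := by rw [← hg, Sylow.coe_subgroup_smul]
      refine CfsgLib.BG.prankLE_of_injective
        ((R : Subgroup G).equivMapOfInjective (MulAut.conj g).toMonoidHom (MulAut.conj g).injective).toMonoidHom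
        (MulEquiv.injective _) ?_
      rw [e] at hle; exact hle
    · refine hα.2 (prankLE_of_sylow Q ?_)
      rw [← hR']; exact hle
  obtain ⟨B, hB, hBe, hB3⟩ := exists_elementary h3
  exact ⟨g, uniq_eq (elementary_uniq hG hBe hB3) hL (hB.trans hR'L) hgM (hB.trans hR'M)⟩

/-- A `σ(M)`-subgroup of `M` lies in `M_σ`. -/
theorem le_sigmaCore_of_isPi (hG : Cfsg.IsMinSimpleOddOrder G) (hM : IsCoatom M) (hYM : Y ≤ M)
    (hY : ∀ p : ℕ, p.Prime → p ∣ Nat.card Y → p ∈ Cfsg.sigma M) : Y ≤ Cfsg.sigmaCore M := by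
  have h : Y.subgroupOf M ≤ Cfsg.piCore (Cfsg.sigma M) ↥M := by
    refine le_of_coprime_index (Nat.coprime_of_dvd fun r hr h1 h2 => ?_)
    rw [Nat.card_congr (Subgroup.subgroupOfEquivOfLe hYM).toEquiv] at h1
    exact not_dvd_index_sigma hG hM hr (hY r hr h1) h2
  exact (Subgroup.map_subgroupOf_eq_of_le hYM).ge.trans (Subgroup.map_mono h)

/-- The index of `M ∩ L` in `L` is a `σ(M)'`-number in the situation of BG 12.15. -/
theorem relIndex_inf_not_sigma (hG : Cfsg.IsMinSimpleOddOrder G) (hM : IsCoatom M) (hL : IsCoatom L)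
    {q : ℕ} [Fact q.Prime] (hq : q ∈ Cfsg.sigma M) {X : Subgroup G} (hXq : IsPGroup q X) (hX1 : X ≠ ⊥)
    (hXM : X ≤ M) (hne : L ≠ M) (hNX : Subgroup.normalizer (X : Set G) ≤ L) {r : ℕ} (hr : r.Prime)
    (hrσ : r ∈ Cfsg.sigma M) : ¬ r ∣ (M ⊓ L).relIndex L := by
  classical
  have hXL : X ≤ L := Subgroup.le_normalizer.trans hNX
  obtain ⟨S, hXS⟩ := (hXq.comap_of_injective (M ⊓ L).subtype (M ⊓ L).subtype_injective :
    IsPGroup q (X.subgroupOf (M ⊓ L))).exists_le_sylow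
  have hXS' : X ≤ (S : Subgroup ↥(M ⊓ L)).map (M ⊓ L).subtype :=
    (Subgroup.map_subgroupOf_eq_of_le (le_inf hXM hXL)).ge.trans (Subgroup.map_mono hXS)
  obtain ⟨hconj, hNS, hidx⟩ := Cfsg.Agent.S1424.result hG M hM q hq X hXq hX1 hXM L hL hne hNX S hXS'
  set S' := (S : Subgroup ↥(M ⊓ L)).map (M ⊓ L).subtype with hS'
  have hnc : ∀ {s : ℕ}, s ∈ Cfsg.sigma M → s ∈ Cfsg.sigma L → s ∉ Cfsg.alpha M ∧ s ∉ Cfsg.alpha L := by
    intro s h1 h2
    refine ⟨fun h3 => ?_, fun h3 => ?_⟩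
    · obtain ⟨g, hg⟩ := conj_of_alpha hG hM hL h1 h2 (Or.inl h3)
      exact hconj g hg
    · obtain ⟨g, hg⟩ := conj_of_alpha hG hM hL h1 h2 (Or.inr h3)
      exact hconj g hg
  have hS'L : S' ≤ L := (Subgroup.map_subtype_le _).trans inf_le_right
  have hS'M : S' ≤ M := (Subgroup.map_subtype_le _).trans inf_le_left
  have hS'q : IsPGroup q S' := S.2.map _
  -- `S` is a Sylow subgroup of `L`
  set P : Sylow q L := (hS'q.of_equiv (Subgroup.subgroupOfEquivOfLe hS'L).symm).toSylow hidx with hPdef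
  have hP : (P : Subgroup L).map L.subtype = S' := Subgroup.map_subgroupOf_eq_of_le hS'L
  have hindex : ∀ {K : Subgroup G}, K ≤ L → L ≤ Subgroup.normalizer (K : Set G) → L ≤ K ⊔ (M ⊓ L) →
      (M ⊓ L).relIndex L ∣ Nat.card K := by
    intro K hKL hLK hsup
    have h1 := card_sup_mul_card_inf (K := K) (S := M ⊓ L) (inf_le_right.trans hLK)
    rw [le_antisymm (sup_le hKL inf_le_right) hsup] at h1
    have h2 := Subgroup.relIndex_mul_relIndex ⊥ (M ⊓ L) L bot_le inf_le_right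
    rw [Subgroup.relIndex_bot_left, Subgroup.relIndex_bot_left] at h2
    rw [← h2, mul_assoc, mul_comm (Nat.card K)] at h1
    exact ⟨_, (Nat.eq_of_mul_eq_mul_left Nat.card_pos h1).symm⟩
  intro hd
  by_cases hqL : q ∈ Cfsg.sigma L
  · obtain ⟨T, hT⟩ := exists_sylow_map_eq hqL P
    have hTS : (T : Subgroup G) = S' := hT.trans hP
    have hNL : Subgroup.normalizer ((T : Subgroup G) : Set G) ≤ L := hT ▸ sylow_normalizer_le hqL P
    have hle : L ≤ Cfsg.alphaCore L ⊔ (M ⊓ L) := le_of_alphaCore_le hG hL hqL T (hTS.le.trans hS'L)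
      ((le_inf ((by rw [hTS]; exact hNS) : Subgroup.normalizer ((T : Subgroup G) : Set G) ≤ M) hNL).trans le_sup_right)
      le_sup_left
    have hdK := hd.trans (hindex (piCoreOf_le _ L) (le_normalizer_piCoreOf _ L) hle)
    have hrα : r ∈ Cfsg.alpha L := isPi_piCoreOf _ L r hr hdK
    exact (hnc hrσ (alpha_subset_sigma hG hL hrα)).2 hrα
  -- `q ∉ σ(L)`: then `S` is noncyclic
  have hSnc : ¬ IsCyclic S' := by
    intro hc
    have hqL' : q ∣ Nat.card L := by
      obtain ⟨z, hz, -, hzo⟩ := exists_central_order Fact.out hXq hX1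
      exact hzo ▸ Subgroup.orderOf_dvd_natCard L (hXL hz)
    refine hqL ⟨Fact.out, hqL', P, ?_⟩
    rw [hP]
    refine le_trans (fun g hg => mem_normalizer_of_conj fun x hx => ?_) hNX
    haveI := hc
    set ψ := Subgroup.normalizerMonoidHom S' ⟨g, hg⟩
    obtain ⟨i, hi⟩ := MonoidHom.map_cyclic ψ.toMonoidHom
    have h1 : (⟨x, hXS' hx⟩ : S') ^ i = ψ ⟨x, hXS' hx⟩ := (hi _).symm
    have h2 : x ^ i = g * x * g⁻¹ := congrArg Subtype.val h1
    exact h2 ▸ X.zpow_mem hx i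
  obtain ⟨A, hAS, hAe, hA2⟩ := exists_elem_sq hG Fact.out hS'q hSnc
  have hAM : A ≤ M := hAS.trans hS'M
  have hAL : A ≤ L := hAS.trans hS'L
  obtain ⟨A₀, h⟩ := exists_exc hG hL Fact.out hqL hAL hAe hA2
  have hA := h.maxElem
  have hAnc : ¬ IsCyclic A := hA.not_isCyclic
  have hNA : Subgroup.normalizer (A : Set G) ≤ M := normalizer_le_of_noncyclic hG hM hq hA.isPGroup hAM hAnc
  have hle : L ≤ Cfsg.sigmaCore L ⊔ (M ⊓ L) := by
    intro l hl
    have h1 := h.le_normalizer_sup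
    -- Frattini: `L = L_σ N_L(A)`
    obtain ⟨d, hd', n, hn, rfl⟩ := h.decomp hl
    have hn' : n ∈ M ⊓ L := ⟨hNA hn.2, hn.1⟩
    refine mul_mem ?_ (Subgroup.mem_sup_right hn')
    -- `d` fixes `L_σ A` and so lies in `L_σ N_L(A)`
    set W := Cfsg.sigmaCore L ⊔ A
    have hdL : d ∈ L := (Subgroup.map_subtype_le _) hd'
    have hWL : W ≤ L := sup_le (piCoreOf_le _ L) hAL
    haveI hWn : (W.subgroupOf L).Normal := (Subgroup.normal_subgroupOf_iff_le_normalizer hWL).2 h1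
    haveI := Fact.mk h.hp
    obtain ⟨P₀, hP₀⟩ := (hA.isPGroup.comap_of_injective W.subtype W.subtype_injective :
      IsPGroup q (A.subgroupOf W)).exists_le_sylow
    have hAW : A ≤ W := le_sup_right
    have hcardW : ¬ q ∣ A.relIndex W := by
      intro hqd
      have hs := card_sup_mul_card_inf (K := Cfsg.sigmaCore L) (S := A) (hAL.trans (le_normalizer_piCoreOf _ L))
      have h2 := Subgroup.relIndex_mul_relIndex ⊥ A W bot_le le_sup_right
      rw [Subgroup.relIndex_bot_left, Subgroup.relIndex_bot_left] at h2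
      have h3 : A.relIndex W ∣ Nat.card (Cfsg.sigmaCore L) := by
        rw [← h2, mul_assoc, mul_comm (Nat.card (Cfsg.sigmaCore L))] at hs
        exact ⟨_, (Nat.eq_of_mul_eq_mul_left Nat.card_pos hs).symm⟩
      exact hqL (isPi_piCoreOf _ L q h.hp (hqd.trans h3))
    set PA : Sylow q W := (hA.isPGroup.of_equiv (Subgroup.subgroupOfEquivOfLe hAW).symm).toSylow hcardW with hPAdef
    set AL : Sylow q (W.subgroupOf L) := (hA.isPGroup.of_equiv
      ((Subgroup.subgroupOfEquivOfLe (show A.subgroupOf L ≤ W.subgroupOf L from fun a ha => hAW ha)).trans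
        (Subgroup.subgroupOfEquivOfLe hAL)).symm).toSylow (by
          have e : (A.subgroupOf L).relIndex (W.subgroupOf L) = A.relIndex W := by
            rw [← Subgroup.relIndex_map_map_of_injective (A.subgroupOf L) (W.subgroupOf L) L.subtype_injective,
              Subgroup.map_subgroupOf_eq_of_le hAL, Subgroup.map_subgroupOf_eq_of_le hWL]
          exact fun hh => hcardW (e ▸ hh)) with hALdef
    have htop := Sylow.normalizer_sup_eq_top (N := W.subgroupOf L) AL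
    have hdt : (⟨d, hdL⟩ : L) ∈ W.subgroupOf L ⊔ Subgroup.normalizer
        (((AL : Subgroup (W.subgroupOf L)).map (W.subgroupOf L).subtype : Subgroup L) : Set L) :=
      (sup_comm _ _).trans htop |>.ge (Subgroup.mem_top _)
    rw [← SetLike.mem_coe, Subgroup.coe_mul_of_right_le_normalizer_left _ _ Subgroup.le_normalizer_of_normal,
      Set.mem_mul] at hdt
    obtain ⟨w, hw, m, hm, he⟩ := hdt
    have hmA : (m : G) ∈ Subgroup.normalizer (A : Set G) := mem_normalizer_of_conj fun a ha => by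
      have h4 := conj_mem_of_le_normalizer hm (⟨a, hAL ha⟩ : L) ⟨⟨⟨a, hAL ha⟩, hAW ha⟩, ha, rfl⟩
      obtain ⟨u, hu, hue⟩ := h4
      have h5 : ((u : L) : G) = (m : G) * a * (m : G)⁻¹ := congrArg Subtype.val hue
      rw [← h5]; exact hu
    have hwW : (w : G) ∈ Cfsg.sigmaCore L ⊔ (M ⊓ L) :=
      sup_le_sup_left (le_inf hAM hAL) _ hw
    have hde : d = (w : G) * m := congrArg Subtype.val he.symm
    rw [hde]
    exact mul_mem hwW (Subgroup.mem_sup_right ⟨hNA hmA, m.2⟩)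
  have hdK := hd.trans (hindex (piCoreOf_le _ L) (le_normalizer_piCoreOf _ L) hle)
  have hrL : r ∈ Cfsg.sigma L := isPi_piCoreOf _ L r hr hdK
  have hrq : r ≠ q := fun e => hqL (e ▸ hrL)
  haveI := Fact.mk hr
  have hAbot : A ≤ Subgroup.normalizer ((⊥ : Subgroup G) : Set G) := fun a _ =>
    mem_normalizer_of_conj fun x hx => by rw [Subgroup.mem_bot] at hx ⊢; rw [hx]; group
  obtain ⟨R, -, hRL, hAR, -⟩ := hA.exists_sylow_ge hG hL hAL hr hrL hrq bot_le IsPGroup.of_bot hAbot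
  obtain ⟨R', -, hR'M, hAR', -⟩ := hA.exists_sylow_ge hG hM hAM hr hrσ hrq bot_le IsPGroup.of_bot hAbot
  have hAd : A ≤ ⁅M, M⁆ := le_derived_of_sigma hG hM hq hA.isPGroup hAM
  have hAC : A ≤ Subgroup.centralizer ((R' : Subgroup G) : Set G) :=
    centralizes_of_le_derived hG hM Fact.out hr hrq (fun hβ => (hnc hrσ hrL).1 hβ.1) hA.isPGroup hAd R'.2 hR'M hAR'
  have hrC : r ∣ Nat.card (Subgroup.centralizer (A : Set G)) :=
    (Sylow.dvd_card_of_dvd_card R' (hdvd := hrσ.2.1.trans M.card_subgroup_dvd_card)).trans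
      (Subgroup.card_dvd_of_le (Subgroup.le_centralizer_iff.1 hAC))
  have hrk : ¬ Cfsg.RankLE 1 ↥(A ⊓ Subgroup.centralizer (A : Set G)) :=
    not_rankLE_one_of_elementary hAe hA2.ge (le_inf le_rfl fun a ha b hb => hA.comm hb ha)
  obtain ⟨k, hk, hkR⟩ := Cfsg.Agent.S1394.result hG A (hA.transitivityHypothesis hG) hrk r hr
    (hA.not_dvd hr hrq) hrC _ (sylow_mem_maxInv R' hAR') _ (sylow_mem_maxInv R hAR)
  have hkM : k ∈ M := hNA (Subgroup.centralizer_le_normalizer _ (piCoreOf_le _ _ hk))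
  have hRM : (R : Subgroup G) ≤ M := hkR.le.trans ((Subgroup.map_mono hR'M).trans (smul_eq_self hkM).le)
  refine R.ne_bot_of_dvd_card (hrσ.2.1.trans M.card_subgroup_dvd_card) (le_bot_iff.1 ?_)
  rw [← h.inf_eq_bot hM hne.symm hAM]
  exact le_inf (le_sigmaCore_of_isPGroup hG hL hr hrL hRL R.2) hRM

/-- BG 12.16. -/
theorem exists_conj_le_sigmaCore (hG : Cfsg.IsMinSimpleOddOrder G) (hM : IsCoatom M) (hY1 : Y ≠ ⊥)
    (hY : ∀ p : ℕ, p.Prime → p ∣ Nat.card Y → p ∈ Cfsg.sigma M) :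
    ∃ g : G, MulAut.conj g • Y ≤ Cfsg.sigmaCore M := by
  classical
  have hYtop : Y ≠ ⊤ := by
    intro e
    obtain ⟨p, hp, hpσ⟩ : ∃ p : ℕ, p.Prime ∧ p ∉ Cfsg.sigma M ∧ p ∣ Nat.card G := by
      obtain ⟨p, hp, hpM, hpσ⟩ := exists_not_mem_sigma hG hM (coatom_ne_bot hG hM)
      exact ⟨p, hp, hpσ, hpM.trans M.card_subgroup_dvd_card⟩
    exact hpσ.1 (hY p hp (by rw [e, Subgroup.card_top]; exact hpσ.2))
  haveI hYs := isSolvable_of_ne_top hG hYtop
  obtain ⟨q, hq, hne⟩ : ∃ q : ℕ, q.Prime ∧ opOf q Y ≠ ⊥ := by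
    by_contra hne
    push Not at hne
    have hF : Cfsg.fittingOf Y ≤ ⊥ := fittingOf_le_of fun q hq => (hne q hq).le
    refine hY1 (le_bot_iff.1 ?_)
    have h1 := inf_centralizer_fittingOf_le hYs
    refine le_trans (le_inf le_rfl ?_) (h1.trans hF)
    intro y _ b hb
    rw [Subgroup.mem_bot.1 (hF hb)]; group
  haveI := Fact.mk hq
  set X₀ := opOf q Y
  have hX₀q : IsPGroup q X₀ := isPGroup_opOf hq Y
  have hqσ : q ∈ Cfsg.sigma M := by
    obtain ⟨z, hz, -, hzo⟩ := exists_central_order hq hX₀q hne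
    exact hY q hq (hzo ▸ Subgroup.orderOf_dvd_natCard Y (piCoreOf_le _ Y hz))
  obtain ⟨g, hg⟩ := exists_conj_le hqσ hX₀q
  set Y' := MulAut.conj g • Y with hY'
  set X := MulAut.conj g • X₀ with hX
  have hYX : Y' ≤ Subgroup.normalizer (X : Set G) :=
    (Subgroup.map_mono (le_normalizer_piCoreOf _ Y)).trans (Subgroup.le_normalizer_map _)
  have hY'π : ∀ p : ℕ, p.Prime → p ∣ Nat.card Y' → p ∈ Cfsg.sigma M := fun p hp hd =>
    hY p hp (card_conj_smul g Y ▸ hd)
  by_cases hYM : Y' ≤ M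
  · exact ⟨g, le_sigmaCore_of_isPi hG hM hYM hY'π⟩
  have hX1 : X ≠ ⊥ := fun e => hne (Subgroup.card_eq_one.1 (by
    rw [← card_conj_smul g X₀, ← hX, e, Subgroup.card_bot]))
  have hXq : IsPGroup q X := hX₀q.map _
  obtain ⟨L, hL, hNL⟩ := (eq_top_or_exists_le_coatom _).resolve_left
    (normalizer_ne_top hG hX1 fun e => hM.1 (top_unique (e.ge.trans hg)))
  have hLM : L ≠ M := fun e => hYM (e ▸ hYX.trans hNL)
  haveI := isSolvable_of_ne_top hG hL.1
  -- a Hall `σ(M)`-subgroup of `M ∩ L`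
  haveI : Group.IsSolvable ↥(M ⊓ L) := isSolvable_of_ne_top hG fun e => hM.1 (top_unique (e.ge.trans inf_le_left))
  obtain ⟨H, hH⟩ := CfsgLib.BG.exists_piHall (G := ↥(M ⊓ L)) (Cfsg.sigma M)
  set H' := (H.map (M ⊓ L).subtype).subgroupOf L with hH'
  have hHL : H.map (M ⊓ L).subtype ≤ L := (Subgroup.map_subtype_le _).trans inf_le_right
  have hHall : Cfsg.IsPiHall (Cfsg.sigma M) H' := by
    refine ⟨fun r hr hd => hH.1 r hr ?_, fun r hr hrσ hd => ?_⟩
    · rwa [Nat.card_congr (Subgroup.subgroupOfEquivOfLe hHL).toEquiv, Subgroup.card_subtype] at hd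
    · have h1 : H'.index = (H.map (M ⊓ L).subtype).relIndex L := rfl
      rw [h1, ← Subgroup.relIndex_mul_relIndex (H.map (M ⊓ L).subtype) (M ⊓ L) L (Subgroup.map_subtype_le _)
        inf_le_right] at hd
      rcases hr.dvd_mul.1 hd with h2 | h2
      · rw [Subgroup.relIndex, Subgroup.subgroupOf,
          Subgroup.comap_map_eq_self_of_injective (M ⊓ L).subtype_injective] at h2
        exact hH.2 r hr hrσ h2
      · exact relIndex_inf_not_sigma hG hM hL hqσ hXq hX1 hg hLM hNL hr hrσ h2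
  have hY'L : Y' ≤ L := hYX.trans hNL
  obtain ⟨l, hl⟩ := CfsgLib.BG.exists_conj_le_piHall hHall (K := Y'.subgroupOf L) fun r hr hd =>
    hY'π r hr (by rwa [Nat.card_congr (Subgroup.subgroupOfEquivOfLe hY'L).toEquiv] at hd)
  refine ⟨(l : G)⁻¹ * g, le_sigmaCore_of_isPi hG hM ?_ fun p hp hd => hY p hp (card_conj_smul _ Y ▸ hd)⟩
  intro y hy
  rw [mem_conj_smul_iff] at hy
  have hy' : (l : G) * y * (l : G)⁻¹ ∈ Y' := by
    rw [hY', mem_conj_smul_iff]
    convert hy using 1; group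
  have h1 := hl (show (⟨_, hY'L hy'⟩ : L) ∈ Y'.subgroupOf L from hy')
  rw [mem_conj_smul_iff, Subgroup.mem_subgroupOf] at h1
  obtain ⟨u, -, hu⟩ := h1
  have h2 : y ∈ M ⊓ L := by
    have e : (u : G) = y := by
      have := hu
      simp only [Subgroup.coe_subtype, Subgroup.coe_mul, Subgroup.coe_inv] at this
      rw [this]; group
    exact e ▸ u.2
  exact h2.1

end CfsgLib.OddLocal
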