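import Cfsg.Agent.Lib.OddLocal.KappaStructure
import Cfsg.Agent.S1404
import Cfsg.Agent.S1425

/-!
BG 14.2: the centralizer `K* = C_{M_σ}(K)`.
-/

set_option autoImplicit false
set_option linter.style.haveILetI false
set_option linter.unusedSectionVars false

open scoped commutatorElement
open scoped Pointwise

namespace CfsgLib.OddLocal

open CfsgLib.Coprime
open CfsgLib.BG.FixedLine (conj_mem_of_le_normalizer mem_normalizer_of_conj)

universe u

variable {G : Type u} [Group G] [Finite G] {p q r : ℕ} {M L E K U : Subgroup G}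

namespace KappaData

/-- Elements of prime order of `K*` have `M` as unique maximal overgroup of the centralizer. -/
theorem star_uniq (h : KappaData M K E U) (hq : q.Prime) {z : G}
    (hz : z ∈ Cfsg.sigmaCore M ⊓ Subgroup.centralizer (K : Set G)) (hzo : orderOf z = q) :
    Subgroup.centralizer ({z} : Set G) ≤ M ∧
      ∀ L : Subgroup G, IsCoatom L → Subgroup.centralizer ({z} : Set G) ≤ L → L = M := by
  obtain ⟨r, b, hb, hr, hbo⟩ := h.exists_tau1
  exact uniq_of_fixed_elem h.hG h.hM hr (h.hKM hb) hbo hq hz.1 hzo (commute_of_mem_centralizer hb hz.2)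

/-- Fusion of elements of prime order of `K*`. -/
theorem mem_of_conj_star (h : KappaData M K E U) (hq : q.Prime) {z g : G}
    (hz : z ∈ Cfsg.sigmaCore M ⊓ Subgroup.centralizer (K : Set G)) (hzo : orderOf z = q)
    (hg : g * z * g⁻¹ ∈ M) : g ∈ M := by
  haveI := Fact.mk hq
  obtain ⟨hZc, hZp, -⟩ := zpowers_line hq hzo
  have h1 := (Cfsg.Agent.S1404.result h.hG M h.hM q (sigma_of_mem_core hq hz.1 hzo) (Subgroup.zpowers z) hZp
    (line_ne_bot hq hZc) (Subgroup.zpowers_le.2 (piCoreOf_le _ M hz.1))).1 g (by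
      rw [MonoidHom.map_zpowers]
      exact Subgroup.zpowers_le.2 hg)
  obtain ⟨m, hm, c, hc, rfl⟩ := h1
  rw [centralizer_zpowers_eq] at hc
  exact mul_mem hm ((h.star_uniq hq hz hzo).1 hc)

/-- The Sylow subgroups of `M` for primes of `K*` lie in `M` only. -/
theorem star_sylow_uniq (h : KappaData M K E U) [Fact p.Prime] {x : G}
    (hx : x ∈ Cfsg.sigmaCore M ⊓ Subgroup.centralizer (K : Set G)) (hxo : orderOf x = p) (T : Sylow p G)
    (hT : (T : Subgroup G) ≤ M) : Cfsg.InUniqueMaximal (T : Subgroup G) := by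
  obtain ⟨r, b, hb, hr, hbo⟩ := h.exists_tau1
  have hp : p.Prime := Fact.out
  have hbx : b ∈ Subgroup.centralizer ((Subgroup.zpowers x : Subgroup G) : Set G) := by
    rw [centralizer_zpowers_eq]
    exact mem_centralizer_singleton_of_commute (commute_of_mem_centralizer hb hx.2).symm
  refine (uniq_of_fixed_aux h.hG h.hM hr (h.hKM hb) hbo hp (zpowers_line hp hxo).1
    (Subgroup.zpowers_le.2 hx.1) hbx).2 (fun s hs a ha hao hab => ?_) T hT
  exact tau2_fixed_false h.hG h.hM hr (Subgroup.zpowers_le.2 (h.hKM hb)) (zpowers_line hr.1 hbo).1 hp hx.1 hxo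
    (by rw [centralizer_zpowers_eq]; exact mem_centralizer_singleton_of_commute (commute_of_mem_centralizer hb hx.2))
    hs ha hao (by rw [centralizer_zpowers_eq]; exact mem_centralizer_singleton_of_commute hab.symm)

/-- Those Sylow subgroups are not in `K*`. -/
theorem not_sylow_le_star (h : KappaData M K E U) [Fact p.Prime] {x : G}
    (hx : x ∈ Cfsg.sigmaCore M ⊓ Subgroup.centralizer (K : Set G)) (hxo : orderOf x = p) (T : Sylow p G)
    (hT : (T : Subgroup G) ≤ M) :
    ¬ (T : Subgroup G) ≤ Cfsg.sigmaCore M ⊓ Subgroup.centralizer (K : Set G) := fun hle => by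
  obtain ⟨r, b, hb, hr, hbo⟩ := h.exists_tau1
  have hp : p.Prime := Fact.out
  obtain ⟨hBc, -, -⟩ := zpowers_line hr.1 hbo
  obtain ⟨L, hL, hN⟩ := (eq_top_or_exists_le_coatom _).resolve_left
    (normalizer_ne_top h.hG (line_ne_bot hr.1 hBc) fun e => h.hM.1 (top_unique (e.ge.trans
      (Subgroup.zpowers_le.2 (h.hKM hb)))))
  have hsig := partner_sigma h.hG h.hM hr.1 hr.2.1 hr.2.2.2.2 (Subgroup.zpowers_le.2 (h.hKM hb)) hBc hp hx.1 hxo
    (by rw [centralizer_zpowers_eq]; exact mem_centralizer_singleton_of_commute (commute_of_mem_centralizer hb hx.2))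
    hL hN
  refine hsig.2 1 ?_
  rw [map_one, one_smul]
  refine uniq_eq (h.star_sylow_uniq hx hxo T hT) hL (hle.trans (inf_le_right.trans ?_)) h.hM hT
  exact (Subgroup.centralizer_le (by simpa using hb : ({b} : Set G) ⊆ (K : Set G))).trans
    ((centralizer_zpowers_eq b).ge.trans ((Subgroup.centralizer_le_normalizer _).trans hN))

/-- A conjugate of `K` meeting `K` comes from `N_M(K)`. -/
theorem mem_of_conj_line (h : KappaData M K E U) {g b : G} (hg : g ∈ M) (hb : b ∈ K) (hbp : (orderOf b).Prime)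
    (hgb : g * b * g⁻¹ ∈ K) : g ∈ K ⊔ (Cfsg.sigmaCore M ⊓ Subgroup.centralizer (K : Set G)) := by
  haveI := Fact.mk hbp
  have hκ := h.hall.2.1 _ hbp (Subgroup.orderOf_dvd_natCard K hb)
  have hr : Cfsg.PRankLE (orderOf b) 1 K := prankLE_mono h.hKM (kappa_prankLE hκ)
  have hbo' : orderOf (g * b * g⁻¹) = orderOf b :=
    orderOf_injective (MulAut.conj g).toMonoidHom (MulAut.conj g).injective b
  obtain ⟨c, hc, hce⟩ := line_conj h.hG hbp hr (Subgroup.zpowers_le.2 hb) (Nat.card_zpowers b)
    (Subgroup.zpowers_le.2 hgb) ((Nat.card_zpowers _).trans hbo')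
  have hcN : c ∈ Subgroup.normalizer ((Subgroup.zpowers b : Subgroup G) : Set G) := by
    rw [← h.line_normal b hb hbp] at hc
    exact (Subgroup.mem_inf.1 hc).2
  have h1 : MulAut.conj g • Subgroup.zpowers b = Subgroup.zpowers b := by
    rw [conj_smul_line]
    have h2 := congrArg (fun X : Subgroup G => MulAut.conj c⁻¹ • X) hce
    simp only [← mul_smul, ← map_mul, inv_mul_cancel, map_one, one_smul] at h2
    rw [h2]
    exact conj_smul_eq_self_of_mem_normalizer (inv_mem hcN)
  rw [← h.inf_normalizer_line hb hbp]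
  exact ⟨hg, mem_normalizer_iff_conj_smul.2 h1⟩

end KappaData

end CfsgLib.OddLocal
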