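import Cfsg.Agent.Lib.OddLocal.SigmaSupport
import Cfsg.Agent.Lib.OddLocal.KappaStar
import Cfsg.Agent.S1414

/-!
BG 14.4 (e): primes of `M` in `σ(N)` for the support `N` of an element of `M_σ`.
-/

set_option autoImplicit false
set_option linter.style.haveILetI false
set_option linter.unusedSectionVars false

open scoped commutatorElement
open scoped Pointwise

namespace CfsgLib.OddLocal

open CfsgLib.Coprime
open CfsgLib.BG.FixedLine (conj_mem_of_le_normalizer mem_normalizer_of_conj)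

universe u

variable {G : Type u} [Group G] [Finite G] {p q r : ℕ} {M N L E : Subgroup G} {x : G}

/-- Acting nontrivially on a `q`-subgroup of `M`, for `q ∉ β(M)`, needs a prime less than `q`. -/
theorem prime_lt_of_acting (hG : Cfsg.IsMinSimpleOddOrder G) (hM : IsCoatom M) (hq : q.Prime)
    (hqβ : q ∉ Cfsg.beta M) {Q : Subgroup G} (hQ : IsPGroup q Q) (hQM : Q ≤ M) (hr : r.Prime) (hrq : r ≠ q) {y : G}
    {k : ℕ} (hk : y ^ r ^ k = 1) (hyM : y ∈ M) (hyN : y ∈ Subgroup.normalizer (Q : Set G))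
    (hyC : y ∉ Subgroup.centralizer (Q : Set G)) : r < q := by
  classical
  haveI := Fact.mk hq
  haveI := Fact.mk hr
  have hQ1 : Q ≠ ⊥ := fun e => hyC fun v hv => by
    rw [Subgroup.mem_bot.1 (e ▸ hv : v ∈ (⊥ : Subgroup G)), one_mul, mul_one]
  obtain ⟨z, hz, -, hzo⟩ := exists_central_order hq hQ hQ1
  have hdiv := ((Cfsg.Agent.S1414.result hG M hM).2.2.2.2 q hq (hzo ▸ Subgroup.orderOf_dvd_natCard M (hQM hz)) hqβ).2.2
  refine lt_of_le_of_ne (hdiv r hr ?_) hrq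
  by_contra hd
  refine hyC fun v hv => ?_
  set O := Cfsg.pPrimeCore q M with hO
  have hyO : (⟨y, hyM⟩ : M) ∈ O := by
    haveI : O.Normal := CfsgLib.Transfer.pPrimeCore_normal q _
    refine le_of_coprime_index (N := O) (K := Subgroup.zpowers (⟨y, hyM⟩ : M)) (Nat.coprime_of_dvd fun t ht h1 h2 => hd ?_)
      (Subgroup.mem_zpowers _)
    rw [Nat.card_zpowers, Subgroup.orderOf_mk] at h1
    rwa [prime_dvd_of_primary ht hr hk h1] at h2
  have hOq : ¬ q ∣ Nat.card O := hq.coprime_iff_not_dvd.1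
    (Nat.Coprime.symm (CfsgLib.Transfer.pPrimeCore_coprime (G := M) q))
  have h1 : ⁅v, y⁆ ∈ Q ⊓ O.map M.subtype := ⟨by
    rw [show ⁅v, y⁆ = v * (y * v⁻¹ * y⁻¹) by rw [commutatorElement_def]; group]
    exact Q.mul_mem hv (conj_mem_of_le_normalizer hyN _ (Q.inv_mem hv)), by
    haveI : O.Normal := CfsgLib.Transfer.pPrimeCore_normal q _
    refine ⟨⁅(⟨v, hQM hv⟩ : M), ⟨y, hyM⟩⁆, ?_, by simp [commutatorElement_def]⟩
    rw [commutatorElement_def]
    exact O.mul_mem (Subgroup.Normal.conj_mem inferInstance _ hyO _) (O.inv_mem hyO)⟩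
  rw [eq_bot_of_disjoint (π := {q}) (ρ := {t | t ≠ q}) (((isPi_singleton_iff hq).2 hQ).mono inf_le_left)
    (fun t ht hd e => hOq (by
      rw [← Subgroup.card_subtype M O]
      exact e ▸ hd.trans (Subgroup.card_dvd_of_le inf_le_right)))
    (Set.disjoint_singleton_left.2 fun h' => h' rfl), Subgroup.mem_bot] at h1
  exact commutatorElement_eq_one_iff_mul_comm.1 h1

/-- A Frobenius kernel acts trivially where its complement acts without fixed points. -/
theorem frobenius_kernel_centralizes {U W K : Subgroup G} (hU1 : U ≠ ⊥) (hs : r.Prime) (hW : Nat.card W = r)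
    (hWU : W ≤ Subgroup.normalizer (U : Set G)) (hfpf : U ⊓ Subgroup.centralizer (W : Set G) = ⊥)
    (hKs : Group.IsSolvable K) (hJK : U ⊔ W ≤ Subgroup.normalizer (K : Set G))
    (hcop : (Nat.card K).Coprime (Nat.card ↥(U ⊔ W))) (hfix : K ⊓ Subgroup.centralizer (W : Set G) = ⊥) :
    K ≤ Subgroup.centralizer (U : Set G) := by
  classical
  haveI := Fact.mk hs
  haveI : IsCyclic W := isCyclic_of_prime_card hW
  haveI : IsMulCommutative W := IsCyclic.isMulCommutative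
  have hfpf' : ∀ e ∈ W, e ≠ 1 → ∀ u ∈ U, e * u = u * e → u = 1 := fun e he he1 u hu hc => by
    have hz : Subgroup.zpowers e = W := (line_eq_zpowers hs hW he (orderOf_eq_prime
      (pow_eq_one_of_line hs hW he) he1)).symm
    have h1 : u ∈ U ⊓ Subgroup.centralizer (W : Set G) := ⟨hu, by
      rw [← hz, centralizer_zpowers_eq]
      exact Subgroup.mem_centralizer_singleton_iff.2 hc.symm⟩
    rwa [hfpf, Subgroup.mem_bot] at h1
  have hUW : U ⊓ W = ⊥ := le_bot_iff.1 (hfpf ▸ inf_le_inf_left _ fun w hw v hv =>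
    congrArg Subtype.val (mul_comm' (⟨v, hv⟩ : W) ⟨w, hw⟩))
  have key := Cfsg.Agent.S1545.result U W K hU1 (line_ne_bot hs hW) hUW
    (fun e he u hu => conj_mem_of_le_normalizer (hWU he) u hu) hfpf'
    (fun x hx h hh => conj_mem_of_le_normalizer (hJK hx) h hh) (inf_eq_bot_of_coprime_card hcop) hKs hcop
  have hCeq : K ⊓ Subgroup.centralizer ((U ⊔ W : Subgroup G) : Set G) = K ⊓ Subgroup.centralizer (W : Set G) := by
    refine le_antisymm (inf_le_inf_left _ (Subgroup.centralizer_le (SetLike.coe_subset_coe.2 le_sup_right))) ?_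
    rw [hfix]
    exact bot_le
  rw [hCeq] at key
  exact inf_eq_left.1 (Subgroup.eq_of_le_of_card_ge inf_le_left
    (Nat.eq_of_mul_eq_mul_left (pow_pos Nat.card_pos _) key).le)

/-- A `τ₂`-prime is less than every `σ`-prime outside `β`. -/
theorem tau2_lt_sigma (hG : Cfsg.IsMinSimpleOddOrder G) (hM : IsCoatom M) (hq : q ∈ Cfsg.tau2 M)
    (hp : p ∈ Cfsg.sigma M) (hpβ : p ∉ Cfsg.beta M) : q < p := by
  classical
  haveI := Fact.mk hp.1
  obtain ⟨E, T, hE, hTM, hET⟩ := exists_compl_normalizing hG hM hp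
  obtain ⟨B, B₀, hBE, hB⟩ := exists_elem_compl hG hM hE hq
  obtain ⟨b, hb, hbC⟩ : ∃ b ∈ B, b ∉ Subgroup.centralizer ((T : Subgroup G) : Set G) := by
    by_contra hall
    push Not at hall
    obtain ⟨z, hz, hzo⟩ := exists_order_of_dvd hp.1 (show p ∣ Nat.card (T : Subgroup G) by
      rw [T.card_eq_multiplicity]
      exact dvd_pow_self p (hp.1.factorization_pos_of_dvd Nat.card_pos.ne'
        (hp.2.1.trans (Subgroup.card_subgroup_dvd_card M))).ne')
    have h1 : z ∈ Cfsg.sigmaCore M ⊓ Subgroup.centralizer (B : Set G) :=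
      ⟨le_sigmaCore_of_isPGroup hG hM hp.1 hp hTM T.2 hz, fun b hb => (hall b hb z hz).symm⟩
    rw [hB.sigmaCore_inf_centralizer, Subgroup.mem_bot] at h1
    exact (zpowers_line hp.1 hzo).2.2 h1
  exact prime_lt_of_acting hG hM hp.1 hpβ T.2 hTM hq.1 (fun e => hq.2.1 (e ▸ hp)) (k := 1)
    (by rw [pow_one]; exact hB.hAe.2 b hb) (hB.hAM hb) (hET (hBE hb)) hbC

namespace Support

theorem not_sigma_inf (h : Support M N x) {w : G} (hw : w ∈ M ⊓ N) (hp : p.Prime) (hwo : orderOf w = p) :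
    p ∉ Cfsg.sigma N :=
  not_sigma_of_dvd_compl h.hG h.hN h.compl hp (hwo ▸ Subgroup.orderOf_dvd_natCard (M ⊓ N : Subgroup G) hw)

theorem not_sigma_left (h : Support M N x) (hp : p ∈ Cfsg.sigma N) : p ∉ Cfsg.sigma M := fun hpM => by
  obtain ⟨g, hg⟩ := sigma_disjoint h.hG h.hM h.hN hpM hp
  exact h.not_conj g hg

/-- A prime of `M` in `σ(N)` is a `β(N)`-prime and a `τ₁(M)`-prime. -/
theorem prime_data (h : Support M N x) (hp : p ∈ Cfsg.sigma N) (hd : p ∣ Nat.card M) :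
    p ∈ Cfsg.beta N ∧ p ∈ Cfsg.tau1 M := by
  classical
  obtain ⟨q, A, A₀, hqx, hqM, hAMN, hA, hNA⟩ := h.plane
  have hq := hA.hp
  haveI := Fact.mk hq
  haveI := Fact.mk hp.1
  have hpM := h.not_sigma_left hp
  have hpq : p ≠ q := fun e => hpM (e ▸ hqM)
  have hqβ : q ∉ Cfsg.beta M := hA.maxElem.not_beta h.hG M
  obtain ⟨E, T, hE, hTM, hET⟩ := exists_compl_normalizing h.hG h.hM hqM
  obtain ⟨w, hw, hwo⟩ := exists_order_of_dvd hp.1 (dvd_compl hE hp.1 hpM hd)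
  have hone : w ^ p ^ 1 = 1 := by rw [pow_one, ← hwo, pow_orderOf_eq_one]
  have hwC : w ∉ Subgroup.centralizer ((T : Subgroup G) : Set G) := fun hwC => by
    obtain ⟨m, hm, hmT⟩ := exists_conj_le_sylow (T.subtype hTM) hA.maxElem.isPGroup (hAMN.trans inf_le_left)
    rw [Sylow.coe_subtype, Subgroup.map_subgroupOf_eq_of_le hTM] at hmT
    have hw' : m⁻¹ * w * m ∈ Subgroup.centralizer (A : Set G) := fun a ha => by
      have h1 : m * a * m⁻¹ ∈ (T : Subgroup G) := hmT (by rw [mem_conj_smul_iff]; simpa [mul_assoc] using ha)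
      calc a * (m⁻¹ * w * m) = m⁻¹ * ((m * a * m⁻¹) * w) * m := by group
        _ = m⁻¹ * (w * (m * a * m⁻¹)) * m := by rw [hwC _ h1]
        _ = _ := by group
    refine h.not_sigma_inf (p := p) (w := m⁻¹ * w * m)
      ⟨M.mul_mem (M.mul_mem (M.inv_mem hm) (hE.1 hw)) hm, hA.centralizer_le hw'⟩ hp.1 ?_ hp
    rw [← hwo, show m⁻¹ * w * m = MulAut.conj m⁻¹ w by simp [MulAut.conj_apply]]
    exact orderOf_injective (MulAut.conj m⁻¹).toMonoidHom (MulAut.conj m⁻¹).injective w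
  have hlt : p < q := prime_lt_of_acting h.hG h.hM hq hqβ T.2 hTM hp.1 hpq hone (hE.1 hw) (hET hw) hwC
  have hq2 : q ∈ Cfsg.tau2 N := h.tau2 q hq hqx
  refine ⟨by_contra fun hβ => lt_asymm hlt (tau2_lt_sigma h.hG h.hN hq2 hp hβ), ?_⟩
  rcases tau_cases h.hG h.hM hp.1 hpM hd with (h1 | h3) | h2
  · exact h1
  · exact absurd (centralizes_of_le_derived h.hG h.hM hp.1 hq hpq.symm hqβ (isPGroup_zpowers hone)
      (Subgroup.zpowers_le.2 (mem_derived_of_primary h.hG h.hM hp.1 (Or.inr h3) (hE.1 hw) hone)) T.2 hTM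
      (Subgroup.zpowers_le.2 (hET hw)) (Subgroup.mem_zpowers w)) hwC
  · refine absurd hlt (lt_asymm (tau2_lt_sigma h.hG h.hN hq2 hp ?_))
    obtain ⟨B, B₀, hB, -⟩ := exists_exc_mem h.hG h.hM h2 (one_mem M) (one_pow p)
    exact hB.maxElem.not_beta h.hG N

/-- An element of order `p` in `M` lies in the core of a conjugate of `N`, which alone contains its
centralizer. -/
theorem exists_conj_uniq (h : Support M N x) (hp : p ∈ Cfsg.sigma N) {w : G} (hw : w ∈ M) (hwo : orderOf w = p) :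
    ∃ g : G, g⁻¹ * w * g ∈ Cfsg.sigmaCore N ∧ Subgroup.centralizer ({w} : Set G) ≤ MulAut.conj g • N ∧
      ∀ L : Subgroup G, IsCoatom L → Subgroup.centralizer ({w} : Set G) ≤ L → L = MulAut.conj g • N := by
  classical
  haveI := Fact.mk hp.1
  obtain ⟨hWc, hWp, -⟩ := zpowers_line hp.1 hwo
  obtain ⟨T, hwT⟩ := hWp.exists_le_sylow
  obtain ⟨g, -, hTg, -⟩ := exists_conj_ge_sylow h.hN hp T
  have hwN : g⁻¹ * w * g ∈ N := mem_conj_smul_iff.1 (hTg (hwT (Subgroup.mem_zpowers w)))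
  have hwo' : orderOf (g⁻¹ * w * g) = p := by
    rw [← hwo, show g⁻¹ * w * g = MulAut.conj g⁻¹ w by simp [MulAut.conj_apply]]
    exact orderOf_injective (MulAut.conj g⁻¹).toMonoidHom (MulAut.conj g⁻¹).injective w
  have hβ := (h.prime_data hp (hwo ▸ Subgroup.orderOf_dvd_natCard M hw)).1
  obtain ⟨⟨hC, hu⟩, -⟩ := sigma_line_uniq h.hG h.hN hp (Subgroup.zpowers_le.2 hwN)
    (by rw [Nat.card_zpowers, hwo']) (Or.inl hβ)
  rw [centralizer_zpowers_eq] at hC hu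
  have he : Subgroup.centralizer ({w} : Set G) = MulAut.conj g • Subgroup.centralizer ({g⁻¹ * w * g} : Set G) := by
    rw [← conj_centralizer_elem]; congr 2; group
  refine ⟨g, sigma_mem_of_elem h.hG h.hN hp.1 hp hwN (k := 1) (by rw [pow_one, ← hwo', pow_orderOf_eq_one]),
    he.le.trans (conj_le_conj.2 hC), fun L hL hle => ?_⟩
  have h2 := hu _ (isCoatom_conj hL g⁻¹) (by
    have := (conj_le_conj (c := g⁻¹)).2 (he.ge.trans hle)
    rwa [← mul_smul, ← map_mul, inv_mul_cancel, map_one, one_smul] at this)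
  rw [← h2, ← mul_smul, ← map_mul, mul_inv_cancel, map_one, one_smul]

theorem kappa_eq_empty (h : Support M N x) (hp : p ∈ Cfsg.sigma N) (hd : p ∣ Nat.card M) :
    Cfsg.kappa M = ∅ := by
  classical
  by_contra hne
  obtain ⟨r, hr⟩ := Set.nonempty_iff_ne_empty.2 hne
  haveI := Fact.mk hp.1
  haveI : Group.IsSolvable M := isSolvable_of_ne_top h.hG h.hM.1
  obtain ⟨K, hK, -⟩ := exists_hallOf_ge (π := Cfsg.kappa M) (bot_le (a := M)) fun t ht htd => by
    rw [Subgroup.card_bot] at htd; exact absurd (Nat.dvd_one.1 htd) ht.ne_one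
  have hKdvd : ∀ {t : ℕ}, t ∈ Cfsg.kappa M → t ∣ Nat.card K := fun {t} ht => by
    have h1 := ht.2.1
    rw [← Subgroup.relIndex_bot_left M, ← Subgroup.relIndex_mul_relIndex ⊥ K M bot_le hK.1,
      Subgroup.relIndex_bot_left] at h1
    exact (ht.1.dvd_mul.1 h1).resolve_right (hK.2.2 t ht.1 ht)
  obtain ⟨E, U, hKD⟩ := exists_kappaData h.hG h.hM hK fun e => by
    have := hKdvd hr
    rw [e, Subgroup.card_bot] at this
    exact hr.1.ne_one (Nat.dvd_one.1 this)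
  have hp1 := (h.prime_data hp hd).2
  have hpκ : p ∈ Cfsg.kappa M := by
    rcases hKD.dichotomy with ⟨-, hiff⟩ | ⟨rfl, -, -⟩
    · exact (hiff p hp.1 hd).2 hp1
    · exact hK.2.1 p hp.1 (dvd_compl hKD.hE hp.1 hp1.2.1 hd)
  obtain ⟨w, hw, hwo⟩ := exists_order_of_dvd hp.1 (hKdvd hpκ)
  obtain ⟨t, ht, htd⟩ := Nat.exists_prime_and_dvd fun e => hKD.fixed_ne (Subgroup.card_eq_one.1 e)
  obtain ⟨z, hz, hzo⟩ := exists_order_of_dvd ht htd
  obtain ⟨g, hwN, hCw, -⟩ := h.exists_conj_uniq hp (hK.1 hw) hwo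
  have hzN : g⁻¹ * z * g ∈ N := mem_conj_smul_iff.1
    (hCw (mem_centralizer_singleton_of_commute (commute_of_mem_centralizer hw hz.2)))
  have hzo' : orderOf (g⁻¹ * z * g) = t := by
    rw [← hzo, show g⁻¹ * z * g = MulAut.conj g⁻¹ z by simp [MulAut.conj_apply]]
    exact orderOf_injective (MulAut.conj g⁻¹).toMonoidHom (MulAut.conj g⁻¹).injective z
  have htM := sigma_of_mem_core ht hz.1 hzo
  obtain ⟨n, hn, hnE⟩ := exists_conj_le_compl h.hG h.hN h.compl (Subgroup.zpowers_le.2 hzN)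
    (isPi_zpowers (π := {t | t ∉ Cfsg.sigma N}) fun t' ht' hd' => by
      rw [hzo'] at hd'
      rw [(Nat.prime_dvd_prime_iff_eq ht' ht).1 hd']
      exact fun hσ => h.not_sigma_left hσ htM)
  have hgM : n * g⁻¹ ∈ M := by
    refine hKD.mem_of_conj_star ht hz hzo ?_
    have h1 := (Subgroup.mem_inf.1 (hnE (show n * (g⁻¹ * z * g) * n⁻¹ ∈ _ by
      rw [conj_smul_line]; exact Subgroup.mem_zpowers _))).1
    rwa [show n * g⁻¹ * z * (n * g⁻¹)⁻¹ = n * (g⁻¹ * z * g) * n⁻¹ by group]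
  have h2 : n * (g⁻¹ * w * g) * n⁻¹ ∈ Cfsg.sigmaCore N ⊓ M :=
    ⟨conj_mem_of_le_normalizer (le_normalizer_piCoreOf _ N hn) _ hwN, by
      rw [show n * (g⁻¹ * w * g) * n⁻¹ = n * g⁻¹ * w * (n * g⁻¹)⁻¹ by group]
      exact M.mul_mem (M.mul_mem hgM (hK.1 hw)) (M.inv_mem hgM)⟩
  rw [h.inf_eq, Subgroup.mem_bot] at h2
  have h3 : g⁻¹ * w * g = 1 := conj_eq_one_iff.1 h2
  refine (zpowers_line hp.1 hwo).2.2 (conj_eq_one_iff.1 (show g⁻¹ * w * g⁻¹⁻¹ = 1 by rwa [inv_inv]))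

theorem tau2_eq_empty (h : Support M N x) (hp : p ∈ Cfsg.sigma N) (hd : p ∣ Nat.card M) :
    Cfsg.tau2 M = ∅ := by
  classical
  by_contra hne
  obtain ⟨r, hr⟩ := Set.nonempty_iff_ne_empty.2 hne
  haveI := Fact.mk hp.1
  haveI := Fact.mk hr.1
  obtain ⟨q, A, A₀, hqx, hqM, hAMN, hA, hNA⟩ := h.plane
  have hq2 : q ∈ Cfsg.tau2 N := h.tau2 q hA.hp hqx
  have hp1 := (h.prime_data hp hd).2
  obtain ⟨E, hE⟩ := exists_compl h.hG h.hM
  obtain ⟨B, B₀, hBE, hB⟩ := exists_elem_compl h.hG h.hM hE hr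
  have hrN : r ∉ Cfsg.sigma N := fun hrN => lt_asymm
    (tau2_lt_sigma h.hG h.hM hr hqM (hA.maxElem.not_beta h.hG M))
    (tau2_lt_sigma h.hG h.hN hq2 hrN (hB.maxElem.not_beta h.hG N))
  obtain ⟨w, hwE, hwo⟩ := exists_order_of_dvd hp.1 (dvd_compl hE hp.1 hp1.2.1 hd)
  have hwM : w ∈ M := hE.1 hwE
  obtain ⟨hWc, hWp, hw1⟩ := zpowers_line hp.1 hwo
  obtain ⟨g, hwN, hCw, hCu⟩ := h.exists_conj_uniq hp hwM hwo
  set N₁ := MulAut.conj g • N with hN₁
  have hN₁co : IsCoatom N₁ := isCoatom_conj h.hN g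
  have hne₁ : M ≠ N₁ := fun e => h.not_conj g⁻¹ (by
    rw [e, hN₁, ← mul_smul, ← map_mul, inv_mul_cancel, map_one, one_smul])
  have hwK₁ : w ∈ Cfsg.sigmaCore N₁ := sigma_mem_of_elem h.hG hN₁co hp.1 (sigma_conj_iff.2 hp)
    (hCw (mem_centralizer_singleton_of_commute (Commute.refl w))) (k := 1)
    (by rw [pow_one, ← hwo, pow_orderOf_eq_one])
  have hrN₁ : r ∉ Cfsg.sigma N₁ := fun hσ => hrN (sigma_of_conj hσ)
  have hBnot : ¬ B ≤ N₁ := fun hle => by
    obtain ⟨C, hC⟩ := exists_exc h.hG hN₁co hr.1 hrN₁ hle hB.hAe hB.hA2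
    exact hw1 (Subgroup.mem_bot.1 (hC.inf_eq_bot h.hM hne₁ hB.hAM ▸ ⟨hwK₁, hwM⟩))
  have hκ := h.kappa_eq_empty hp hd
  have hfix : Cfsg.sigmaCore M ⊓ Subgroup.centralizer ({w} : Set G) = ⊥ :=
    (Subgroup.eq_bot_iff_forall _).2 fun y hy => by_contra fun hy1 => Set.eq_empty_iff_forall_notMem.1 hκ p
      (mem_kappa_of_line h.hG h.hM hp.1 hp1.2.1 hp1.2.2.2.2 hwM hwo hy.1 hy1
        (commute_of_mem_centralizer_singleton hy.2))
  set W := Subgroup.zpowers w with hW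
  have hWB : W ≤ Subgroup.normalizer (B : Set G) :=
    Subgroup.zpowers_le.2 (hB.compl_le_normalizer hE hBE hwE)
  have hrp : r ≠ p := fun e => hr.2.2.2 (e ▸ hp1.2.2.2.2)
  have hcop : (Nat.card W).Coprime (Nat.card B) := by
    rw [hWc, hB.hA2]; exact ((Nat.coprime_primes hp.1 hr.1).2 hrp.symm).pow_right 2
  haveI : IsMulCommutative B := hB.hAe.1
  have hWs : Group.IsSolvable W ∨ Group.IsSolvable B :=
    Or.inr (haveI := isSolvable_of_ne_top h.hG h.hM.1; isSolvable_of_le hB.hAM inferInstance)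
  have hsup := commutator_sup_centralizer hWB hcop hWs
  have hinf := centralizer_inf_commutator_eq_bot hWB hcop
  set B₁ := ⁅B, W⁆ with hB₁
  have hB₁B : B₁ ≤ B := commutator_le_left_of_le_normalizer hWB
  have hB₁1 : B₁ ≠ ⊥ := fun e => hBnot ((show B ≤ Subgroup.centralizer ({w} : Set G) by
    rw [e, bot_sup_eq] at hsup
    rw [← centralizer_zpowers_eq]; exact hsup.ge.trans inf_le_right).trans hCw)
  have hWB₁ : W ≤ Subgroup.normalizer (B₁ : Set G) := le_normalizer_commutator hWB Subgroup.le_normalizer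
  have hfpf : B₁ ⊓ Subgroup.centralizer (W : Set G) = ⊥ := by
    refine le_bot_iff.1 (fun v hv => ?_)
    rw [← hinf]
    exact ⟨⟨hB₁B hv.1, hv.2⟩, hv.1⟩
  haveI : Group.IsSolvable M := isSolvable_of_ne_top h.hG h.hM.1
  have hB₁C : Cfsg.sigmaCore M ≤ Subgroup.centralizer (B₁ : Set G) := frobenius_kernel_centralizes hB₁1 hp.1 hWc
    hWB₁ hfpf (isSolvable_of_le (piCoreOf_le _ M) inferInstance)
    ((sup_le (hB₁B.trans hB.hAM) (Subgroup.zpowers_le.2 hwM)).trans (le_normalizer_piCoreOf _ M))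
    (Nat.coprime_of_dvd fun t ht h1 h2 => not_sigma_of_dvd_compl h.hG h.hM hE ht
      (h2.trans (Subgroup.card_dvd_of_le (sup_le (hB₁B.trans hBE) (Subgroup.zpowers_le.2 hwE))))
      (isPi_piCoreOf _ M t ht h1))
    (by rw [centralizer_zpowers_eq]; exact hfix)
  -- a fixed line of `w`
  obtain ⟨b, hb, hbo⟩ : ∃ b ∈ B ⊓ Subgroup.centralizer (W : Set G), orderOf b = r := by
    have h1 : B ⊓ Subgroup.centralizer (W : Set G) ≠ ⊥ := fun e => by
      rw [e, sup_bot_eq] at hsup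
      rw [hsup] at hB₁C
      exact h.hx1 (Subgroup.mem_bot.1 (hB.sigmaCore_inf_centralizer ▸ ⟨h.hx, hB₁C h.hx⟩))
    obtain ⟨v, hv, -, hvo⟩ := exists_central_order hr.1 (hB.maxElem.isPGroup.to_le inf_le_left) h1
    exact ⟨v, hv, hvo⟩
  obtain ⟨hbB, hbW⟩ := Subgroup.mem_inf.1 hb
  have hbw : Commute w b := commute_of_mem_centralizer (Subgroup.mem_zpowers w) hbW
  have hbN : b ∈ N₁ := hCw (mem_centralizer_singleton_of_commute hbw)
  obtain ⟨hκ₁, -⟩ | ⟨-, -, hCb, -⟩ := sigma_dichotomy h.hG hN₁co hwK₁ hw1 hbN hbw.symm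
    (zpowers_line hr.1 hbo).2.2 (fun t ht hd => by
      rw [hbo] at hd; exact (Nat.prime_dvd_prime_iff_eq ht hr.1).1 hd ▸ hrN₁)
  swap
  · refine hBnot (le_trans ?_ hCb)
    exact fun v hv => mem_centralizer_singleton_of_commute
      (congrArg Subtype.val (mul_comm' (⟨b, hbB⟩ : B) ⟨v, hv⟩))
  have hrκ₁ := hκ₁ r hr.1 (by rw [hbo])
  -- transfer to `N`
  have hb' : g⁻¹ * b * g ∈ N := mem_conj_smul_iff.1 hbN
  have hbo' : orderOf (g⁻¹ * b * g) = r := by
    rw [← hbo, show g⁻¹ * b * g = MulAut.conj g⁻¹ b by simp [MulAut.conj_apply]]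
    exact orderOf_injective (MulAut.conj g⁻¹).toMonoidHom (MulAut.conj g⁻¹).injective b
  have hbw' : Commute (g⁻¹ * b * g) (g⁻¹ * w * g) := by
    show _ = _
    calc g⁻¹ * b * g * (g⁻¹ * w * g) = g⁻¹ * (b * w) * g := by group
      _ = g⁻¹ * (w * b) * g := by rw [hbw.eq]
      _ = _ := by group
  have hw1' : g⁻¹ * w * g ≠ 1 := fun e => hw1 (conj_eq_one_iff.1 (show g⁻¹ * w * g⁻¹⁻¹ = 1 by rwa [inv_inv]))
  have hr13 : r ∈ Cfsg.tau1 N ∨ r ∈ Cfsg.tau3 N := by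
    refine (tau_cases h.hG h.hN hr.1 hrN (hbo' ▸ Subgroup.orderOf_dvd_natCard N hb')).resolve_right fun h2 => ?_
    obtain ⟨C, C₀, hC, -⟩ := exists_exc_mem h.hG h.hN h2 (one_mem N) (one_pow r)
    exact hC.maxElem.not_isCyclic (isCyclic_of_conj g (cyclic_of_prankLE_one h.hG hr.1 (kappa_prankLE hrκ₁)
      (hC.maxElem.conj g).isPGroup (conj_le_conj.2 hC.hAM)))
  have hrr : Cfsg.PRankLE r 1 N := hr13.elim (fun h1 => h1.2.2.2.2) (fun h3 => h3.2.2.2)
  have hrκ : r ∈ Cfsg.kappa N := mem_kappa_of_line h.hG h.hN hr.1 hrN hrr hb' hbo' hwN hw1' hbw'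
  -- the line in `B₁` centralizes `A`
  obtain ⟨c, hc, -, hco⟩ := exists_central_order hr.1 (hB.maxElem.isPGroup.to_le hB₁B) hB₁1
  have hcC : ∀ v ∈ Cfsg.sigmaCore M, Commute c v := fun v hv => commute_of_mem_centralizer hc (hB₁C hv)
  have hcF : c ∈ M ⊓ N :=
    ⟨hB.hAM (hB₁B hc), h.hle (mem_centralizer_singleton_of_commute (hcC x h.hx).symm)⟩
  obtain ⟨c', hc', hc'o, y, hy, hy1, hcy⟩ := exists_line_of_kappa h.hG h.hN h.compl hrκ
  obtain ⟨m, hm, hme⟩ := line_conj h.hG hr.1 (prankLE_compl h.compl hrr) (Subgroup.zpowers_le.2 hcF)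
    (zpowers_line hr.1 hco).1 (Subgroup.zpowers_le.2 hc') (zpowers_line hr.1 hc'o).1
  rw [conj_smul_line] at hme
  have hcy' : Commute c (m * y * m⁻¹) := by
    refine commute_zpowers (a := m * c' * m⁻¹) (b := m * y * m⁻¹) ?_ (hme.symm ▸ Subgroup.mem_zpowers c)
      (Subgroup.mem_zpowers _)
    show _ = _
    calc m * c' * m⁻¹ * (m * y * m⁻¹) = m * (c' * y) * m⁻¹ := by group
      _ = m * (y * c') * m⁻¹ := by rw [hcy.eq]
      _ = _ := by group
  haveI := Fact.mk hA.hp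
  obtain ⟨a, ha, -, hao⟩ := exists_central_order hA.hp hA.maxElem.isPGroup hA.maxElem.ne_bot
  exact (kappa_line_data h.hG h.hN hr13 hcF.2 hco
    (conj_mem_of_le_normalizer (le_normalizer_piCoreOf _ N hm.2) y hy) (fun e => hy1 (conj_eq_one_iff.1 e)) hcy').2
    q hq2 a (hAMN ha).2 hao
    (hcC a (le_sigmaCore_of_isPGroup h.hG h.hM hA.hp hqM (hAMN.trans inf_le_left) hA.maxElem.isPGroup ha))

/-- Supports in one class are conjugate under `M`. -/
theorem conj_support (h : Support M N x) {y : G} {N' : Subgroup G} (h' : Support M N' y) {g : G}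
    (he : MulAut.conj g • N' = N) : ∃ m ∈ M, MulAut.conj m • N' = N := by
  classical
  obtain ⟨q, A, A₀, hqx, hqM, hAMN, hA, hNA⟩ := h.plane
  have hq := hA.hp
  haveI := Fact.mk hq
  -- a plane of `M ∩ N'`
  have hN' : N' = MulAut.conj g⁻¹ • N := by
    rw [← he, ← mul_smul, ← map_mul, inv_mul_cancel, map_one, one_smul]
  have hq' : q ∉ Cfsg.sigma N' := fun hσ => hA.hσ (by rw [hN'] at hσ; exact sigma_of_conj hσ)
  have hA'N : MulAut.conj g⁻¹ • A ≤ N' := hN' ▸ conj_le_conj.2 hA.hAM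
  obtain ⟨n, hn, hnA⟩ := exists_conj_le_compl h.hG h'.hN h'.compl hA'N fun t ht htd => by
    rw [hA.maxElem.conj_card g⁻¹] at htd
    exact (Nat.prime_dvd_prime_iff_eq ht hq).1 (ht.dvd_of_dvd_pow htd) ▸ hq'
  rw [← mul_smul, ← map_mul] at hnA
  set c := n * g⁻¹ with hc
  have hcM : MulAut.conj c • A ≤ M := hnA.trans inf_le_left
  obtain ⟨m, hm, d, hd, hmd⟩ := (Cfsg.Agent.S1404.result h.hG M h.hM q hqM A hA.maxElem.isPGroup hA.maxElem.ne_bot
    (hAMN.trans inf_le_left)).1 c hcM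
  have hcM' : c ∈ M := hmd ▸ M.mul_mem hm (hNA (Subgroup.centralizer_le_normalizer _ hd))
  refine ⟨c⁻¹, M.inv_mem hcM', ?_⟩
  rw [hc, mul_inv_rev, inv_inv, map_mul, mul_smul, conj_smul_eq_self_of_mem_normalizer
    (Subgroup.le_normalizer (N'.inv_mem hn)), he]

end Support

end CfsgLib.OddLocal
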