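import Cfsg.Agent.Lib.OddLocal.KappaUNormalizer
import Cfsg.Agent.Lib.OddLocal.KappaDerived
import Cfsg.Agent.Lib.OddLocal.SupportPrimes
import Cfsg.Agent.Lib.Hall.Carter

/-!
BG 14.7 (e): a maximal subgroup over `N_G(R)`, `R` a Sylow subgroup of `U`, in type `P₂`.
-/

set_option autoImplicit false
set_option linter.style.haveILetI false
set_option linter.unusedSectionVars false

open scoped commutatorElement
open scoped Pointwise

namespace CfsgLib.OddLocal

open CfsgLib.Coprime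
open CfsgLib.BG.FixedLine (conj_mem_of_le_normalizer mem_normalizer_of_conj)

universe u

variable {G : Type u} [Group G] [Finite G] {p q r s t : ℕ} {M L H Z K E U Ms Es Us R : Subgroup G}

theorem commute_of_nilpotent (hq : q.Prime) {W : Subgroup G} (hW : Group.IsNilpotent W) {a b : G} (ha : a ∈ W)
    (hb : b ∈ W) (hao : orderOf a = q) (hbo : ¬ q ∣ orderOf b) : Commute a b := by
  haveI := hW
  haveI := Fact.mk hq
  exact congrArg Subtype.val (CfsgLib.Hall.commute_of_coprime_orderOf (G := W) (p := q) (j := 1)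
    (x := ⟨a, ha⟩) (y := ⟨b, hb⟩) (by rw [Subgroup.orderOf_mk, hao, pow_one])
    (by rw [Subgroup.orderOf_mk]; exact (hq.coprime_iff_not_dvd.2 hbo).symm))

/-- Fixed-point-free on `A` and `B`, hence on `A B`. -/
theorem sup_inf_centralizer_eq_bot {A B : Subgroup G} {y : G} (hBA : B ≤ Subgroup.normalizer (A : Set G))
    (hyA : y ∈ Subgroup.normalizer (A : Set G)) (hyB : y ∈ Subgroup.normalizer (B : Set G))
    (hA : A ⊓ Subgroup.centralizer ({y} : Set G) = ⊥) (hB : B ⊓ Subgroup.centralizer ({y} : Set G) = ⊥) :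
    (A ⊔ B) ⊓ Subgroup.centralizer ({y} : Set G) = ⊥ := by
  refine (Subgroup.eq_bot_iff_forall _).2 fun w hw => ?_
  obtain ⟨hwW, hwC⟩ := Subgroup.mem_inf.1 hw
  rw [← SetLike.mem_coe, Subgroup.coe_mul_of_right_le_normalizer_left _ _ hBA] at hwW
  obtain ⟨k, hk, u, hu, rfl⟩ := Set.mem_mul.1 hwW
  have hinj : ∀ {v v' : G}, v ∈ B → v' ∈ B → y * v * y⁻¹ * v⁻¹ = y * v' * y⁻¹ * v'⁻¹ → v = v' :=
    fun {v v'} hv hv' he => by
      have h1 : v'⁻¹ * v ∈ B ⊓ Subgroup.centralizer ({y} : Set G) := by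
        refine ⟨B.mul_mem (B.inv_mem hv') hv, mem_centralizer_singleton_of_commute ?_⟩
        have h3 : y * (v'⁻¹ * v) * y⁻¹ = v'⁻¹ * v := by
          calc y * (v'⁻¹ * v) * y⁻¹ = (y * v' * y⁻¹)⁻¹ * (y * v * y⁻¹ * v⁻¹) * v := by group
            _ = (y * v' * y⁻¹)⁻¹ * (y * v' * y⁻¹ * v'⁻¹) * v := by rw [he]
            _ = _ := by group
        exact mul_inv_eq_iff_eq_mul.1 h3
      rw [hB, Subgroup.mem_bot, inv_mul_eq_one] at h1
      exact h1.symm
  let f : ↥(B ⊓ A) → ↥(B ⊓ A) := fun v => ⟨y * (v : G) * y⁻¹ * (v : G)⁻¹, Subgroup.mul_mem _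
    ⟨conj_mem_of_le_normalizer hyB v v.2.1, conj_mem_of_le_normalizer hyA v v.2.2⟩ (Subgroup.inv_mem _ v.2)⟩
  have hfi : Function.Injective f := fun v v' he =>
    Subtype.ext (hinj v.2.1 v'.2.1 (congrArg Subtype.val he))
  have hc : y * (k * u) * y⁻¹ = k * u := by
    rw [(commute_of_mem_centralizer_singleton hwC).eq, mul_inv_cancel_right]
  have hcu : y * u * y⁻¹ * u⁻¹ ∈ B ⊓ A := ⟨B.mul_mem (conj_mem_of_le_normalizer hyB u hu) (B.inv_mem hu), by
    rw [show y * u * y⁻¹ * u⁻¹ = (y * k * y⁻¹)⁻¹ * (y * (k * u) * y⁻¹) * u⁻¹ by group, hc,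
      show (y * k * y⁻¹)⁻¹ * (k * u) * u⁻¹ = (y * k * y⁻¹)⁻¹ * k by group]
    exact A.mul_mem (A.inv_mem (conj_mem_of_le_normalizer hyA k hk)) hk⟩
  obtain ⟨v, hv⟩ := (Finite.injective_iff_surjective.1 hfi) ⟨_, hcu⟩
  have huv : (v : G) = u := hinj v.2.1 hu (congrArg Subtype.val hv)
  exact Subgroup.mem_bot.1 (hA ▸ ⟨A.mul_mem hk (huv ▸ v.2.2), hwC⟩)

/-- BG 14.7 (e). -/
theorem Partner.sylow_normalizer (h : Partner M K E U Ms Es Us) (hU : U ≠ ⊥) [Fact r.Prime] (R : Sylow r U)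
    (hr : r ∣ Nat.card U) (hH : IsCoatom H)
    (hNR : Subgroup.normalizer (((R : Subgroup U).map U.subtype : Subgroup G) : Set G) ≤ H) :
    Cfsg.kappa H = ∅ ∧ U ≤ Cfsg.sigmaCore H ∧ M ⊓ H = U ⊔ K ∧ ¬ H ⊓ Subgroup.normalizer (U : Set G) ≤ M ∧
      K ≤ Cfsg.fittingOf (H ⊓ Ms) ∧ Cfsg.IsComplIn (H ⊓ Ms) (Cfsg.sigmaCore H) H := by
  classical
  have hd := h.data
  have hG := hd.hG
  have hM := hd.hM
  haveI := hd.comm
  haveI hMsolv : Group.IsSolvable M := isSolvable_of_ne_top hG hM.1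
  have hUM : U ≤ M := hd.hallU.1
  have hUU : U ≤ Subgroup.centralizer (U : Set G) := fun u hu =>
    Subgroup.mem_centralizer_iff.2 fun w hw => congrArg Subtype.val (mul_comm' (⟨w, hw⟩ : U) ⟨u, hu⟩)
  set R' := (R : Subgroup U).map U.subtype with hR'
  -- `N(U) ≤ N(R) ≤ H`
  haveI hRn : (R : Subgroup U).Normal :=
    ⟨fun n hn g => by rw [mul_comm' g n, mul_inv_cancel_right]; exact hn⟩
  have hNUR : Subgroup.normalizer (U : Set G) ≤ Subgroup.normalizer (R' : Set G) := fun n hn => by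
    refine mem_normalizer_of_conj fun x hx => ?_
    obtain ⟨⟨a, haU⟩, ha, rfl⟩ := hx
    obtain ⟨k, hk⟩ := R.2 ⟨⟨a, haU⟩, ha⟩
    have hk' : a ^ r ^ k = 1 := by simpa using congrArg Subtype.val (congrArg Subtype.val hk)
    have hp : IsPGroup r (Subgroup.zpowers (⟨n * a * n⁻¹, conj_mem_of_le_normalizer hn a haU⟩ : U)) :=
      isPGroup_zpowers (k := k) (Subtype.ext (by
        rw [SubmonoidClass.coe_pow]
        show (n * a * n⁻¹) ^ r ^ k = ((1 : U) : G)
        rw [conj_pow, hk', mul_one, mul_inv_cancel]; rfl))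
    obtain ⟨T, hT⟩ := hp.exists_le_sylow
    haveI := Sylow.unique_of_normal R inferInstance
    exact ⟨_, (Subsingleton.elim T R) ▸ hT (Subgroup.mem_zpowers _), rfl⟩
  have hNUH : Subgroup.normalizer (U : Set G) ≤ H := hNUR.trans hNR
  have hEH : E ≤ H := hd.normalU.trans hNUH
  have hUH : U ≤ H := hd.hUE.trans hEH
  have hNUM : ¬ Subgroup.normalizer (U : Set G) ≤ M := h.not_normalizer_le
  have hnM : ¬ H ⊓ Subgroup.normalizer (U : Set G) ≤ M := fun hle => hNUM ((le_inf hNUH le_rfl).trans hle)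
  obtain ⟨s, y, hs, hy, hyo⟩ := hd.exists_line
  haveI := Fact.mk hs
  obtain ⟨hYc, hYp, hy1⟩ := zpowers_line hs hyo
  have hKs : Nat.card K = s :=
    ((Nat.prime_dvd_prime_iff_eq hs (h.prime_K hU)).1 (hyo ▸ Subgroup.orderOf_dvd_natCard K hy)).symm
  have hKy : Subgroup.zpowers y = K :=
    Subgroup.eq_of_le_of_card_ge (Subgroup.zpowers_le.2 hy) (by rw [hKs, hYc])
  have hyH : y ∈ H := hEH (hd.hKE hy)
  have hyS : y ∈ Cfsg.sigmaCore Ms ⊓
      Subgroup.centralizer ((Cfsg.sigmaCore M ⊓ Subgroup.centralizer (K : Set G) : Subgroup G) : Set G) :=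
    h.dual.ge hy
  have hyMs : y ∈ Ms := piCoreOf_le _ Ms hyS.1
  have hsMs : s ∈ Cfsg.sigma Ms := sigma_of_mem_core hs hyS.1 hyo
  obtain ⟨hCy, hCyu⟩ := h.pdata.star_uniq hs hyS hyo
  have hsκ : s ∈ Cfsg.kappa M := hd.hall.2.1 s hs (hyo ▸ Subgroup.orderOf_dvd_natCard K hy)
  -- primes of `U` are not in `σ(Ms)`
  have hUσs : ∀ {l : ℕ}, l.Prime → l ∣ Nat.card U → l ∉ Cfsg.sigma Ms := fun {l} hl hld hlσ => by
    have hh := h.symm.sigma_hall
    rw [h.dual] at hh
    refine hh.2.2 l hl hlσ ?_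
    have hrel := Subgroup.relIndex_mul_relIndex ⊥ K M bot_le hd.hKM
    simp only [Subgroup.relIndex_bot_left] at hrel
    exact (hl.dvd_mul.1 (hrel ▸ hld.trans (Subgroup.card_dvd_of_le hUM))).resolve_left fun hk =>
      (hd.hallU.2.1 l hl hld).2.1 (hd.hall.2.1 l hl hk)
  have hconjM : ∀ g : G, H ≠ MulAut.conj g • M := fun g e => by
    have hU' : MulAut.conj g⁻¹ • U ≤ M := fun x hx => by
      rw [mem_conj_smul_iff, inv_inv] at hx
      have h1 := hUH hx
      rw [e, mem_conj_smul_iff] at h1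
      rwa [show g⁻¹ * (g * x * g⁻¹) * g = x by group] at h1
    obtain ⟨m, hm, hmU⟩ := exists_conj_le_hallOf hd.hallU hU' fun l hl hld => by
      rw [Nat.card_congr (Subgroup.equivSMul (MulAut.conj g⁻¹) U).symm.toEquiv] at hld
      exact hd.hallU.2.1 l hl hld
    rw [← mul_smul, ← map_mul] at hmU
    have hng : m * g⁻¹ ∈ H := hNUH (mem_normalizer_of_conj fun x hx => hmU (mem_sigmaCore_conj_iff.2 hx))
    rw [e, mem_conj_smul_iff, show g⁻¹ * (m * g⁻¹) * g = g⁻¹ * m by group] at hng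
    have hg : g ∈ M := by
      have := M.mul_mem hm (M.inv_mem hng)
      rwa [show m * (g⁻¹ * m)⁻¹ = g by group] at this
    exact hNUM (hNUH.trans (e.trans ((conj_smul_self_iff hG hM).2 hg)).le)
  have hsH : s ∉ Cfsg.sigma H := fun hsH => by
    obtain ⟨g, hg⟩ := sigma_disjoint hG h.pdata.hM hH hsMs hsH
    have hgM : g⁻¹ ∈ Ms := h.pdata.mem_of_conj_star hs hyS hyo (by
      have hy' := hyH
      rw [hg, mem_conj_smul_iff] at hy'
      rwa [inv_inv])
    rw [(conj_smul_self_iff hG h.pdata.hM).2 (inv_mem_iff.1 hgM)] at hg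
    refine hU (le_bot_iff.1 (hd.K_inf_U ▸ le_inf le_rfl fun u hu => ?_))
    have huZ : u ∈ K ⊔ (Cfsg.sigmaCore M ⊓ Subgroup.centralizer (K : Set G)) := by
      rw [← h.inf_eq]; exact ⟨hUM hu, hg ▸ hUH hu⟩
    exact hd.mem_K huZ fun l hl hld => (hd.hallU.2.1 l hl (hld.trans (Subgroup.orderOf_dvd_natCard U hu))).2.2
  have hκH : Cfsg.kappa H = ∅ := Set.not_nonempty_iff_eq_empty.1 fun hne => by
    obtain ⟨g, e | e⟩ := h.classes hH hne
    · exact hconjM g e
    · exact hsH (e ▸ sigma_conj_iff.2 hsMs)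
  have hyfix : Cfsg.sigmaCore H ⊓ Subgroup.centralizer ({y} : Set G) = ⊥ :=
    (Subgroup.eq_bot_iff_forall _).2 fun w hw => by_contra fun hw1 => by
      rcases sigma_dichotomy hG hH hw.1 hw1 hyH (commute_of_mem_centralizer_singleton hw.2) hy1
        (fun l hl hld => by rw [hyo] at hld; exact (Nat.prime_dvd_prime_iff_eq hl hs).1 hld ▸ hsH)
        with ⟨hκ, -⟩ | ⟨-, -, hyc, -⟩
      · have := hκ s hs (hyo ▸ dvd_rfl)
        rw [hκH] at this
        exact this
      · exact hsH (hCyu H hH hyc ▸ hsMs)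
  have hyN : y ∈ Subgroup.normalizer (Cfsg.sigmaCore H : Set G) := le_normalizer_piCoreOf _ H hyH
  have hyU : y ∈ Subgroup.normalizer (U : Set G) := hd.normalU (hd.hKE hy)
  have hWn : Group.IsNilpotent ↥(Cfsg.sigmaCore H ⊔ U) :=
    isNilpotent_of_fpf_elem hs (by rw [← hyo, pow_orderOf_eq_one]) (by
      rw [mem_normalizer_iff_conj_smul, Subgroup.smul_sup, conj_smul_eq_self_of_mem_normalizer hyN,
        conj_smul_eq_self_of_mem_normalizer hyU])
      (sup_inf_centralizer_eq_bot (hUH.trans (le_normalizer_piCoreOf _ H)) hyN hyU hyfix (hd.fpf y hy hy1))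
  obtain ⟨x₀, hx₀, hx₀1⟩ : ∃ x ∈ Cfsg.sigmaCore H, x ≠ 1 := by
    obtain ⟨x, hx⟩ := (Subgroup.ne_bot_iff_exists_ne_one).1 (sigmaCore_ne_bot hG hH)
    exact ⟨x, x.2, fun e => hx (Subtype.ext e)⟩
  have hσH : ∀ {l : ℕ}, l.Prime → l ∣ Nat.card U → l ∈ Cfsg.sigma H := fun {l} hl hld => by_contra fun hlH => by
    haveI := Fact.mk hl
    have hcent : ∀ v ∈ U, orderOf v = l → ∀ w ∈ Cfsg.sigmaCore H, Commute v w := fun v hv hvo w hw =>
      commute_of_nilpotent hl hWn (Subgroup.mem_sup_right hv) (Subgroup.mem_sup_left hw) hvo fun hd' =>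
        hlH (isPi_piCoreOf _ H l hl (hd'.trans (Subgroup.orderOf_dvd_natCard _ hw)))
    obtain ⟨u, hu, huo⟩ := exists_order_of_dvd hl hld
    obtain ⟨hUc, -, hu1⟩ := zpowers_line hl huo
    obtain ⟨hl2, hCu⟩ : l ∈ Cfsg.tau2 H ∧ Subgroup.centralizer ({u} : Set G) ≤ H := by
      rcases sigma_dichotomy hG hH hx₀ hx₀1 (hUH hu) (hcent u hu huo x₀ hx₀) hu1
        (fun t ht htd => by rw [huo] at htd; exact (Nat.prime_dvd_prime_iff_eq ht hl).1 htd ▸ hlH)
        with ⟨hκ, -⟩ | ⟨h2, -, hC, -⟩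
      · have := hκ l hl (huo ▸ dvd_rfl)
        rw [hκH] at this
        exact absurd this (Set.notMem_empty l)
      · exact ⟨h2 l hl (huo ▸ dvd_rfl), hC⟩
    have hplane : ∀ B : Subgroup G, B ≤ H → Cfsg.IsElementaryAbelian l B → Nat.card B = l ^ 2 →
        ¬ Cfsg.sigmaCore H ≤ Subgroup.centralizer (B : Set G) := fun B hBH hBe hB2 hle => by
      have := (Cfsg.Agent.S1417.result hG H hH l hl2 B ⟨hBH, hBe, hB2⟩).2.2.2.1
      rw [inf_eq_left.2 hle] at this
      exact sigmaCore_ne_bot hG hH this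
    obtain ⟨-, hlκ, hlσ⟩ := hd.hallU.2.1 l hl hld
    rcases tau_cases hG hM hl hlσ (hld.trans (Subgroup.card_dvd_of_le hUM)) with (h1 | h3) | h22
    · exact hlκ (h.kappa_eq_tau1.ge h1)
    · -- a plane of `H` at `l` meets `C(y)`
      have huY : y ∈ Subgroup.normalizer ((Subgroup.zpowers u : Subgroup G) : Set G) :=
        tau3_normalized hG hM hd.hE.1 (fun t ht htd => not_sigma_of_dvd_compl hG hM hd.hE ht htd) (hd.hUE hu)
          (huo.symm ▸ h3) (hd.hKE hy)
      obtain ⟨EH, hEH', hAE⟩ := exists_compl_ge hG hH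
        (K := Subgroup.zpowers u ⊔ Subgroup.zpowers y)
        (sup_le (Subgroup.zpowers_le.2 (hUH hu)) (Subgroup.zpowers_le.2 hyH))
        (isPi_sup (π := {t | t ∉ Cfsg.sigma H}) (Subgroup.zpowers_le.2 huY)
          (isPi_zpowers fun t ht htd => by rw [huo] at htd; exact (Nat.prime_dvd_prime_iff_eq ht hl).1 htd ▸ hlH)
          (isPi_zpowers fun t ht htd => by rw [hyo] at htd; exact (Nat.prime_dvd_prime_iff_eq ht hs).1 htd ▸ hsH))
      obtain ⟨B, B₀, hBE, hB⟩ := exists_elem_compl hG hH hEH' hl2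
      have huE : u ∈ EH := hAE (Subgroup.mem_sup_left (Subgroup.mem_zpowers u))
      have hyE : y ∈ EH := hAE (Subgroup.mem_sup_right (Subgroup.mem_zpowers y))
      have huB : u ∈ B := hB.mem_of_compl hEH' hBE huE (by rw [← huo, pow_orderOf_eq_one])
      have hyB : Subgroup.zpowers y ≤ Subgroup.normalizer (B : Set G) :=
        Subgroup.zpowers_le.2 (hB.compl_le_normalizer hEH' hBE hyE)
      have hls : l ≠ s := fun e => hlκ (e ▸ hsκ)
      have hfB : B ⊓ Subgroup.centralizer ((Subgroup.zpowers y : Subgroup G) : Set G) ≠ ⊥ := fun e => by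
        refine hplane B hB.hAM hB.hAe hB.hA2 (frobenius_kernel_centralizes hB.maxElem.ne_bot hs hYc hyB e
          (haveI := isSolvable_of_ne_top hG hH.1; isSolvable_of_le (piCoreOf_le _ H) inferInstance)
          ((sup_le hB.hAM (Subgroup.zpowers_le.2 hyH)).trans (le_normalizer_piCoreOf _ H))
          (Nat.coprime_of_dvd fun t ht h1 h2 => not_sigma_of_dvd_compl hG hH hEH' ht
            (h2.trans (Subgroup.card_dvd_of_le (sup_le hBE (Subgroup.zpowers_le.2 hyE))))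
            (isPi_piCoreOf _ H t ht h1)) ?_)
        rw [centralizer_zpowers_eq]; exact hyfix
      obtain ⟨v, hv, -, hvo⟩ := exists_central_order hl (hB.maxElem.isPGroup.to_le inf_le_left) hfB
      obtain ⟨hvB, hvy⟩ := Subgroup.mem_inf.1 hv
      rw [centralizer_zpowers_eq] at hvy
      have hyv : Commute v y := (commute_of_mem_centralizer_singleton hvy).symm
      haveI : IsMulCommutative B := hB.hAe.1
      rcases sigma_dichotomy hG h.pdata.hM hyS.1 hy1 (hCy hvy) hyv (zpowers_line hl hvo).2.2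
        (fun t ht htd => by
          rw [hvo] at htd; exact (Nat.prime_dvd_prime_iff_eq ht hl).1 htd ▸ hUσs hl hld)
        with ⟨hκ, -⟩ | ⟨-, -, hCv, -⟩
      · have hκl := hκ l hl (hvo ▸ dvd_rfl)
        refine hlσ (isPi_piCoreOf _ M l hl ?_)
        by_contra hnd
        refine h.pdata.hall.2.2 l hl hκl ?_
        have hrel := Subgroup.relIndex_mul_relIndex ⊥
          (Cfsg.sigmaCore M ⊓ Subgroup.centralizer (K : Set G)) Ms bot_le h.pdata.hKM
        simp only [Subgroup.relIndex_bot_left] at hrel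
        exact (hl.dvd_mul.1 (hrel ▸ hκl.2.1)).resolve_left fun e =>
          hnd (e.trans (Subgroup.card_dvd_of_le inf_le_left))
      · have huMs : u ∈ Ms := hCv (mem_centralizer_singleton_of_commute
          (congrArg Subtype.val (mul_comm' (⟨v, hvB⟩ : B) ⟨u, huB⟩)))
        have huZ : u ∈ K ⊔ (Cfsg.sigmaCore M ⊓ Subgroup.centralizer (K : Set G)) := by
          rw [← h.inf_eq]; exact ⟨hUM hu, huMs⟩
        refine hu1 (Subgroup.mem_bot.1 (hd.K_inf_U ▸ ⟨hu, ?_⟩ : u ∈ (⊥ : Subgroup G)))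
        exact (hd.prime_mem huZ hl huo).2 hlσ
    · -- a plane of `M` in `U`
      obtain ⟨A, A₀, hAE, hA⟩ := exists_elem_compl hG hM hd.hE h22
      haveI : Group.IsSolvable E := isSolvable_of_le hd.hE.1 inferInstance
      obtain ⟨m, hm, hmU⟩ := exists_conj_le_hallOf (π := {q | q.Prime ∧ q ∉ Cfsg.kappa M ∧ q ∉ Cfsg.sigma M})
        (X := E) (H := U) ⟨hd.hUE, hd.hallU.2.1, fun t ht hπ htd => hd.hallU.2.2 t ht hπ (htd.trans (by
          rw [← Subgroup.relIndex_mul_relIndex U E M hd.hUE hd.hE.1]; exact dvd_mul_right _ _))⟩ hAE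
        fun t ht htd => by
          rw [hA.hA2] at htd
          have := (Nat.prime_dvd_prime_iff_eq ht hl).1 (ht.dvd_of_dvd_pow htd)
          subst this
          exact ⟨hl, hlκ, hlσ⟩
      have hAU : A ≤ U := fun a ha => by
        have h1 : m * a * m⁻¹ ∈ U := hmU (mem_sigmaCore_conj_iff.2 ha)
        have h3 := conj_mem_of_le_normalizer (inv_mem (hd.normalU hm)) _ h1
        rwa [inv_inv, show m⁻¹ * (m * a * m⁻¹) * m = a by group] at h3
      refine hplane A (hAU.trans hUH) hA.hAe hA.hA2 fun w hw => Subgroup.mem_centralizer_iff.2 fun a ha => ?_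
      by_cases ha1 : a = 1
      · rw [ha1, one_mul, mul_one]
      · exact (hcent a (hAU ha) (orderOf_eq_prime (hA.hAe.2 a ha) ha1) w hw).eq
  have hUσH : U ≤ Cfsg.sigmaCore H := le_sigmaCore_of_isPi hG hH hUH fun l hl hld => hσH hl hld
  have hyσ : ∀ k ∈ K, k ∈ Cfsg.sigmaCore H → k = 1 := fun k hk hkσ => Subgroup.mem_bot.1 (by
    rw [← inf_eq_bot_of_coprime_card (H := K) (K := Cfsg.sigmaCore H) (Nat.coprime_of_dvd fun l hl h1 h2 => by
      rw [hKs] at h1
      exact hsH ((Nat.prime_dvd_prime_iff_eq hl hs).1 h1 ▸ isPi_piCoreOf _ H l hl h2))]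
    exact ⟨hk, hkσ⟩)
  have hMσH : Cfsg.sigmaCore M ⊓ H = ⊥ := by
    have hbot : Cfsg.sigmaCore M ⊓ Cfsg.sigmaCore H = ⊥ :=
      inf_eq_bot_of_coprime_card (Nat.coprime_of_dvd fun l hl h1 h2 => by
        obtain ⟨g, hg⟩ := sigma_disjoint hG hM hH (isPi_piCoreOf _ M l hl h1) (isPi_piCoreOf _ H l hl h2)
        exact hconjM g hg)
    refine (Subgroup.eq_bot_iff_forall _).2 fun w hw => ?_
    have hwC : w ∈ Cfsg.sigmaCore M ⊓ Subgroup.centralizer (U : Set G) := by
      refine ⟨hw.1, Subgroup.mem_centralizer_iff.2 fun u hu => ?_⟩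
      have h1 : ⁅u, w⁆ ∈ Cfsg.sigmaCore M ⊓ Cfsg.sigmaCore H := ⟨by
        rw [commutatorElement_def]
        exact (Cfsg.sigmaCore M).mul_mem (conj_mem_of_le_normalizer (le_normalizer_piCoreOf _ M (hUM hu)) w hw.1)
          ((Cfsg.sigmaCore M).inv_mem hw.1), by
        rw [show ⁅u, w⁆ = u * (w * u⁻¹ * w⁻¹) by rw [commutatorElement_def]; group]
        exact (Cfsg.sigmaCore H).mul_mem (hUσH hu) (conj_mem_of_le_normalizer (le_normalizer_piCoreOf _ H hw.2) _
          ((Cfsg.sigmaCore H).inv_mem (hUσH hu)))⟩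
      rw [hbot, Subgroup.mem_bot] at h1
      exact commutatorElement_eq_one_iff_mul_comm.1 h1
    rw [(hd.U_action hU).1] at hwC
    exact Subgroup.mem_bot.1 hwC
  have hMH : M ⊓ H = U ⊔ K := by
    refine le_antisymm (fun w hw => ?_) (le_inf (sup_le hUM hd.hKM) (hd.sup_eq.le.trans hEH))
    obtain ⟨a, ha, k, hk, rfl⟩ := hd.hE.2.2.2 w hw.1
    have hkH : k ∈ H := by
      have := H.mul_mem (H.inv_mem (hEH ha)) hw.2
      rwa [inv_mul_cancel_left] at this
    rw [Subgroup.mem_bot.1 (hMσH ▸ ⟨hk, hkH⟩ : k ∈ (⊥ : Subgroup G)), mul_one, hd.sup_eq]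
    exact ha
  -- the complement `H ⊓ Ms`
  obtain ⟨E', hE', hYE⟩ := exists_compl_ge hG hH (Subgroup.zpowers_le.2 hyH) fun l hl hld => by
    rw [hYc] at hld
    exact (Nat.prime_dvd_prime_iff_eq hl hs).1 hld ▸ hsH
  have hyE : y ∈ E' := hYE (Subgroup.mem_zpowers y)
  haveI : Group.IsSolvable H := isSolvable_of_ne_top hG hH.1
  have hE's : Group.IsSolvable E' := isSolvable_of_le hE'.1 inferInstance
  obtain ⟨q₀, T, hq₀, -, hq₀d, hTn⟩ := h.symm.exists_normal_sylow
  obtain rfl : q₀ = s := by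
    rw [h.dual, hKs] at hq₀d
    exact (Nat.prime_dvd_prime_iff_eq hq₀ hs).1 hq₀d
  haveI := hTn
  have hyT : (⟨y, hyMs⟩ : Ms) ∈ (T : Subgroup Ms) := by
    obtain ⟨T₁, hT₁⟩ := (isPGroup_zpowers (k := 1) (Subtype.ext (by
      rw [pow_one, SubmonoidClass.coe_pow]
      show y ^ q₀ = ((1 : Ms) : G)
      rw [← hyo, pow_orderOf_eq_one]; rfl)) : IsPGroup q₀ (Subgroup.zpowers (⟨y, hyMs⟩ : Ms))).exists_le_sylow
    haveI := Sylow.unique_of_normal T inferInstance
    exact (Subsingleton.elim T₁ T) ▸ hT₁ (Subgroup.mem_zpowers _)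
  -- commutators with `y` of elements of `Ms`
  have hTcomm : ∀ (D : Subgroup G), (Nat.card D).Coprime q₀ → ∀ v ∈ Ms, ⁅v, y⁆ ∈ D → Commute v y := by
    intro D hD v hv hvD
    have h1 : ⁅v, y⁆ ∈ D ⊓ (T : Subgroup Ms).map Ms.subtype := by
      refine ⟨hvD, ⁅(⟨v, hv⟩ : Ms), ⟨y, hyMs⟩⁆, ?_, by simp [commutatorElement_def]⟩
      rw [commutatorElement_def]
      exact mul_mem (hTn.conj_mem _ hyT _) (inv_mem hyT)
    rw [inf_eq_bot_of_coprime_card (by
      obtain ⟨n, hn⟩ := (T.2.map Ms.subtype).exists_card_eq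
      rw [hn]; exact hD.pow_right n), Subgroup.mem_bot] at h1
    exact commutatorElement_eq_one_iff_mul_comm.1 h1
  have hOs : ∀ a ∈ opOf q₀ E', Commute y a := fun a ha => by
    have hW : IsPGroup q₀ ↥(Subgroup.zpowers y ⊔ opOf q₀ E') :=
      hYp.to_sup_of_normal_right' (isPGroup_opOf hs E') (hYE.trans (le_normalizer_piCoreOf _ E'))
    exact sylow_comm_of_not_sigma hG hH hs hsH (sup_le (hYE.trans hE'.1) ((piCoreOf_le _ E').trans hE'.1)) hW
      y (Subgroup.mem_sup_left (Subgroup.mem_zpowers y)) a (Subgroup.mem_sup_right ha)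
  have hcent : ∀ p : ℕ, p.Prime → ∀ a ∈ opOf p E', Commute y a := by
    intro p hp a ha
    by_cases hps : p = q₀
    · subst hps; exact hOs a ha
    by_contra hne
    haveI := Fact.mk hp
    set P := opOf p E' with hP
    have hPE : P ≤ E' := piCoreOf_le _ E'
    have hPp : IsPGroup p P := isPGroup_opOf hp E'
    have hP1 : P ≠ ⊥ := fun e => hne (by
      rw [e, Subgroup.mem_bot] at ha; rw [ha]; exact Commute.one_right y)
    have hpH : p ∉ Cfsg.sigma H := not_sigma_of_dvd_compl hG hH hE' hp (by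
      obtain ⟨z, hz, -, hzo⟩ := exists_central_order hp hPp hP1
      exact hzo ▸ Subgroup.orderOf_dvd_natCard E' (hPE hz))
    haveI : IsMulCommutative P := ⟨⟨fun b c => Subtype.ext
      (sylow_comm_of_not_sigma hG hH hp hpH (hPE.trans hE'.1) hPp b b.2 c c.2)⟩⟩
    set Y := Subgroup.zpowers y with hY
    have hYP : Y ≤ Subgroup.normalizer (P : Set G) := hYE.trans (le_normalizer_piCoreOf _ E')
    have hcop : (Nat.card Y).Coprime (Nat.card P) := by
      obtain ⟨n, hn⟩ := hPp.exists_card_eq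
      rw [hYc, hn]
      exact ((Nat.coprime_primes hs hp).2 (Ne.symm hps)).pow_right n
    have hsup := commutator_sup_centralizer hYP hcop (Or.inr (isSolvable_of_le hPE hE's))
    have hinf := centralizer_inf_commutator_eq_bot hYP hcop
    set V := ⁅P, Y⁆ with hV
    have hVP : V ≤ P := commutator_le_left_of_le_normalizer hYP
    have hV1 : V ≠ ⊥ := fun e => hne (by
      rw [e, bot_sup_eq] at hsup
      rw [← hsup] at ha
      exact commute_of_mem_centralizer (Subgroup.mem_zpowers y) ha.2)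
    have hVY : V ⊓ Subgroup.centralizer (Y : Set G) = ⊥ := le_bot_iff.1 fun v hv => by
      rw [← hinf]; exact ⟨⟨hVP hv.1, hv.2⟩, hv.1⟩
    have hfrob : ∀ D : Subgroup G, D ≠ ⊥ → D ≤ E' → Y ≤ Subgroup.normalizer (D : Set G) →
        D ⊓ Subgroup.centralizer (Y : Set G) = ⊥ → Cfsg.sigmaCore H ≤ Subgroup.centralizer (D : Set G) :=
      fun D hD hDE hYD hDY => frobenius_kernel_centralizes hD hs hYc hYD hDY
        (isSolvable_of_le (piCoreOf_le _ H) inferInstance)
        ((sup_le (hDE.trans hE'.1) (Subgroup.zpowers_le.2 hyH)).trans (le_normalizer_piCoreOf _ H))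
        (Nat.coprime_of_dvd fun t ht h1 h2 => not_sigma_of_dvd_compl hG hH hE' ht
          (h2.trans (Subgroup.card_dvd_of_le (sup_le hDE hYE))) (isPi_piCoreOf _ H t ht h1))
        (by rw [hY, centralizer_zpowers_eq]; exact hyfix)
    have hVC := hfrob V hV1 (hVP.trans hPE) (le_normalizer_commutator hYP Subgroup.le_normalizer) hVY
    obtain ⟨v, hv, -, hvo⟩ := exists_central_order hp (hPp.to_le hVP) hV1
    obtain ⟨hVc, -, hv1⟩ := zpowers_line hp hvo
    obtain ⟨hp2, hCv, hvu⟩ : p ∈ Cfsg.tau2 H ∧ Subgroup.centralizer ({v} : Set G) ≤ H ∧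
        ∀ L : Subgroup G, IsCoatom L → Subgroup.centralizer ({v} : Set G) ≤ L → L = H := by
      rcases sigma_dichotomy hG hH hx₀ hx₀1 (hE'.1 (hPE (hVP hv))) (commute_of_mem_centralizer hv (hVC hx₀)) hv1
        (fun t ht htd => by rw [hvo] at htd; exact (Nat.prime_dvd_prime_iff_eq ht hp).1 htd ▸ hpH)
        with ⟨hκ, -⟩ | ⟨h2, -, hC, hu⟩
      · have := hκ p hp (hvo ▸ dvd_rfl)
        rw [hκH] at this
        exact absurd this (Set.notMem_empty p)
      · exact ⟨h2 p hp (hvo ▸ dvd_rfl), hC, hu⟩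
    obtain ⟨B, B₀, hBE, hB⟩ := exists_elem_compl hG hH hE' hp2
    have hvB : v ∈ B := hB.mem_of_compl hE' hBE (hPE (hVP hv)) (by rw [← hvo, pow_orderOf_eq_one])
    haveI : IsMulCommutative B := hB.hAe.1
    have hS := Cfsg.Agent.S1417.result hG H hH p hp2 B ⟨hB.hAM, hB.hAe, hB.hA2⟩
    have hYB : Y ≤ Subgroup.normalizer (B : Set G) := hYE.trans (hB.compl_le_normalizer hE' hBE)
    have hBY : B ⊓ Subgroup.centralizer (Y : Set G) ≠ ⊥ := fun e => by
      have h1 := hS.2.2.2.1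
      rw [inf_eq_left.2 (hfrob B hB.maxElem.ne_bot hBE hYB e)] at h1
      exact sigmaCore_ne_bot hG hH h1
    obtain ⟨w, hw, -, hwo⟩ := exists_central_order hp (hB.maxElem.isPGroup.to_le inf_le_left) hBY
    obtain ⟨hwB, hwY⟩ := Subgroup.mem_inf.1 hw
    have hwy : Commute w y := (commute_of_mem_centralizer (Subgroup.mem_zpowers y) hwY).symm
    have hwMs : w ∈ Ms := hCy (mem_centralizer_singleton_of_commute hwy.symm)
    have hvy : ¬ Commute v y := fun hc => hv1 (Subgroup.mem_bot.1 (hVY ▸ ⟨hv, by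
      rw [hY, centralizer_zpowers_eq]; exact mem_centralizer_singleton_of_commute hc.symm⟩))
    have hBdvd : ∀ t : ℕ, t.Prime → t ∣ Nat.card B → t = p := fun t ht htd => by
      rw [hB.hA2] at htd
      exact (Nat.prime_dvd_prime_iff_eq ht hp).1 (ht.dvd_of_dvd_pow htd)
    by_cases hpMs : p ∈ Cfsg.sigma Ms
    · obtain ⟨g, hg⟩ := exists_conj_le_sigmaCore hG h.pdata.hM hB.maxElem.ne_bot
        (fun t ht htd => hBdvd t ht htd ▸ hpMs)
      have hB' : B ≤ MulAut.conj g⁻¹ • Ms := fun b hb => by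
        rw [mem_conj_smul_iff, inv_inv]
        exact piCoreOf_le _ Ms (hg (mem_sigmaCore_conj_iff.2 hb))
      have hy' : y ∈ MulAut.conj g⁻¹ • Ms := normalizer_le_of_noncyclic hG (isCoatom_conj h.pdata.hM g⁻¹)
        (sigma_conj_iff.2 hpMs) hB.maxElem.isPGroup hB' hB.maxElem.not_isCyclic (hYB (Subgroup.mem_zpowers y))
      rw [mem_conj_smul_iff, inv_inv] at hy'
      have hgMs : g ∈ Ms := h.pdata.mem_of_conj_star hs hyS hyo hy'
      rw [(conj_smul_self_iff hG h.pdata.hM).2 (inv_mem hgMs)] at hB'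
      refine hvy (hTcomm B (by
        rw [hB.hA2]; exact ((Nat.coprime_primes hp hs).2 hps).pow_left 2) v (hB' hvB) ?_)
      rw [show ⁅v, y⁆ = v * (y * v⁻¹ * y⁻¹) by rw [commutatorElement_def]; group]
      exact B.mul_mem hvB (conj_mem_of_le_normalizer (hYB (Subgroup.mem_zpowers y)) _ (B.inv_mem hvB))
    rcases sigma_dichotomy hG h.pdata.hM hyS.1 hy1 hwMs hwy (zpowers_line hp hwo).2.2
      (fun t ht htd => by rw [hwo] at htd; exact (Nat.prime_dvd_prime_iff_eq ht hp).1 htd ▸ hpMs)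
      with ⟨hκ, -⟩ | ⟨h2, -, hCw, -⟩
    · have hκp := hκ p hp (hwo ▸ dvd_rfl)
      have hpM : p ∈ Cfsg.sigma M := by
        refine isPi_piCoreOf _ M p hp ?_
        by_contra hnd
        refine h.pdata.hall.2.2 p hp hκp ?_
        have hrel := Subgroup.relIndex_mul_relIndex ⊥
          (Cfsg.sigmaCore M ⊓ Subgroup.centralizer (K : Set G)) Ms bot_le h.pdata.hKM
        simp only [Subgroup.relIndex_bot_left] at hrel
        exact (hp.dvd_mul.1 (hrel ▸ hκp.2.1)).resolve_left fun e =>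
          hnd (e.trans (Subgroup.card_dvd_of_le inf_le_left))
      obtain ⟨g, hg⟩ := exists_conj_le_sigmaCore hG hM hB.maxElem.ne_bot
        (fun t ht htd => hBdvd t ht htd ▸ hpM)
      have hv' : g * v * g⁻¹ ∈ Cfsg.sigmaCore M := hg (mem_sigmaCore_conj_iff.2 hvB)
      have hce : Subgroup.centralizer ({g * v * g⁻¹} : Set G) = MulAut.conj g • Subgroup.centralizer ({v} : Set G) :=
        conj_centralizer_elem g v
      have hH' := isCoatom_conj hH g
      have hv'H : Subgroup.centralizer ({g * v * g⁻¹} : Set G) ≤ MulAut.conj g • H :=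
        hce.le.trans (conj_le_conj.2 hCv)
      have hnle : ¬ Subgroup.centralizer ({g * v * g⁻¹} : Set G) ≤ M := fun hle => by
        have h1 : Subgroup.centralizer ({v} : Set G) ≤ MulAut.conj g⁻¹ • M := fun c hc => by
          rw [mem_conj_smul_iff, inv_inv]
          exact hle (hce.ge (mem_sigmaCore_conj_iff.2 hc))
        have h2 := hS.2.2.2.2.1 (MulAut.conj g⁻¹ • M) (isCoatom_conj hM g⁻¹) (fun e => hconjM g⁻¹ e.symm)
          (fun b hb => h1 (mem_centralizer_singleton_of_commute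
            (congrArg Subtype.val (mul_comm' (⟨v, hvB⟩ : B) ⟨b, hb⟩))))
        refine sigmaCore_ne_bot hG hH (le_bot_iff.1 (h2 ▸ le_inf le_rfl fun c hc => h1
          (mem_centralizer_singleton_of_commute (commute_of_mem_centralizer hv (hVC hc)))))
      obtain ⟨N, hN⟩ := exists_support hG hM hv' (fun e => hv1 (conj_eq_one_iff.1 e)) hnle
      obtain rfl := hN.uniq _ hH' hv'H
      have hκM := hN.kappa_eq_empty (sigma_conj_iff.2 (hσH (Fact.out : r.Prime) hr))
        (hr.trans (Subgroup.card_dvd_of_le hUM))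
      rw [hκM] at hsκ
      exact hsκ
    · have hBMs : B ≤ Ms := fun b hb => hCw (mem_centralizer_singleton_of_commute
        (congrArg Subtype.val (mul_comm' (⟨w, hwB⟩ : B) ⟨b, hb⟩)))
      have h1 := (Cfsg.Agent.S1417.result hG Ms h.pdata.hM p (h2 p hp (hwo ▸ dvd_rfl)) B
        ⟨hBMs, hB.hAe, hB.hA2⟩).2.2.2.2.1 H hH (fun e => hsH (e ▸ hsMs)) hB.hAM
      exact hy1 (Subgroup.mem_bot.1 (h1 ▸ ⟨hyS.1, hyH⟩))
  have hyF : y ∈ Cfsg.fittingOf E' := by
    refine inf_centralizer_fittingOf_le hE's ⟨hyE, Subgroup.mem_centralizer_iff.2 fun f hf => ?_⟩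
    have : f ∈ Subgroup.centralizer ({y} : Set G) := fittingOf_le_of
      (fun p hp a ha => mem_centralizer_singleton_of_commute (hcent p hp a ha)) hf
    exact (commute_of_mem_centralizer_singleton this).eq.symm
  have hEMs : E' ≤ Ms := by
    set P := opOf q₀ E' with hP
    have hyP : y ∈ P := mem_opOf_of_mem_fittingOf hs hyF (k := 1) (by rw [pow_one, ← hyo, pow_orderOf_eq_one])
    have hEP : E' ≤ Subgroup.normalizer (P : Set G) := le_normalizer_piCoreOf _ E'
    have hPMs : P ≤ Ms := fun a ha => hCy (mem_centralizer_singleton_of_commute (hOs a ha))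
    by_cases hc : IsCyclic P
    · refine fun e he => h.pdata.normalizer_star_le hs hyS hyo (mem_normalizer_of_conj fun x hx => ?_)
      refine mem_line_of_cyclic hs hc (Subgroup.zpowers_le.2 hyP) hYc
        (conj_mem_of_le_normalizer (hEP he) x (Subgroup.zpowers_le.2 hyP hx)) ?_
      rw [conj_pow, pow_eq_one_of_line hs hYc hx, mul_one, mul_inv_cancel]
    · exact hEP.trans (normalizer_le_of_noncyclic hG h.pdata.hM hsMs (isPGroup_opOf hs E') hPMs hc)
  have hMsσ : Ms ⊓ Cfsg.sigmaCore H = ⊥ := (Subgroup.eq_bot_iff_forall _).2 fun w hw => by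
    have hc : Commute w y := hTcomm (Cfsg.sigmaCore H) (Nat.Coprime.symm ((Nat.Prime.coprime_iff_not_dvd hs).2
      fun hd' => hsH (isPi_piCoreOf _ H _ hs hd'))) w hw.1 (by
        rw [show ⁅w, y⁆ = w * (y * w⁻¹ * y⁻¹) by rw [commutatorElement_def]; group]
        exact (Cfsg.sigmaCore H).mul_mem hw.2
          (conj_mem_of_le_normalizer hyN _ ((Cfsg.sigmaCore H).inv_mem hw.2)))
    exact Subgroup.mem_bot.1 (hyfix ▸ ⟨hw.2, mem_centralizer_singleton_of_commute hc.symm⟩)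
  have hEeq : H ⊓ Ms = E' := by
    refine le_antisymm (fun w hw => ?_) (le_inf hE'.1 hEMs)
    obtain ⟨a, ha, k, hk, rfl⟩ := hE'.2.2.2 w hw.1
    have hkMs : k ∈ Ms := by
      have := Ms.mul_mem (Ms.inv_mem (hEMs ha)) hw.2
      rwa [inv_mul_cancel_left] at this
    rw [Subgroup.mem_bot.1 (hMsσ ▸ ⟨hkMs, hk⟩ : k ∈ (⊥ : Subgroup G)), mul_one]
    exact ha
  refine ⟨hκH, hUσH, hMH, hnM, ?_, hEeq.symm ▸ hE'⟩
  rw [hEeq, ← hKy, Subgroup.zpowers_le]
  exact hyF

end CfsgLib.OddLocal
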