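import Cfsg.Agent.Lib.OddLocal.PartnerSigma

/-!
Lines at `τ₃(M)` with fixed points on `M_σ`: first properties.
-/

set_option autoImplicit false
set_option linter.style.haveILetI false
set_option linter.unusedSectionVars false

open scoped commutatorElement
open scoped Pointwise

namespace CfsgLib.OddLocal

open CfsgLib.Coprime
open CfsgLib.BG.FixedLine (conj_mem_of_le_normalizer mem_normalizer_of_conj)

universe u

variable {G : Type u} [Group G] [Finite G] {p q : ℕ} {M L E : Subgroup G}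

/-- A coprime operator group centralizing every invariant primary subgroup centralizes everything. -/
theorem le_centralizer_of_sylows {R C : Subgroup G} (hRC : R ≤ Subgroup.normalizer (C : Set G))
    (hcop : (Nat.card R).Coprime (Nat.card C)) (hCs : Group.IsSolvable C)
    (h : ∀ (q : ℕ) (Y : Subgroup G), q.Prime → q ∣ Nat.card C → IsPGroup q Y → Y ≤ C →
      R ≤ Subgroup.normalizer (Y : Set G) → R ≤ Subgroup.centralizer (Y : Set G)) :
    R ≤ Subgroup.centralizer (C : Set G) := by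
  refine Subgroup.le_centralizer_iff.1 (inf_eq_left.1 (Subgroup.eq_of_le_of_card_ge
    (inf_le_left : C ⊓ Subgroup.centralizer (R : Set G) ≤ C)
    (Nat.le_of_dvd Nat.card_pos ((Nat.dvd_iff_prime_pow_dvd_dvd _ _).2 fun q k hq hk => ?_))))
  haveI := Fact.mk hq
  rcases Nat.eq_zero_or_pos k with rfl | hk0
  · exact one_dvd _
  obtain ⟨S, hS⟩ := exists_invariant_sylow hRC hcop (Or.inr hCs) q
  refine dvd_trans ?_ (Subgroup.card_dvd_of_le (le_inf (Subgroup.map_subtype_le (S : Subgroup C))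
    (Subgroup.le_centralizer_iff.1 (h q _ hq ((dvd_pow_self q hk0.ne').trans hk) (S.2.map _)
      (Subgroup.map_subtype_le _) hS))))
  rw [Subgroup.card_subtype, S.card_eq_multiplicity]
  exact pow_dvd_pow q ((hq.pow_dvd_iff_le_factorization Nat.card_pos.ne').1 hk)

/-- Elements of prime power order moving a cyclic `τ₃`-line exist in a complement. -/
theorem exists_acting (hG : Cfsg.IsMinSimpleOddOrder G) (hM : IsCoatom M)
    (hE : Cfsg.IsComplIn E (Cfsg.sigmaCore M) M) (hp : p ∈ Cfsg.tau3 M) {P : Subgroup G} (hPE : P ≤ E)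
    (hP : Nat.card P = p) :
    ∃ e ∈ E, (∃ s k : ℕ, s.Prime ∧ e ^ s ^ k = 1) ∧ e ∉ Subgroup.centralizer (P : Set G) := by
  classical
  haveI := Fact.mk hp.1
  by_contra hne
  push Not at hne
  have hEP : E ≤ Subgroup.centralizer (P : Set G) := fun x hx => mem_of_primary fun s hs _ y hy ⟨k, hk⟩ =>
    hne y (Subgroup.zpowers_le.2 hx hy) ⟨s, k, hs, hk⟩
  obtain ⟨S, hS⟩ := ((isPGroup_line hp.1 hP).comap_of_injective E.subtype E.subtype_injective :
    IsPGroup p (P.subgroupOf E)).exists_le_sylow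
  set S' := (S : Subgroup E).map E.subtype with hS'
  have hPS : P ≤ S' := (Subgroup.map_subgroupOf_eq_of_le hPE).ge.trans (Subgroup.map_mono hS)
  have hS'E : S' ≤ E := Subgroup.map_subtype_le _
  have hc : IsCyclic S' := cyclic_of_prankLE_one hG hp.1 (prankLE_compl hE hp.2.2.2) (S.2.map _) hS'E
  have hSD : S' ≤ ⁅E, E⁆ := tau3_le_derived hG hM hE hS'E fun t ht hd =>
    ((isPi_singleton_iff hp.1).2 (S.2.map E.subtype) t ht hd : t = p) ▸ hp
  have hcomm : IsMulCommutative S' := haveI := hc; IsCyclic.isMulCommutative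
  have hle : Subgroup.normalizer ((S : Subgroup E) : Set E) ≤ Subgroup.centralizer ((S : Subgroup E) : Set E) := by
    intro n hn
    have hn' : (n : G) ∈ Subgroup.normalizer (S' : Set G) := mem_normalizer_of_conj fun x hx => by
      obtain ⟨w, hw, rfl⟩ := hx
      exact ⟨n * w * n⁻¹, conj_mem_of_le_normalizer hn w hw, rfl⟩
    have h1 : (n : G) ∈ Subgroup.centralizer (S' : Set G) := by
      refine mem_of_primary fun s hs _ y hy hyk => ?_
      obtain ⟨k, hk⟩ := hyk
      have hyE : y ∈ E := Subgroup.zpowers_le.2 n.2 hy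
      have hyN : Subgroup.zpowers y ≤ Subgroup.normalizer (S' : Set G) :=
        Subgroup.zpowers_le.2 (Subgroup.zpowers_le.2 hn' hy)
      haveI := Fact.mk hs
      by_cases hsp : s = p
      · subst hsp
        have h2 : IsPGroup s ↥(Subgroup.zpowers y ⊔ S') :=
          IsPGroup.to_sup_of_normal_right' (isPGroup_zpowers hk) (S.2.map _) hyN
        have h3 := S.3 (h2.comap_of_injective E.subtype E.subtype_injective) fun w hw =>
          Subgroup.mem_sup_right ⟨w, hw, rfl⟩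
        have hyS : y ∈ S' := ⟨⟨y, hyE⟩, h3 ▸ Subgroup.mem_sup_left (Subgroup.mem_zpowers y), rfl⟩
        exact fun t ht => congrArg Subtype.val (mul_comm' (⟨t, ht⟩ : S') ⟨y, hyS⟩)
      · by_contra hyC
        have hcop : (Nat.card (Subgroup.zpowers y)).Coprime p := by
          obtain ⟨i, hi⟩ := (isPGroup_zpowers hk).exists_card_eq
          exact hi ▸ ((Nat.coprime_primes hs hp.1).2 hsp).pow_left i
        obtain ⟨hfix, -⟩ := fpf_of_cyclic hp.1 (S.2.map E.subtype) hc hyN hcop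
          fun hle' => hyC (hle' (Subgroup.mem_zpowers y))
        exact line_ne_bot hp.1 hP (le_bot_iff.1 (hfix ▸ le_inf hPS (Subgroup.le_centralizer_iff.1
          ((Subgroup.zpowers_le.2 hyE).trans hEP))))
    exact fun x hx => Subtype.ext (h1 _ ⟨x, hx, rfl⟩)
  have hK := MonoidHom.ker_transferSylow_isComplement' S hle
  have hcomm' : commutator E ≤ (MonoidHom.transferSylow S hle).ker := by
    rw [commutator_def, Subgroup.commutator_le]
    intro a _ b _
    rw [MonoidHom.mem_ker, map_commutatorElement, commutatorElement_eq_one_iff_mul_comm]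
    refine Subtype.ext (Subtype.ext ?_)
    have h := congrArg Subtype.val (mul_comm'
      (⟨_, ⟨_, (MonoidHom.transferSylow S hle a).2, rfl⟩⟩ : S') ⟨_, ⟨_, (MonoidHom.transferSylow S hle b).2, rfl⟩⟩)
    simpa using h
  refine MonoidHom.not_dvd_card_ker_transferSylow S hle (dvd_trans ?_ (Subgroup.card_dvd_of_le hcomm'))
  rw [← Subgroup.card_subtype E (commutator E), CfsgLib.BG.map_commutator_subtype]
  exact hP ▸ Subgroup.card_dvd_of_le (hPS.trans hSD)

/-- A line `P` normalized by `h`, with `C_{M_σ}(h) ≤ C(P)`, is centralized by `h`. -/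
theorem centralizes_of_fixed_le (hG : Cfsg.IsMinSimpleOddOrder G) (hM : IsCoatom M) (hp : p.Prime)
    (hpσ : p ∉ Cfsg.sigma M) {P : Subgroup G} (hPM : P ≤ M) (hP : Nat.card P = p) {s : ℕ} (hs : s.Prime)
    (hsσ : s ∉ Cfsg.sigma M) (hsp : s ≠ p) {H : Subgroup G} (hHM : H ≤ M) (hH : Nat.card H = s)
    (hHP : H ≤ Subgroup.normalizer (P : Set G))
    (hfix : Cfsg.sigmaCore M ⊓ Subgroup.centralizer (H : Set G) ≤ Subgroup.centralizer (P : Set G))
    (hE : Cfsg.IsComplIn E (Cfsg.sigmaCore M) M) (hEP : E ≤ Subgroup.normalizer (P : Set G))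
    (hNP : ¬ M ≤ Subgroup.normalizer (P : Set G)) : H ≤ Subgroup.centralizer (P : Set G) := by
  classical
  by_contra hne
  set K := Cfsg.sigmaCore M with hK
  haveI := Fact.mk hp
  obtain ⟨hfpf, -⟩ := fpf_of_cyclic hp (isPGroup_line hp hP) (isCyclic_of_prime_card hP) hHP
    (hH ▸ (Nat.coprime_primes hs hp).2 hsp) hne
  have hH1 : H ≠ ⊥ := line_ne_bot hs hH
  haveI : Fact s.Prime := ⟨hs⟩
  haveI : IsCyclic H := isCyclic_of_prime_card hH
  haveI : IsMulCommutative H := IsCyclic.isMulCommutative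
  have hPH : P ⊓ H = ⊥ := inf_eq_bot_of_coprime_card (by rw [hP, hH]; exact (Nat.coprime_primes hp hs).2 hsp.symm)
  have hfpf' : ∀ e ∈ H, e ≠ 1 → ∀ u ∈ P, e * u = u * e → u = 1 := fun e he he1 u hu hc => by
    have hz : Subgroup.zpowers e = H := (line_eq_zpowers hs hH he (orderOf_eq_prime
      (pow_eq_one_of_line hs hH he) he1)).symm
    have h1 : u ∈ P ⊓ Subgroup.centralizer (H : Set G) := ⟨hu, by
      rw [← hz, centralizer_zpowers_eq]
      exact Subgroup.mem_centralizer_singleton_iff.2 hc.symm⟩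
    rwa [hfpf, Subgroup.mem_bot] at h1
  have hJK : P ⊔ H ≤ Subgroup.normalizer (K : Set G) := (sup_le hPM hHM).trans (le_normalizer_piCoreOf _ M)
  have hJσ : ∀ r : ℕ, r.Prime → r ∣ Nat.card ↥(P ⊔ H) → r ∉ Cfsg.sigma M :=
    isPi_sup (π := {r | r ∉ Cfsg.sigma M}) hHP
      (fun r hr hd => by rw [hP] at hd; exact (Nat.prime_dvd_prime_iff_eq hr hp).1 hd ▸ hpσ)
      (fun r hr hd => by rw [hH] at hd; exact (Nat.prime_dvd_prime_iff_eq hr hs).1 hd ▸ hsσ)
  have hcop : (Nat.card K).Coprime (Nat.card ↥(P ⊔ H)) := Nat.coprime_of_dvd fun r hr h1 h2 =>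
    hJσ r hr h2 (isPi_piCoreOf _ M r hr h1)
  haveI : Group.IsSolvable M := isSolvable_of_ne_top hG hM.1
  have key := Cfsg.Agent.S1545.result P H K (line_ne_bot hp hP) hH1 hPH
    (fun e he u hu => conj_mem_of_le_normalizer (hHP he) u hu) hfpf'
    (fun x hx h hh => conj_mem_of_le_normalizer (hJK hx) h hh) (inf_eq_bot_of_coprime_card hcop)
    (isSolvable_of_le (piCoreOf_le _ M) inferInstance) hcop
  have hCeq : K ⊓ Subgroup.centralizer ((P ⊔ H : Subgroup G) : Set G) = K ⊓ Subgroup.centralizer (H : Set G) :=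
    le_antisymm (inf_le_inf_left _ (Subgroup.centralizer_le (SetLike.coe_subset_coe.2 le_sup_right)))
      (le_inf inf_le_left (Subgroup.le_centralizer_iff.1 (sup_le (Subgroup.le_centralizer_iff.1 hfix)
        (Subgroup.le_centralizer_iff.1 inf_le_right))))
  rw [hCeq] at key
  have h1 := Nat.eq_of_mul_eq_mul_left (pow_pos Nat.card_pos _) key
  have hKP : K ≤ Subgroup.normalizer (P : Set G) :=
    (inf_eq_left.1 (Subgroup.eq_of_le_of_card_ge inf_le_left h1.le)).trans (Subgroup.centralizer_le_normalizer _)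
  refine hNP fun m hm => ?_
  obtain ⟨a, ha, b, hb, rfl⟩ := hE.2.2.2 m hm
  exact mul_mem (hEP ha) (hKP hb)

/-- The data: a `τ₃`-line in a complement with a fixed point on `M_σ` and a maximal subgroup above its
normalizer. -/
structure Tau3Fixed (p : ℕ) (M E P L : Subgroup G) : Prop where
  hG : Cfsg.IsMinSimpleOddOrder G
  hM : IsCoatom M
  hE : Cfsg.IsComplIn E (Cfsg.sigmaCore M) M
  hp : p ∈ Cfsg.tau3 M
  hPE : P ≤ E
  hP : Nat.card P = p
  hfix : Cfsg.sigmaCore M ⊓ Subgroup.centralizer (P : Set G) ≠ ⊥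
  hL : IsCoatom L
  hNP : Subgroup.normalizer (P : Set G) ≤ L

namespace Tau3Fixed

variable {P : Subgroup G}

theorem hPM (h : Tau3Fixed p M E P L) : P ≤ M := h.hPE.trans h.hE.1

theorem exists_fixed (h : Tau3Fixed p M E P L) :
    ∃ (q : ℕ) (z : G), q.Prime ∧ z ∈ Cfsg.sigmaCore M ∧ orderOf z = q ∧
      z ∈ Subgroup.centralizer (P : Set G) := by
  obtain ⟨q, hq, hd⟩ := Nat.exists_prime_and_dvd (n := Nat.card ↥(Cfsg.sigmaCore M ⊓ Subgroup.centralizer (P : Set G)))
    fun e => h.hfix (Subgroup.card_eq_one.1 e)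
  obtain ⟨z, hz, hzo⟩ := exists_order_of_dvd hq hd
  exact ⟨q, z, hq, hz.1, hzo, hz.2⟩

theorem compl_le_normalizer (h : Tau3Fixed p M E P L) : E ≤ Subgroup.normalizer (P : Set G) := by
  obtain ⟨a, ha, hao⟩ := exists_order_of_dvd h.hp.1 (h.hP ▸ dvd_rfl : p ∣ Nat.card P)
  rw [line_eq_zpowers h.hp.1 h.hP ha hao]
  exact tau3_normalized h.hG h.hM h.hE.1 (fun r hr hd => not_sigma_of_dvd_compl h.hG h.hM h.hE hr hd) (h.hPE ha)
    (hao.symm ▸ h.hp)

theorem hEL (h : Tau3Fixed p M E P L) : E ≤ L := h.compl_le_normalizer.trans h.hNP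

theorem hPL (h : Tau3Fixed p M E P L) : P ≤ L := h.hPE.trans h.hEL

theorem hpσ (h : Tau3Fixed p M E P L) : p ∈ Cfsg.sigma L := by
  obtain ⟨q, z, hq, hz, hzo, hzP⟩ := h.exists_fixed
  exact (partner_sigma h.hG h.hM h.hp.1 h.hp.2.1 h.hp.2.2.2 h.hPM h.hP hq hz hzo hzP h.hL h.hNP).1

theorem not_conj (h : Tau3Fixed p M E P L) (g : G) : L ≠ MulAut.conj g • M := fun e =>
  h.hp.2.1 (sigma_of_conj (e ▸ h.hpσ))

theorem hLM (h : Tau3Fixed p M E P L) : L ≠ M := fun e => h.not_conj 1 (by rw [map_one, one_smul, e])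

theorem not_beta (h : Tau3Fixed p M E P L) (hq : q ∈ Cfsg.sigma M) : q ∉ Cfsg.beta L := fun hβ => by
  obtain ⟨g, hg⟩ := conj_of_alpha h.hG h.hM h.hL hq (beta_subset_sigma h.hG h.hL hβ) (Or.inr hβ.1)
  exact h.not_conj g hg

theorem hPL' (h : Tau3Fixed p M E P L) : P ≤ ⁅L, L⁆ :=
  haveI := Fact.mk h.hp.1
  le_derived_of_sigma h.hG h.hL h.hpσ (isPGroup_line h.hp.1 h.hP) h.hPL

/-- `M_σ ∩ L` centralizes `P`. -/
theorem inf_le_centralizer (h : Tau3Fixed p M E P L) :
    Cfsg.sigmaCore M ⊓ L ≤ Subgroup.centralizer (P : Set G) := by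
  refine Subgroup.le_centralizer_iff.1 (le_centralizer_of_sylows
    (le_normalizer_inf_of_le (h.hPM.trans (le_normalizer_piCoreOf _ M)) (h.hPL.trans Subgroup.le_normalizer))
    (Nat.coprime_of_dvd fun t ht h1 h2 => ?_)
    (haveI := isSolvable_of_ne_top h.hG h.hL.1; isSolvable_of_le inf_le_right inferInstance) fun q Y hq hd hY hYC hPY => ?_)
  · rw [h.hP] at h1
    exact h.hp.2.1 ((Nat.prime_dvd_prime_iff_eq ht h.hp.1).1 h1 ▸
      isPi_piCoreOf _ M t ht (h2.trans (Subgroup.card_dvd_of_le inf_le_left)))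
  · have hqM : q ∈ Cfsg.sigma M := isPi_piCoreOf _ M q hq (hd.trans (Subgroup.card_dvd_of_le inf_le_left))
    exact centralizes_of_le_derived h.hG h.hL h.hp.1 hq (fun e => h.hp.2.1 (e ▸ hqM)) (h.not_beta hqM)
      (isPGroup_line h.hp.1 h.hP) h.hPL' hY (hYC.trans inf_le_right) hPY

/-- A `τ₃`-fixed line leaves no room for `τ₂`. -/
theorem tau2_empty (h : Tau3Fixed p M E P L) {s : ℕ} (hs : s ∈ Cfsg.tau2 M) : False := by
  obtain ⟨B, B₀, hBE, hB⟩ := exists_elem_compl h.hG h.hM h.hE hs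
  obtain ⟨q, z, hq, hz, hzo, hzP⟩ := h.exists_fixed
  have h1 := hB.inf_eq_bot h.hL h.hLM (hBE.trans h.hEL)
  exact (zpowers_line hq hzo).2.2 (Subgroup.mem_bot.1
    (h1 ▸ ⟨hz, h.hNP (Subgroup.centralizer_le_normalizer _ hzP)⟩))

/-- Subgroups of a complement of `L'` centralize `C_{M_σ}(P)`. -/
theorem derived_line_centralizes (h : Tau3Fixed p M E P L) {R : Subgroup G} (hRE : R ≤ E) (hR : (Nat.card R).Prime)
    (hRd : R ≤ ⁅L, L⁆) :
    Cfsg.sigmaCore M ⊓ Subgroup.centralizer (P : Set G) ≤ Subgroup.centralizer (R : Set G) := by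
  haveI := Fact.mk hR
  have hEC : E ≤ Subgroup.normalizer ((Cfsg.sigmaCore M ⊓ Subgroup.centralizer (P : Set G) : Subgroup G) : Set G) :=
    le_normalizer_inf_of_le (h.hE.1.trans (le_normalizer_piCoreOf _ M)) fun x hx =>
      mem_normalizer_iff_conj_smul.2 (by
        rw [← conj_centralizer, conj_smul_eq_self_of_mem_normalizer (h.compl_le_normalizer hx)])
  refine Subgroup.le_centralizer_iff.1 (le_centralizer_of_sylows (hRE.trans hEC)
    (Nat.coprime_of_dvd fun t ht h1 h2 => ?_)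
    (haveI := isSolvable_of_ne_top h.hG h.hM.1
     isSolvable_of_le (inf_le_left.trans (piCoreOf_le _ M)) inferInstance) fun q Y hq hd hY hYC hRY => ?_)
  · exact not_sigma_of_dvd_compl h.hG h.hM h.hE ht (h1.trans (Subgroup.card_dvd_of_le hRE))
      (isPi_piCoreOf _ M t ht (h2.trans (Subgroup.card_dvd_of_le inf_le_left)))
  · have hqM : q ∈ Cfsg.sigma M := isPi_piCoreOf _ M q hq (hd.trans (Subgroup.card_dvd_of_le inf_le_left))
    refine centralizes_of_le_derived h.hG h.hL hR hq (fun e => ?_) (h.not_beta hqM)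
      (isPGroup_line hR rfl) hRd hY
      ((hYC.trans inf_le_right).trans ((Subgroup.centralizer_le_normalizer _).trans h.hNP)) hRY
    exact not_sigma_of_dvd_compl h.hG h.hM h.hE hR (Subgroup.card_dvd_of_le hRE) (e ▸ hqM)

/-- `τ₃`-lines of the complement centralize `C_{M_σ}(P)`. -/
theorem tau3_line_centralizes (h : Tau3Fixed p M E P L) {R : Subgroup G} (hRE : R ≤ E) {r : ℕ}
    (hr : r ∈ Cfsg.tau3 M) (hR : Nat.card R = r) :
    Cfsg.sigmaCore M ⊓ Subgroup.centralizer (P : Set G) ≤ Subgroup.centralizer (R : Set G) :=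
  haveI := Fact.mk hr.1
  h.derived_line_centralizes hRE (hR ▸ hr.1) ((tau3_le_derived h.hG h.hM h.hE hRE fun t ht hd => by
    rw [hR] at hd
    exact (Nat.prime_dvd_prime_iff_eq ht hr.1).1 hd ▸ hr).trans (Subgroup.commutator_mono h.hEL h.hEL))

end Tau3Fixed

end CfsgLib.OddLocal
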