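import Cfsg.Agent.Lib.BG.FixedLine.Apply
import Cfsg.Agent.Lib.OddLocal.PartnerBasics
import Cfsg.Agent.Lib.OddLocal.TauThreeBasics
import Cfsg.Agent.Lib.OddLocal.FixedTools
import Cfsg.Agent.Lib.Conjugacy.TransferAverage

/-!
BG 3.10: a Frobenius group acting on a nilpotent group with a prime action of the complement.
-/

set_option autoImplicit false
set_option linter.style.haveILetI false
set_option linter.unusedSectionVars false

open scoped commutatorElement
open scoped Pointwise

namespace CfsgLib.OddLocal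

open CfsgLib.Coprime
open CfsgLib.BG.FixedLine (conj_mem_of_le_normalizer mem_normalizer_of_conj)

universe u

variable {X : Type u} [Group X] [Finite X] {p r : ℕ}

/-- A faithful nilpotent kernel on a module where the complement fixes a line is abelian. -/
theorem kernel_commute_of_cyclic_fixed [Fact p.Prime] {V K : Subgroup X} {x : X}
    (hV : Cfsg.IsElementaryAbelian p V) (hr : r.Prime) (hpr : p ≠ r) (hxr : x ^ r = 1)
    (hxV : x ∈ Subgroup.normalizer (V : Set X))
    (hCV : IsCyclic ↥(V ⊓ Subgroup.centralizer ({x} : Set X))) (hKV : K ≤ Subgroup.normalizer (V : Set X))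
    (hcop : (Nat.card K).Coprime p) (hfaith : K ⊓ Subgroup.centralizer (V : Set X) = ⊥)
    (hnil : Group.IsNilpotent K) (hxK : x ∈ Subgroup.normalizer (K : Set X))
    (hxc : (Nat.card (Subgroup.zpowers x)).Coprime (Nat.card K))
    (hfpf : K ⊓ Subgroup.centralizer ({x} : Set X) = ⊥) : ∀ u ∈ K, ∀ v ∈ K, u * v = v * u := by
  classical
  set Z := (Subgroup.center K).map K.subtype with hZ
  have hZK : Z ≤ K := Subgroup.map_subtype_le _
  have hxZ : x ∈ Subgroup.normalizer (Z : Set X) := mem_normalizer_of_conj fun a ha => by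
    obtain ⟨a, hac, rfl⟩ := ha
    refine ⟨⟨_, conj_mem_of_le_normalizer hxK a a.2⟩, Subgroup.mem_center_iff.2 fun w => Subtype.ext ?_, rfl⟩
    have h1 := congrArg Subtype.val (Subgroup.mem_center_iff.1 hac
      ⟨x⁻¹ * (w : X) * x, by simpa using conj_mem_of_le_normalizer (inv_mem hxK) (w : X) w.2⟩)
    show (w : X) * (x * (a : X) * x⁻¹) = x * (a : X) * x⁻¹ * (w : X)
    calc (w : X) * (x * (a : X) * x⁻¹) = x * ((x⁻¹ * (w : X) * x) * (a : X)) * x⁻¹ := by group
      _ = x * ((a : X) * (x⁻¹ * (w : X) * x)) * x⁻¹ := by rw [show x⁻¹ * (w : X) * x * (a : X) = _ from h1]; rfl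
      _ = _ := by group
  have hZs : Group.IsSolvable (Subgroup.zpowers x) := inferInstance
  have hZx : ⁅Z, Subgroup.zpowers x⁆ = Z := by
    have h1 := commutator_sup_centralizer (Subgroup.zpowers_le.2 hxZ)
      (hxc.coprime_dvd_right (Subgroup.card_dvd_of_le hZK)) (Or.inl hZs)
    rwa [show Z ⊓ Subgroup.centralizer ((Subgroup.zpowers x : Subgroup X) : Set X) = ⊥ from le_bot_iff.1
      (hfpf ▸ inf_le_inf hZK (le_of_eq (by
        rw [Subgroup.zpowers_eq_closure, Subgroup.centralizer_closure]))), sup_bot_eq] at h1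
  set π := QuotientGroup.mk' (Subgroup.center K) with hπ
  have h2 : Subgroup.center (K ⧸ Subgroup.center K) = ⊥ := by
    refine (Subgroup.eq_bot_iff_forall _).2 fun w hw => ?_
    obtain ⟨z, rfl⟩ := QuotientGroup.mk'_surjective (Subgroup.center K) w
    refine (QuotientGroup.eq_one_iff z).2 (Subgroup.mem_center_iff.2 fun u => ?_)
    set W : Subgroup (K ⧸ Subgroup.center K) := Subgroup.closure {π u, π z} with hW
    have hWc : ∀ a ∈ W, ∀ b ∈ W, a * b = b * a := by
      have hcomm : W ≤ Subgroup.centralizer (W : Set (K ⧸ Subgroup.center K)) := by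
        rw [hW, Subgroup.centralizer_closure, Subgroup.closure_le]
        intro a ha b hb
        simp only [Set.mem_insert_iff, Set.mem_singleton_iff] at ha hb
        rcases ha with rfl | rfl <;> rcases hb with rfl | rfl
        · rfl
        · exact (Subgroup.mem_center_iff.1 hw _).symm
        · exact Subgroup.mem_center_iff.1 hw _
        · rfl
      exact fun a ha b hb => hcomm hb a ha
    set U := (W.comap π).map K.subtype with hU
    have hUK : U ≤ K := Subgroup.map_subtype_le _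
    have hder : ∀ a ∈ U, ∀ b ∈ U, ⁅a, b⁆ ∈ Z := by
      rintro _ ⟨a, ha, rfl⟩ _ ⟨b, hb, rfl⟩
      refine ⟨⁅a, b⁆, (QuotientGroup.eq_one_iff _).1 ?_, map_commutatorElement K.subtype a b⟩
      show π ⁅a, b⁆ = 1
      rw [map_commutatorElement, commutatorElement_eq_one_iff_mul_comm]
      exact hWc _ ha _ hb
    have hcen : ∀ a ∈ Z, ∀ b ∈ U, a * b = b * a := by
      rintro _ ⟨a, ha, rfl⟩ _ ⟨b, -, rfl⟩
      exact congrArg Subtype.val (Subgroup.mem_center_iff.1 ha b).symm
    have hab := CfsgLib.BG.FixedLine.abelian_of_central_moved hV hr hpr hxr hxV hCV (hUK.trans hKV)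
      (hcop.coprime_dvd_left (Subgroup.card_dvd_of_le hUK))
      (le_bot_iff.1 (hfaith ▸ inf_le_inf_right _ hUK))
      (Subgroup.map_mono fun a ha => by
        show π a ∈ W
        rw [show π a = 1 from (QuotientGroup.eq_one_iff a).2 ha]
        exact one_mem _) hcen hder hxZ hZx
    exact Subtype.ext (hab _ ⟨u, Subgroup.subset_closure (Set.mem_insert _ _), rfl⟩ _
      ⟨z, Subgroup.subset_closure (Set.mem_insert_of_mem _ rfl), rfl⟩)
  have h3 : Subsingleton (K ⧸ Subgroup.center K) := by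
    by_contra hns
    haveI : Nontrivial (K ⧸ Subgroup.center K) := not_subsingleton_iff_nontrivial.1 hns
    haveI := hnil
    haveI : Group.IsNilpotent (K ⧸ Subgroup.center K) :=
      Group.nilpotent_of_surjective π (QuotientGroup.mk'_surjective _)
    exact (Group.IsNilpotent.center_ne_bot (G := ↥K ⧸ Subgroup.center ↥K)) h2
  intro u hu v hv
  exact congrArg Subtype.val (Subgroup.mem_center_iff.1
    ((QuotientGroup.eq_one_iff (⟨v, hv⟩ : K)).1 (Subsingleton.elim (π ⟨v, hv⟩) 1)) ⟨u, hu⟩)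

/-- The derived group of the kernel centralizes a `p`-group on which the complement fixes a cyclic group:
the generated case. -/
theorem derived_centralizes_aux [Fact p.Prime] {Q K : Subgroup X} {x : X} (hr : r.Prime) (hpr : p ≠ r)
    (hxr : x ^ r = 1) (hQ : IsPGroup p Q) [Q.Normal] (hnil : Group.IsNilpotent K)
    (hxK : x ∈ Subgroup.normalizer (K : Set X)) (hgen : Q ⊔ K ⊔ Subgroup.zpowers x = ⊤)
    (hcop : (Nat.card K).Coprime p) (hxc : (Nat.card (Subgroup.zpowers x)).Coprime (Nat.card K))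
    (hfpf : K ⊓ Subgroup.centralizer ({x} : Set X) = ⊥)
    (hc : IsCyclic ↥(Q ⊓ Subgroup.centralizer ({x} : Set X))) :
    ⁅K, K⁆ ≤ Subgroup.centralizer (Q : Set X) := by
  classical
  have hp : p.Prime := Fact.out
  set Φ := (frattini Q).map Q.subtype with hΦ
  set C₀ := K ⊓ Subgroup.centralizer (Q : Set X) with hC₀
  have hΦQ : Φ ≤ Q := Subgroup.map_subtype_le _
  have hΦn : ∀ g : X, ∀ a ∈ Φ, g * a * g⁻¹ ∈ Φ := by
    rintro g _ ⟨a, ha, rfl⟩
    let φ : MulAut Q := Q.normalizerMonoidHom ⟨g, Subgroup.normalizer_eq_top (H := Q) ▸ Subgroup.mem_top g⟩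
    exact ⟨φ a, Subgroup.characteristic_iff_map_le.1 inferInstance φ (Subgroup.mem_map_of_mem _ ha), rfl⟩
  haveI hΦN : Φ.Normal := ⟨fun a ha g => hΦn g a ha⟩
  haveI hC₀N : C₀.Normal := by
    rw [← Subgroup.normalizer_eq_top_iff, eq_top_iff, ← hgen]
    refine sup_le (sup_le ?_ ?_) (Subgroup.zpowers_le.2 ?_)
    · have hQC : Q ≤ Subgroup.centralizer (C₀ : Set X) := fun a ha c hc =>
        ((Subgroup.mem_inf.1 hc).2 a ha).symm
      exact hQC.trans (Subgroup.centralizer_le_normalizer _)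
    · exact le_normalizer_inf_of_le Subgroup.le_normalizer
        (le_normalizer_centralizer (Subgroup.normalizer_eq_top (H := Q) ▸ le_top))
    · exact le_normalizer_inf_of_le (A := Subgroup.zpowers x) (Subgroup.zpowers_le.2 hxK)
        (le_normalizer_centralizer (Subgroup.normalizer_eq_top (H := Q) ▸ le_top)) (Subgroup.mem_zpowers x)
  set π := QuotientGroup.mk' (Φ ⊔ C₀) with hπ
  have hQK : Q ⊓ K = ⊥ := inf_eq_bot_of_coprime_card (by
    obtain ⟨n, hn⟩ := hQ.exists_card_eq
    rw [hn]; exact (hcop.symm).pow_left n)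
  have hker : ∀ {a : X}, π a = 1 → ∃ f ∈ Φ, ∃ c ∈ C₀, f * c = a := fun {a} h => by
    rw [QuotientGroup.mk'_apply, QuotientGroup.eq_one_iff] at h
    exact Subgroup.mem_sup_of_normal_left.1 h
  have hkQ : ∀ {a : X}, a ∈ Q → π a = 1 → a ∈ Φ := fun {a} ha h => by
    obtain ⟨f, hf, c, hc', rfl⟩ := hker h
    have : c ∈ Q ⊓ K := ⟨by simpa using Q.mul_mem (Q.inv_mem (hΦQ hf)) ha, hc'.1⟩
    rw [hQK, Subgroup.mem_bot] at this
    simpa [this] using hf
  have hkK : ∀ {a : X}, a ∈ K → π a = 1 → a ∈ C₀ := fun {a} ha h => by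
    obtain ⟨f, hf, c, hc', rfl⟩ := hker h
    have : f ∈ Q ⊓ K := ⟨hΦQ hf, by simpa using K.mul_mem ha (K.inv_mem hc'.1)⟩
    rw [hQK, Subgroup.mem_bot] at this
    simpa [this] using hc'
  have hV : Cfsg.IsElementaryAbelian p (Q.map π) := by
    have hF : ∀ a : Q, (a ^ p ∈ frattini Q) ∧ ∀ b : Q, ⁅a, b⁆ ∈ frattini Q := by
      intro a
      haveI : Fact p.Prime := ⟨hp⟩
      refine ⟨?_, fun b => ?_⟩
      · refine Subgroup.mem_iInf.2 fun M => Subgroup.mem_iInf.2 fun hM => ?_
        haveI := Subgroup.NormalizerCondition.normal_of_coatom M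
          (Group.normalizerCondition_of_isNilpotent (h := hQ.isNilpotent)) hM
        have hidx : M.index = p := (CfsgLib.Conjugacy.coatom_normal_index hQ hM).2
        have := Subgroup.pow_index_mem M a
        rwa [hidx] at this
      · refine Subgroup.mem_iInf.2 fun M => Subgroup.mem_iInf.2 fun hM => ?_
        haveI := Subgroup.NormalizerCondition.normal_of_coatom M
          (Group.normalizerCondition_of_isNilpotent (h := hQ.isNilpotent)) hM
        haveI : IsCyclic (Q ⧸ M) := isCyclic_of_prime_card (α := Q ⧸ M) (p := p)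
          (by rw [← Subgroup.index_eq_card]; exact (CfsgLib.Conjugacy.coatom_normal_index hQ hM).2)
        rw [← QuotientGroup.eq_one_iff]
        show (QuotientGroup.mk' M) ⁅a, b⁆ = 1
        rw [map_commutatorElement, commutatorElement_eq_one_iff_mul_comm]
        haveI : IsMulCommutative (Q ⧸ M) := IsCyclic.isMulCommutative
        exact mul_comm' _ _
    have hsub : ∀ {a : Q}, a ∈ frattini Q → π (a : X) = 1 := fun {a} ha =>
      (QuotientGroup.eq_one_iff _).2 (Subgroup.mem_sup_left ⟨a, ha, rfl⟩)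
    refine ⟨⟨⟨?_⟩⟩, ?_⟩
    · rintro ⟨_, a, ha, rfl⟩ ⟨_, b, hb, rfl⟩
      refine Subtype.ext (commutatorElement_eq_one_iff_mul_comm.1 ?_)
      rw [← map_commutatorElement]
      exact hsub ((hF ⟨a, ha⟩).2 ⟨b, hb⟩)
    · rintro _ ⟨a, ha, rfl⟩
      rw [← map_pow]
      exact hsub (hF ⟨a, ha⟩).1
  have hsolv : Group.IsSolvable (Subgroup.zpowers x) := inferInstance
  have hCe : ∀ y : X, Subgroup.centralizer ((Subgroup.zpowers y : Subgroup X) : Set X) =
      Subgroup.centralizer ({y} : Set X) := fun y => by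
    rw [Subgroup.zpowers_eq_closure, Subgroup.centralizer_closure]
  have hCe' : Subgroup.centralizer ((Subgroup.zpowers (π x) : Subgroup (X ⧸ (Φ ⊔ C₀))) : Set (X ⧸ (Φ ⊔ C₀))) =
      Subgroup.centralizer ({π x} : Set (X ⧸ (Φ ⊔ C₀))) := by
    rw [Subgroup.zpowers_eq_closure, Subgroup.centralizer_closure]
  have hxQ : Subgroup.zpowers x ≤ Subgroup.normalizer (Q : Set X) := Subgroup.normalizer_eq_top (H := Q) ▸ le_top
  have hcQ : (Nat.card (Subgroup.zpowers x)).Coprime (Nat.card Q) := by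
    obtain ⟨n, hn⟩ := hQ.exists_card_eq
    rw [hn, Nat.card_zpowers]
    exact (Nat.Coprime.coprime_dvd_left (orderOf_dvd_of_pow_eq_one hxr)
      ((Nat.coprime_primes hr hp).2 hpr.symm)).pow_right n
  have h1 := map_inf_centralizer hxQ hcQ (Or.inl hsolv) π
  rw [hCe, MonoidHom.map_zpowers, hCe'] at h1
  have h2 := map_inf_centralizer (Subgroup.zpowers_le.2 hxK) hxc (Or.inl hsolv) π
  rw [hCe, MonoidHom.map_zpowers, hCe', hfpf, Subgroup.map_bot] at h2
  haveI hnQ : (Q.map π).Normal := Subgroup.Normal.map inferInstance π (QuotientGroup.mk'_surjective _)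
  have hcyc : IsCyclic ↥(Q.map π ⊓ Subgroup.centralizer ({π x} : Set (X ⧸ (Φ ⊔ C₀)))) := by
    rw [← h1]
    exact isCyclic_of_surjective (π.subgroupMap _) (π.subgroupMap_surjective _)
  haveI := hnil
  have hab := kernel_commute_of_cyclic_fixed (V := Q.map π) (K := K.map π) (x := π x) hV hr hpr
    (by rw [← map_pow, hxr, map_one]) (Subgroup.normalizer_eq_top (H := Q.map π) ▸ Subgroup.mem_top _) hcyc
    (Subgroup.normalizer_eq_top (H := Q.map π) ▸ le_top)
    (hcop.coprime_dvd_left (Subgroup.card_map_dvd _ _)) ?_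
    (Group.nilpotent_of_surjective (π.subgroupMap K) (π.subgroupMap_surjective K))
    (mem_normalizer_of_conj (by
      rintro _ ⟨a, ha, rfl⟩
      exact ⟨x * a * x⁻¹, conj_mem_of_le_normalizer hxK a ha, by simp⟩))
    (by
      rw [← MonoidHom.map_zpowers]
      exact (hxc.coprime_dvd_left (Subgroup.card_map_dvd _ _)).coprime_dvd_right (Subgroup.card_map_dvd _ _))
    h2.symm
  · refine Subgroup.commutator_le.2 fun u hu v hv => (hkK ?_ ?_).2
    · rw [commutatorElement_def]; exact K.mul_mem (K.mul_mem (K.mul_mem hu hv) (K.inv_mem hu)) (K.inv_mem hv)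
    · rw [map_commutatorElement, commutatorElement_eq_one_iff_mul_comm]
      exact hab _ ⟨u, hu, rfl⟩ _ ⟨v, hv, rfl⟩
  · refine (Subgroup.eq_bot_iff_forall _).2 ?_
    rintro _ ⟨⟨k, hk, rfl⟩, hkV⟩
    have hkC : Subgroup.zpowers k ≤ Subgroup.centralizer (Q : Set X) := by
      refine le_centralizer_of_frattini (Subgroup.normalizer_eq_top (H := Q) ▸ le_top) ?_ fun a ha v hv => ?_
      · obtain ⟨n, hn⟩ := (hQ.to_subgroup (frattini Q)).exists_card_eq
        rw [hn]
        exact (hcop.coprime_dvd_left (Subgroup.card_dvd_of_le (Subgroup.zpowers_le.2 hk))).pow_right n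
      · obtain ⟨i, rfl⟩ := Subgroup.mem_zpowers_iff.1 ha
        refine hkQ (Q.mul_mem ((inferInstance : Q.Normal).conj_mem v hv _) (Q.inv_mem hv)) ?_
        have h3 : Commute (π k) (π v) := (hkV (π v) ⟨v, hv, rfl⟩).symm
        simp only [map_mul, map_inv, map_zpow]
        rw [(h3.zpow_left i).eq]
        group
    exact (QuotientGroup.eq_one_iff k).2 (Subgroup.mem_sup_right ⟨hk, hkC (Subgroup.mem_zpowers k)⟩)

/-- The derived group of the kernel centralizes a `p`-group on which the complement fixes a cyclic group. -/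
theorem derived_centralizes_of_cyclic_fixed [Fact p.Prime] {Q K : Subgroup X} {x : X} (hr : r.Prime) (hpr : p ≠ r)
    (hxr : x ^ r = 1) (hQ : IsPGroup p Q) (hnil : Group.IsNilpotent K)
    (hxK : x ∈ Subgroup.normalizer (K : Set X)) (hKQ : K ≤ Subgroup.normalizer (Q : Set X))
    (hxQ : x ∈ Subgroup.normalizer (Q : Set X))
    (hcop : (Nat.card K).Coprime p) (hxc : (Nat.card (Subgroup.zpowers x)).Coprime (Nat.card K))
    (hfpf : K ⊓ Subgroup.centralizer ({x} : Set X) = ⊥)
    (hc : IsCyclic ↥(Q ⊓ Subgroup.centralizer ({x} : Set X))) :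
    ⁅K, K⁆ ≤ Subgroup.centralizer (Q : Set X) := by
  classical
  set J := Q ⊔ K ⊔ Subgroup.zpowers x with hJ
  have hQJ : Q ≤ J := le_sup_left.trans le_sup_left
  have hKJ : K ≤ J := le_sup_right.trans le_sup_left
  have hxJ : x ∈ J := Subgroup.mem_sup_right (Subgroup.mem_zpowers x)
  haveI : (Q.subgroupOf J).Normal := Subgroup.normal_subgroupOf_of_le_normalizer
    (sup_le (sup_le Subgroup.le_normalizer hKQ) (Subgroup.zpowers_le.2 hxQ))
  have hcent : ∀ {A : Subgroup X}, (A.subgroupOf J ⊓ Subgroup.centralizer ({⟨x, hxJ⟩} : Set J)) =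
      (A ⊓ Subgroup.centralizer ({x} : Set X)).subgroupOf J := fun {A} => by
    ext a
    simp [Subgroup.mem_subgroupOf, Subgroup.mem_centralizer_singleton_iff, Subtype.ext_iff]
  have h := derived_centralizes_aux (X := ↥J) (Q := Q.subgroupOf J) (K := K.subgroupOf J) (x := ⟨x, hxJ⟩) hr hpr
    (Subtype.ext hxr) (hQ.of_equiv (Subgroup.subgroupOfEquivOfLe hQJ).symm)
    (Group.nilpotent_of_mulEquiv (_h := hnil) (Subgroup.subgroupOfEquivOfLe hKJ).symm)
    (mem_normalizer_of_conj fun a ha => conj_mem_of_le_normalizer hxK (a : X) ha)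
    (by
      apply Subgroup.map_injective J.subtype_injective
      rw [Subgroup.map_sup, Subgroup.map_sup, Subgroup.map_subgroupOf_eq_of_le hQJ,
        Subgroup.map_subgroupOf_eq_of_le hKJ, MonoidHom.map_zpowers, ← MonoidHom.range_eq_map,
        Subgroup.range_subtype]
      rfl)
    (by rwa [Nat.card_congr (Subgroup.subgroupOfEquivOfLe hKJ).toEquiv])
    (by rwa [Nat.card_congr (Subgroup.subgroupOfEquivOfLe hKJ).toEquiv, Nat.card_zpowers, Subgroup.orderOf_mk,
      ← Nat.card_zpowers])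
    (by rw [hcent, hfpf, Subgroup.bot_subgroupOf])
    (by
      rw [hcent]
      exact isCyclic_of_surjective _
        (Subgroup.subgroupOfEquivOfLe (inf_le_left.trans hQJ)).symm.surjective)
  refine Subgroup.commutator_le.2 fun u hu v hv w hw => ?_
  exact congrArg Subtype.val (h (Subgroup.commutator_mem_commutator
    (show (⟨u, hKJ hu⟩ : J) ∈ K.subgroupOf J from hu) (show (⟨v, hKJ hv⟩ : J) ∈ K.subgroupOf J from hv))
    ⟨w, hQJ hw⟩ hw)

/-- A group with a fixed-point-free normalizing element of prime order has order prime to that prime. -/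
theorem not_dvd_card_of_fpf {p : ℕ} (hp : p.Prime) {K : Subgroup X} {x : X} (hx : x ^ p = 1)
    (hxK : x ∈ Subgroup.normalizer (K : Set X)) (hfix : K ⊓ Subgroup.centralizer ({x} : Set X) = ⊥) :
    ¬ p ∣ Nat.card K := fun hd => by
  haveI := Fact.mk hp
  have hle : Subgroup.zpowers x ≤ Subgroup.normalizer (K : Set X) := Subgroup.zpowers_le.2 hxK
  letI act : MulAction (Subgroup.zpowers x) (K : Type _) :=
    { smul := fun q w => ⟨(q : X) * w * (q : X)⁻¹, conj_mem_of_le_normalizer (hle q.2) (w : X) w.2⟩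
      one_smul := fun w => Subtype.ext (by show (1 : X) * w * (1 : X)⁻¹ = w; simp)
      mul_smul := fun a b w => Subtype.ext (by
        show (a : X) * b * w * ((a : X) * b)⁻¹ = (a : X) * ((b : X) * w * (b : X)⁻¹) * (a : X)⁻¹
        group) }
  have h1 : (1 : K) ∈ MulAction.fixedPoints (Subgroup.zpowers x) K := fun q => Subtype.ext (by
    show (q : X) * (1 : X) * (q : X)⁻¹ = 1; group)
  have hP : IsPGroup p (Subgroup.zpowers x) := fun g => ⟨1, Subtype.ext (by
    obtain ⟨i, hi⟩ := Subgroup.mem_zpowers_iff.1 g.2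
    rw [SubmonoidClass.coe_pow, OneMemClass.coe_one, ← hi, pow_one, ← zpow_natCast, ← zpow_mul, mul_comm,
      zpow_mul, zpow_natCast, hx, one_zpow])⟩
  obtain ⟨w, hw, hw1⟩ := hP.exists_fixed_point_of_prime_dvd_card_of_fixed_point (α := K) hd h1
  refine hw1 (Subtype.ext (Subgroup.mem_bot.1 ?_)).symm
  rw [← hfix]
  exact ⟨w.2, mem_centralizer_singleton_of_commute (mul_inv_eq_iff_eq_mul.1
    (congrArg Subtype.val (hw ⟨x, Subgroup.mem_zpowers x⟩)))⟩

end CfsgLib.OddLocal
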