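import Cfsg.Agent.Lib.OddLocal.FittingBasics
import Cfsg.Agent.Lib.OddLocal.P2Normalizer
import Cfsg.Agent.Lib.PSolvable.Omega
import Cfsg.Agent.S1446

/-!
BG 15.2 (e): the structure of `M_σ` when it is not nilpotent.
-/

set_option autoImplicit false
set_option linter.style.haveILetI false
set_option linter.unusedSectionVars false

open scoped commutatorElement
open scoped Pointwise

namespace CfsgLib.OddLocal

open CfsgLib.Coprime
open CfsgLib.BG.FixedLine (conj_mem_of_le_normalizer mem_normalizer_of_conj)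

universe u

variable {G : Type u} [Group G] [Finite G] {p q r : ℕ} {M E U K Ms Es Us : Subgroup G}

theorem nilpotent_of_kappa_empty (hG : Cfsg.IsMinSimpleOddOrder G) (hM : IsCoatom M) (hκ : Cfsg.kappa M = ∅) :
    Group.IsNilpotent (Cfsg.sigmaCore M) := by
  classical
  obtain ⟨E, hE⟩ := exists_compl hG hM
  obtain ⟨p, hp, hd⟩ := Nat.exists_prime_and_dvd fun e : Nat.card E = 1 => sigmaCore_ne_bot hG hM <| by
    rw [Subgroup.card_eq_one] at e
    rw [← (Cfsg.Agent.S1426.result hG M hM E hE).2.1, e, Subgroup.commutator_bot_right]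
  haveI := Fact.mk hp
  have hpσ := not_sigma_of_dvd_compl hG hM hE hp hd
  have hpM : p ∣ Nat.card M := hd.trans (Subgroup.card_dvd_of_le hE.1)
  obtain ⟨S⟩ : Nonempty (Sylow p M) := inferInstance
  exact (Cfsg.Agent.S1429.result hG M hM (fun h => by
    have := h p hp hpM hpσ
    rw [hκ] at this
    exact this) p hpM (fun e => e.elim hpσ (by rw [hκ]; exact fun h => h)) S).2.2

theorem map_normalizes {X Y : Type*} [Group X] [Group Y] (f : X →* Y) {A B : Subgroup X}
    (h : A ≤ Subgroup.normalizer (B : Set X)) : A.map f ≤ Subgroup.normalizer ((B.map f : Subgroup Y) : Set Y) :=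
  (Subgroup.map_mono h).trans (Subgroup.le_normalizer_map f)

theorem card_core_subgroup (M : Subgroup G) : Nat.card (Cfsg.piCore (Cfsg.sigma M) ↥M) = Nat.card (Cfsg.sigmaCore M) :=
  (Subgroup.card_map_of_injective (K := Cfsg.piCore (Cfsg.sigma M) ↥M) M.subtype_injective).symm

/-- Over `K*` the group `M_σ` is nilpotent. -/
theorem KappaData.quotient_nilpotent (h : KappaData M K E U) (N : Subgroup M) [N.Normal]
    (hN : ∀ v : M, (v : G) ∈ Cfsg.sigmaCore M ⊓ Subgroup.centralizer (K : Set G) → v ∈ N) :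
    Group.IsNilpotent ↥((Cfsg.piCore (Cfsg.sigma M) ↥M).map (QuotientGroup.mk' N)) := by
  classical
  obtain ⟨s, y, hs, hy, hyo⟩ := h.exists_line
  set W := Cfsg.piCore (Cfsg.sigma M) ↥M with hW
  haveI : W.Normal := Subgroup.sSup_normal _ (fun _ h => h.1)
  set π := QuotientGroup.mk' N with hπ
  set y' : M := ⟨y, h.hKM hy⟩ with hy'
  have hyo' : y' ^ s = 1 := Subtype.ext (by rw [SubmonoidClass.coe_pow, ← hyo]; exact pow_orderOf_eq_one y)
  have hcop : (Nat.card (Subgroup.zpowers y')).Coprime (Nat.card W) := by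
    rw [Nat.card_zpowers, show orderOf y' = orderOf y from Subgroup.orderOf_mk y _, hW, card_core_subgroup]
    exact (coprime_kappa_core h.hall).coprime_dvd_left (Subgroup.orderOf_dvd_natCard K hy)
  have hfix := map_inf_centralizer (A := Subgroup.zpowers y') (K := W)
    (Subgroup.normalizer_eq_top (H := W) ▸ le_top) hcop (Or.inl inferInstance) π
  rw [centralizer_zpowers_eq, MonoidHom.map_zpowers, centralizer_zpowers_eq] at hfix
  have hbot : (W ⊓ Subgroup.centralizer ({y'} : Set M)).map π = ⊥ := by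
    rw [Subgroup.map_eq_bot_iff, QuotientGroup.ker_mk']
    refine fun w hw => hN w ?_
    rw [← h.action y hy (zpowers_line hs hyo).2.2]
    exact ⟨⟨w, hw.1, rfl⟩, mem_centralizer_singleton_of_commute
      (congrArg Subtype.val (commute_of_mem_centralizer_singleton hw.2).eq)⟩
  haveI : (W.map π).Normal := Subgroup.Normal.map inferInstance π (QuotientGroup.mk'_surjective _)
  exact isNilpotent_of_fpf_elem hs (show π y' ^ s = 1 by rw [← map_pow, hyo', map_one])
    ((Subgroup.normalizer_eq_top (H := W.map π)).ge (Subgroup.mem_top _)) (hfix.symm.trans hbot)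

/-- A subgroup of `M_σ` meeting `N` trivially is nilpotent if `N` contains `K*`. -/
theorem KappaData.nilpotent_of_inf_eq_bot (h : KappaData M K E U) (N : Subgroup M) [N.Normal]
    (hN : ∀ v : M, (v : G) ∈ Cfsg.sigmaCore M ⊓ Subgroup.centralizer (K : Set G) → v ∈ N) {D : Subgroup G}
    (hD : D ≤ Cfsg.sigmaCore M) (hDN : ∀ d : M, (d : G) ∈ D → d ∈ N → d = 1) : Group.IsNilpotent D := by
  classical
  haveI := h.quotient_nilpotent N hN
  set π := QuotientGroup.mk' N with hπ
  set D' := D.subgroupOf M with hD'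
  have hle : D' ≤ Cfsg.piCore (Cfsg.sigma M) ↥M := fun d hd => by
    obtain ⟨w, hw, he⟩ := hD (show (d : G) ∈ D from hd)
    rwa [show d = w from M.subtype_injective he.symm]
  have hinj : Function.Injective (π.comp D'.subtype) := (injective_iff_map_eq_one _).2 fun d hd =>
    Subtype.ext (hDN d d.2 ((QuotientGroup.eq_one_iff _).1 hd))
  have hr : (π.comp D'.subtype).range ≤ (Cfsg.piCore (Cfsg.sigma M) ↥M).map π := by
    rintro _ ⟨d, rfl⟩
    exact Subgroup.mem_map_of_mem _ (hle d.2)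
  haveI : Group.IsNilpotent (π.comp D'.subtype).range :=
    Group.nilpotent_of_mulEquiv (_h := Subgroup.isNilpotent _) (Subgroup.subgroupOfEquivOfLe hr)
  haveI : Group.IsNilpotent D' := Group.nilpotent_of_mulEquiv (MonoidHom.ofInjective hinj).symm
  exact Group.nilpotent_of_mulEquiv (Subgroup.subgroupOfEquivOfLe (hD.trans (piCoreOf_le _ M)))

set_option maxHeartbeats 1000000 in
/-- BG 15.2 (e). -/
theorem Partner.fitting_structure (h : Partner M K E U Ms Es Us) (hnil : ¬ Group.IsNilpotent (Cfsg.sigmaCore M)) :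
    U = ⊥ ∧ (Nat.card K).Prime ∧ ∃ (q : ℕ) (Q : Subgroup G), q.Prime ∧
      Nat.card ↥(Cfsg.sigmaCore M ⊓ Subgroup.centralizer (K : Set G)) = q ∧ q ∈ Cfsg.beta M ∧
      Q ≤ Cfsg.fittingHallOf M ∧ Q ≤ Cfsg.sigmaCore M ∧
      Cfsg.sigmaCore M ⊓ Subgroup.centralizer (K : Set G) ≤ Q ∧
      M ≤ Subgroup.normalizer (Q : Set G) ∧ IsPGroup q Q ∧ (∀ v ∈ M, ∀ k, v ^ q ^ k = 1 → v ∈ Q) ∧
      ¬ q ∣ Q.relIndex (Cfsg.sigmaCore M) ∧
      (∀ D : Subgroup G, Cfsg.IsComplIn Q D (Cfsg.sigmaCore M) →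
        Group.IsNilpotent D ∧
        M ≤ Subgroup.normalizer ((Q ⊓ Subgroup.centralizer (D : Set G) : Subgroup G) : Set G) ∧
        Q ⊓ Subgroup.centralizer (D : Set G) < Q ∧
        Nat.card Q = Nat.card ↥(Q ⊓ Subgroup.centralizer (D : Set G)) * q ^ Nat.card K ∧
        (∀ a ∈ Q, ∀ b ∈ Q, a ^ q ∈ Q ⊓ Subgroup.centralizer (D : Set G) ∧
          a * b * a⁻¹ * b⁻¹ ∈ Q ⊓ Subgroup.centralizer (D : Set G)) ∧
        ⁅D, D⁆ ≤ Subgroup.centralizer (Q : Set G) ∧
        ∀ N : Subgroup G, Q ⊓ Subgroup.centralizer (D : Set G) < N → N < Q →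
          ¬ M ≤ Subgroup.normalizer (N : Set G)) := by
  classical
  have hd := h.data
  have hG := hd.hG
  have hM := hd.hM
  have hU : U = ⊥ := by_contra fun hU => hnil (hd.U_action hU).2
  haveI hMsolv : Group.IsSolvable M := isSolvable_of_ne_top hG hM.1
  obtain ⟨q, T, hq, hqσ, hqd, hTn⟩ := h.exists_normal_sylow
  haveI := Fact.mk hq
  haveI := hTn
  have hsc : Nat.card ↥(Cfsg.sigmaCore M ⊓ Subgroup.centralizer (K : Set G)) = q :=
    ((Nat.prime_dvd_prime_iff_eq hq (h.star_prime hU)).1 hqd).symm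
  set Q := (T : Subgroup M).map M.subtype with hQdef
  have hQp : IsPGroup q Q := T.2.map _
  have hQM : Q ≤ M := Subgroup.map_subtype_le _
  have hQσ : Q ≤ Cfsg.sigmaCore M := le_sigmaCore_of_isPGroup hG hM hq hqσ hQM hQp
  have hMQ : M ≤ Subgroup.normalizer (Q : Set G) := fun m hm => mem_normalizer_of_conj fun x hx => by
    obtain ⟨w, hw, rfl⟩ := hx
    exact ⟨_, hTn.conj_mem w hw ⟨m, hm⟩, rfl⟩
  have hQF : Q ≤ Cfsg.fittingHallOf M := Subgroup.map_mono (le_fittingHall inferInstance T.2.isNilpotent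
    (Nat.coprime_of_dvd fun l hl h1 h2 => by
      obtain ⟨n, hn⟩ := T.2.exists_card_eq
      rw [hn] at h1
      exact T.not_dvd_index ((Nat.prime_dvd_prime_iff_eq hl hq).1 (hl.dvd_of_dvd_pow h1) ▸ h2)))
  have hmem : ∀ v ∈ M, ∀ k, v ^ q ^ k = 1 → v ∈ Q := fun v hv k hk => by
    have hp : IsPGroup q (Subgroup.zpowers (⟨v, hv⟩ : M)) := isPGroup_zpowers (k := k) (Subtype.ext (by simpa using hk))
    obtain ⟨T₁, hT₁⟩ := hp.exists_le_sylow
    haveI := Sylow.unique_of_normal T inferInstance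
    exact ⟨⟨v, hv⟩, (Subsingleton.elim T₁ T) ▸ hT₁ (Subgroup.mem_zpowers _), rfl⟩
  set S := Cfsg.sigmaCore M ⊓ Subgroup.centralizer (K : Set G) with hSdef
  have hSQ : S ≤ Q := fun v hv => hmem v (piCoreOf_le _ M hv.1) 1 (by
    rw [pow_one, ← hsc]
    have := congrArg Subtype.val (pow_card_eq_one' (x := (⟨v, hv⟩ : S)))
    simpa only [SubmonoidClass.coe_pow, OneMemClass.coe_one] using this)
  have hQrel : ¬ q ∣ Q.relIndex (Cfsg.sigmaCore M) := fun hd' => T.not_dvd_index (by
    have h1 := Subgroup.relIndex_mul_relIndex Q (Cfsg.sigmaCore M) M hQσ (piCoreOf_le _ M)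
    have h2 : Q.relIndex M = (T : Subgroup M).index := by
      rw [hQdef, Subgroup.relIndex, Subgroup.subgroupOf,
        Subgroup.comap_map_eq_self_of_injective M.subtype_injective]
    rw [← h2, ← h1]
    exact hd'.mul_right _)
  obtain ⟨s, y, hs, hy, hyo⟩ := hd.exists_line
  have hy1 := (zpowers_line hs hyo).2.2
  have hyM : y ∈ M := hd.hKM hy
  have hqK : ¬ q ∣ Nat.card K := fun hd' => (hd.hall.2.1 q hq hd').2.2.1 hqσ
  -- complements
  have hcompl : ∀ D : Subgroup G, Cfsg.IsComplIn Q D (Cfsg.sigmaCore M) →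
      ¬ q ∣ Nat.card D ∧ Group.IsNilpotent D ∧ ¬ Q ≤ Subgroup.centralizer (D : Set G) := fun D hD => by
    have hDq : ¬ q ∣ Nat.card D := fun hd' => by
      obtain ⟨d, hdD, hdo⟩ := exists_order_of_dvd hq hd'
      have hdQ : d ∈ Q ⊓ D :=
        ⟨hmem d (piCoreOf_le _ M (hD.2.1 hdD)) 1 (by rw [pow_one, ← hdo, pow_orderOf_eq_one]), hdD⟩
      rw [hD.2.2.1, Subgroup.mem_bot] at hdQ
      exact (zpowers_line hq hdo).2.2 hdQ
    haveI hDn : Group.IsNilpotent D := hd.nilpotent_of_inf_eq_bot (T : Subgroup M)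
      (fun v hv => by
        obtain ⟨w, hw, he⟩ := hSQ hv
        rwa [show v = w from M.subtype_injective he.symm]) hD.2.1 fun d hdD hdT => Subtype.ext (Subgroup.mem_bot.1
          (hD.2.2.1 ▸ ⟨⟨d, hdT, rfl⟩, hdD⟩ : (d : G) ∈ (⊥ : Subgroup G)))
    refine ⟨hDq, hDn, fun hle => hnil ?_⟩
    haveI := hQp.isNilpotent
    have hcomm : ∀ (a : Q) (b : D), Commute ((Subgroup.inclusion hQσ) a) ((Subgroup.inclusion hD.2.1) b) :=
      fun a b => Subtype.ext ((commute_of_mem_centralizer b.2 (hle a.2)).eq.symm)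
    refine Group.nilpotent_of_surjective
      (MonoidHom.noncommCoprod (Subgroup.inclusion hQσ) (Subgroup.inclusion hD.2.1) hcomm) fun w => ?_
    obtain ⟨a, ha, b, hb, he⟩ := hD.2.2.2 w w.2
    exact ⟨(⟨a, ha⟩, ⟨b, hb⟩), Subtype.ext he.symm⟩
  -- a Hall subgroup over a complement
  have hhall : ∀ D : Subgroup G, Cfsg.IsComplIn Q D (Cfsg.sigmaCore M) → ∃ H₀ : Subgroup G,
      H₀ ≤ M ∧ H₀ ≤ Subgroup.normalizer (D : Set G) ∧ M ≤ Q ⊔ H₀ ∧ ∃ m ∈ M, MulAut.conj m • K ≤ H₀ := fun D hD => by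
    obtain ⟨hDq, -, -⟩ := hcompl D hD
    have hDM : D ≤ M := hD.2.1.trans (piCoreOf_le _ M)
    obtain ⟨H₀, hH₀, hDH⟩ := exists_hallOf_ge (π := {l | l.Prime ∧ l ≠ q}) hDM
      (fun l hl hld => ⟨hl, fun e => hDq (e ▸ hld)⟩)
    refine ⟨H₀, hH₀.1, fun a ha => mem_normalizer_of_conj fun d hdD => ?_, ?_, ?_⟩
    · have hadσ : a * d * a⁻¹ ∈ Cfsg.sigmaCore M :=
        conj_mem_of_le_normalizer (le_normalizer_piCoreOf _ M (hH₀.1 ha)) d (hD.2.1 hdD)
      have hadH : a * d * a⁻¹ ∈ H₀ := H₀.mul_mem (H₀.mul_mem ha (hDH hdD)) (H₀.inv_mem ha)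
      obtain ⟨c, hc, e, he, hce⟩ := hD.2.2.2 _ hadσ
      have hcH : c ∈ H₀ ⊓ Q := ⟨by
        rw [show c = a * d * a⁻¹ * e⁻¹ by rw [hce]; group]
        exact H₀.mul_mem hadH (H₀.inv_mem (hDH he)), hc⟩
      rw [inf_eq_bot_of_coprime_card (Nat.coprime_of_dvd fun l hl h1 h2 => (hH₀.2.1 l hl h1).2 (by
        obtain ⟨n, hn⟩ := hQp.exists_card_eq
        rw [hn] at h2
        exact (Nat.prime_dvd_prime_iff_eq hl hq).1 (hl.dvd_of_dvd_pow h2))), Subgroup.mem_bot] at hcH
      rw [hce, hcH, one_mul]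
      exact he
    · have h1 : (Q ⊔ H₀).relIndex M = 1 := by
        by_contra hne
        obtain ⟨l, hl, hld⟩ := Nat.exists_prime_and_dvd hne
        have hlQ : l ∣ Q.relIndex M := hld.trans (Subgroup.relIndex_dvd_of_le_left M le_sup_left)
        have hlH : l ∣ H₀.relIndex M := hld.trans (Subgroup.relIndex_dvd_of_le_left M le_sup_right)
        by_cases hlq : l = q
        · subst hlq
          refine T.not_dvd_index ?_
          rwa [hQdef, Subgroup.relIndex, Subgroup.subgroupOf,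
            Subgroup.comap_map_eq_self_of_injective M.subtype_injective] at hlQ
        · exact hH₀.2.2 l hl ⟨hl, hlq⟩ hlH
      exact Subgroup.relIndex_eq_one.1 h1
    · exact exists_conj_le_hallOf hH₀ hd.hKM fun l hl hld => ⟨hl, fun e => hqK (e ▸ hld)⟩
  -- the facts for a complement normalized by `K`
  have main : ∀ D : Subgroup G, Cfsg.IsComplIn Q D (Cfsg.sigmaCore M) → K ≤ Subgroup.normalizer (D : Set G) →
      (Nat.card K).Prime ∧ q ∈ Cfsg.beta M ∧
      M ≤ Subgroup.normalizer ((Q ⊓ Subgroup.centralizer (D : Set G) : Subgroup G) : Set G) ∧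
      Nat.card Q = Nat.card ↥(Q ⊓ Subgroup.centralizer (D : Set G)) * q ^ Nat.card K ∧
      (∀ a ∈ Q, ∀ b ∈ Q, a ^ q ∈ Q ⊓ Subgroup.centralizer (D : Set G) ∧
        a * b * a⁻¹ * b⁻¹ ∈ Q ⊓ Subgroup.centralizer (D : Set G)) ∧
      ⁅D, D⁆ ≤ Subgroup.centralizer (Q : Set G) ∧
      ∀ N : Subgroup G, Q ⊓ Subgroup.centralizer (D : Set G) < N → N < Q →
        ¬ M ≤ Subgroup.normalizer (N : Set G) := fun D hD hKD => by
    obtain ⟨hDq, hDn, hDC⟩ := hcompl D hD
    obtain ⟨H₀, hH₀M, hH₀D, hMQH, -⟩ := hhall D hD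
    have hDM : D ≤ M := hD.2.1.trans (piCoreOf_le _ M)
    set Q₀ := Q ⊓ Subgroup.centralizer (D : Set G) with hQ₀
    have hβ : q ∈ Cfsg.beta M := by
      by_contra hβ
      refine hDC (Subgroup.le_centralizer_iff.1 fun d hdD => mem_of_primary fun l hl hld v hv ⟨k, hk⟩ => ?_)
      have hne : q ≠ l := fun e => hDq (e ▸ hld.trans (Subgroup.orderOf_dvd_natCard D hdD))
      have hvD : v ∈ D := Subgroup.zpowers_le.2 hdD hv
      exact centralizes_of_le_derived hG hM hl hq hne hβ (isPGroup_zpowers hk)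
        (Subgroup.zpowers_le.2 (sigmaCore_le_derived hG hM (hD.2.1 hvD))) hQp hQM
        (Subgroup.zpowers_le.2 (hMQ (hDM hvD))) (Subgroup.mem_zpowers v)
    have hfixD : ∀ k ∈ K, k ≠ 1 → D ⊓ Subgroup.centralizer ({k} : Set G) = ⊥ := fun k hk hk1 =>
      (Subgroup.eq_bot_iff_forall _).2 fun d hd' => by
        have h1 : d ∈ Cfsg.sigmaCore M ⊓ Subgroup.centralizer ({k} : Set G) := ⟨hD.2.1 hd'.1, hd'.2⟩
        rw [hd.action k hk hk1] at h1
        exact Subgroup.mem_bot.1 (hD.2.2.1 ▸ ⟨hSQ h1, hd'.1⟩ : d ∈ (⊥ : Subgroup G))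
    -- normal subgroups missing `K*` are centralized by `D`
    have hmiss : ∀ N : Subgroup G, N ≤ Q → M ≤ Subgroup.normalizer (N : Set G) → N ⊓ S = ⊥ → N ≤ Q₀ :=
      fun N hNQ hMN hNS => by
      have hyfix : N ⊓ Subgroup.centralizer ({y} : Set G) = ⊥ := le_bot_iff.1 (hNS ▸ le_inf inf_le_left (by
        rw [hSdef, ← hd.action y hy hy1]
        exact inf_le_inf_right _ (hNQ.trans hQσ)))
      have hW : Group.IsNilpotent ↥(N ⊔ D) :=
        isNilpotent_of_fpf_elem hs (by rw [← hyo, pow_orderOf_eq_one]) (by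
          rw [mem_normalizer_iff_conj_smul, Subgroup.smul_sup,
            conj_smul_eq_self_of_mem_normalizer (hMN hyM), conj_smul_eq_self_of_mem_normalizer (hKD hy)])
          (sup_inf_centralizer_eq_bot (hDM.trans hMN) (hMN hyM) (hKD hy) hyfix (hfixD y hy hy1))
      refine le_inf hNQ fun n hn => Subgroup.mem_centralizer_iff.2 fun d hdD => ?_
      have : d ∈ Subgroup.centralizer ({n} : Set G) := mem_of_primary fun l hl hld v hv ⟨k, hk⟩ => by
        refine mem_centralizer_singleton_of_commute ?_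
        haveI := hW
        haveI := Fact.mk hl
        have hlq : l ≠ q := fun e => hDq (e ▸ hld.trans (Subgroup.orderOf_dvd_natCard D hdD))
        have hvD : v ∈ D := Subgroup.zpowers_le.2 hdD hv
        exact ((congrArg Subtype.val (CfsgLib.Hall.commute_of_coprime_orderOf (G := ↥(N ⊔ D)) (p := l) (j := k)
          (x := ⟨v, Subgroup.mem_sup_right hvD⟩) (y := ⟨n, Subgroup.mem_sup_left hn⟩)
          (by rw [Subgroup.orderOf_mk]; exact orderOf_dvd_of_pow_eq_one hk)
          (by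
            rw [Subgroup.orderOf_mk]
            refine (hl.coprime_iff_not_dvd.2 fun hd' => hlq ?_).symm
            obtain ⟨i, hi⟩ := hQp ⟨n, hNQ hn⟩
            exact prime_dvd_of_primary hl hq (k := i) (by simpa using congrArg Subtype.val hi) hd'))) :
          Commute v n).symm
      exact (commute_of_mem_centralizer_singleton this).eq.symm
    -- normal subgroups containing `K*`
    set D' := D.subgroupOf M with hD'
    set Q' := Q.subgroupOf M with hQ'
    haveI hQ'n : Q'.Normal := (Subgroup.normal_subgroupOf_iff_le_normalizer hQM).2 hMQ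
    have hcop : (Nat.card D').Coprime (Nat.card Q') := by
      rw [Nat.card_congr (Subgroup.subgroupOfEquivOfLe hDM).toEquiv,
        Nat.card_congr (Subgroup.subgroupOfEquivOfLe hQM).toEquiv]
      obtain ⟨n, hn⟩ := hQp.exists_card_eq
      rw [hn]
      exact ((hq.coprime_iff_not_dvd.2 hDq).symm).pow_right n
    have hcoreD : D' ≤ Cfsg.piCore (Cfsg.sigma M) ↥M := fun d hd' => by
      obtain ⟨w, hw, he⟩ := hD.2.1 (show (d : G) ∈ D from hd')
      rwa [show d = w from M.subtype_injective he.symm]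
    have hcoreQ : Q' ≤ Cfsg.piCore (Cfsg.sigma M) ↥M := fun d hd' => by
      obtain ⟨w, hw, he⟩ := hQσ (show (d : G) ∈ Q from hd')
      rwa [show d = w from M.subtype_injective he.symm]
    have hgen : ∀ N : Subgroup G, N ≤ Q → M ≤ Subgroup.normalizer (N : Set G) → S ≤ N → Q ≤ N ⊔ Q₀ :=
      fun N hNQ hMN hSN => by
      haveI : (N.subgroupOf M).Normal := (Subgroup.normal_subgroupOf_iff_le_normalizer (hNQ.trans hQM)).2 hMN
      set π := QuotientGroup.mk' (N.subgroupOf M) with hπ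
      haveI := hd.quotient_nilpotent (N.subgroupOf M) fun v hv => hSN hv
      have hfix := map_inf_centralizer (A := D') (K := Q') (Subgroup.normalizer_eq_top (H := Q') ▸ le_top) hcop
        (Or.inr inferInstance) π
      have hall : Q'.map π ⊓ Subgroup.centralizer ((D'.map π : Subgroup _) : Set (M ⧸ N.subgroupOf M)) = Q'.map π := by
        refine inf_eq_left.2 fun v hv => Subgroup.mem_centralizer_iff.2 fun d hd' => ?_
        obtain ⟨d₀, hd₀, rfl⟩ := hd'
        obtain ⟨v₀, hv₀, rfl⟩ := hv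
        have : π d₀ ∈ Subgroup.centralizer ({π v₀} : Set _) := mem_of_primary fun l hl hld z hz ⟨k, hk⟩ => by
          refine mem_centralizer_singleton_of_commute ?_
          haveI := Fact.mk hl
          have hzW : z ∈ (Cfsg.piCore (Cfsg.sigma M) ↥M).map π :=
            Subgroup.zpowers_le.2 (Subgroup.mem_map_of_mem _ (hcoreD hd₀)) hz
          have hlD : l ∣ Nat.card D := hld.trans ((orderOf_map_dvd π d₀).trans
            ((Subgroup.orderOf_dvd_natCard D' hd₀).trans
              (Nat.card_congr (Subgroup.subgroupOfEquivOfLe hDM).toEquiv).dvd))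
          exact ((congrArg Subtype.val (CfsgLib.Hall.commute_of_coprime_orderOf
            (G := ↥((Cfsg.piCore (Cfsg.sigma M) ↥M).map π)) (p := l) (j := k) (x := ⟨z, hzW⟩)
            (y := ⟨π v₀, Subgroup.mem_map_of_mem _ (hcoreQ hv₀)⟩)
            (by rw [Subgroup.orderOf_mk]; exact orderOf_dvd_of_pow_eq_one hk)
            (by
              rw [Subgroup.orderOf_mk]
              refine (hl.coprime_iff_not_dvd.2 fun hd'' => hDq ?_).symm
              have hlQ : l ∣ Nat.card Q := hd''.trans ((orderOf_map_dvd π v₀).trans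
                ((Subgroup.orderOf_dvd_natCard Q' hv₀).trans
                  (Nat.card_congr (Subgroup.subgroupOfEquivOfLe hQM).toEquiv).dvd))
              obtain ⟨n, hn⟩ := hQp.exists_card_eq
              rw [hn] at hlQ
              exact (Nat.prime_dvd_prime_iff_eq hl hq).1 (hl.dvd_of_dvd_pow hlQ) ▸ hlD))) :
            Commute z (π v₀)).symm
        exact (commute_of_mem_centralizer_singleton this).eq.symm
      intro v hv
      have h1 : π (⟨v, hQM hv⟩ : M) ∈ (Q' ⊓ Subgroup.centralizer (D' : Set M)).map π := by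
        rw [hfix, hall]
        exact Subgroup.mem_map_of_mem _ (show (⟨v, hQM hv⟩ : M) ∈ Q' from hv)
      obtain ⟨w, hw, he⟩ := h1
      have h2 : w⁻¹ * ⟨v, hQM hv⟩ ∈ N.subgroupOf M := by
        rw [← QuotientGroup.eq]; exact he
      have hwQ₀ : (w : G) ∈ Q₀ := ⟨hw.1, Subgroup.mem_centralizer_iff.2 fun d hd' =>
        congrArg Subtype.val (Subgroup.mem_centralizer_iff.1 hw.2 (⟨d, hDM hd'⟩ : M) hd')⟩
      rw [show v = (w : G) * ((w : G)⁻¹ * v) by group]
      exact mul_mem (Subgroup.mem_sup_right hwQ₀) (Subgroup.mem_sup_left h2)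
    have hdich : ∀ N : Subgroup G, N ≤ Q → M ≤ Subgroup.normalizer (N : Set G) → N ≤ Q₀ ∨ Q ≤ N ⊔ Q₀ :=
      fun N hNQ hMN => by
      by_cases hNS : N ⊓ S = ⊥
      · exact Or.inl (hmiss N hNQ hMN hNS)
      · refine Or.inr (hgen N hNQ hMN (inf_eq_right.1 (Subgroup.eq_of_le_of_card_ge inf_le_right ?_)))
        rcases (Nat.dvd_prime hq).1 (hsc ▸ Subgroup.card_dvd_of_le (inf_le_right : N ⊓ S ≤ S)) with e | e
        · exact absurd (Subgroup.card_eq_one.1 e) hNS
        · rw [hsc, e]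
    -- the Frattini subgroup
    set Φ := (frattini Q).map Q.subtype with hΦ
    have hΦQ : Φ ≤ Q := Subgroup.map_subtype_le _
    have hMΦ : M ≤ Subgroup.normalizer (Φ : Set G) :=
      CfsgLib.PSolvable.le_normalizer_map_of_characteristic hMQ (frattini Q)
    have hQ₀ne : Q₀ ≠ Q := fun e => hDC (inf_eq_left.1 e)
    have hΦQ₀ : Φ ≤ Q₀ := (hdich Φ hΦQ hMΦ).resolve_right fun hle => hQ₀ne (le_antisymm inf_le_left fun v hv => by
      have htop : Q₀.subgroupOf Q ⊔ frattini Q = ⊤ := by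
        apply Subgroup.map_injective Q.subtype_injective
        rw [Subgroup.map_sup, Subgroup.map_subgroupOf_eq_of_le inf_le_left, ← hΦ, ← MonoidHom.range_eq_map,
          Subgroup.range_subtype]
        exact le_antisymm (sup_le inf_le_left hΦQ) (hle.trans (sup_comm Φ Q₀).le)
      have := (frattini_nongenerating htop).ge (Subgroup.mem_top (⟨v, hv⟩ : Q))
      exact this)
    obtain ⟨hcomF, hpowF⟩ := CfsgLib.PSolvable.commutator_le_frattini hQp
    have hQel : ∀ a ∈ Q, ∀ b ∈ Q, a ^ q ∈ Q₀ ∧ a * b * a⁻¹ * b⁻¹ ∈ Q₀ := fun a ha b hb =>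
      ⟨hΦQ₀ ⟨_, hpowF ⟨a, ha⟩, rfl⟩, hΦQ₀ ⟨⁅(⟨a, ha⟩ : Q), ⟨b, hb⟩⁆,
        hcomF (Subgroup.commutator_mem_commutator (Subgroup.mem_top _) (Subgroup.mem_top _)),
        by simp [commutatorElement_def]⟩⟩
    have hMQ₀ : M ≤ Subgroup.normalizer (Q₀ : Set G) := hMQH.trans (sup_le (fun a ha =>
      mem_normalizer_of_conj fun b hb => by
        have h1 := (hQel a ha b hb.1).2
        have := Q₀.mul_mem h1 hb
        rwa [show a * b * a⁻¹ * b⁻¹ * b = a * b * a⁻¹ by group] at this)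
      (le_normalizer_inf_of_le (hH₀M.trans hMQ) (le_normalizer_centralizer hH₀D)))
    have hminimal : ∀ N : Subgroup G, Q₀ < N → N < Q → ¬ M ≤ Subgroup.normalizer (N : Set G) :=
      fun N h1 h2 hMN => (hdich N h2.le hMN).elim (fun hle => h1.not_ge hle) fun hle =>
        h2.not_ge (hle.trans (sup_le le_rfl h1.le))
    have hSQ₀ : S ⊓ Q₀ = ⊥ := by
      by_contra hne
      have hle : S ≤ Q₀ := inf_eq_left.1 (Subgroup.eq_of_le_of_card_ge inf_le_left (by
        rcases (Nat.dvd_prime hq).1 (hsc ▸ Subgroup.card_dvd_of_le (inf_le_left : S ⊓ Q₀ ≤ S)) with e | e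
        · exact absurd (Subgroup.card_eq_one.1 e) hne
        · rw [hsc, e]))
      exact hQ₀ne (le_antisymm inf_le_left ((hgen Q₀ inf_le_left hMQ₀ hle).trans (sup_le le_rfl le_rfl)))
    -- the action on `Q / Q₀`
    haveI : (Q₀.subgroupOf M).Normal :=
      (Subgroup.normal_subgroupOf_iff_le_normalizer (inf_le_left.trans hQM)).2 hMQ₀
    set π := QuotientGroup.mk' (Q₀.subgroupOf M) with hπ
    set K' := K.subgroupOf M with hK'
    set S' := S.subgroupOf M with hS'
    have hker : ∀ v : M, π v = 1 ↔ (v : G) ∈ Q₀ := fun v => QuotientGroup.eq_one_iff v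
    have hinjK : ∀ v ∈ K', π v = 1 → v = 1 := fun v hv e => Subtype.ext (Subgroup.mem_bot.1 (by
      rw [← inf_eq_bot_of_coprime_card (H := K) (K := Q₀) (Nat.coprime_of_dvd fun l hl h1 h2 => by
        obtain ⟨n, hn⟩ := hQp.exists_card_eq
        exact hqK ((Nat.prime_dvd_prime_iff_eq hl hq).1 (hl.dvd_of_dvd_pow
          (hn ▸ h2.trans (Subgroup.card_dvd_of_le inf_le_left))) ▸ h1))]
      exact ⟨hv, (hker v).1 e⟩))
    have hinjD : ∀ v ∈ D', π v = 1 → v = 1 := fun v hv e => Subtype.ext (Subgroup.mem_bot.1 (by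
      rw [← hD.2.2.1]
      exact ⟨((hker v).1 e).1, hv⟩))
    have hcardmap : ∀ {A : Subgroup M}, (∀ v ∈ A, π v = 1 → v = 1) → Nat.card (A.map π) = Nat.card A := fun {A} hA => by
      refine (Nat.card_congr (Equiv.ofBijective (fun a : A => (⟨π a, Subgroup.mem_map_of_mem _ a.2⟩ : A.map π))
        ⟨fun a b hab => ?_, fun b => ?_⟩)).symm
      · have h1 : π ((a : M)⁻¹ * b) = 1 := by
          rw [map_mul, map_inv, show π a = π b from congrArg Subtype.val hab, inv_mul_cancel]
        exact Subtype.ext (inv_mul_eq_one.1 (hA _ (A.mul_mem (A.inv_mem a.2) b.2) h1))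
      · obtain ⟨a, ha, he⟩ := b.2
        exact ⟨⟨a, ha⟩, Subtype.ext he⟩
    have hKcard : Nat.card (K'.map π) = Nat.card K := by
      rw [hcardmap hinjK, Nat.card_congr (Subgroup.subgroupOfEquivOfLe hd.hKM).toEquiv]
    have hKD' : K' ≤ Subgroup.normalizer (D' : Set M) := fun k hk => mem_normalizer_of_conj fun d hd' =>
      conj_mem_of_le_normalizer (hKD hk) d hd'
    have hcopKD : (Nat.card K').Coprime (Nat.card D') := by
      rw [Nat.card_congr (Subgroup.subgroupOfEquivOfLe hd.hKM).toEquiv,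
        Nat.card_congr (Subgroup.subgroupOfEquivOfLe hDM).toEquiv]
      exact (coprime_kappa_core hd.hall).coprime_dvd_right (Subgroup.card_dvd_of_le hD.2.1)
    have hcopKQ : (Nat.card K').Coprime (Nat.card Q') := by
      rw [Nat.card_congr (Subgroup.subgroupOfEquivOfLe hd.hKM).toEquiv,
        Nat.card_congr (Subgroup.subgroupOfEquivOfLe hQM).toEquiv]
      exact (coprime_kappa_core hd.hall).coprime_dvd_right (Subgroup.card_dvd_of_le hQσ)
    haveI hKc : IsCyclic K := h.cyclic_K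
    haveI : IsMulCommutative K := IsCyclic.isMulCommutative
    haveI : IsCyclic K' := isCyclic_of_surjective _ (Subgroup.subgroupOfEquivOfLe hd.hKM).symm.surjective
    haveI : IsMulCommutative K' := IsCyclic.isMulCommutative
    have hQS : Q' ⊓ Subgroup.centralizer (K' : Set M) = S' := by
      ext w
      constructor
      · intro hw
        exact ⟨hQσ hw.1, Subgroup.mem_centralizer_iff.2 fun k hk => congrArg Subtype.val
          (Subgroup.mem_centralizer_iff.1 hw.2 (⟨k, hd.hKM hk⟩ : M) hk)⟩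
      · intro hw
        exact ⟨hSQ hw, Subgroup.mem_centralizer_iff.2 fun k hk => Subtype.ext
          (commute_of_mem_centralizer (show (k : G) ∈ K from hk) (show (w : G) ∈ S from hw).2).eq⟩
    have hVK : Q'.map π ⊓ Subgroup.centralizer ((K'.map π : Subgroup _) : Set (M ⧸ Q₀.subgroupOf M)) = S'.map π := by
      rw [← map_inf_centralizer (Subgroup.normalizer_eq_top (H := Q') ▸ le_top) hcopKQ (Or.inl inferInstance) π, hQS]
    have hScard : Nat.card (S'.map π) = q := by
      rw [hcardmap fun v hv e => Subtype.ext (Subgroup.mem_bot.1 (hSQ₀ ▸ ⟨hv, (hker v).1 e⟩ :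
        (v : G) ∈ (⊥ : Subgroup G))), Nat.card_congr (Subgroup.subgroupOfEquivOfLe (hSQ.trans hQM)).toEquiv, hsc]
    have hVD : Q'.map π ⊓ Subgroup.centralizer ((D'.map π : Subgroup _) : Set (M ⧸ Q₀.subgroupOf M)) = ⊥ := by
      rw [← map_inf_centralizer (Subgroup.normalizer_eq_top (H := Q') ▸ le_top) hcop (Or.inr inferInstance) π,
        Subgroup.map_eq_bot_iff, QuotientGroup.ker_mk']
      exact fun w hw => ⟨hw.1, Subgroup.mem_centralizer_iff.2 fun d hd' =>
        congrArg Subtype.val (Subgroup.mem_centralizer_iff.1 hw.2 (⟨d, hDM hd'⟩ : M) hd')⟩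
    have hD1 : D'.map π ≠ ⊥ := fun e => hDC fun v hv => Subgroup.mem_centralizer_iff.2 fun d hd' => by
      have := hinjD ⟨d, hDM hd'⟩ hd'
        (Subgroup.mem_bot.1 (e ▸ Subgroup.mem_map_of_mem π (show (⟨d, hDM hd'⟩ : M) ∈ D' from hd')))
      rw [show d = 1 from congrArg Subtype.val this, one_mul, mul_one]
    have hQ₀lt : Q₀ < Q := lt_of_le_of_ne inf_le_left hQ₀ne
    have hV1 : Q'.map π ≠ ⊥ := fun e => hQ₀lt.not_ge fun v hv => (hker ⟨v, hQM hv⟩).1
      (Subgroup.mem_bot.1 (e ▸ Subgroup.mem_map_of_mem π (show (⟨v, hQM hv⟩ : M) ∈ Q' from hv)))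
    have hVp : IsPGroup q ↥(Q'.map π) :=
      (hQp.comap_of_injective M.subtype M.subtype_injective : IsPGroup q Q').map π
    have hbig : Nat.card ↥(D'.map π ⊔ K'.map π) = Nat.card D * Nat.card K := by
      rw [card_sup_of_coprime (map_normalizes π hKD') (by
        rw [hKcard, hcardmap hinjD, Nat.card_congr (Subgroup.subgroupOfEquivOfLe hDM).toEquiv]
        exact ((coprime_kappa_core hd.hall).coprime_dvd_right (Subgroup.card_dvd_of_le hD.2.1)).symm), hKcard,
        hcardmap hinjD, Nat.card_congr (Subgroup.subgroupOfEquivOfLe hDM).toEquiv]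
    have hdvdM : Nat.card ↥(D'.map π ⊔ K'.map π) ∣ Nat.card M := by
      rw [hbig]
      exact Nat.Coprime.mul_dvd_of_dvd_of_dvd
        ((coprime_kappa_core hd.hall).coprime_dvd_right (Subgroup.card_dvd_of_le hD.2.1)).symm
        (Subgroup.card_dvd_of_le hDM) (Subgroup.card_dvd_of_le hd.hKM)
    obtain ⟨hKprime, hVcard, hder⟩ := Cfsg.Agent.S1446.result (D'.map π) (K'.map π) (Q'.map π) hD1
      (fun e => hd.hK1 (Subgroup.card_eq_one.1 (by rw [← hKcard, e, Subgroup.card_bot])))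
      (inf_eq_bot_of_coprime_card (by
        rw [hcardmap hinjD, hcardmap hinjK]
        exact hcopKD.symm))
      (map_normalizes π hKD') (by
        rintro _ ⟨k, hk, rfl⟩ hk1
        have hk1' : (k : G) ≠ 1 := fun e => hk1 (by rw [show k = 1 from Subtype.ext e, map_one])
        have hkD : Subgroup.zpowers k ≤ Subgroup.normalizer (D' : Set M) := Subgroup.zpowers_le.2 (hKD' hk)
        have hc : (Nat.card (Subgroup.zpowers k)).Coprime (Nat.card D') :=
          hcopKD.coprime_dvd_left (Subgroup.card_dvd_of_le (Subgroup.zpowers_le.2 hk))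
        have h1 := map_inf_centralizer hkD hc (Or.inl inferInstance) π
        rw [MonoidHom.map_zpowers, centralizer_zpowers_eq, centralizer_zpowers_eq] at h1
        rw [← h1, Subgroup.map_eq_bot_iff]
        intro w hw
        have h2 : (w : G) ∈ D ⊓ Subgroup.centralizer ({(k : G)} : Set G) := ⟨hw.1,
          mem_centralizer_singleton_of_commute (congrArg Subtype.val (commute_of_mem_centralizer_singleton hw.2).eq)⟩
        rw [hfixD k hk hk1', Subgroup.mem_bot] at h2
        rw [show w = 1 from Subtype.ext h2]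
        exact one_mem _)
      (haveI : Group.IsSolvable (M ⧸ Q₀.subgroupOf M) :=
          Group.isSolvable_of_surjective (QuotientGroup.mk'_surjective _);
       inferInstance)
      (Odd.of_dvd_nat (Odd.of_dvd_nat hG.1 (Subgroup.card_subgroup_dvd_card M)) hdvdM)
      hV1 hVp.isNilpotent (Subgroup.normalizer_eq_top (H := Q'.map π) ▸ le_top : D'.map π ≤ _)
      (Subgroup.normalizer_eq_top (H := Q'.map π) ▸ le_top : K'.map π ≤ _)
      (by
        rw [hbig]
        obtain ⟨n, hn⟩ := hVp.exists_card_eq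
        rw [hn]
        refine Nat.Coprime.pow_right n (Nat.Coprime.mul_left ?_ ?_)
        · exact (hq.coprime_iff_not_dvd.2 hDq).symm
        · exact (hq.coprime_iff_not_dvd.2 hqK).symm) hVD (by
        rintro _ ⟨k, hk, rfl⟩ hk1
        have hk1' : (k : G) ≠ 1 := fun e => hk1 (by rw [show k = 1 from Subtype.ext e, map_one])
        have hc : (Nat.card (Subgroup.zpowers k)).Coprime (Nat.card Q') :=
          hcopKQ.coprime_dvd_left (Subgroup.card_dvd_of_le (Subgroup.zpowers_le.2 hk))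
        have h1 := map_inf_centralizer (A := Subgroup.zpowers k) (K := Q')
          (Subgroup.normalizer_eq_top (H := Q') ▸ le_top) hc (Or.inl inferInstance) π
        rw [MonoidHom.map_zpowers, centralizer_zpowers_eq, centralizer_zpowers_eq] at h1
        rw [← h1, hVK]
        congr 1
        ext w
        constructor
        · intro hw
          have h2 : (w : G) ∈ Cfsg.sigmaCore M ⊓ Subgroup.centralizer ({(k : G)} : Set G) := ⟨hQσ hw.1,
            mem_centralizer_singleton_of_commute (congrArg Subtype.val (commute_of_mem_centralizer_singleton hw.2).eq)⟩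
          rw [hd.action k hk hk1'] at h2
          exact h2
        · intro hw
          exact ⟨hSQ hw, mem_centralizer_singleton_of_commute (show Commute k w from Subtype.ext
            (commute_of_mem_centralizer (show (k : G) ∈ K from hk) (show (w : G) ∈ S from hw).2).eq)⟩)
    rw [hVK] at hder
    haveI : IsCyclic ↥(S'.map π) := haveI := Fact.mk hq; isCyclic_of_prime_card hScard
    have hder' := hder inferInstance
    have hDDC : ⁅D, D⁆ ≤ Subgroup.centralizer (Q : Set G) := by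
      set A := ⁅D', D'⁆ with hA
      have hAD : A ≤ D' := Subgroup.commutator_le.2 fun a ha b hb => by
        rw [commutatorElement_def]
        exact D'.mul_mem (D'.mul_mem (D'.mul_mem ha hb) (D'.inv_mem ha)) (D'.inv_mem hb)
      have hfix := map_inf_centralizer (A := A) (K := Q') (Subgroup.normalizer_eq_top (H := Q') ▸ le_top)
        (hcop.coprime_dvd_left (Subgroup.card_dvd_of_le hAD)) (Or.inr inferInstance) π
      have hall : Q'.map π ⊓ Subgroup.centralizer ((A.map π : Subgroup _) : Set (M ⧸ Q₀.subgroupOf M)) = Q'.map π :=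
        inf_eq_left.2 (Subgroup.le_centralizer_iff.1 (by rw [hA, Subgroup.map_commutator]; exact hder'))
      rw [hall] at hfix
      rw [← Subgroup.map_subgroupOf_eq_of_le hDM, ← Subgroup.map_commutator]
      rintro _ ⟨a, ha, rfl⟩
      refine Subgroup.mem_centralizer_iff.2 fun v hv => ?_
      obtain ⟨w, hw, he⟩ := hfix.ge (Subgroup.mem_map_of_mem π (show (⟨v, hQM hv⟩ : M) ∈ Q' from hv))
      have h2 : ((w : G))⁻¹ * v ∈ Q₀ := (hker (w⁻¹ * ⟨v, hQM hv⟩)).1 (by rw [map_mul, map_inv, he, inv_mul_cancel])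
      have hc1 : Commute (a : G) (w : G) :=
        congrArg Subtype.val (Subgroup.mem_centralizer_iff.1 hw.2 a ha)
      have hc2 : Commute (a : G) ((w : G)⁻¹ * v) := commute_of_mem_centralizer (hAD ha) h2.2
      have hc3 := hc1.mul_right hc2
      rw [mul_inv_cancel_left] at hc3
      exact hc3.eq.symm
    rw [hVK, hScard, hKcard] at hVcard
    rw [hKcard] at hKprime
    refine ⟨hKprime, hβ, hMQ₀, ?_, hQel, hDDC, hminimal⟩
    -- `|Q| = |Q₀| |Q / Q₀|`
    have h1 := ((π.comp Q'.subtype).ker).card_mul_index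
    have h2 : Nat.card ↥((π.comp Q'.subtype).ker) = Nat.card Q₀ := by
      refine Nat.card_congr ⟨fun v => ⟨((v : Q') : M), (hker _).1 (MonoidHom.mem_ker.1 v.2)⟩,
        fun w => ⟨⟨⟨(w : G), hQM w.2.1⟩, w.2.1⟩, MonoidHom.mem_ker.2 ((hker _).2 w.2)⟩, fun v => rfl, fun w => rfl⟩
    rw [h2, Subgroup.index_ker, MonoidHom.range_comp, Subgroup.range_subtype, hVcard,
      Nat.card_congr (Subgroup.subgroupOfEquivOfLe hQM).toEquiv] at h1
    exact h1.symm
  -- transfer to an arbitrary complement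
  have key : ∀ D : Subgroup G, Cfsg.IsComplIn Q D (Cfsg.sigmaCore M) → ∃ D₀ : Subgroup G,
      Cfsg.IsComplIn Q D₀ (Cfsg.sigmaCore M) ∧ K ≤ Subgroup.normalizer (D₀ : Set G) ∧
      ∃ m ∈ M, D = MulAut.conj m • D₀ := fun D hD => by
    obtain ⟨H₀, hH₀M, hH₀D, -, m, hm, hmK⟩ := hhall D hD
    refine ⟨MulAut.conj m⁻¹ • D, ⟨hQσ, fun x hx => ?_, ?_, fun x hx => ?_⟩, fun k hk => ?_, m, hm, by
      rw [← mul_smul, ← map_mul, mul_inv_cancel, map_one, one_smul]⟩
    · rw [mem_conj_smul_iff, inv_inv] at hx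
      have := conj_mem_of_le_normalizer (le_normalizer_piCoreOf _ M (M.inv_mem hm)) _ (hD.2.1 hx)
      rwa [inv_inv, show m⁻¹ * (m * x * m⁻¹) * m = x by group] at this
    · refine (Subgroup.eq_bot_iff_forall _).2 fun x hx => ?_
      obtain ⟨hxQ, hxD⟩ := Subgroup.mem_inf.1 hx
      rw [mem_conj_smul_iff, inv_inv] at hxD
      exact conj_eq_one_iff.1 (Subgroup.mem_bot.1
        (hD.2.2.1 ▸ ⟨conj_mem_of_le_normalizer (hMQ hm) x hxQ, hxD⟩ : m * x * m⁻¹ ∈ (⊥ : Subgroup G)))
    · obtain ⟨a, ha, b, hb, he⟩ := hD.2.2.2 _ (conj_mem_of_le_normalizer (le_normalizer_piCoreOf _ M hm) x hx)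
      refine ⟨m⁻¹ * a * m, ?_, m⁻¹ * b * m, ?_, ?_⟩
      · have := conj_mem_of_le_normalizer (hMQ (M.inv_mem hm)) a ha
        rwa [inv_inv] at this
      · rw [mem_conj_smul_iff, inv_inv, show m * (m⁻¹ * b * m) * m⁻¹ = b by group]
        exact hb
      · calc x = m⁻¹ * (m * x * m⁻¹) * m := by group
          _ = m⁻¹ * (a * b) * m := by rw [he]
          _ = _ := by group
    · refine mem_normalizer_of_conj fun d hd' => ?_
      rw [mem_conj_smul_iff, inv_inv] at hd' ⊢
      have h1 := hH₀D (hmK (mem_sigmaCore_conj_iff.2 hk))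
      have h2 := conj_mem_of_le_normalizer h1 _ hd'
      rwa [show m * k * m⁻¹ * (m * d * m⁻¹) * (m * k * m⁻¹)⁻¹ = m * (k * d * k⁻¹) * m⁻¹ by group] at h2
  haveI : (Q.subgroupOf (Cfsg.sigmaCore M)).Normal :=
    (Subgroup.normal_subgroupOf_iff_le_normalizer hQσ).2 ((piCoreOf_le _ M).trans hMQ)
  obtain ⟨Dc, hDc⟩ := Subgroup.exists_right_complement'_of_coprime (N := Q.subgroupOf (Cfsg.sigmaCore M)) (by
    rw [Nat.card_congr (Subgroup.subgroupOfEquivOfLe hQσ).toEquiv]
    obtain ⟨n, hn⟩ := hQp.exists_card_eq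
    rw [hn]
    exact (hq.coprime_iff_not_dvd.2 hQrel).pow_left n)
  have hDc' : Cfsg.IsComplIn Q (Dc.map (Cfsg.sigmaCore M).subtype) (Cfsg.sigmaCore M) := by
    refine ⟨hQσ, Subgroup.map_subtype_le _, (Subgroup.eq_bot_iff_forall _).2 fun x hx => ?_, fun x hx => ?_⟩
    · obtain ⟨hxQ, w, hw, rfl⟩ := hx
      have : w ∈ Q.subgroupOf (Cfsg.sigmaCore M) ⊓ Dc := ⟨hxQ, hw⟩
      rw [hDc.disjoint.eq_bot, Subgroup.mem_bot] at this
      rw [this, map_one]
    · obtain ⟨⟨a, b⟩, hab⟩ := hDc.2 ⟨x, hx⟩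
      exact ⟨((a : ↥(Cfsg.sigmaCore M)) : G), a.2, ((b : ↥(Cfsg.sigmaCore M)) : G),
        Subgroup.mem_map_of_mem _ b.2, (congrArg Subtype.val hab).symm⟩
  obtain ⟨D₀, hD₀, hKD₀, -⟩ := key _ hDc'
  obtain ⟨hKp, hβ, -⟩ := main D₀ hD₀ hKD₀
  refine ⟨hU, hKp, q, Q, hq, hsc, hβ, hQF, hQσ, hSQ, hMQ, hQp, hmem, hQrel, fun D hD => ?_⟩
  obtain ⟨D₁, hD₁, hKD₁, m, hm, hDe⟩ := key D hD
  obtain ⟨-, -, hMQ₀, hcard, hel, hDD, hmin⟩ := main D₁ hD₁ hKD₁
  have heq : Q ⊓ Subgroup.centralizer (D : Set G) = Q ⊓ Subgroup.centralizer (D₁ : Set G) := by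
    rw [hDe, show Q = MulAut.conj m • Q from (conj_smul_eq_self_of_mem_normalizer (hMQ hm)).symm,
      conj_centralizer, ← Subgroup.smul_inf, conj_smul_eq_self_of_mem_normalizer (hMQ hm)]
    exact conj_smul_eq_self_of_mem_normalizer (hMQ₀ hm)
  rw [heq]
  refine ⟨(hcompl D hD).2.1, hMQ₀, lt_of_le_of_ne inf_le_left fun e => (hcompl D₁ hD₁).2.2 (inf_eq_left.1 e),
    hcard, hel, ?_, hmin⟩
  rw [hDe, show Q = MulAut.conj m • Q from (conj_smul_eq_self_of_mem_normalizer (hMQ hm)).symm, conj_centralizer]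
  refine (Subgroup.commutator_le.2 fun a ha b hb => ?_)
  rw [mem_conj_smul_iff] at ha hb ⊢
  rw [show m⁻¹ * ⁅a, b⁆ * m = ⁅m⁻¹ * a * m, m⁻¹ * b * m⁆ by simp only [commutatorElement_def]; group]
  exact hDD (Subgroup.commutator_mem_commutator ha hb)

end CfsgLib.OddLocal
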