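import Cfsg.Agent.Lib.PSolvable.Omega
import Cfsg.Agent.Lib.SmallClass.Power
import Cfsg.Agent.Lib.PPrimeAbelian.Setup
import Cfsg.Agent.Lib.OddLocal.SigmaIntersections
import Cfsg.Agent.S1545

/-!
A Frobenius group `U E` with `E` of prime order acting coprimely on a `p`-group `S`: if `U` centralizes
the fixed points of order `p` of `E`, then `U` centralizes `S`.
-/

set_option autoImplicit false
set_option linter.style.haveILetI false
set_option linter.unusedSectionVars false

open scoped commutatorElement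
open scoped Pointwise

namespace CfsgLib.OddLocal

open CfsgLib.Coprime
open CfsgLib.BG.FixedLine (conj_mem_of_le_normalizer mem_normalizer_of_conj)

universe u

variable {G : Type u} [Group G] [Finite G]

theorem centralizes_of_fpf_prime {p : ℕ} [Fact p.Prime] (hp2 : p ≠ 2) {U E : Subgroup G}
    (hE : (Nat.card E).Prime) (hEU : E ≤ Subgroup.normalizer (U : Set G))
    (hfpf : U ⊓ Subgroup.centralizer (E : Set G) = ⊥) (hUc : (Nat.card U).Coprime p) (hEp : Nat.card E ≠ p) :
    ∀ {S : Subgroup G}, IsPGroup p S → U ≤ Subgroup.normalizer (S : Set G) →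
      E ≤ Subgroup.normalizer (S : Set G) →
      (∀ x ∈ S, x ^ p = 1 → x ∈ Subgroup.centralizer (E : Set G) → x ∈ Subgroup.centralizer (U : Set G)) →
      U ≤ Subgroup.centralizer (S : Set G) := by
  classical
  have hp : p.Prime := Fact.out
  intro S
  induction S using WellFoundedLT.induction with
  | ind S IH =>
  intro hS hUS hES hfix
  by_cases hU1 : U = ⊥
  · rw [hU1]; exact bot_le
  by_contra hne
  have hcop : (Nat.card U).Coprime (Nat.card S) := (CfsgLib.PSolvable.coprime_card_of_isPGroup hS hUc).symm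
  have hIH : ∀ K : Subgroup G, K < S → U ≤ Subgroup.normalizer (K : Set G) →
      E ≤ Subgroup.normalizer (K : Set G) → U ≤ Subgroup.centralizer (K : Set G) := fun K hK hUK hEK =>
    IH K hK (hS.to_le hK.le) hUK hEK fun x hx => hfix x (hK.le hx)
  haveI hSs : Group.IsSolvable S := haveI := hS.isNilpotent; inferInstance
  -- `S = [S, U]`
  have hN : ⁅S, U⁆ = S := by
    have hNS : ⁅S, U⁆ ≤ S := commutator_le_left_of_le_normalizer hUS
    by_contra hlt
    have h1 := hIH _ (lt_of_le_of_ne hNS hlt) (le_normalizer_commutator hUS Subgroup.le_normalizer)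
      (le_normalizer_commutator hES hEU)
    have h2 : ⁅⁅S, U⁆, U⁆ = ⊥ :=
      Subgroup.commutator_eq_bot_iff_le_centralizer.2 (Subgroup.le_centralizer_iff.1 h1)
    exact hne (Subgroup.le_centralizer_iff.1
      (Subgroup.commutator_eq_bot_iff_le_centralizer.1 (commutator_eq_bot_of_commutator_commutator hUS hcop h2)))
  have hS1 : S ≠ ⊥ := by
    rintro rfl
    exact hne fun x _ s hs => by rw [Subgroup.mem_bot.1 hs, one_mul, mul_one]
  -- class at most two
  set D := ⁅S, S⁆ with hD
  have hDS : D ≤ S := Subgroup.commutator_le_self S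
  have hDlt : D < S := by
    refine lt_of_le_of_ne hDS fun e => ?_
    haveI : Nontrivial S := (Subgroup.nontrivial_iff_ne_bot _).2 hS1
    refine (IsSolvable.commutator_lt_top_of_nontrivial S).ne (Subgroup.map_injective S.subtype_injective ?_)
    rw [commutator_def, Subgroup.map_commutator, ← MonoidHom.range_eq_map, Subgroup.range_subtype]
    exact e
  have hUD := hIH D hDlt (le_normalizer_commutator hUS hUS) (le_normalizer_commutator hES hES)
  have hSD : ⁅S, D⁆ = ⊥ := by
    have hSnD : S ≤ Subgroup.normalizer (D : Set G) :=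
      le_normalizer_commutator Subgroup.le_normalizer Subgroup.le_normalizer
    have hDSD : ⁅D, S⁆ ≤ D := commutator_le_left_of_le_normalizer hSnD
    have hUD' : ⁅U, D⁆ = ⊥ := Subgroup.commutator_eq_bot_iff_le_centralizer.2 hUD
    have hDU : ⁅D, U⁆ = ⊥ := by rw [Subgroup.commutator_comm]; exact hUD'
    have hA : ⁅⁅U, D⁆, S⁆ = ⊥ := by rw [hUD']; exact Subgroup.commutator_bot_left S
    have hB : ⁅⁅D, S⁆, U⁆ = ⊥ := eq_bot_iff.2 (hDU ▸ Subgroup.commutator_mono hDSD le_rfl)
    have h : ⁅⁅S, U⁆, D⁆ = ⊥ := Subgroup.commutator_commutator_eq_bot_of_rotate hA hB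
    rwa [hN] at h
  have hcl : ⁅commutator S, (⊤ : Subgroup S)⁆ = ⊥ := by
    apply Subgroup.map_injective S.subtype_injective
    rw [commutator_def, Subgroup.map_commutator, Subgroup.map_commutator, ← MonoidHom.range_eq_map,
      Subgroup.range_subtype, Subgroup.map_bot, Subgroup.commutator_comm]
    exact hSD
  -- exponent `p`
  set W : Set G := {x | x ∈ S ∧ x ^ p = 1} with hW
  have hWS : Subgroup.closure W ≤ S := (Subgroup.closure_le _).2 fun x hx => hx.1
  have hWinv : ∀ g ∈ Subgroup.normalizer (S : Set G), g ∈ Subgroup.normalizer (Subgroup.closure W : Set G) := by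
    intro g hg
    refine mem_normalizer_of_conj fun x hx => ?_
    have hle : Subgroup.closure W ≤ (Subgroup.closure W).comap (MulAut.conj g).toMonoidHom :=
      (Subgroup.closure_le _).2 fun y hy => Subgroup.subset_closure
        ⟨conj_mem_of_le_normalizer hg y hy.1,
          show (g * y * g⁻¹) ^ p = 1 by rw [conj_pow, hy.2, mul_one, mul_inv_cancel]⟩
    exact hle hx
  have hΩ : Subgroup.closure W = S := by
    by_contra hlt
    have h1 := hIH _ (lt_of_le_of_ne hWS hlt) (fun g hg => hWinv g (hUS hg)) (fun g hg => hWinv g (hES hg))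
    refine hne (CfsgLib.PSolvable.le_centralizer_of_omega hp2 (A := (⊥ : Subgroup G)) IsPGroup.of_bot hUc bot_le
      hS bot_le hUS fun x hx hxp _ => ?_)
    exact Subgroup.le_centralizer_iff.1 h1 (Subgroup.subset_closure ⟨hx, hxp⟩)
  have hexp : ∀ x ∈ S, x ^ p = 1 := by
    intro x hx
    have hmem : (⟨x, hx⟩ : S) ∈ Subgroup.closure {y : S | y ^ p = 1} := by
      have h1 : x ∈ (Subgroup.closure {y : S | y ^ p = 1}).map S.subtype := by
        rw [MonoidHom.map_closure]
        rw [← hΩ] at hx
        refine Subgroup.closure_mono ?_ hx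
        rintro y ⟨hy, hyp⟩
        exact ⟨⟨y, hy⟩, Subtype.ext (by simpa using hyp), rfl⟩
      obtain ⟨y, hy, hye⟩ := h1
      rwa [show y = (⟨x, hx⟩ : S) from Subtype.ext hye] at hy
    have := congrArg Subtype.val (CfsgLib.SmallClass.pow_eq_one_of_mem_omega hp (Or.inl ⟨hp2, hcl⟩) hmem)
    simpa using this
  -- the fixed point formula
  have hE1 : E ≠ ⊥ := fun e => hE.ne_one (by rw [e, Subgroup.card_bot])
  have hEcomm : E ≤ Subgroup.centralizer (E : Set G) := by
    haveI := Fact.mk hE
    haveI : IsCyclic E := isCyclic_of_prime_card rfl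
    intro a ha b hb
    haveI : IsMulCommutative E := IsCyclic.commutative
    exact congrArg Subtype.val (mul_comm' (⟨b, hb⟩ : E) ⟨a, ha⟩)
  have hUE : U ⊓ E = ⊥ := eq_bot_iff.2 (hfpf ▸ inf_le_inf_left _ hEcomm)
  have hEp' : (Nat.card E).Coprime p := (Nat.coprime_primes hE hp).2 hEp
  have hfpf' : ∀ e ∈ E, e ≠ 1 → ∀ u ∈ U, e * u = u * e → u = 1 := by
    intro e he he1 u hu hc
    have hz : Subgroup.zpowers e = E := by
      refine Subgroup.eq_of_le_of_card_ge (Subgroup.zpowers_le.2 he) ?_
      rcases (Nat.dvd_prime hE).1 (Subgroup.card_dvd_of_le (Subgroup.zpowers_le.2 he)) with h1 | h1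
      · exact absurd (Subgroup.zpowers_eq_bot.1 (Subgroup.card_eq_one.1 h1)) he1
      · exact h1.ge
    have h1 : u ∈ U ⊓ Subgroup.centralizer (E : Set G) := ⟨hu, fun x hx => by
      rw [← hz] at hx
      obtain ⟨i, rfl⟩ := Subgroup.mem_zpowers_iff.1 hx
      exact ((show Commute e u from hc).zpow_left i).eq⟩
    rwa [hfpf, Subgroup.mem_bot] at h1
  have hJS : U ⊔ E ≤ Subgroup.normalizer (S : Set G) := sup_le hUS hES
  have hJc : (Nat.card S).Coprime (Nat.card ↥(U ⊔ E)) :=
    CfsgLib.PSolvable.coprime_card_of_isPGroup hS (CfsgLib.PPrimeAbelian.coprime_card_sup hEU hUc hEp')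
  have key := Cfsg.Agent.S1545.result U E S hU1 hE1 hUE (fun e he u hu => conj_mem_of_le_normalizer (hEU he) u hu)
    hfpf' (fun x hx h hh => conj_mem_of_le_normalizer (hJS hx) h hh) (inf_eq_bot_of_coprime_card hJc) hSs hJc
  have hCeq : S ⊓ Subgroup.centralizer ((U ⊔ E : Subgroup G) : Set G) = S ⊓ Subgroup.centralizer (E : Set G) :=
    le_antisymm (inf_le_inf_left _ (Subgroup.centralizer_le (SetLike.coe_subset_coe.2 le_sup_right)))
      (le_inf inf_le_left (Subgroup.le_centralizer_iff.1 (sup_le
        (Subgroup.le_centralizer_iff.1 fun x hx => hfix x hx.1 (hexp x hx.1) hx.2)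
        (Subgroup.le_centralizer_iff.1 inf_le_right))))
  rw [hCeq] at key
  have h1 := Nat.eq_of_mul_eq_mul_left (pow_pos Nat.card_pos _) key
  exact hne (Subgroup.le_centralizer_iff.1
    (inf_eq_left.1 (Subgroup.eq_of_le_of_card_ge inf_le_left h1.le)))

end CfsgLib.OddLocal
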