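import Cfsg.Agent.Lib.OddLocal.Theorem124
import Cfsg.Agent.Lib.OddLocal.SigmaCompl

/-!
BG 12.5: the structure of `M` at a prime of `τ₂(M)`.
-/

set_option autoImplicit false
set_option linter.style.haveILetI false
set_option linter.unusedSectionVars false

open scoped commutatorElement
open scoped Pointwise

namespace CfsgLib.OddLocal

open CfsgLib.Coprime
open CfsgLib.BG.FixedLine (conj_mem_of_le_normalizer mem_normalizer_of_conj)

universe u

variable {G : Type u} [Group G] [Finite G] {p : ℕ} {M A A₀ : Subgroup G}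

/-- For `p ∉ σ(M)` every `A ∈ E_p^2(M)` makes `M` exceptional. -/
theorem exists_exc (hG : Cfsg.IsMinSimpleOddOrder G) (hM : IsCoatom M) (hp : p.Prime) (hσ : p ∉ Cfsg.sigma M)
    (hAM : A ≤ M) (hAe : Cfsg.IsElementaryAbelian p A) (hA2 : Nat.card A = p ^ 2) :
    ∃ A₀ : Subgroup G, Exc p M A A₀ := by
  by_contra hne
  push Not at hne
  refine hσ (AllNonUnique.mem_sigma (A := A) ⟨hG, hM, hp, hAM, hAe, hA2, fun A₀ hA₀ hc => ?_⟩)
  have hbot : A₀ ≠ ⊥ := fun e => hp.ne_one (by rw [← hc, e, Subgroup.card_bot])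
  have htop : Subgroup.normalizer (A₀ : Set G) ≠ ⊤ :=
    normalizer_ne_top hG hbot fun e => hM.1 (top_unique (e.ge.trans (hA₀.trans hAM)))
  obtain ⟨L, hL, hNL⟩ := (eq_top_or_exists_le_coatom _).resolve_left htop
  exact ⟨L, hL, hNL, fun e => hne A₀ ⟨hG, hM, hp, hσ, hAM, hAe, hA2, hA₀, hc, e ▸ hNL⟩⟩

namespace Exc

/-- `O_{p'}(M)` normalizes `M_σ A`. -/
theorem pPrimeCore_le_normalizer (h : Exc p M A A₀) :
    (Cfsg.pPrimeCore p M).map M.subtype ≤ Subgroup.normalizer ((Cfsg.sigmaCore M ⊔ A : Subgroup G) : Set G) := by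
  classical
  haveI := Fact.mk h.hp
  haveI := h.hAe.1
  set D := (Cfsg.pPrimeCore p M).map M.subtype with hD
  set W := Cfsg.sigmaCore M ⊔ A with hW
  have hDM : D ≤ M := Subgroup.map_subtype_le _
  have hAD : A ≤ Subgroup.normalizer (D : Set G) :=
    h.hAM.trans (CfsgLib.PSolvable.le_normalizer_map_of_characteristic Subgroup.le_normalizer _)
  have hcop : (Nat.card A).Coprime (Nat.card D) := by
    rw [h.hA2, hD, Subgroup.card_subtype]
    exact ((CfsgLib.Transfer.pPrimeCore_coprime p).symm).pow_left 2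
  have hdvd : Nat.card D ∣ Nat.card ↥(D ⊓ Subgroup.normalizer (W : Set G)) := by
    refine (Nat.dvd_iff_prime_pow_dvd_dvd _ _).2 fun r k hr hk => ?_
    rcases Nat.eq_zero_or_pos k with rfl | hk0
    · simp
    haveI := Fact.mk hr
    have hrp : r ≠ p := fun e => by
      have h1 : p ∣ Nat.card D := e ▸ (dvd_pow_self r hk0.ne').trans hk
      rw [hD, Subgroup.card_subtype] at h1
      exact h.hp.not_dvd_one ((CfsgLib.Transfer.pPrimeCore_coprime (G := M) p) ▸ Nat.dvd_gcd h1 dvd_rfl)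
    obtain ⟨T, hT⟩ := exists_invariant_sylow (p := r) hAD hcop (Or.inl (isSolvable_of_isMulCommutative A))
    set T' := (T : Subgroup D).map D.subtype with hT'
    have hT'M : T' ≤ M := (Subgroup.map_subtype_le _).trans hDM
    have hle : T' ≤ D ⊓ Subgroup.normalizer (W : Set G) := by
      refine le_inf (Subgroup.map_subtype_le _) ?_
      by_cases hrσ : r ∈ Cfsg.sigma M
      · exact (le_sigmaCore_of_isPGroup h.hG h.hM hr hrσ hT'M (T.2.map _)).trans
          (le_sup_left.trans Subgroup.le_normalizer)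
      · have hc := Subgroup.le_centralizer_iff.1 (h.centralizes hr hrp hrσ hT'M (T.2.map _) hT)
        exact le_normalizer_sup_of_le (hT'M.trans (le_normalizer_piCoreOf _ M))
          (hc.trans (Subgroup.centralizer_le_normalizer _))
    refine dvd_trans ?_ (Subgroup.card_dvd_of_le hle)
    rw [hT', Subgroup.card_subtype, T.card_eq_multiplicity]
    exact Nat.pow_dvd_pow r ((hr.pow_dvd_iff_le_factorization Nat.card_pos.ne').1 hk)
  exact inf_eq_left.1 (Subgroup.eq_of_le_of_card_ge inf_le_left (Nat.le_of_dvd Nat.card_pos hdvd))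

/-- `M_σ A` is normal in `M`. -/
theorem le_normalizer_sup (h : Exc p M A A₀) :
    M ≤ Subgroup.normalizer ((Cfsg.sigmaCore M ⊔ A : Subgroup G) : Set G) := by
  intro m hm
  obtain ⟨d, hd, n, hn, rfl⟩ := h.decomp hm
  exact mul_mem (h.pPrimeCore_le_normalizer hd)
    ((le_normalizer_sup_of_le (inf_le_left.trans (le_normalizer_piCoreOf _ M)) inf_le_right) hn)

/-- Another maximal subgroup containing `A` meets `M_σ` trivially. -/
theorem inf_eq_bot (h : Exc p M A A₀) {L : Subgroup G} (hL : IsCoatom L) (hne : L ≠ M) (hAL : A ≤ L) :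
    Cfsg.sigmaCore M ⊓ L = ⊥ := by
  classical
  haveI := Fact.mk h.hp
  haveI := h.hAe.1
  have hA := h.maxElem
  by_contra hD1
  set D := Cfsg.sigmaCore M ⊓ L with hD
  obtain ⟨q, hq, hqD⟩ := Nat.exists_prime_and_dvd (fun e => hD1 (Subgroup.card_eq_one.1 e))
  have hqσ : q ∈ Cfsg.sigma M := isPi_piCoreOf _ M q hq (hqD.trans (Subgroup.card_dvd_of_le inf_le_left))
  have hqp := h.ne_sigma hqσ
  haveI := Fact.mk hq
  have hAD : A ≤ Subgroup.normalizer (D : Set G) :=
    le_normalizer_inf_of_le (h.hAM.trans (le_normalizer_piCoreOf _ M)) (hAL.trans Subgroup.le_normalizer)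
  obtain ⟨X₀, hX₀⟩ := exists_invariant_sylow (p := q) hAD (by
    rw [hA.card]
    refine (h.hp.coprime_iff_not_dvd.2 fun hd => h.hσ ?_).pow_left 2
    exact isPi_piCoreOf _ M p h.hp (hd.trans (Subgroup.card_dvd_of_le inf_le_left)))
    (Or.inl (isSolvable_of_isMulCommutative A))
  set X := (X₀ : Subgroup D).map D.subtype with hX
  have hXD : X ≤ D := Subgroup.map_subtype_le _
  have hX1 : X ≠ ⊥ := fun e => X₀.ne_bot_of_dvd_card hqD
    ((Subgroup.map_eq_bot_iff_of_injective _ D.subtype_injective).1 e)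
  have hXσ : X ≤ Cfsg.sigmaCore M := hXD.trans inf_le_left
  have hmoved : ¬ A ≤ Subgroup.centralizer (X : Set G) := fun hle => hX1 (le_bot_iff.1
    (h.sigmaCore_inf_centralizer ▸ le_inf hXσ (Subgroup.le_centralizer_iff.1 hle)))
  have hXL : X ≤ L := hXD.trans inf_le_right
  have hXq : IsPGroup q X := X₀.2.map _
  have hqσL : q ∈ Cfsg.sigma L := by
    by_contra hqσL
    by_cases hpσ : p ∈ Cfsg.sigma L
    · refine hmoved (centralizes_of_le_derived h.hG hL h.hp hq hqp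
        (fun hb => hqσL (beta_subset_sigma h.hG hL hb)) hA.isPGroup ?_ hXq hXL hX₀)
      intro b hb
      obtain ⟨P₁, hP₁⟩ := (hA.isPGroup.comap_of_injective L.subtype L.subtype_injective :
        IsPGroup p (A.subgroupOf L)).exists_le_sylow
      rw [← CfsgLib.BG.map_commutator_subtype]
      exact ⟨⟨b, hAL hb⟩, sylow_le_commutator h.hG hL hpσ P₁.2 (hP₁ hb), rfl⟩
    · obtain ⟨L₀, hL₀⟩ := exists_exc h.hG hL h.hp hpσ hAL h.hAe h.hA2
      exact hmoved (hL₀.centralizes hq hqp hqσL hXL hXq hX₀)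
  obtain ⟨S, hXS, hSM, hAS, -⟩ := hA.exists_sylow_ge h.hG h.hM h.hAM hq hqσ hqp (hXσ.trans (piCoreOf_le _ M)) hXq hX₀
  obtain ⟨T, hXT, hTL, hAT, -⟩ := hA.exists_sylow_ge h.hG hL hAL hq hqσL hqp hXL hXq hX₀
  obtain ⟨k, hk, hkS⟩ := hA.meet_conj h.hG hq hqp (sylow_mem_maxInv T hAT) (sylow_mem_maxInv S hAS) hL.1 hAL
    (fun e => hX1 (le_bot_iff.1 ((le_inf hXL hXT).trans e.le)))
    (fun e => hX1 (le_bot_iff.1 ((le_inf hXL hXS).trans e.le)))
  have hkL : k ∈ L := by
    by_cases hpσ : p ∈ Cfsg.sigma L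
    · by_cases hnu : ∀ B : Subgroup G, B ≤ A → Nat.card B = p →
          ∃ L' : Subgroup G, IsCoatom L' ∧ Subgroup.normalizer (B : Set G) ≤ L' ∧ L' ≠ L
      · exact AllNonUnique.centralizer_le ⟨h.hG, hL, h.hp, hAL, h.hAe, h.hA2, hnu⟩ hk
      · push Not at hnu
        obtain ⟨B, hB, hBc, hBL⟩ := hnu
        have hbot : B ≠ ⊥ := fun e => h.hp.ne_one (by rw [← hBc, e, Subgroup.card_bot])
        obtain ⟨L', hL', hNL'⟩ := (eq_top_or_exists_le_coatom _).resolve_left
          (normalizer_ne_top h.hG hbot fun e => hL.1 (top_unique (e.ge.trans (hB.trans hAL))))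
        exact (hBL L' hL' hNL') ▸ hNL' (Subgroup.centralizer_le_normalizer _
          (Subgroup.centralizer_le (SetLike.coe_subset_coe.2 hB) hk))
    · obtain ⟨L₀, hL₀⟩ := exists_exc h.hG hL h.hp hpσ hAL h.hAe h.hA2
      exact hL₀.centralizer_le hk
  have hSL : (S : Subgroup G) ≤ L := hkS.le.trans ((Subgroup.map_mono hTL).trans (smul_eq_self hkL).le)
  have hMN : M ≤ Subgroup.normalizer ((S : Subgroup G) : Set G) := h.sylow_normal hqσ S hSM
  have hNS := sylow_normalizer_le hqσL (S.subtype hSL)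
  rw [Sylow.coe_subtype, Subgroup.map_subgroupOf_eq_of_le hSL] at hNS
  exact hne (((h.hM.le_iff).1 (hMN.trans hNS)).resolve_left hL.1)

end Exc

end CfsgLib.OddLocal

namespace CfsgLib.OddLocal

open CfsgLib.Coprime

universe u

variable {G : Type u} [Group G] [Finite G] {p : ℕ} {M A A₀ : Subgroup G}

/-- Every Sylow subgroup of `M` contains an exceptional pair. -/
theorem Exc.exists_in_sylow (h : Exc p M A A₀) [Fact p.Prime] (P : Sylow p M) :
    ∃ B B₀ : Subgroup G, B ≤ (P : Subgroup M).map M.subtype ∧ Exc p M B B₀ := by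
  obtain ⟨Q, hQ⟩ := (h.maxElem.isPGroup.comap_of_injective M.subtype M.subtype_injective :
    IsPGroup p (A.subgroupOf M)).exists_le_sylow
  obtain ⟨m, hm⟩ := MulAction.exists_smul_eq M Q P
  have hmax := h.maxElem.conj (m : G)
  refine ⟨MulAut.conj (m : G) • A, ?_⟩
  have hle : MulAut.conj (m : G) • A ≤ (P : Subgroup M).map M.subtype := by
    rintro _ ⟨a, ha, rfl⟩
    refine ⟨m * ⟨a, h.hAM ha⟩ * m⁻¹, ?_, rfl⟩
    rw [← hm]
    show m * ⟨a, h.hAM ha⟩ * m⁻¹ ∈ ((m • Q : Sylow p M) : Subgroup M)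
    rw [Sylow.coe_subgroup_smul]
    exact ⟨⟨a, h.hAM ha⟩, hQ ha, rfl⟩
  obtain ⟨B₀, hB₀⟩ := exists_exc h.hG h.hM h.hp h.hσ (hle.trans (Subgroup.map_subtype_le _)) hmax.elem hmax.card
  exact ⟨B₀, hle, hB₀⟩

end CfsgLib.OddLocal

namespace CfsgLib.OddLocal

open CfsgLib.BG.FixedLine (conj_mem_of_le_normalizer mem_normalizer_of_conj)
open CfsgLib.Coprime

universe u

variable {G : Type u} [Group G] [Finite G] {p : ℕ} {M A A₀ E : Subgroup G}

/-- `A` is normal in a complement containing it. -/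
theorem Exc.compl_le_normalizer (h : Exc p M A A₀) (hE : Cfsg.IsComplIn E (Cfsg.sigmaCore M) M) (hAE : A ≤ E) :
    E ≤ Subgroup.normalizer (A : Set G) := fun e he => mem_normalizer_of_conj fun a ha => by
  have h1 : e * a * e⁻¹ ∈ Cfsg.sigmaCore M ⊔ A :=
    conj_mem_of_le_normalizer (h.le_normalizer_sup (hE.1 he)) a (Subgroup.mem_sup_right ha)
  rw [← SetLike.mem_coe, Subgroup.coe_mul_of_right_le_normalizer_left (Cfsg.sigmaCore M) A
    (h.hAM.trans (le_normalizer_piCoreOf _ M)), Set.mem_mul] at h1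
  obtain ⟨b, hb, a', ha', heq⟩ := h1
  have hb' : b ∈ E ⊓ Cfsg.sigmaCore M := ⟨by
    rw [show b = e * a * e⁻¹ * a'⁻¹ by rw [← heq]; group]
    exact E.mul_mem (E.mul_mem (E.mul_mem he (hAE ha)) (E.inv_mem he)) (E.inv_mem (hAE ha')), hb⟩
  rw [hE.2.2.1, Subgroup.mem_bot] at hb'
  rw [← heq, hb', one_mul]; exact ha'

/-- `Ω₁` of a complement at `p` is `A`. -/
theorem Exc.mem_of_compl (h : Exc p M A A₀) (hE : Cfsg.IsComplIn E (Cfsg.sigmaCore M) M) (hAE : A ≤ E) {x : G}
    (hx : x ∈ E) (hxp : x ^ p = 1) : x ∈ A := by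
  haveI := Fact.mk h.hp
  set Z := Subgroup.zpowers x
  have hZ : IsPGroup p Z := fun z => ⟨1, Subtype.ext (by
    obtain ⟨i, hi⟩ := Subgroup.mem_zpowers_iff.1 z.2
    rw [SubmonoidClass.coe_pow, pow_one, ← hi, ← zpow_natCast, ← zpow_mul, mul_comm, zpow_mul, zpow_natCast, hxp,
      one_zpow]; rfl)⟩
  have hle : Z ≤ E := Subgroup.zpowers_le.2 hx
  have hW : IsPGroup p ↥(Z ⊔ A) :=
    hZ.to_sup_of_normal_right' h.maxElem.isPGroup (hle.trans (h.compl_le_normalizer hE hAE))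
  obtain ⟨P, hP⟩ := (hW.comap_of_injective M.subtype M.subtype_injective :
    IsPGroup p ((Z ⊔ A).subgroupOf M)).exists_le_sylow
  have hle' : Z ⊔ A ≤ (P : Subgroup M).map M.subtype :=
    (Subgroup.map_subgroupOf_eq_of_le (sup_le (hle.trans hE.1) h.hAM)).ge.trans (Subgroup.map_mono hP)
  exact (h.le_sylow_mem P (le_sup_right.trans hle') (hle' (Subgroup.mem_sup_left (Subgroup.mem_zpowers x)))).1 hxp

/-- `N_M(A) = E`. -/
theorem Exc.inf_normalizer_eq (h : Exc p M A A₀) (hE : Cfsg.IsComplIn E (Cfsg.sigmaCore M) M) (hAE : A ≤ E) :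
    M ⊓ Subgroup.normalizer (A : Set G) = E := by
  refine le_antisymm (fun m hm => ?_) (le_inf hE.1 (h.compl_le_normalizer hE hAE))
  obtain ⟨e, he, b, hb, rfl⟩ := hE.2.2.2 m hm.1
  have hbN : b ∈ Subgroup.normalizer (A : Set G) := by
    have := mul_mem (inv_mem (h.compl_le_normalizer hE hAE he)) hm.2
    rwa [inv_mul_cancel_left] at this
  have hbC : b ∈ Subgroup.centralizer (A : Set G) := fun a ha => by
    have h1 : b * a * b⁻¹ * a⁻¹ ∈ E ⊓ Cfsg.sigmaCore M := ⟨E.mul_mem (hAE (conj_mem_of_le_normalizer hbN a ha))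
      (E.inv_mem (hAE ha)), by
      rw [show b * a * b⁻¹ * a⁻¹ = b * (a * b⁻¹ * a⁻¹) by group]
      exact (Cfsg.sigmaCore M).mul_mem hb (conj_mem_of_le_normalizer (le_normalizer_piCoreOf _ M (h.hAM ha)) _
        ((Cfsg.sigmaCore M).inv_mem hb))⟩
    rw [hE.2.2.1, Subgroup.mem_bot, mul_inv_eq_one, mul_inv_eq_iff_eq_mul] at h1
    exact h1.symm
  have hb1 : b ∈ Cfsg.sigmaCore M ⊓ Subgroup.centralizer (A : Set G) := ⟨hb, hbC⟩
  rw [h.sigmaCore_inf_centralizer, Subgroup.mem_bot] at hb1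
  rw [hb1, mul_one]; exact he

/-- A line with nontrivial fixed points on `M_σ` has `M` as only maximal overgroup of its centralizer. -/
theorem Exc.centralizer_uniq (h : Exc p M A A₀) {X : Subgroup G} (hXA : X ≤ A) (hX1 : X ≠ ⊥)
    (hX : Cfsg.sigmaCore M ⊓ Subgroup.centralizer (X : Set G) ≠ ⊥) :
    Subgroup.centralizer (X : Set G) ≤ M ∧
      ∀ L : Subgroup G, IsCoatom L → Subgroup.centralizer (X : Set G) ≤ L → L = M := by
  have huniq : ∀ L : Subgroup G, IsCoatom L → Subgroup.centralizer (X : Set G) ≤ L → L = M := fun L hL hCL => by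
    by_contra hne
    refine hX (le_bot_iff.1 ?_)
    rw [← h.inf_eq_bot hL hne ((fun a ha => hCL fun x hx => h.maxElem.comm (hXA hx) ha) : A ≤ L)]
    exact inf_le_inf_left _ hCL
  obtain ⟨L, hL, hCL⟩ := (eq_top_or_exists_le_coatom _).resolve_left (centralizer_ne_top h.hG hX1)
  exact ⟨huniq L hL hCL ▸ hCL, huniq⟩

end CfsgLib.OddLocal
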