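import Cfsg.Agent.Lib.OddLocal.FittingChain
import Cfsg.Agent.Lib.OddLocal.FrobeniusType
import Cfsg.Agent.S1417

/-!
BG 15.1 / 16: a subgroup of `U` of full exponent acting freely on `M_σ`.
-/

set_option autoImplicit false
set_option linter.style.haveILetI false
set_option linter.unusedSectionVars false

open scoped Pointwise

namespace CfsgLib.OddLocal

open CfsgLib.Coprime
open CfsgLib.BG.FixedLine (conj_mem_of_le_normalizer mem_normalizer_of_conj)

universe u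

variable {G : Type u} [Group G] [Finite G] {p q r : ℕ} {M E U K X : Subgroup G}

/-- A primary element of `U` of largest order, with a line without fixed points on `M_σ`. -/
theorem exists_max_free (hG : Cfsg.IsMinSimpleOddOrder G) (hM : IsCoatom M)
    (hKU : Cfsg.IsSigmaDecomposition M K U) (hK1 : K ≠ ⊥) (hr : r.Prime) (hd : r ∣ Nat.card U) :
    ∃ y ∈ U, ∃ e : ℕ, orderOf y = r ^ (e + 1) ∧ (∀ w ∈ U, (∃ k, w ^ r ^ k = 1) → w ^ r ^ (e + 1) = 1) ∧
      Cfsg.sigmaCore M ⊓ Subgroup.centralizer ({y ^ r ^ e} : Set G) = ⊥ := by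
  classical
  haveI := Fact.mk hr
  have h := kappaData_of_decomposition hG hM hKU hK1
  haveI := h.comm
  haveI := isSolvable_of_ne_top hG hM.1
  obtain ⟨-, hrκ, hrσ⟩ := h.hallU.2.1 r hr hd
  have hrM : r ∣ Nat.card M := hd.trans (Subgroup.card_dvd_of_le h.hallU.1)
  have hUM : U ≤ M := h.hallU.1
  -- a Sylow subgroup of `M` inside `U`
  obtain ⟨P, hPU⟩ : ∃ P : Sylow r M, (P : Subgroup M).map M.subtype ≤ U := by
    obtain ⟨S⟩ : Nonempty (Sylow r M) := inferInstance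
    obtain ⟨m, hm, hmU⟩ := exists_conj_le_hallOf h.hallU (Subgroup.map_subtype_le (S : Subgroup M))
      (fun t ht htd => by
        obtain ⟨n, hn⟩ := (S.2.map M.subtype).exists_card_eq
        rw [hn] at htd
        have := (Nat.prime_dvd_prime_iff_eq ht hr).1 (ht.dvd_of_dvd_pow htd)
        exact ⟨ht, this ▸ hrκ, this ▸ hrσ⟩)
    refine ⟨(⟨m, hm⟩ : M) • S, fun x hx => ?_⟩
    obtain ⟨v, hv, rfl⟩ := hx
    rw [Sylow.coe_subgroup_smul] at hv
    obtain ⟨v', hv', rfl⟩ := hv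
    exact hmU (conj_mem_conj_smul (g := m) (Subgroup.mem_map_of_mem M.subtype hv'))
  set T := (P : Subgroup M).map M.subtype with hT
  have hTM : T ≤ M := Subgroup.map_subtype_le _
  have hTp : IsPGroup r T := P.2.map M.subtype
  have hTall : ∀ w ∈ U, (∃ k, w ^ r ^ k = 1) → w ∈ T := by
    intro w hw ⟨k, hk⟩
    set W := (Subgroup.zpowers w).subgroupOf M
    have hle : T ≤ Subgroup.centralizer ((Subgroup.zpowers w : Subgroup G) : Set G) := fun v hv z hz =>
      congrArg Subtype.val (mul_comm' (⟨z, Subgroup.zpowers_le.2 hw hz⟩ : U) ⟨v, hPU hv⟩)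
    have hn : W ≤ Subgroup.normalizer ((P : Subgroup M) : Set M) := fun c hc =>
      Subgroup.centralizer_le_normalizer _ fun v hv => Subtype.ext
        (hle (Subgroup.mem_map_of_mem M.subtype hv) _ hc).symm
    have hWp : IsPGroup r W := (isPGroup_zpowers hk).of_equiv
      (Subgroup.subgroupOfEquivOfLe (Subgroup.zpowers_le.2 (hUM hw))).symm
    have heq := P.is_maximal' (IsPGroup.to_sup_of_normal_left' P.2 hWp hn) le_sup_left
    exact ⟨⟨w, hUM hw⟩, heq.le (Subgroup.mem_sup_right (Subgroup.mem_zpowers w)), rfl⟩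
  have hUc : ∀ a ∈ U, ∀ b ∈ U, a * b = b * a := fun a ha b hb => by
    have e := congrArg Subtype.val (mul_comm' (⟨a, ha⟩ : U) ⟨b, hb⟩)
    exact e
  haveI hTc : IsMulCommutative T := ⟨⟨fun a b => Subtype.ext (hUc _ (hPU a.2) _ (hPU b.2))⟩⟩
  letI : CommGroup T := { (inferInstance : Group T) with mul_comm := mul_comm' }
  obtain ⟨y₁, hy₁⟩ := Monoid.exists_orderOf_eq_exponent (Monoid.ExponentExists.of_finite (G := T))
  obtain ⟨n, hn⟩ := IsPGroup.iff_orderOf.mp hTp y₁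
  have hexp : ∀ v : T, v ^ r ^ n = 1 := fun v => by
    rw [← hn, hy₁]; exact Monoid.pow_exponent_eq_one v
  have hT1 : T ≠ ⊥ := by
    obtain ⟨b, hb, hbo⟩ := exists_order_of_dvd hr hd
    intro e
    have := hTall b hb ⟨1, by rw [pow_one, ← hbo, pow_orderOf_eq_one]⟩
    rw [e, Subgroup.mem_bot] at this
    rw [this, orderOf_one] at hbo
    exact hr.ne_one hbo.symm
  obtain ⟨e, rfl⟩ : ∃ e, n = e + 1 := by
    refine Nat.exists_eq_succ_of_ne_zero fun h0 => hT1 ((Subgroup.eq_bot_iff_forall _).2 fun v hv => ?_)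
    simpa [h0] using congrArg Subtype.val (hexp ⟨v, hv⟩)
  have hlift : ∀ {v : T}, v ^ r ^ e ≠ 1 → orderOf (v : G) = r ^ (e + 1) := fun {v} hv => by
    rw [Subgroup.orderOf_coe]; exact orderOf_eq_prime_pow hv (hexp v)
  have hmax : ∀ w ∈ U, (∃ k, w ^ r ^ k = 1) → w ^ r ^ (e + 1) = 1 := fun w hw hk => by
    simpa using congrArg Subtype.val (hexp ⟨w, hTall w hw hk⟩)
  set f := (powMonoidHom (r ^ e) : T →* T) with hf
  set R := f.range.map T.subtype with hR
  have hmemR : ∀ {x : G}, x ∈ R → ∃ v : T, ((v ^ r ^ e : T) : G) = x := by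
    rintro x ⟨x', ⟨v, rfl⟩, rfl⟩
    exact ⟨v, rfl⟩
  have hRU : R ≤ U := (Subgroup.map_subtype_le _).trans hPU
  have hy1 : y₁ ^ r ^ e ≠ 1 := fun e' => by
    have := orderOf_dvd_of_pow_eq_one e'
    rw [hn, Nat.pow_dvd_pow_iff_le_right hr.one_lt] at this
    omega
  have hzR : ((y₁ ^ r ^ e : T) : G) ∈ R := ⟨_, ⟨y₁, rfl⟩, rfl⟩
  have hRe : Cfsg.IsElementaryAbelian r R :=
    ⟨⟨⟨fun a b => Subtype.ext (hUc _ (hRU a.2) _ (hRU b.2))⟩⟩, fun a ha => by
      obtain ⟨v, rfl⟩ := hmemR ha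
      rw [← SubmonoidClass.coe_pow, ← pow_mul, ← pow_succ, hexp]; rfl⟩
  have hRp : IsPGroup r R := fun a => ⟨1, Subtype.ext (by rw [pow_one]; exact hRe.2 a a.2)⟩
  have hne : ∀ v : T, ((v ^ r ^ e : T) : G) ≠ 1 → v ^ r ^ e ≠ 1 := fun v hv e' => hv (by rw [e']; rfl)
  have finish : ∀ z ∈ R, z ≠ 1 → Cfsg.sigmaCore M ⊓ Subgroup.centralizer ({z} : Set G) = ⊥ →
      ∃ y ∈ U, ∃ e : ℕ, orderOf y = r ^ (e + 1) ∧ (∀ w ∈ U, (∃ k, w ^ r ^ k = 1) → w ^ r ^ (e + 1) = 1) ∧
        Cfsg.sigmaCore M ⊓ Subgroup.centralizer ({y ^ r ^ e} : Set G) = ⊥ := fun z hz hz1 hzf => by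
    obtain ⟨v, rfl⟩ := hmemR hz
    exact ⟨v, hPU v.2, e, hlift (hne v hz1), hmax, by simpa using hzf⟩
  have hz1 : ((y₁ ^ r ^ e : T) : G) ≠ 1 := fun e' => hy1 (Subtype.ext e')
  set z := ((y₁ ^ r ^ e : T) : G) with hz
  have hzo : orderOf z = r := orderOf_eq_prime (hRe.2 z hzR) hz1
  by_cases hcard : Nat.card R = r
  · refine finish z hzR hz1 (by_contra fun hfix => ?_)
    have hZ : Subgroup.zpowers z = R := Subgroup.eq_of_le_of_card_ge (Subgroup.zpowers_le.2 hzR)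
      (by rw [hcard, Nat.card_zpowers, hzo])
    obtain ⟨g, hg, hgM⟩ : ∃ g ∈ Subgroup.normalizer (T : Set G), g ∉ M :=
      SetLike.not_le_iff_exists.1 fun hle => hrσ ⟨hr, hrM, P, hle⟩
    have hfix' : Cfsg.sigmaCore M ⊓ Subgroup.centralizer (R : Set G) ≠ ⊥ := by
      rwa [← hZ, centralizer_zpowers_eq]
    have hR1 : R ≠ ⊥ := fun e' => hr.ne_one (by rw [← hcard, e', Subgroup.card_bot])
    obtain ⟨hle, huniq⟩ := centralizer_uniq_of_fixed hG hM hKU hRU hR1 hfix'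
    have hgR : g ∈ Subgroup.normalizer (R : Set G) := mem_normalizer_of_conj fun x hx => by
      obtain ⟨v, rfl⟩ := hmemR hx
      exact ⟨_, ⟨⟨g * v * g⁻¹, conj_mem_of_le_normalizer hg _ v.2⟩, rfl⟩, by simp [hf, conj_pow]⟩
    refine hgM ((conj_smul_self_iff hG hM).1 (huniq _ (((MulAut.conj g).mapSubgroup).isCoatom_iff _ |>.2 hM) fun x hx => ?_))
    rw [mem_conj_smul_iff]
    refine hle ?_
    have := conj_mem_of_le_normalizer ((le_normalizer_centralizer (A := Subgroup.normalizer (R : Set G))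
      (H := R) le_rfl) (inv_mem hgR)) x hx
    rwa [inv_inv] at this
  · haveI := hRe.1
    have h2 : Cfsg.PRankLE r 2 M := prankLE_two_of_not_sigma hG hM hr hrσ
    have hRM : R ≤ M := hRU.trans hUM
    have hle2 : Nat.card R ≤ r ^ 2 := by
      have := h2 (R.subgroupOf M) ⟨⟨fun a b => Subtype.ext (Subtype.ext
        (hUc _ (hRU a.2) _ (hRU b.2)))⟩⟩
        fun a ha => Subtype.ext (by simpa using hRe.2 (a : G) ha)
      rwa [Nat.card_congr (Subgroup.subgroupOfEquivOfLe hRM).toEquiv] at this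
    obtain ⟨i, hi⟩ := hRp.exists_card_eq
    have hi2 : i ≤ 2 := (Nat.pow_le_pow_iff_right hr.one_lt).1 (hi ▸ hle2)
    obtain rfl : i = 2 := by
      interval_cases i
      · rw [pow_zero] at hi
        exact absurd (Subgroup.mem_bot.1 ((Subgroup.card_eq_one.1 hi) ▸ hzR)) hz1
      · exact absurd (hi.trans (pow_one r)) hcard
      · rfl
    have hnot1 : ¬ Cfsg.PRankLE r 1 M := fun h1 => by
      haveI := cyclic_of_prankLE_one hG hr h1 hRp hRM
      have hsub : R ≤ Subgroup.zpowers z := fun x hx =>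
        mem_line_of_cyclic hr inferInstance (Subgroup.zpowers_le.2 hzR) (by rw [Nat.card_zpowers, hzo]) hx (hRe.2 x hx)
      have := Nat.le_of_dvd Nat.card_pos (Subgroup.card_dvd_of_le hsub)
      rw [hi, Nat.card_zpowers, hzo, sq] at this
      exact absurd this (not_le.2 (lt_mul_of_one_lt_left hr.pos hr.one_lt))
    obtain ⟨-, -, -, -, -, A₁, hA₁, hA₁c, hA₁f⟩ :=
      Cfsg.Agent.S1417.result hG M hM r ⟨hr, hrσ, h2, hnot1⟩ R ⟨hRM, hRe, hi⟩
    obtain ⟨l, hl, hl1⟩ : ∃ l ∈ A₁, l ≠ 1 := by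
      obtain ⟨l, hl, hlo⟩ := exists_order_of_dvd hr (dvd_of_eq hA₁c.symm)
      exact ⟨l, hl, fun e' => hr.ne_one (by rw [← hlo, e', orderOf_one])⟩
    have hA₁e : Subgroup.zpowers l = A₁ := Subgroup.eq_of_le_of_card_ge (Subgroup.zpowers_le.2 hl)
      (by rw [hA₁c, Nat.card_zpowers, orderOf_eq_prime (hRe.2 l (hA₁ hl)) hl1])
    refine finish l (hA₁ hl) hl1 ?_
    rw [← centralizer_zpowers_eq, hA₁e]
    exact hA₁f

/-- A cyclic subgroup of `U` of full exponent without fixed points on `M_σ`. -/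
theorem exists_free_exponent_abelian (hG : Cfsg.IsMinSimpleOddOrder G) (hM : IsCoatom M)
    (hKU : Cfsg.IsSigmaDecomposition M K U) (hK1 : K ≠ ⊥) :
    ∃ U₀ : Subgroup G, U₀ ≤ U ∧ Monoid.exponent U₀ = Monoid.exponent U ∧
      ∀ u ∈ U₀, u ∈ Cfsg.sigmaHat M → u = 1 := by
  classical
  have h := kappaData_of_decomposition hG hM hKU hK1
  haveI := h.comm
  have hchoose : ∀ t : ℕ, ∃ y ∈ U, t.Prime → t ∣ Nat.card U → ∃ e : ℕ, orderOf y = t ^ (e + 1) ∧
      (∀ w ∈ U, (∃ k, w ^ t ^ k = 1) → w ^ t ^ (e + 1) = 1) ∧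
      Cfsg.sigmaCore M ⊓ Subgroup.centralizer ({y ^ t ^ e} : Set G) = ⊥ := fun t => by
    by_cases ht : t.Prime ∧ t ∣ Nat.card U
    · obtain ⟨y, hy, h'⟩ := exists_max_free hG hM hKU hK1 ht.1 ht.2
      exact ⟨y, hy, fun _ _ => h'⟩
    · exact ⟨1, one_mem _, fun a b => absurd ⟨a, b⟩ ht⟩
  choose y hyU hy using hchoose
  have key : ∀ s : Finset ℕ, (∀ t ∈ s, t.Prime ∧ t ∣ Nat.card U) → ∃ x ∈ U,
      (∀ t ∈ s, y t ∈ Subgroup.zpowers x) ∧ ∀ t : ℕ, t.Prime → t ∣ orderOf x → t ∈ s := by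
    intro s
    induction s using Finset.induction_on with
    | empty =>
      intro _
      exact ⟨1, one_mem _, by simp, fun t ht htd => absurd (Nat.dvd_one.1 (by rwa [orderOf_one] at htd)) ht.ne_one⟩
    | insert t s hts ih =>
      intro hs
      obtain ⟨x, hxU, hx, hxs⟩ := ih fun t' ht' => hs t' (Finset.mem_insert_of_mem ht')
      obtain ⟨ht, htd⟩ := hs t (Finset.mem_insert_self t s)
      obtain ⟨e, he, -, -⟩ := hy t ht htd
      have hc : Commute x (y t) := congrArg Subtype.val (mul_comm' (⟨x, hxU⟩ : U) ⟨y t, hyU t⟩)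
      have hco : (orderOf x).Coprime (orderOf (y t)) := by
        rw [he]
        exact (Nat.Coprime.pow_right _ ((ht.coprime_iff_not_dvd.2 fun hd' => hts (hxs t ht hd')).symm))
      refine ⟨x * y t, mul_mem hxU (hyU t), fun t' ht' => ?_, fun t' ht' hd' => ?_⟩
      · rcases Finset.mem_insert.1 ht' with rfl | ht'
        · rw [hc.eq]; exact mem_zpowers_mul_of_coprime hc.symm hco.symm
        · exact Subgroup.zpowers_le.2 (mem_zpowers_mul_of_coprime hc hco) (hx t' ht')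
      · rw [hc.orderOf_mul_eq_mul_orderOf_of_coprime hco] at hd'
        rcases ht'.dvd_mul.1 hd' with h1 | h1
        · exact Finset.mem_insert_of_mem (hxs t' ht' h1)
        · rw [he] at h1
          exact Finset.mem_insert.2 (Or.inl ((Nat.prime_dvd_prime_iff_eq ht' ht).1 (ht'.dvd_of_dvd_pow h1)))
  obtain ⟨x, hxU, hx, -⟩ := key (Nat.card U).primeFactors fun t ht =>
    ⟨Nat.prime_of_mem_primeFactors ht, Nat.dvd_of_mem_primeFactors ht⟩
  have hmem : ∀ {t : ℕ}, t.Prime → t ∣ Nat.card U → y t ∈ Subgroup.zpowers x := fun ht htd =>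
    hx _ (Nat.mem_primeFactors.2 ⟨ht, htd, Nat.card_pos.ne'⟩)
  refine ⟨Subgroup.zpowers x, Subgroup.zpowers_le.2 hxU, ?_, fun u hu ⟨_, w, hw, hw1, hwu⟩ => ?_⟩
  · refine Nat.dvd_antisymm (Monoid.exponent_dvd_of_forall_pow_eq_one fun v => Subtype.ext ?_)
      (Monoid.exponent_dvd_of_forall_pow_eq_one fun v => orderOf_dvd_iff_pow_eq_one.1 ?_)
    · have h0 := congrArg Subtype.val (Monoid.pow_exponent_eq_one (⟨v, Subgroup.zpowers_le.2 hxU v.2⟩ : U))
      simpa only [SubmonoidClass.coe_pow, OneMemClass.coe_one] using h0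
    rw [IsCyclic.exponent_eq_card, ← Subgroup.orderOf_coe]
    refine (Nat.dvd_iff_prime_pow_dvd_dvd _ _).2 fun t k ht hk => ?_
    rcases Nat.eq_zero_or_pos k with rfl | hk0
    · simp
    have htU : t ∣ Nat.card U := ((dvd_pow_self t hk0.ne').trans hk).trans (Subgroup.orderOf_dvd_natCard U v.2)
    obtain ⟨e, he, hmax, -⟩ := hy t ht htU
    set v' := (v : G) ^ (orderOf (v : G) / t ^ k)
    have hv'o : orderOf v' = t ^ k := by
      rw [orderOf_pow_of_dvd (Nat.div_pos (Nat.le_of_dvd (orderOf_pos _) hk) (pow_pos ht.pos k)).ne'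
        (Nat.div_dvd_of_dvd hk), Nat.div_div_self hk (orderOf_pos _).ne']
    have h1 := hmax v' (U.pow_mem v.2 _) ⟨k, by rw [← hv'o, pow_orderOf_eq_one]⟩
    rw [← hv'o]
    exact (orderOf_dvd_of_pow_eq_one h1).trans (he ▸ Subgroup.orderOf_dvd_natCard _ (hmem ht htU))
  · by_contra hu1
    obtain ⟨t, ht, htd⟩ := Nat.exists_prime_and_dvd (n := orderOf u) (fun e => hu1 (orderOf_eq_one_iff.1 e))
    have htU : t ∣ Nat.card U :=
      htd.trans (Subgroup.orderOf_dvd_natCard U (Subgroup.zpowers_le.2 hxU hu))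
    obtain ⟨e, he, -, hf⟩ := hy t ht htU
    set z := y t ^ t ^ e with hz
    have hzo : orderOf z = t := by
      rw [hz, orderOf_pow_of_dvd (pow_ne_zero _ ht.ne_zero) (he ▸ pow_dvd_pow t e.le_succ), he, pow_succ,
        Nat.mul_div_cancel_left _ (pow_pos ht.pos e)]
    have hbo := pow_quot_order ht htd
    have hzmem : z ∈ Subgroup.zpowers (u ^ (orderOf u / t)) :=
      mem_line_of_cyclic ht inferInstance (U := Subgroup.zpowers x)
        (Subgroup.zpowers_le.2 (Subgroup.pow_mem _ hu _)) (by rw [Nat.card_zpowers, hbo])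
        (Subgroup.pow_mem _ (hmem ht htU) _) (hzo ▸ pow_orderOf_eq_one z)
    obtain ⟨i, hi⟩ := Subgroup.mem_zpowers_iff.1 hzmem
    refine hw1 (Subgroup.mem_bot.1 (hf.le ⟨hw, mem_centralizer_singleton_of_commute ?_⟩))
    show Commute _ w
    rw [← hi]
    exact ((show Commute u w from hwu).pow_left _).zpow_left i

end CfsgLib.OddLocal

namespace CfsgLib.OddLocal

open CfsgLib.Coprime

universe u

variable {G : Type u} [Group G] [Finite G] {M U K : Subgroup G}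

/-- With `κ(M)` empty the hypothesis of the criterion for Frobenius type holds. -/
theorem frobenius_hreg (hG : Cfsg.IsMinSimpleOddOrder G) (hM : IsCoatom M)
    (hκ : ∀ l : ℕ, l ∉ Cfsg.kappa M) {E : Subgroup G} (hE : E ≤ M) :
    ∀ e ∈ E, e ≠ 1 → (∀ p : ℕ, p.Prime → p ∣ orderOf e → p ∈ Cfsg.tau1 M ∪ Cfsg.tau3 M) →
      Cfsg.sigmaCore M ⊓ Subgroup.centralizer ({e} : Set G) = ⊥ := by
  intro e he he1 h13
  obtain ⟨t, ht, htd⟩ := Nat.exists_prime_and_dvd (n := orderOf e) (fun h => he1 (orderOf_eq_one_iff.1 h))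
  have ht' : t ∉ Cfsg.sigma M ∧ Cfsg.PRankLE t 1 M := by
    rcases h13 t ht htd with h | h
    · exact ⟨h.2.1, h.2.2.2.2⟩
    · exact ⟨h.2.1, h.2.2.2⟩
  refine (Subgroup.eq_bot_iff_forall _).2 fun w hw => by_contra fun hw1 => hκ t ?_
  exact mem_kappa_of_line hG hM ht ht'.1 ht'.2 (M.pow_mem (hE he) _) (pow_quot_order ht htd) hw.1 hw1
    ((show Commute w e from Subgroup.mem_centralizer_singleton_iff.1 hw.2).symm.pow_left _)

theorem kappa_empty_of_bot (hG : Cfsg.IsMinSimpleOddOrder G) (hM : IsCoatom M)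
    (hKU : Cfsg.IsSigmaDecomposition M (⊥ : Subgroup G) U) : ∀ l : ℕ, l ∉ Cfsg.kappa M := fun l hl => by
  refine hKU.hall.2.2 l hl.1 hl ?_
  rw [Subgroup.relIndex_bot_left]
  exact hl.2.1

/-- BG 15.1: a subgroup of `U` of full exponent acting freely. -/
theorem exists_free_exponent (hG : Cfsg.IsMinSimpleOddOrder G) (hM : IsCoatom M)
    (hKU : Cfsg.IsSigmaDecomposition M K U) :
    ∃ U₀ : Subgroup G, U₀ ≤ U ∧ Monoid.exponent U₀ = Monoid.exponent U ∧
      ∀ u ∈ U₀, u ∈ Cfsg.sigmaHat M → u = 1 := by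
  by_cases hK1 : K = ⊥
  · subst hK1
    obtain ⟨hE, -⟩ := isCompl_UK hG hM hKU
    rw [sup_bot_eq] at hE
    obtain ⟨-, E₀, hE₀, hexp, hfree⟩ :=
      frobenius_type hG hM hE (frobenius_hreg hG hM (kappa_empty_of_bot hG hM hKU) hE.1)
    refine ⟨E₀, hE₀, hexp, fun u hu hhat => by_contra fun hu1 => ?_⟩
    obtain ⟨-, w, hw, hw1, hwu⟩ := hhat
    exact hw1 (Subgroup.mem_bot.1 ((hfree u hu hu1).le ⟨hw, mem_centralizer_singleton_of_commute hwu⟩))
  · exact exists_free_exponent_abelian hG hM hKU hK1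

end CfsgLib.OddLocal
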