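import Cfsg.Agent.Lib.OddLocal.PLength
import Cfsg.Agent.Lib.OddLocal.Sigma

/-!
BG 10.11: fusion in a Sylow subgroup.
-/

set_option autoImplicit false
set_option linter.style.haveILetI false
set_option linter.unusedSectionVars false

open scoped commutatorElement
open scoped Pointwise

namespace CfsgLib.OddLocal

open CfsgLib.Coprime
open CfsgLib.BG.FixedLine (conj_mem_of_le_normalizer mem_normalizer_of_conj)

universe u

variable {G : Type u} [Group G] [Finite G] {p : ℕ} [hp : Fact p.Prime]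

/-- In a group with `p`-length one, fusion in a Sylow subgroup is controlled by its normalizer. -/
theorem fusion_of_pLengthLE_one {M P : Subgroup G} (hL : Cfsg.PLengthLE p 1 ↥M) (hPM : P ≤ M) (hP : IsPGroup p P)
    (hidx : ¬ p ∣ P.relIndex M) {Q : Subgroup G} (hQP : Q ≤ P) {m : G} (hm : m ∈ M)
    (hmQ : MulAut.conj m • Q ≤ P) :
    ∃ y ∈ Subgroup.normalizer (P : Set G), MulAut.conj m • Q = MulAut.conj y • Q := by
  set P₀ := (hP.of_equiv (Subgroup.subgroupOfEquivOfLe hPM).symm).toSylow hidx with hP₀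
  set O := (Cfsg.pPrimeCore p ↥M).map M.subtype with hO
  haveI hn := (CfsgLib.BG.PLengthOne.iff_sup_normal P₀).1 hL
  haveI := CfsgLib.Transfer.pPrimeCore_normal p ↥M
  have hP₀e : (P₀ : Subgroup M).map M.subtype = P := Subgroup.map_subgroupOf_eq_of_le hPM
  -- `m ∈ O N(P)`
  set N := (P₀ : Subgroup M) ⊔ Cfsg.pPrimeCore p ↥M
  have hle : (P₀ : Subgroup M) ≤ N := le_sup_left
  have hfr : Subgroup.normalizer (((P₀.subtype hle : Sylow p N) : Subgroup N).map N.subtype : Set M) ⊔ N = ⊤ :=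
    Sylow.normalizer_sup_eq_top _
  rw [Sylow.coe_subtype, Subgroup.map_subgroupOf_eq_of_le hle] at hfr
  have hfr' : Cfsg.pPrimeCore p ↥M ⊔ Subgroup.normalizer ((P₀ : Subgroup M) : Set M) = ⊤ := by
    refine eq_top_iff.2 (hfr.ge.trans (sup_le le_sup_right (sup_le ?_ le_sup_left)))
    exact Subgroup.le_normalizer.trans le_sup_right
  have hm' : (⟨m, hm⟩ : M) ∈ ((Cfsg.pPrimeCore p ↥M ⊔ Subgroup.normalizer ((P₀ : Subgroup M) : Set M) : Subgroup M) : Set M) := by
    rw [hfr']; trivial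
  rw [Subgroup.normal_mul, Set.mem_mul] at hm'
  obtain ⟨o, ho, n, hn', hon⟩ := hm'
  have hnP : (n : G) ∈ Subgroup.normalizer (P : Set G) := by
    refine mem_normalizer_of_conj ?_
    rw [← hP₀e]
    rintro _ ⟨w, hw, rfl⟩
    exact ⟨n * w * n⁻¹, (Subgroup.mem_normalizer_iff.1 hn' w).1 hw, rfl⟩
  refine ⟨n, hnP, ?_⟩
  have hmon : m = (o : G) * n := (congrArg Subtype.val hon).symm
  rw [hmon, map_mul, mul_smul]
  -- `o` centralizes `n • Q`
  have hQn : MulAut.conj (n : G) • Q ≤ P := by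
    refine (Subgroup.map_mono hQP).trans ?_
    exact (conj_smul_eq_self_of_mem_normalizer hnP).le
  have hO' : O ⊓ P = ⊥ := inf_eq_bot_of_coprime_card (by
    obtain ⟨k, hk⟩ := hP.exists_card_eq
    rw [hk, hO, Subgroup.card_subtype]
    exact (CfsgLib.Transfer.pPrimeCore_coprime p).pow_right k)
  have hc : ∀ y ∈ MulAut.conj (n : G) • Q, (o : G) * y * (o : G)⁻¹ = y := by
    intro y hy
    have hy' : (o : G) * y * (o : G)⁻¹ ∈ P := by
      refine hmQ ?_
      rw [hmon, map_mul, mul_smul]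
      exact conj_mem_conj_smul hy
    have hyP := hQn hy
    have h1 : (o : G) * y * (o : G)⁻¹ * y⁻¹ ∈ O ⊓ P := by
      refine ⟨⟨o * (⟨y, hPM hyP⟩ * o⁻¹ * (⟨y, hPM hyP⟩ : M)⁻¹), mul_mem ho
        ((CfsgLib.Transfer.pPrimeCore_normal p ↥M).conj_mem _ (inv_mem ho) _), ?_⟩, P.mul_mem hy' (P.inv_mem hyP)⟩
      simp [mul_assoc]
    rw [hO', Subgroup.mem_bot, mul_inv_eq_one] at h1
    exact h1
  refine le_antisymm (fun z hz => ?_) fun y hy => ?_
  · rw [mem_conj_smul_iff] at hz
    have := hc _ hz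
    rw [show z = (o : G) * ((o : G)⁻¹ * z * o) * (o : G)⁻¹ by group, this]
    exact hz
  · have := conj_mem_conj_smul (g := (o : G)) hy
    rwa [hc y hy] at this

variable (hG : Cfsg.IsMinSimpleOddOrder G)

include hG

theorem sylow_ne_top (P : Sylow p G) : (P : Subgroup G) ≠ ⊤ := by
  intro e
  have hP : IsPGroup p G := fun g => by
    obtain ⟨k, hk⟩ := P.2 ⟨g, e ▸ Subgroup.mem_top g⟩
    exact ⟨k, congrArg Subtype.val hk⟩
  haveI := hG.2.1
  haveI : Nontrivial G := IsSimpleGroup.toNontrivial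
  haveI := hP.center_nontrivial
  exact (Subgroup.nontrivial_iff_ne_bot _).1 (inferInstance : Nontrivial (Subgroup.center G)) (center_eq_bot hG)

theorem exists_coatom_sylow_normalizer (P : Sylow p G) (hP1 : (P : Subgroup G) ≠ ⊥) :
    ∃ M : Subgroup G, IsCoatom M ∧ Subgroup.normalizer ((P : Subgroup G) : Set G) ≤ M ∧ p ∈ Cfsg.sigma M := by
  obtain ⟨M, hM, hNM⟩ := (eq_top_or_exists_le_coatom _).resolve_left (normalizer_ne_top hG hP1 (sylow_ne_top hG P))
  have hPM : (P : Subgroup G) ≤ M := Subgroup.le_normalizer.trans hNM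
  refine ⟨M, hM, hNM, hp.out, ?_, P.subtype hPM, by rwa [Sylow.coe_subtype, Subgroup.map_subgroupOf_eq_of_le hPM]⟩
  obtain ⟨k, hk⟩ := P.2.exists_card_eq
  rcases Nat.eq_zero_or_pos k with rfl | hk0
  · exact absurd (Subgroup.card_eq_one.1 (by rw [hk, pow_zero])) hP1
  · exact ((hk ▸ dvd_pow_self p hk0.ne' : p ∣ Nat.card P)).trans (Subgroup.card_dvd_of_le hPM)

/-- BG 10.11 (a). -/
theorem sylow_fusion (P : Sylow p G) {Q : Subgroup G} {x : G} (hQP : Q ≤ (P : Subgroup G))
    (hx : MulAut.conj x • Q ≤ (P : Subgroup G)) :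
    ∃ y ∈ Subgroup.normalizer ((P : Subgroup G) : Set G), MulAut.conj x • Q = MulAut.conj y • Q := by
  by_cases hQ1 : Q = ⊥
  · exact ⟨1, one_mem _, by subst hQ1; simp [CfsgLib.Coprime.conj_smul_eq_map]⟩
  have hP1 : (P : Subgroup G) ≠ ⊥ := fun e => hQ1 (le_bot_iff.1 (hQP.trans e.le))
  obtain ⟨M, hM, hNM, hσ⟩ := exists_coatom_sylow_normalizer hG P hP1
  have hPM : (P : Subgroup G) ≤ M := Subgroup.le_normalizer.trans hNM
  obtain ⟨m, hm, c, hc, rfl⟩ := (fusion hG hM hσ (P.2.to_le hQP) hQ1 (hQP.trans hPM)).2 x (hx.trans hPM)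
  have he : MulAut.conj (m * c) • Q = MulAut.conj m • Q := by
    rw [map_mul, mul_smul, conj_smul_eq_self_of_mem_normalizer (Subgroup.centralizer_le_normalizer _ hc)]
  rw [he] at hx ⊢
  exact fusion_of_pLengthLE_one (pLengthLE_one_of_ne_top hG p hM.1) hPM P.2
    (fun hd => P.not_dvd_index (hd.trans ⟨M.index, (Subgroup.relIndex_mul_index hPM).symm⟩)) hQP hm hx

/-- BG 10.11 (b). -/
theorem sylow_fusion_normalizer (P : Sylow p G) {Q : Subgroup G} (hQP : Q ≤ (P : Subgroup G)) :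
    ¬ p ∣ ((P : Subgroup G) ⊓ Subgroup.normalizer (Q : Set G)).relIndex (Subgroup.normalizer (Q : Set G)) := by
  set N := Subgroup.normalizer (Q : Set G)
  set D := (P : Subgroup G) ⊓ N
  have hDN : D ≤ N := inf_le_right
  obtain ⟨S, hS⟩ := ((P.2.to_le (inf_le_left : D ≤ (P : Subgroup G))).comap_of_injective N.subtype N.subtype_injective).exists_le_sylow
  set S' := (S : Subgroup N).map N.subtype with hS'
  have hDS : D ≤ S' := fun d hd => ⟨⟨d, hDN hd⟩, hS (show ((⟨d, hDN hd⟩ : N) : G) ∈ D from hd), rfl⟩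
  have hQS : Q ≤ S' := (le_inf hQP Subgroup.le_normalizer).trans hDS
  have hS'N : S' ≤ N := Subgroup.map_subtype_le _
  obtain ⟨T, hT⟩ := (S.2.map N.subtype : IsPGroup p S').exists_le_sylow
  obtain ⟨g, hg⟩ := MulAction.exists_smul_eq G T P
  have hgS : MulAut.conj g • S' ≤ (P : Subgroup G) := by
    rw [← hg, Sylow.coe_subgroup_smul]
    exact Subgroup.map_mono hT
  obtain ⟨y, hy, hye⟩ := sylow_fusion hG P hQP ((Subgroup.map_mono hQS).trans hgS)
  have hle : MulAut.conj (y⁻¹ * g) • S' ≤ D := by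
    refine le_inf ?_ ?_
    · rw [map_mul, mul_smul]
      exact (Subgroup.map_mono hgS).trans (conj_smul_eq_self_of_mem_normalizer (inv_mem hy)).le
    · have hQe : MulAut.conj (y⁻¹ * g) • Q = Q := by
        rw [map_mul, mul_smul, hye, ← mul_smul, ← map_mul, inv_mul_cancel, map_one, one_smul]
      have hk : y⁻¹ * g ∈ N := mem_normalizer_iff_conj_smul.2 hQe
      intro z hz
      rw [mem_conj_smul_iff] at hz
      have := mul_mem (mul_mem hk (hS'N hz)) (inv_mem hk)
      simpa [mul_assoc] using this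
  have hc := Subgroup.card_dvd_of_le hle
  rw [card_conj_smul] at hc
  intro hd
  refine S.not_dvd_index (hd.trans (dvd_of_eq ?_))
  have heq : D = S' := Subgroup.eq_of_le_of_card_ge hDS (Nat.le_of_dvd Nat.card_pos hc)
  rw [heq, Subgroup.relIndex, hS', Subgroup.subgroupOf, Subgroup.comap_map_eq_self_of_injective N.subtype_injective]

/-- BG 10.11 (c). -/
theorem normalizer_le_of_sylow_normalizer (P : Sylow p G) {R Q : Subgroup G} (hR : IsPGroup p R)
    (hQ : Q ≤ (P : Subgroup G) ⊓ R)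
    (hN : Subgroup.normalizer ((P : Subgroup G) : Set G) ≤ Subgroup.normalizer (Q : Set G)) :
    Subgroup.normalizer (R : Set G) ≤ Subgroup.normalizer (Q : Set G) := by
  have key : ∀ x : G, MulAut.conj x • Q ≤ (P : Subgroup G) → x ∈ Subgroup.normalizer (Q : Set G) := by
    intro x hx
    obtain ⟨y, hy, he⟩ := sylow_fusion hG P (hQ.trans inf_le_left) hx
    rw [conj_smul_eq_self_of_mem_normalizer (hN hy)] at he
    exact mem_normalizer_iff_conj_smul.2 he
  obtain ⟨T, hT⟩ := hR.exists_le_sylow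
  obtain ⟨g, hg⟩ := MulAction.exists_smul_eq G T P
  have hgR : MulAut.conj g • R ≤ (P : Subgroup G) := by
    rw [← hg, Sylow.coe_subgroup_smul]
    exact Subgroup.map_mono hT
  intro n hn
  have h1 : g ∈ Subgroup.normalizer (Q : Set G) := key g ((Subgroup.map_mono (hQ.trans inf_le_right)).trans hgR)
  have h2 : g * n ∈ Subgroup.normalizer (Q : Set G) := key _ (by
    rw [map_mul, mul_smul]
    refine (Subgroup.map_mono ?_).trans hgR
    exact (Subgroup.map_mono (hQ.trans inf_le_right)).trans (conj_smul_eq_self_of_mem_normalizer hn).le)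
  have := mul_mem (inv_mem h1) h2
  rwa [inv_mul_cancel_left] at this

end CfsgLib.OddLocal
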