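import Cfsg.Agent.Lib.OddLocal.FittingChain

/-!
BG 15.3: the centralizer and the fusion of a Hall subgroup of `M_σ`.
-/

set_option autoImplicit false
set_option linter.style.haveILetI false
set_option linter.unusedSectionVars false

open scoped commutatorElement
open scoped Pointwise

namespace CfsgLib.OddLocal

open CfsgLib.Coprime
open CfsgLib.BG.FixedLine (conj_mem_of_le_normalizer mem_normalizer_of_conj)

universe u

variable {G : Type u} [Group G] [Finite G] {p q r : ℕ} {M E U K H Q : Subgroup G}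

theorem orderOf_conj_eq {S : Type*} [Group S] (g x : S) : orderOf (g * x * g⁻¹) = orderOf x :=
  orderOf_injective (MulAut.conj g).toMonoidHom (MulAut.conj g).injective x

/-- A Hall subgroup of a nilpotent group is normal. -/
theorem hall_normal_of_nilpotent {S : Type u} [Group S] [Finite S] [Group.IsNilpotent S] {A : Subgroup S}
    (hA : (Nat.card A).Coprime A.index) : A.Normal := by
  classical
  have key : ∀ r : ℕ, r.Prime → r ∣ Nat.card A → ∀ z : S, (∃ k, z ^ r ^ k = 1) → z ∈ A := by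
    intro r hr hrA z ⟨k, hk⟩
    haveI := Fact.mk hr
    obtain ⟨P⟩ : Nonempty (Sylow r A) := inferInstance
    have hidx : ¬ r ∣ A.index := fun h => Nat.not_coprime_of_dvd_of_dvd hr.one_lt hrA h hA
    set P' := (P : Subgroup A).map A.subtype with hP'
    have hP'i : ¬ r ∣ P'.index := by
      rw [hP', Subgroup.index_map_subtype]
      exact fun h => (hr.dvd_mul.1 h).elim (P.not_dvd_index' Subgroup.index_ne_zero_of_finite) hidx
    set T := (P.2.map A.subtype).toSylow hP'i with hT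
    haveI : (T : Subgroup S).Normal := inferInstance
    obtain ⟨T', hT'⟩ := (isPGroup_zpowers hk).exists_le_sylow
    haveI := Sylow.unique_of_normal T inferInstance
    have : T' = T := Subsingleton.elim _ _
    exact Subgroup.map_subtype_le (P : Subgroup A) ((this ▸ hT') (Subgroup.mem_zpowers z))
  refine ⟨fun a ha g => mem_of_primary fun r hr hrd z hz hk => key r hr ?_ z hk⟩
  rw [orderOf_conj_eq] at hrd
  exact hrd.trans (Subgroup.orderOf_dvd_natCard A ha)

/-- A Hall subgroup times a normal subgroup with nilpotent quotient is normal. -/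
theorem hall_sup_normal {S : Type u} [Group S] [Finite S] {N A : Subgroup S} [N.Normal]
    [Group.IsNilpotent (S ⧸ N)] (hA : (Nat.card A).Coprime A.index) : (A ⊔ N).Normal := by
  set π := QuotientGroup.mk' N
  have h1 : (A.map π).Normal := hall_normal_of_nilpotent (by
    rw [Subgroup.index_map, MonoidHom.range_eq_top.2 (QuotientGroup.mk'_surjective N), Subgroup.index_top, mul_one]
    refine (hA.coprime_dvd_left (Subgroup.card_map_dvd _ π)).coprime_dvd_right
      (Subgroup.index_dvd_of_le le_sup_left))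
  have h2 := h1.comap π
  rwa [Subgroup.comap_map_eq, QuotientGroup.ker_mk'] at h2

theorem exists_sylow_conj_le (hG : Cfsg.IsMinSimpleOddOrder G) (hM : IsCoatom M) (hH : H ≤ Cfsg.sigmaCore M)
    (hHall : (Nat.card H).Coprime (H.relIndex (Cfsg.sigmaCore M))) (hq : q.Prime) (hd : q ∣ Nat.card H) :
    haveI := Fact.mk hq
    ∃ T : Sylow q G, (T : Subgroup G) ≤ H := by
  haveI := Fact.mk hq
  obtain ⟨z, hz, hzo⟩ := exists_order_of_dvd hq hd
  have hqσ := sigma_of_mem_core hq (hH hz) hzo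
  obtain ⟨P⟩ : Nonempty (Sylow q M) := inferInstance
  obtain ⟨T, hT⟩ := exists_sylow_map_eq hqσ P
  have hTM : (T : Subgroup G) ≤ M := hT.le.trans (Subgroup.map_subtype_le _)
  haveI : Group.IsSolvable (Cfsg.sigmaCore M) := isSolvable_of_le (piCoreOf_le _ M) (isSolvable_of_ne_top hG hM.1)
  obtain ⟨s, -, hs⟩ := exists_conj_le_hallOf (π := {l | l ∣ Nat.card H}) (X := Cfsg.sigmaCore M)
    ⟨hH, fun l _ h => h, fun l hl h h' => Nat.not_coprime_of_dvd_of_dvd hl.one_lt h h' hHall⟩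
    (le_sigmaCore_of_isPGroup hG hM hq hqσ hTM T.2) (fun l hl hld => by
      obtain ⟨n, hn⟩ := T.2.exists_card_eq
      rw [hn] at hld
      exact ((Nat.prime_dvd_prime_iff_eq hl hq).1 (hl.dvd_of_dvd_pow hld)) ▸ hd)
  exact ⟨s • T, by rw [Sylow.coe_subgroup_smul]; exact hs⟩

theorem not_kappa_centralizes_hall (hG : Cfsg.IsMinSimpleOddOrder G) (hM : IsCoatom M) (hH : H ≤ Cfsg.sigmaCore M)
    (hH1 : H ≠ ⊥) (hHall : (Nat.card H).Coprime (H.relIndex (Cfsg.sigmaCore M))) {l : ℕ}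
    (hκ : l ∈ Cfsg.kappa M) {b : G} (hbM : b ∈ M) (hbo : orderOf b = l)
    (hb : b ∈ Subgroup.centralizer (H : Set G)) : False := by
  classical
  have hl := hκ.1
  obtain ⟨K, U, hKU⟩ := exists_sigmaDecomposition hG hM
  have hK1 : K ≠ ⊥ := fun e => hKU.hall.2.2 l hl hκ (by rw [e, Subgroup.relIndex_bot_left]; exact hκ.2.1)
  have h := kappaData_of_decomposition hG hM hKU hK1
  haveI := isSolvable_of_ne_top hG hM.1
  obtain ⟨m, hm, hmK⟩ := exists_conj_le_hallOf hKU.hall (Subgroup.zpowers_le.2 hbM) fun t ht htd => by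
    rw [Nat.card_zpowers, hbo] at htd
    exact (Nat.prime_dvd_prime_iff_eq ht hl).1 htd ▸ hκ
  have hmb : m * b * m⁻¹ ∈ K := hmK (mem_sigmaCore_conj_iff.2 (Subgroup.mem_zpowers b))
  have hmb1 : m * b * m⁻¹ ≠ 1 := fun e => (zpowers_line hl hbo).2.2 (conj_eq_one_iff.1 e)
  have hle : ∀ w ∈ H, m * w * m⁻¹ ∈ Cfsg.sigmaCore M ⊓ Subgroup.centralizer (K : Set G) := fun w hw => by
    rw [← h.action _ hmb hmb1]
    refine ⟨conj_mem_of_le_normalizer (le_normalizer_piCoreOf _ M hm) w (hH hw),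
      mem_centralizer_singleton_of_commute (show Commute _ _ from ?_)⟩
    have h1 := commute_of_mem_centralizer hw hb
    show _ = _
    calc m * b * m⁻¹ * (m * w * m⁻¹) = m * (b * w) * m⁻¹ := by group
      _ = m * (w * b) * m⁻¹ := by rw [h1.eq]
      _ = _ := by group
  obtain ⟨q, hq, hd⟩ := Nat.exists_prime_and_dvd fun e : Nat.card H = 1 => hH1 (Subgroup.card_eq_one.1 e)
  haveI := Fact.mk hq
  obtain ⟨T, hT⟩ := exists_sylow_conj_le hG hM hH hHall hq hd
  obtain ⟨z, hz, hzo⟩ := exists_order_of_dvd hq hd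
  refine h.not_sylow_le_star (hle z hz) (by rw [orderOf_conj_eq, hzo]) (m • T) ?_ ?_
  · rw [Sylow.coe_subgroup_smul]
    rintro _ ⟨w, hw, rfl⟩
    exact piCoreOf_le _ M (hle w (hT hw)).1
  · rw [Sylow.coe_subgroup_smul]
    rintro _ ⟨w, hw, rfl⟩
    exact hle w (hT hw)

/-- BG 15.3 (a). -/
theorem hall_centralizer (hG : Cfsg.IsMinSimpleOddOrder G) (hM : IsCoatom M) (hH : H ≤ Cfsg.sigmaCore M)
    (hH1 : H ≠ ⊥) (hHall : (Nat.card H).Coprime (H.relIndex (Cfsg.sigmaCore M))) :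
    ∃ X : Subgroup G, IsCyclic X ∧ (∀ p : ℕ, p.Prime → p ∣ Nat.card X → p ∈ Cfsg.tau2 M) ∧
      M ⊓ Subgroup.centralizer (H : Set G) = (Cfsg.sigmaCore M ⊓ Subgroup.centralizer (H : Set G)) ⊔ X := by
  classical
  set C := M ⊓ Subgroup.centralizer (H : Set G) with hC
  set Cσ := Cfsg.sigmaCore M ⊓ Subgroup.centralizer (H : Set G) with hCσ
  have hle : Cσ ≤ C := inf_le_inf_right _ (piCoreOf_le _ M)
  set N := Cσ.subgroupOf C with hN
  haveI : N.Normal := (Subgroup.normal_subgroupOf_iff_le_normalizer hle).2 fun c hc =>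
    mem_normalizer_of_conj fun w hw => ⟨conj_mem_of_le_normalizer (le_normalizer_piCoreOf _ M hc.1) w hw.1,
      Subgroup.mul_mem _ (Subgroup.mul_mem _ hc.2 hw.2) (Subgroup.inv_mem _ hc.2)⟩
  have hNmem : ∀ {c : C}, c ∈ N ↔ (c : G) ∈ Cfsg.sigmaCore M := fun {c} => ⟨fun h => h.1, fun h => ⟨h, c.2.2⟩⟩
  have hcop : (Nat.card N).Coprime N.index := Nat.coprime_of_dvd fun t ht h1 h2 => by
    haveI := Fact.mk ht
    rw [Nat.card_congr (Subgroup.subgroupOfEquivOfLe hle).toEquiv] at h1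
    have htσ : t ∈ Cfsg.sigma M := isPi_piCoreOf _ M t ht (h1.trans (Subgroup.card_dvd_of_le inf_le_left))
    obtain ⟨R⟩ : Nonempty (Sylow t C) := inferInstance
    refine R.not_dvd_index' Subgroup.index_ne_zero_of_finite (h2.trans (Subgroup.index_dvd_of_le fun c hc => ?_))
    obtain ⟨k, hk⟩ := R.2 ⟨c, hc⟩
    exact hNmem.2 (sigma_mem_of_elem hG hM ht htσ c.2.1 (k := k)
      (by simpa using congrArg (fun v : (R : Subgroup C) => ((v : C) : G)) hk))
  obtain ⟨X₀, hX₀⟩ := Subgroup.exists_right_complement'_of_coprime hcop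
  set X := X₀.map C.subtype with hX
  have hXC : X ≤ C := Subgroup.map_subtype_le _
  have hXM : X ≤ M := hXC.trans inf_le_left
  obtain ⟨y, hy, hy1⟩ : ∃ y ∈ H, y ≠ 1 := by
    obtain ⟨y, hy⟩ := (Subgroup.ne_bot_iff_exists_ne_one).1 hH1
    exact ⟨y, y.2, fun e => hy (Subtype.ext e)⟩
  have hXσ : ∀ t : ℕ, t.Prime → t ∣ Nat.card X → t ∉ Cfsg.sigma M := fun t ht htd htσ => by
    obtain ⟨b, hb, hbo⟩ := exists_order_of_dvd ht htd
    obtain ⟨b₀, hb₀, rfl⟩ := hb
    have : b₀ ∈ N ⊓ X₀ := ⟨hNmem.2 (sigma_mem_of_elem hG hM ht htσ b₀.2.1 (k := 1)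
      (by rw [pow_one, ← hbo, Subgroup.subtype_apply, pow_orderOf_eq_one])), hb₀⟩
    rw [hX₀.disjoint.eq_bot, Subgroup.mem_bot] at this
    rw [this, map_one, orderOf_one] at hbo
    exact ht.ne_one hbo.symm
  have hXτ : ∀ t : ℕ, t.Prime → t ∣ Nat.card X → t ∈ Cfsg.tau2 M := fun t ht htd => by
    obtain ⟨b, hb, hbo⟩ := exists_order_of_dvd ht htd
    exact (tau2_of_fixed hG hM (hXM hb) (hH hy) hy1 (commute_of_mem_centralizer hy (hXC hb).2).symm ht
      (hbo ▸ dvd_rfl) (hXσ t ht htd) fun hκ =>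
        not_kappa_centralizes_hall hG hM hH hH1 hHall hκ (hXM hb) hbo (hXC hb).2).1
  refine ⟨X, ?_, hXτ, le_antisymm (fun c hc => ?_) (sup_le hle hXC)⟩
  · obtain ⟨E, hE⟩ := exists_compl hG hM
    obtain ⟨m, hm, hmE⟩ := exists_conj_le_compl hG hM hE hXM hXσ
    have hcm : Nat.card ↥(MulAut.conj m • X) = Nat.card X :=
      Subgroup.card_map_of_injective (MulAut.conj m).injective
    haveI := tau2_isMulCommutative hG hM hE hmE (fun t ht htd => hXτ t ht (hcm ▸ htd))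
    haveI : Group.IsNilpotent X := by
      refine Group.nilpotent_of_mulEquiv (_h := nilpotent_of_comm (H := ↥(MulAut.conj m • X)) inferInstance)
        (Subgroup.equivSMul (MulAut.conj m) X).symm
    haveI : IsZGroup X := ⟨fun t ht P => by
      haveI := Fact.mk ht
      set P' := (P : Subgroup X).map X.subtype with hP'
      suffices hc : IsCyclic P' by
        haveI := hc
        exact isCyclic_of_surjective _ (Subgroup.equivMapOfInjective (P : Subgroup X) _ X.subtype_injective).symm.surjective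
      by_contra hnc
      obtain ⟨B, hB, hBe, hB2⟩ := exists_elem_sq hG ht (P.2.map _) hnc
      have hBX : B ≤ X := hB.trans (Subgroup.map_subtype_le _)
      have ht2 := hXτ t ht ((dvd_pow_self t two_ne_zero).trans (hB2.symm.dvd.trans (Subgroup.card_dvd_of_le hBX)))
      have h1 := (Cfsg.Agent.S1417.result hG M hM t ht2 B ⟨hBX.trans hXM, hBe, hB2⟩).2.2.2.1
      have h2 : y ∈ (⊥ : Subgroup G) := h1 ▸ ⟨hH hy, fun v hv => ((hXC (hBX hv)).2 y hy).symm⟩
      exact hy1 (Subgroup.mem_bot.1 h2)⟩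
    infer_instance
  · obtain ⟨⟨a, b⟩, hab⟩ := hX₀.2 ⟨c, hc⟩
    rw [show c = ((a : C) : G) * ((b : C) : G) from (congrArg Subtype.val hab).symm]
    exact Subgroup.mul_mem _ (Subgroup.mem_sup_left (show ((a : C) : G) ∈ Cσ from a.2))
      (Subgroup.mem_sup_right (Subgroup.mem_map_of_mem _ b.2))

/-- `M_σ` has a normal subgroup of prime power order with nilpotent quotient. -/
theorem exists_nilpotent_quotient (hG : Cfsg.IsMinSimpleOddOrder G) (hM : IsCoatom M) :
    ∃ (q : ℕ) (Q : Subgroup G), q.Prime ∧ Q ≤ Cfsg.sigmaCore M ∧ M ≤ Subgroup.normalizer (Q : Set G) ∧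
      IsPGroup q Q ∧ ¬ (q ∣ Nat.card Q ∧ q ∣ Q.relIndex (Cfsg.sigmaCore M)) ∧
      ∀ (_ : (Q.subgroupOf (Cfsg.sigmaCore M)).Normal),
        Group.IsNilpotent (↥(Cfsg.sigmaCore M) ⧸ Q.subgroupOf (Cfsg.sigmaCore M)) := by
  classical
  by_cases hnil : Group.IsNilpotent (Cfsg.sigmaCore M)
  · refine ⟨2, ⊥, Nat.prime_two, bot_le, fun m _ => ?_, IsPGroup.of_bot, fun h => ?_, fun _ => ?_⟩
    · rw [Subgroup.mem_normalizer_iff]; intro x; simp
    · rw [Subgroup.card_bot] at h; exact absurd (Nat.dvd_one.1 h.1) (by norm_num)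
    · haveI := hnil
      exact Group.nilpotent_of_surjective (QuotientGroup.mk' _) (QuotientGroup.mk'_surjective _)
  obtain ⟨K, U, hKU⟩ := exists_sigmaDecomposition hG hM
  obtain ⟨hK1, hU, Ms, Es, Us, hp⟩ := exists_partner_of_not_nilpotent hG hM hKU hnil
  obtain ⟨-, -, q, Q, hq, -, -, -, hQσ, -, hMQ, hQp, -, hQrel, hall⟩ := hp.fitting_structure hnil
  refine ⟨q, Q, hq, hQσ, hMQ, hQp, fun h => hQrel h.2, fun hn => ?_⟩
  haveI := hn
  haveI := Fact.mk hq
  obtain ⟨Dc, hDc⟩ := Subgroup.exists_right_complement'_of_coprime (N := Q.subgroupOf (Cfsg.sigmaCore M)) (by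
    rw [Nat.card_congr (Subgroup.subgroupOfEquivOfLe hQσ).toEquiv]
    obtain ⟨n, hn⟩ := hQp.exists_card_eq
    rw [hn]
    exact (hq.coprime_iff_not_dvd.2 hQrel).pow_left n)
  set D := Dc.map (Cfsg.sigmaCore M).subtype with hD
  have hDc' : Cfsg.IsComplIn Q D (Cfsg.sigmaCore M) := by
    refine ⟨hQσ, Subgroup.map_subtype_le _, (Subgroup.eq_bot_iff_forall _).2 fun x hx => ?_, fun x hx => ?_⟩
    · obtain ⟨hxQ, w, hw, rfl⟩ := hx
      have : w ∈ Q.subgroupOf (Cfsg.sigmaCore M) ⊓ Dc := ⟨hxQ, hw⟩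
      rw [hDc.disjoint.eq_bot, Subgroup.mem_bot] at this
      rw [this, map_one]
    · obtain ⟨⟨a, b⟩, hab⟩ := hDc.2 ⟨x, hx⟩
      exact ⟨((a : ↥(Cfsg.sigmaCore M)) : G), a.2, ((b : ↥(Cfsg.sigmaCore M)) : G),
        Subgroup.mem_map_of_mem _ b.2, (congrArg Subtype.val hab).symm⟩
  haveI := (hall D hDc').1
  refine Group.nilpotent_of_surjective
    ((QuotientGroup.mk' (Q.subgroupOf (Cfsg.sigmaCore M))).comp (Subgroup.inclusion hDc'.2.1)) fun w => ?_
  obtain ⟨⟨x, hx⟩, rfl⟩ := QuotientGroup.mk'_surjective _ w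
  obtain ⟨a, ha, d, hd, rfl⟩ := hDc'.2.2.2 x hx
  refine ⟨⟨d, hd⟩, ?_⟩
  rw [MonoidHom.comp_apply, show (⟨a * d, hx⟩ : ↥(Cfsg.sigmaCore M)) = ⟨a, hQσ ha⟩ * Subgroup.inclusion hDc'.2.1 ⟨d, hd⟩
    from Subtype.ext rfl, map_mul, show QuotientGroup.mk' (Q.subgroupOf (Cfsg.sigmaCore M)) ⟨a, hQσ ha⟩ = 1
    from (QuotientGroup.eq_one_iff _).2 ha, one_mul]

/-- BG 15.3 (b). -/
theorem hall_fusion (hG : Cfsg.IsMinSimpleOddOrder G) (hM : IsCoatom M) (hH : H ≤ Cfsg.sigmaCore M)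
    (hHall : (Nat.card H).Coprime (H.relIndex (Cfsg.sigmaCore M))) {x g : G} (hx : x ∈ H)
    (hgx : g * x * g⁻¹ ∈ H) :
    ∃ n ∈ M ⊓ Subgroup.normalizer (H : Set G), n * x * n⁻¹ = g * x * g⁻¹ := by
  classical
  by_cases hx1 : x = 1
  · exact ⟨1, one_mem _, by rw [hx1]; group⟩
  -- fusion in `M`
  obtain ⟨m, hm, hmx⟩ : ∃ m ∈ M, m * x * m⁻¹ = g * x * g⁻¹ := by
    have hxg : x ∈ MulAut.conj g⁻¹ • M := by
      rw [mem_conj_smul_iff, inv_inv]; exact piCoreOf_le _ M (hH hgx)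
    by_cases hxC : Subgroup.centralizer ({x} : Set G) ≤ M
    · exact ⟨g, inv_mem_iff.1 ((conj_smul_self_iff hG hM).1 ((exists_conj_eq hG hM (hH hx) hx1 hxg).1 hxC)), rfl⟩
    obtain ⟨N, hN⟩ := exists_support hG hM (hH hx) hx1 hxC
    obtain ⟨k, hk, he⟩ := (exists_conj_eq hG hM (hH hx) hx1 hxg).2 hN
    refine ⟨g * k, (conj_smul_self_iff hG hM).1 ?_, ?_⟩
    · rw [map_mul, mul_smul, ← he, ← mul_smul, ← map_mul, mul_inv_cancel, map_one, one_smul]
    · have hkx : Commute k x := Subgroup.mem_centralizer_singleton_iff.1 hk.2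
      calc g * k * x * (g * k)⁻¹ = g * (k * x * k⁻¹) * g⁻¹ := by group
        _ = g * x * g⁻¹ := by rw [hkx.eq, mul_inv_cancel_right]
  obtain ⟨q, Q, hq, hQσ, hMQ, hQp, hQsyl, hquot⟩ := exists_nilpotent_quotient hG hM
  set S := Cfsg.sigmaCore M with hS
  have hSM : S ≤ M := piCoreOf_le _ M
  haveI hQn : (Q.subgroupOf S).Normal := (Subgroup.normal_subgroupOf_iff_le_normalizer hQσ).2 (hSM.trans hMQ)
  haveI := hquot hQn
  have hWn : ((H ⊔ Q).subgroupOf S).Normal := by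
    rw [Subgroup.subgroupOf_sup hH hQσ]
    refine hall_sup_normal ?_
    rwa [Nat.card_congr (Subgroup.subgroupOfEquivOfLe hH).toEquiv]
  have hWS : H ⊔ Q ≤ S := sup_le hH hQσ
  have hrelW : (Nat.card H).Coprime ((H ⊔ Q).relIndex S) :=
    hHall.coprime_dvd_right (Subgroup.relIndex_dvd_of_le_left _ le_sup_left)
  have hMW : M ≤ Subgroup.normalizer ((H ⊔ Q : Subgroup G) : Set G) := fun c hc => by
    refine mem_normalizer_of_conj fun w hw => ?_
    have hle : (H ⊔ Q) ≤ (H ⊔ Q).comap (MulAut.conj c).toMonoidHom := sup_le (fun v hv => ?_) (fun v hv => ?_)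
    · exact hle hw
    · have hvS : c * v * c⁻¹ ∈ S := conj_mem_of_le_normalizer (le_normalizer_piCoreOf _ M hc) v (hH hv)
      have : (⟨c * v * c⁻¹, hvS⟩ : S) ∈ (H ⊔ Q).subgroupOf S := by
        haveI := hWn
        refine le_of_coprime_index ?_ (Subgroup.mem_zpowers _)
        rw [Nat.card_zpowers, Subgroup.orderOf_mk, orderOf_conj_eq]
        exact hrelW.coprime_dvd_left (Subgroup.orderOf_dvd_natCard H hv)
      exact this
    · exact Subgroup.mem_sup_right (conj_mem_of_le_normalizer (hMQ hc) v hv)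
  set y := g * x * g⁻¹ with hy
  by_cases hqH : Q ≤ H
  · rw [sup_eq_left.2 hqH] at hMW
    exact ⟨m, ⟨hm, hMW hm⟩, hmx⟩
  have hcopQ : ∀ {v : G}, v ∈ H → v ∈ Q → v = 1 := by
    intro v hvH hvQ
    by_contra hv1
    haveI := Fact.mk hq
    obtain ⟨i, hi⟩ := hQp ⟨v, hvQ⟩
    have hi' : v ^ q ^ i = 1 := by simpa using congrArg Subtype.val hi
    obtain ⟨b, hb, hbo⟩ := exists_line_pow hq hi' hv1
    have hqd : q ∣ Nat.card H := hbo ▸ Subgroup.orderOf_dvd_natCard H (Subgroup.zpowers_le.2 hvH hb)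
    refine hqH fun w hw => ?_
    haveI := Fact.mk hq
    obtain ⟨T, hT⟩ := exists_sylow_conj_le hG hM hH hHall hq hqd
    set T' := ((T.2.to_le le_rfl).of_equiv (Subgroup.subgroupOfEquivOfLe (hT.trans hH)).symm).toSylow (p := q)
      (fun h' => T.not_dvd_index' Subgroup.index_ne_zero_of_finite (h'.trans (Subgroup.relIndex_dvd_index_of_le (hT.trans hH))))
    have hQ' : IsPGroup q (Q.subgroupOf S) := hQp.of_equiv (Subgroup.subgroupOfEquivOfLe hQσ).symm
    have h2 := hQ'.le_sylow_of_normal T' (show (⟨w, hQσ hw⟩ : S) ∈ Q.subgroupOf S from hw)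
    exact hT h2
  haveI := isSolvable_of_le (hWS.trans hSM) (isSolvable_of_ne_top hG hM.1)
  obtain ⟨a, haW, ha⟩ := exists_conj_le_hallOf (π := {l | l ∣ Nat.card H}) (X := H ⊔ Q)
    (H := H) (A := MulAut.conj m • H)
    ⟨le_sup_left, fun l _ h => h, fun l hl h h' => Nat.not_coprime_of_dvd_of_dvd hl.one_lt h
      (h'.trans (Dvd.intro _ (Subgroup.relIndex_mul_relIndex _ _ _ le_sup_left hWS))) hHall⟩
    (fun v hv => by
      obtain ⟨w, hw, rfl⟩ := hv
      exact conj_mem_of_le_normalizer (hMW hm) w (Subgroup.mem_sup_left hw))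
    (fun l _ hld => by
      rwa [show Nat.card ↥(MulAut.conj m • H) = Nat.card H from
        Subgroup.card_map_of_injective (MulAut.conj m).injective] at hld)
  have ham : a * m ∈ Subgroup.normalizer (H : Set G) := mem_normalizer_of_conj fun w hw => by
    have := ha (mem_sigmaCore_conj_iff.2 (mem_sigmaCore_conj_iff.2 hw : m * w * m⁻¹ ∈ MulAut.conj m • H))
    rwa [show a * (m * w * m⁻¹) * a⁻¹ = a * m * w * (a * m)⁻¹ by group] at this
  rw [← SetLike.mem_coe, Subgroup.coe_mul_of_left_le_normalizer_right H Q ((hH.trans hSM).trans hMQ)] at haW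
  obtain ⟨u, hu, v, hv, rfl⟩ := Set.mem_mul.1 haW
  have hn : v * m ∈ Subgroup.normalizer (H : Set G) := by
    have := mul_mem (Subgroup.le_normalizer (inv_mem hu)) ham
    rwa [show u⁻¹ * (u * v * m) = v * m by group] at this
  have hvy : v * y * v⁻¹ ∈ H := by
    have := conj_mem_of_le_normalizer hn x hx
    rwa [show v * m * x * (v * m)⁻¹ = v * (m * x * m⁻¹) * v⁻¹ by group, hmx] at this
  have hc1 : v * y * v⁻¹ * y⁻¹ = 1 := hcopQ (H.mul_mem hvy (H.inv_mem hgx)) (by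
    rw [show v * y * v⁻¹ * y⁻¹ = v * (y * v⁻¹ * y⁻¹) by group]
    exact Q.mul_mem hv (conj_mem_of_le_normalizer ((hH.trans hSM).trans hMQ hgx) _ (Q.inv_mem hv)))
  refine ⟨v * m, ⟨M.mul_mem (hSM (hQσ hv)) hm, hn⟩, ?_⟩
  rw [show v * m * x * (v * m)⁻¹ = v * (m * x * m⁻¹) * v⁻¹ by group, hmx]
  exact mul_inv_eq_one.1 hc1

end CfsgLib.OddLocal
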