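import Cfsg.Agent.Lib.OddLocal.KappaMain

/-!
BG 14.7: one of the maximal subgroups around `Z` is not of type `P₁`.
-/

set_option autoImplicit false
set_option linter.style.haveILetI false
set_option linter.unusedSectionVars false

open scoped commutatorElement
open scoped Pointwise

namespace CfsgLib.OddLocal

open CfsgLib.Coprime
open CfsgLib.BG.FixedLine (conj_mem_of_le_normalizer mem_normalizer_of_conj)

universe u

variable {G : Type u} [Group G] [Finite G] {p q r s : ℕ} {M L Z K E U : Subgroup G}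

theorem one_notMem_tilde (hG : Cfsg.IsMinSimpleOddOrder G) (hM : IsCoatom M) :
    (1 : G) ∉ Cfsg.tildeOf M ((Cfsg.sigmaCore M : Set G) \ {1}) := fun h => by
  obtain ⟨g, a, r, ha, ha1, hr, he⟩ := (mem_tilde_iff hG hM).1 h
  have hM' := isCoatom_conj hM g
  have hra : r = a⁻¹ := (inv_eq_of_mul_eq_one_right he.symm).symm
  have := supportR_inf_eq_bot hG hM' ha ha1 hr (hra ▸ inv_mem (piCoreOf_le _ _ ha))
  rw [this, mul_one] at he
  exact ha1 he.symm

theorem conj_mem_tilde {A : Set G} {z g : G} (hz : z ∈ Cfsg.tildeOf M A) : g * z * g⁻¹ ∈ Cfsg.tildeOf M A := by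
  obtain ⟨a, ha, r, hr, y, rfl⟩ := hz
  exact ⟨a, ha, r, hr, g * y, by group⟩

/-- The elements of `Z` outside all `K*` lie in no `x R(x)`. -/
theorem KappaData.notMem_tilde (h : KappaData M K E U) {t : G}
    (ht : t ∈ K ⊔ (Cfsg.sigmaCore M ⊓ Subgroup.centralizer (K : Set G)))
    (hT : ∀ L : Subgroup G, ZMember (K ⊔ (Cfsg.sigmaCore M ⊓ Subgroup.centralizer (K : Set G))) L →
      t ∉ Cfsg.sigmaCore L)
    (hL : IsCoatom L) : t ∉ Cfsg.tildeOf L ((Cfsg.sigmaCore L : Set G) \ {1}) := fun hmem => by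
  obtain ⟨g, a, r, ha, ha1, hr, he⟩ := (mem_tilde_iff h.hG hL).1 hmem
  have hG := h.hG
  have hL' := isCoatom_conj hL g
  have har := supportR_le_centralizer hG hL' ha ha1 hr
  have hat : a ∈ Subgroup.zpowers t := by
    rw [he]
    exact mem_zpowers_mul_of_coprime har (Nat.coprime_of_dvd fun l hl h1 h2 =>
      support_not_sigma hG hL' ha ha1 hr hl h2 (sigma_of_orderOf ha hl h1))
  have haZ := Subgroup.zpowers_le.2 ht hat
  obtain ⟨q, z, hq, hz, hzo⟩ := exists_prime_power_elem ha1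
  obtain ⟨L₀, hL₀, hσ⟩ := h.exists_member (Subgroup.zpowers_le.2 haZ hz) hq hzo
  obtain ⟨K₀, E₀, U₀, h₀, e₀⟩ := hL₀
  obtain ⟨k, hk⟩ := sigma_disjoint hG h₀.hM hL' hσ (sigma_of_mem_core hq (Subgroup.zpowers_le.2 ha hz) hzo)
  have hzS := (h₀.prime_mem (e₀.symm ▸ Subgroup.zpowers_le.2 haZ hz) hq hzo).1 hσ
  have haM : a ∈ Cfsg.sigmaCore L₀ :=
    mem_sigmaCore_of_primary hG h₀.hM (h₀.Z_le (e₀.symm ▸ haZ)) fun l hl hd =>
      sigma_conj_iff.1 (hk ▸ sigma_of_orderOf ha hl hd)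
  have hC : Subgroup.centralizer ({a} : Set G) ≤ L₀ :=
    (centralizer_le_zpowers hz).trans (h₀.star_uniq hq hzS hzo).1
  have heq : MulAut.conj g • L = L₀ :=
    hk.trans ((exists_conj_eq hG h₀.hM haM ha1 (g := k) (hk ▸ piCoreOf_le _ _ ha)).1 hC)
  rw [heq, supportR_eq_bot hC, Subgroup.mem_bot] at hr
  rw [hr, mul_one] at he
  exact hT L₀ ⟨K₀, E₀, U₀, h₀, e₀⟩ (he ▸ haM)

theorem KappaData.card_eq_of_U_bot (h : KappaData M K E U) (hU : U = ⊥) :
    Nat.card M = Nat.card K * Nat.card (Cfsg.sigmaCore M) := by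
  rw [card_eq_of_compl h.hE, ← h.sup_eq, hU, bot_sup_eq]

/-- BG 14.7: some member is not of type `P₁`. -/
theorem KappaData.exists_member_not_P1 (h : KappaData M K E U) :
    ∃ L K₁ E₁ U₁ : Subgroup G, KappaData L K₁ E₁ U₁ ∧
      K₁ ⊔ (Cfsg.sigmaCore L ⊓ Subgroup.centralizer (K₁ : Set G)) =
        K ⊔ (Cfsg.sigmaCore M ⊓ Subgroup.centralizer (K : Set G)) ∧ U₁ ≠ ⊥ := by
  classical
  by_contra! hcon
  haveI : Fintype G := Fintype.ofFinite G
  haveI : Fintype (Subgroup G) := Fintype.ofFinite _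
  have hG := h.hG
  set Z := K ⊔ (Cfsg.sigmaCore M ⊓ Subgroup.centralizer (K : Set G)) with hZ
  set F : Finset (Subgroup G) := {L | ZMember Z L} with hF
  have hFmem : ∀ {L}, L ∈ F → ZMember Z L := fun hL => (Finset.mem_filter.1 hL).2
  have hmemF : ∀ {L}, ZMember Z L → L ∈ F := fun hL => Finset.mem_filter.2 ⟨Finset.mem_univ _, hL⟩
  have hco : ∀ {L}, L ∈ F → IsCoatom L := fun hL => by
    obtain ⟨_, _, _, h₁, -⟩ := hFmem hL; exact h₁.hM
  let S : Subgroup G → Finset G := fun L => {t | t ∈ Z ⊓ Cfsg.sigmaCore L}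
  have hScard : ∀ L, (S L).card = Nat.card ↥(Z ⊓ Cfsg.sigmaCore L) := fun L => by
    rw [Nat.card_eq_fintype_card]; exact (Fintype.card_of_subtype _ (by simp [S])).symm
  let S' : Subgroup G → Finset G := fun L => (S L).erase 1
  have hSd : (F : Set (Subgroup G)).PairwiseDisjoint S' := fun L hL L' hL' hne => by
    refine Finset.disjoint_left.2 fun t ht ht' => ?_
    simp only [S', S, Finset.mem_erase, Finset.mem_filter, Finset.mem_univ, true_and] at ht ht'
    obtain ⟨q, y, hq, hy, hyo⟩ := exists_prime_power_elem ht.1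
    exact hne ((hFmem hL).eq_of_sigma (hFmem hL') (Subgroup.zpowers_le.2 ht.2.1 hy) hq hyo
      (sigma_of_mem_core hq (Subgroup.zpowers_le.2 ht.2.2 hy) hyo)
      (sigma_of_mem_core hq (Subgroup.zpowers_le.2 ht'.2.2 hy) hyo))
  set T : Finset G := {t | t ∈ Z ∧ ∀ L ∈ F, t ∉ Cfsg.sigmaCore L} with hT
  have hTmem : ∀ {t}, t ∈ T → t ∈ Z ∧ ∀ L ∈ F, t ∉ Cfsg.sigmaCore L := fun ht => (Finset.mem_filter.1 ht).2
  have hMF : M ∈ F := hmemF ⟨K, E, U, h, rfl⟩
  have hZc : T.card + 1 + ∑ L ∈ F, (S' L).card = Nat.card Z := by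
    rw [← Finset.card_biUnion hSd]
    have h1 : (insert 1 T).card = T.card + 1 := Finset.card_insert_of_notMem fun h1 =>
      (hTmem h1).2 M hMF (one_mem _)
    rw [← h1, ← Finset.card_union_of_disjoint]
    · rw [Nat.card_eq_fintype_card]
      refine (Fintype.card_of_subtype _ fun t => ?_).symm
      simp only [Finset.mem_union, Finset.mem_insert, Finset.mem_biUnion, S', S, Finset.mem_erase, hT,
        Finset.mem_filter, Finset.mem_univ, true_and, Subgroup.mem_inf]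
      constructor
      · rintro ((rfl | ⟨h2, -⟩) | ⟨L, -, -, h2, -⟩)
        exacts [one_mem _, h2, h2]
      · intro htZ
        by_cases ht1 : t = 1
        · exact Or.inl (Or.inl ht1)
        by_cases hL : ∃ L ∈ F, t ∈ Cfsg.sigmaCore L
        · obtain ⟨L, hL, htL⟩ := hL
          exact Or.inr ⟨L, hL, ht1, htZ, htL⟩
        · exact Or.inl (Or.inr ⟨htZ, fun L hL' htL => hL ⟨L, hL', htL⟩⟩)
    · refine Finset.disjoint_left.2 fun t ht ht' => ?_
      obtain ⟨L, hL, htL⟩ := Finset.mem_biUnion.1 ht'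
      simp only [S', S, Finset.mem_erase, Finset.mem_filter, Finset.mem_univ, true_and] at htL
      rcases Finset.mem_insert.1 ht with e | e
      · exact htL.1 e
      · exact (hTmem e).2 L hL htL.2.2
  -- the conjugates of `T`
  have hTI : ∀ t ∈ T, ∀ {g : G}, g * t * g⁻¹ ∈ Z → g ∈ Z := fun t ht g hg => by
    obtain ⟨htZ, htT⟩ := hTmem ht
    have ht1 : t ≠ 1 := fun e => htT M hMF (e ▸ one_mem _)
    obtain ⟨q, y, hq, hy, hyo⟩ := exists_prime_power_elem ht1
    obtain ⟨L, hL, hσ⟩ := h.exists_member (Subgroup.zpowers_le.2 htZ hy) hq hyo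
    obtain ⟨K₁, E₁, U₁, h₁, e₁⟩ := hL
    rw [← hZ] at e₁
    rw [← e₁] at htZ hg ⊢
    refine h₁.hat_ti htZ (fun htK => ?_) (fun htS => htT L (hmemF ⟨K₁, E₁, U₁, h₁, e₁⟩) htS.1) hg
    exact (h₁.hall.2.1 q hq (hyo ▸ Subgroup.orderOf_dvd_natCard K₁ (Subgroup.zpowers_le.2 htK hy))).2.2.1 hσ
  let C : Finset G := (Finset.univ ×ˢ T : Finset ((G ⧸ Z) × G)).image fun x => x.1.out * x.2 * x.1.out⁻¹
  have hCcard : C.card * Nat.card Z = T.card * Nat.card G := by
    rw [Finset.card_image_of_injOn, Finset.card_product, Finset.card_univ, ← Nat.card_eq_fintype_card,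
      ← Subgroup.index_eq_card, ← Subgroup.index_mul_card Z]
    · ring
    rintro ⟨c, t⟩ hx ⟨c', t'⟩ hx' (he : c.out * t * c.out⁻¹ = c'.out * t' * c'.out⁻¹)
    simp only [Finset.mem_coe, Finset.mem_product, Finset.mem_univ, true_and] at hx hx'
    have hg : c'.out⁻¹ * c.out ∈ Z := hTI t hx (by
      rw [show c'.out⁻¹ * c.out * t * (c'.out⁻¹ * c.out)⁻¹ = c'.out⁻¹ * (c.out * t * c.out⁻¹) * c'.out by group,
        he, show c'.out⁻¹ * (c'.out * t' * c'.out⁻¹) * c'.out = t' by group]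
      exact (hTmem hx').1)
    have hcc : c = c' := by
      rw [← QuotientGroup.out_eq' c, ← QuotientGroup.out_eq' c']
      exact (QuotientGroup.eq.2 hg).symm
    subst hcc
    exact Prod.ext rfl (mul_left_cancel (mul_right_cancel he))
  let D : Subgroup G → Finset G := fun L => {z | z ∈ Cfsg.tildeOf L ((Cfsg.sigmaCore L : Set G) \ {1})}
  have hDcard : ∀ L ∈ F, (D L).card = (Nat.card (Cfsg.sigmaCore L) - 1) * L.index := fun L hL => by
    rw [← card_tilde hG (hco hL), ← Set.ncard_coe_finset]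
    congr 1
    ext z
    simp [D]
  have hDd : (F : Set (Subgroup G)).PairwiseDisjoint D := fun L hL L' hL' hne => by
    refine Finset.disjoint_left.2 fun z hz hz' => ?_
    exact Set.disjoint_left.1 (tilde_disjoint hG (hco hL) (hco hL') fun g e =>
      hne ((hFmem hL).not_conj (hFmem hL') e)) (Finset.mem_filter.1 hz).2 (Finset.mem_filter.1 hz').2
  have hCD : Disjoint C (F.biUnion D) := Finset.disjoint_left.2 fun z hz hz' => by
    obtain ⟨⟨c, t⟩, hx, rfl⟩ := Finset.mem_image.1 hz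
    obtain ⟨L, hL, hzL⟩ := Finset.mem_biUnion.1 hz'
    simp only [Finset.mem_product, Finset.mem_univ, true_and] at hx
    have h2 := conj_mem_tilde (g := c.out⁻¹) (Finset.mem_filter.1 hzL).2
    rw [show c.out⁻¹ * (c.out * t * c.out⁻¹) * c.out⁻¹⁻¹ = t by group] at h2
    exact h.notMem_tilde (hTmem hx).1 (fun L' hL' => (hTmem hx).2 L' (hmemF hL')) (hco hL) h2
  have htot : C.card + ∑ L ∈ F, (D L).card + 1 ≤ Nat.card G := by
    rw [← Finset.card_biUnion hDd, ← Finset.card_union_of_disjoint hCD, Nat.card_eq_fintype_card,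
      ← Finset.card_univ, ← Finset.card_erase_add_one (Finset.mem_univ (1 : G))]
    refine Nat.add_le_add_right (Finset.card_le_card fun z hz => Finset.mem_erase.2 ⟨?_, Finset.mem_univ _⟩) 1
    rintro rfl
    rcases Finset.mem_union.1 hz with hz | hz
    · obtain ⟨⟨c, t⟩, hx, he⟩ := Finset.mem_image.1 hz
      simp only [Finset.mem_product, Finset.mem_univ, true_and] at hx
      exact (hTmem hx).2 M hMF (by rw [show t = 1 from conj_eq_one_iff.1 he]; exact one_mem _)
    · obtain ⟨L, hL, hzL⟩ := Finset.mem_biUnion.1 hz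
      exact one_notMem_tilde hG (hco hL) (Finset.mem_filter.1 hzL).2
  have hpt : ∀ L ∈ F, 3 * Nat.card G * ((S' L).card + 1) ≤ 3 * Nat.card Z * (D L).card + Nat.card G := by
    intro L hL
    obtain ⟨K₁, E₁, U₁, h₁, e₁⟩ := hFmem hL
    have hU₁ := hcon L K₁ E₁ U₁ h₁ e₁
    have hS1 : (S' L).card + 1 = Nat.card ↥(Cfsg.sigmaCore L ⊓ Subgroup.centralizer (K₁ : Set G)) := by
      rw [Finset.card_erase_add_one (by simp [S, one_mem]), hScard, ZMember.star_eq h₁ e₁]
    have hG' : Nat.card G = L.index * (Nat.card K₁ * Nat.card (Cfsg.sigmaCore L)) := by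
      rw [← h₁.card_eq_of_U_bot hU₁, Subgroup.index_mul_card]
    have hZ' : Nat.card Z = Nat.card K₁ * Nat.card ↥(Cfsg.sigmaCore L ⊓ Subgroup.centralizer (K₁ : Set G)) := by
      rw [← h₁.card_Z, e₁]
    obtain ⟨x, hx⟩ : ∃ x, Nat.card (Cfsg.sigmaCore L) = x + 1 :=
      ⟨_, (Nat.succ_pred_eq_of_pos Nat.card_pos).symm⟩
    have h3 := Nat.mul_le_mul_left (L.index * Nat.card K₁) h₁.three_mul_card_star_le
    rw [hDcard L hL, hS1, hG', hZ', hx, Nat.add_sub_cancel]
    rw [hx] at h3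
    nlinarith only [h3]
  have hsum := Finset.sum_le_sum hpt
  simp only [mul_add, mul_one, Finset.sum_add_distrib, ← Finset.mul_sum, Finset.sum_const, smul_eq_mul] at hsum
  have hn : 2 ≤ F.card := by
    obtain ⟨s, y, hs, hy, hyo⟩ := h.exists_line
    obtain ⟨L, hL, hσ⟩ := h.exists_member (Subgroup.mem_sup_left hy) hs hyo
    have hne : L ≠ M := fun e =>
      (h.hall.2.1 s hs (hyo ▸ Subgroup.orderOf_dvd_natCard K hy)).2.2.1 (e ▸ hσ)
    exact Finset.one_lt_card.2 ⟨L, hmemF hL, M, hMF, hne⟩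
  have hZ1 : 0 < Nat.card Z := Nat.card_pos
  have hG1 : 0 < Nat.card G := Nat.card_pos
  nlinarith [Nat.mul_le_mul_left (3 * Nat.card Z) htot, Nat.mul_le_mul_right (Nat.card G) hn]

end CfsgLib.OddLocal
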