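import Cfsg.Agent.Lib.OddLocal.KappaPartner

/-!
The factorisation `M = K U M_σ` and the data of BG 14.2.
-/

set_option autoImplicit false
set_option linter.style.haveILetI false
set_option linter.unusedSectionVars false

open scoped commutatorElement
open scoped Pointwise

namespace CfsgLib.OddLocal

open CfsgLib.Coprime
open CfsgLib.BG.FixedLine (conj_mem_of_le_normalizer mem_normalizer_of_conj)

universe u

variable {G : Type u} [Group G] [Finite G] {p q r s : ℕ} {M L K E U : Subgroup G}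

theorem exists_kappaData_of_compl (hG : Cfsg.IsMinSimpleOddOrder G) (hM : IsCoatom M)
    (hK : Cfsg.IsPiHallOf (Cfsg.kappa M) K M) (hK1 : K ≠ ⊥) (hE : Cfsg.IsComplIn E (Cfsg.sigmaCore M) M)
    (hKE : K ≤ E) : ∃ U : Subgroup G, KappaData M K E U := by
  by_cases h : ∃ (p : ℕ) (P L : Subgroup G), Tau3Fixed p M E P L
  · obtain ⟨p, P, L, h⟩ := h
    exact kappaData_of_tau3 h hK hKE
  · push Not at h
    exact kappaData_of_no_tau3 hG hM hK hK1 hE hKE h

theorem coprime_kappa_core (hK : Cfsg.IsPiHallOf (Cfsg.kappa M) K M) :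
    (Nat.card K).Coprime (Nat.card (Cfsg.sigmaCore M)) :=
  Nat.coprime_of_dvd fun r hr h1 h2 => (hK.2.1 r hr h1).2.2.1 (isPi_piCoreOf _ M r hr h2)

theorem card_of_sigmaDecomposition (hKU : Cfsg.IsSigmaDecomposition M K U) :
    Nat.card M = Nat.card U * (Nat.card K * Nat.card (Cfsg.sigmaCore M)) := by
  classical
  obtain ⟨hUM, hNM, hd, hsurj⟩ := hKU.compl
  rw [← card_sup_of_coprime (N := Cfsg.sigmaCore M) (H := K) (hKU.hall.1.trans (le_normalizer_piCoreOf _ M))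
    (coprime_kappa_core hKU.hall).symm |>.trans (mul_comm _ _), sup_comm]
  rw [← Nat.card_prod]
  refine (Nat.card_eq_of_bijective (fun x : U × ↥(K ⊔ Cfsg.sigmaCore M) =>
    (⟨x.1.1 * x.2.1, M.mul_mem (hUM x.1.2) (hNM x.2.2)⟩ : M)) ⟨fun x y he => ?_, fun m => ?_⟩).symm
  · have he' : x.1.1 * x.2.1 = y.1.1 * y.2.1 := congrArg Subtype.val he
    have h1 : y.1.1⁻¹ * x.1.1 ∈ U ⊓ (K ⊔ Cfsg.sigmaCore M) := ⟨U.mul_mem (U.inv_mem y.1.2) x.1.2, by
      rw [show y.1.1⁻¹ * x.1.1 = y.1.1⁻¹ * (x.1.1 * x.2.1) * x.2.1⁻¹ by group, he',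
        show y.1.1⁻¹ * (y.1.1 * y.2.1) * x.2.1⁻¹ = y.2.1 * x.2.1⁻¹ by group]
      exact Subgroup.mul_mem _ y.2.2 (Subgroup.inv_mem _ x.2.2)⟩
    rw [hd, Subgroup.mem_bot, inv_mul_eq_one] at h1
    rw [h1] at he'
    exact Prod.ext (Subtype.ext h1.symm) (Subtype.ext (mul_left_cancel he'))
  · obtain ⟨a, ha, k, hk, he⟩ := hsurj m m.2
    exact ⟨(⟨a, ha⟩, ⟨k, hk⟩), Subtype.ext he.symm⟩

theorem isPi_U (hG : Cfsg.IsMinSimpleOddOrder G) (hM : IsCoatom M) (hKU : Cfsg.IsSigmaDecomposition M K U)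
    (hq : q.Prime) (hd : q ∣ Nat.card U) : q ∉ Cfsg.kappa M ∧ q ∉ Cfsg.sigma M := by
  have hc := card_of_sigmaDecomposition hKU
  refine ⟨fun hκ => ?_, fun hσ => ?_⟩
  · refine hKU.hall.2.2 q hq hκ ?_
    have h := Subgroup.relIndex_mul_relIndex ⊥ K M bot_le hKU.hall.1
    simp only [Subgroup.relIndex_bot_left] at h
    rw [hc, mul_left_comm (Nat.card U)] at h
    rw [Nat.eq_of_mul_eq_mul_left Nat.card_pos h]
    exact hd.mul_right _
  · obtain ⟨E₀, hE₀⟩ := exists_compl hG hM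
    have h := card_eq_of_compl hE₀
    rw [hc, ← mul_assoc] at h
    exact not_sigma_of_dvd_compl hG hM hE₀ hq
      ((hd.mul_right _).trans (Nat.eq_of_mul_eq_mul_right Nat.card_pos h).dvd) hσ

theorem isCompl_UK (hG : Cfsg.IsMinSimpleOddOrder G) (hM : IsCoatom M) (hKU : Cfsg.IsSigmaDecomposition M K U) :
    Cfsg.IsComplIn (U ⊔ K) (Cfsg.sigmaCore M) M ∧ Nat.card ↥(U ⊔ K) = Nat.card U * Nat.card K := by
  have hUK : Nat.card ↥(U ⊔ K) = Nat.card U * Nat.card K :=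
    card_sup_of_coprime hKU.normal (Nat.coprime_of_dvd fun r hr h1 h2 =>
      (isPi_U hG hM hKU hr h1).1 (hKU.hall.2.1 r hr h2))
  refine ⟨⟨sup_le hKU.compl.1 hKU.hall.1, piCoreOf_le _ M, inf_eq_bot_of_coprime_card ?_, fun m hm => ?_⟩, hUK⟩
  · rw [hUK]
    exact Nat.Coprime.mul_left (Nat.coprime_of_dvd fun r hr h1 h2 =>
      (isPi_U hG hM hKU hr h1).2 (isPi_piCoreOf _ M r hr h2)) (coprime_kappa_core hKU.hall)
  · obtain ⟨a, ha, k, hk, rfl⟩ := hKU.compl.2.2.2 m hm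
    rw [← SetLike.mem_coe, Subgroup.coe_mul_of_left_le_normalizer_right _ _
      (show K ≤ Subgroup.normalizer (Cfsg.sigmaCore M : Set G) from
        hKU.hall.1.trans (le_normalizer_piCoreOf _ M))] at hk
    obtain ⟨b, hb, w, hw, rfl⟩ := Set.mem_mul.1 hk
    exact ⟨a * b, Subgroup.mul_mem_sup ha hb, w, hw, (mul_assoc a b w).symm⟩

/-- The data of BG 14.2 for a given factorisation. -/
theorem kappaData_of_decomposition (hG : Cfsg.IsMinSimpleOddOrder G) (hM : IsCoatom M)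
    (hKU : Cfsg.IsSigmaDecomposition M K U) (hK1 : K ≠ ⊥) : KappaData M K (U ⊔ K) U := by
  obtain ⟨hE, hc⟩ := isCompl_UK hG hM hKU
  obtain ⟨U', h⟩ := exists_kappaData_of_compl hG hM hKU.hall hK1 hE le_sup_right
  haveI := isSolvable_of_ne_top hG hM.1
  haveI : Group.IsSolvable ↥(U ⊔ K) := isSolvable_of_le hE.1 inferInstance
  have hle : U ≤ U' := by
    obtain ⟨m, hm, hmU⟩ := exists_conj_le_hallOf (π := {q | q.Prime ∧ q ∉ Cfsg.kappa M ∧ q ∉ Cfsg.sigma M})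
      (X := U ⊔ K) (H := U') ⟨h.hUE, h.hallU.2.1, fun r hr hπ hd => h.hallU.2.2 r hr hπ (hd.trans (by
        rw [← Subgroup.relIndex_mul_relIndex U' (U ⊔ K) M h.hUE hE.1]
        exact dvd_mul_right _ _))⟩ le_sup_left fun r hr hd => ⟨hr, isPi_U hG hM hKU hr hd⟩
    intro x hx
    have h1 : m * x * m⁻¹ ∈ U' := hmU (by
      rw [mem_conj_smul_iff, show m⁻¹ * (m * x * m⁻¹) * m = x by group]; exact hx)
    have h2 := conj_mem_of_le_normalizer (inv_mem (h.normalU hm)) _ h1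
    rwa [inv_inv, show m⁻¹ * (m * x * m⁻¹) * m = x by group] at h2
  have hc' : Nat.card ↥(U' ⊔ K) = Nat.card U' * Nat.card K :=
    card_sup_of_coprime (h.hKE.trans h.normalU) (Nat.coprime_of_dvd fun r hr h1 h2 =>
      (h.hallU.2.1 r hr h1).2.1 (h.hall.2.1 r hr h2))
  rw [h.sup_eq, hc] at hc'
  obtain rfl : U = U' :=
    Subgroup.eq_of_le_of_card_ge hle (Nat.eq_of_mul_eq_mul_right Nat.card_pos hc').ge
  exact h

theorem exists_hall_kappa (hG : Cfsg.IsMinSimpleOddOrder G) (hM : IsCoatom M) :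
    ∃ K : Subgroup G, Cfsg.IsPiHallOf (Cfsg.kappa M) K M := by
  haveI := isSolvable_of_ne_top hG hM.1
  obtain ⟨H, hH⟩ := CfsgLib.BG.exists_piHall (G := ↥M) (Cfsg.kappa M)
  exact ⟨_, isPiHallOf_map hH⟩

/-- A Hall `κ`-subgroup is cyclic. -/
theorem isCyclic_hall_kappa (hG : Cfsg.IsMinSimpleOddOrder G) (hM : IsCoatom M)
    (hK : Cfsg.IsPiHallOf (Cfsg.kappa M) K M) : IsCyclic K := by
  by_cases hK1 : K = ⊥
  · subst hK1; infer_instance
  obtain ⟨E, U, h⟩ := exists_kappaData hG hM hK hK1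
  obtain ⟨Ms, Es, Us, hp⟩ := exists_partner h
  exact hp.cyclic_K

theorem exists_decomposition (hG : Cfsg.IsMinSimpleOddOrder G) (hM : IsCoatom M)
    (hK : Cfsg.IsPiHallOf (Cfsg.kappa M) K M) : ∃ U : Subgroup G, Cfsg.IsSigmaDecomposition M K U := by
  have hc := isCyclic_hall_kappa hG hM hK
  by_cases hK1 : K = ⊥
  · obtain ⟨E, hE⟩ := exists_compl hG hM
    subst hK1
    exact ⟨E, hc, hK, by rwa [bot_sup_eq], bot_le⟩
  obtain ⟨E, U, h⟩ := exists_kappaData hG hM hK hK1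
  refine ⟨U, hc, hK, ⟨h.hallU.1, sup_le hK.1 (piCoreOf_le _ M), inf_eq_bot_of_coprime_card ?_, fun m hm => ?_⟩,
    h.hKE.trans h.normalU⟩
  · rw [sup_comm, card_sup_of_coprime (show K ≤ Subgroup.normalizer (Cfsg.sigmaCore M : Set G) from
      hK.1.trans (le_normalizer_piCoreOf _ M)) (coprime_kappa_core hK).symm]
    exact Nat.Coprime.mul_right (Nat.coprime_of_dvd fun r hr h1 h2 =>
      (h.hallU.2.1 r hr h1).2.2 (isPi_piCoreOf _ M r hr h2)) (Nat.coprime_of_dvd fun r hr h1 h2 =>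
      (h.hallU.2.1 r hr h1).2.1 (hK.2.1 r hr h2))
  · obtain ⟨a, ha, k, hk, rfl⟩ := h.hE.2.2.2 m hm
    rw [← h.sup_eq, ← SetLike.mem_coe,
      Subgroup.coe_mul_of_right_le_normalizer_left _ _ (h.hKE.trans h.normalU)] at ha
    obtain ⟨u, hu, b, hb, rfl⟩ := Set.mem_mul.1 ha
    exact ⟨u, hu, b * k, Subgroup.mul_mem_sup hb hk, mul_assoc u b k⟩

/-- `U M_σ` is normal in `M`. -/
theorem le_normalizer_UM (hKU : Cfsg.IsSigmaDecomposition M K U) :
    M ≤ Subgroup.normalizer ((U ⊔ Cfsg.sigmaCore M : Subgroup G) : Set G) := by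
  have hσ := le_normalizer_piCoreOf (Cfsg.sigma M) M
  have h1 : U ⊔ (K ⊔ Cfsg.sigmaCore M) ≤ Subgroup.normalizer ((U ⊔ Cfsg.sigmaCore M : Subgroup G) : Set G) := by
    refine sup_le (le_sup_left.trans Subgroup.le_normalizer) (sup_le (fun k hk => ?_)
      (le_sup_right.trans Subgroup.le_normalizer))
    rw [mem_normalizer_iff_conj_smul, Subgroup.smul_sup,
      conj_smul_eq_self_of_mem_normalizer (hKU.normal hk),
      conj_smul_eq_self_of_mem_normalizer (show k ∈ Subgroup.normalizer (Cfsg.sigmaCore M : Set G) from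
        hσ (hKU.hall.1 hk))]
  intro m hm
  obtain ⟨a, ha, k, hk, rfl⟩ := hKU.compl.2.2.2 m hm
  exact h1 (Subgroup.mul_mem_sup ha hk)

end CfsgLib.OddLocal
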