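import Cfsg.Agent.Lib.OddLocal.KappaZ

/-!
BG 14.7: the set `Z ∖ (K ∪ K*)`.
-/

set_option autoImplicit false
set_option linter.style.haveILetI false
set_option linter.unusedSectionVars false

open scoped commutatorElement
open scoped Pointwise

namespace CfsgLib.OddLocal

open CfsgLib.Coprime
open CfsgLib.BG.FixedLine (conj_mem_of_le_normalizer mem_normalizer_of_conj)

universe u

variable {G : Type u} [Group G] [Finite G] {p q r s t : ℕ} {M L H Z K E U Ms Es Us : Subgroup G}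

/-- `Ẑ = Z ∖ (K ∪ K*)`. -/
def zHat (M K : Subgroup G) : Set G :=
  (↑(K ⊔ (Cfsg.sigmaCore M ⊓ Subgroup.centralizer (K : Set G))) : Set G) \
    ((K : Set G) ∪ ↑(Cfsg.sigmaCore M ⊓ Subgroup.centralizer (K : Set G)))

theorem mem_zHat {t : G} : t ∈ zHat M K ↔
    t ∈ K ⊔ (Cfsg.sigmaCore M ⊓ Subgroup.centralizer (K : Set G)) ∧ t ∉ K ∧
      t ∉ Cfsg.sigmaCore M ⊓ Subgroup.centralizer (K : Set G) := by
  simp [zHat]

theorem KappaData.mem_zHat_conj_iff (h : KappaData M K E U) {g t : G} (ht : t ∈ zHat M K)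
    (hgt : g * t * g⁻¹ ∈ zHat M K) : g ∈ K ⊔ (Cfsg.sigmaCore M ⊓ Subgroup.centralizer (K : Set G)) :=
  h.hat_ti (mem_zHat.1 ht).1 (mem_zHat.1 ht).2.1 (mem_zHat.1 ht).2.2 (mem_zHat.1 hgt).1

theorem KappaData.zHat_card (h : KappaData M K E U) :
    (zHat M K).ncard = Nat.card K * Nat.card ↥(Cfsg.sigmaCore M ⊓ Subgroup.centralizer (K : Set G)) -
      Nat.card K - Nat.card ↥(Cfsg.sigmaCore M ⊓ Subgroup.centralizer (K : Set G)) + 1 := by
  set S := Cfsg.sigmaCore M ⊓ Subgroup.centralizer (K : Set G) with hS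
  have hsub : (K : Set G) ∪ ↑S ⊆ (↑(K ⊔ S) : Set G) :=
    Set.union_subset (SetLike.coe_subset_coe.2 le_sup_left) (SetLike.coe_subset_coe.2 le_sup_right)
  have hu := Set.ncard_union_add_ncard_inter (K : Set G) (S : Set G)
  have hi : ((K : Set G) ∩ (S : Set G)).ncard = 1 := by
    rw [← Subgroup.coe_inf, ← Nat.card_coe_set_eq]
    exact Subgroup.card_eq_one.2 (le_bot_iff.1 (h.K_inf_core ▸ inf_le_inf_left K inf_le_left))
  rw [zHat, Set.ncard_sdiff hsub]
  rw [hi, ← Nat.card_coe_set_eq (K : Set G), ← Nat.card_coe_set_eq (S : Set G)] at hu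
  rw [← Nat.card_coe_set_eq (↑(K ⊔ S) : Set G)]
  show Nat.card ↥(K ⊔ S) - _ = _
  rw [h.card_Z, ← hS]
  have hle : ((K : Set G) ∪ ↑S).ncard ≤ Nat.card K * Nat.card S := by
    rw [hS, ← h.card_Z, ← hS]
    exact (Set.ncard_le_ncard hsub (Set.toFinite _)).trans (le_of_eq (Nat.card_coe_set_eq _).symm)
  have hu' : ((K : Set G) ∪ ↑S).ncard + 1 = Nat.card K + Nat.card S := hu
  have hK0 : 1 ≤ Nat.card K := Nat.card_pos
  have hS0 : 1 ≤ Nat.card S := Nat.card_pos
  have hb : Nat.card K + Nat.card S ≤ Nat.card K * Nat.card S + 1 := by nlinarith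
  have hbig : Nat.card K + Nat.card S ≤ Nat.card K * Nat.card S := by
    have hK2 : Nat.card K ≠ 1 := fun e => h.hK1 (Subgroup.card_eq_one.1 e)
    have hS2 : Nat.card S ≠ 1 := fun e => h.fixed_ne (Subgroup.card_eq_one.1 e)
    have h1 : 2 ≤ Nat.card K := by omega
    have h2 : 2 ≤ Nat.card S := by omega
    nlinarith
  omega

theorem KappaData.zHat_bound (h : KappaData M K E U) :
    Nat.card K * Nat.card ↥(Cfsg.sigmaCore M ⊓ Subgroup.centralizer (K : Set G)) <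
      2 * (zHat M K).ncard := by
  have hodd : ∀ {A : Subgroup G}, A ≠ ⊥ → 3 ≤ Nat.card A := fun {A} hA => by
    have h1 : Odd (Nat.card A) := Odd.of_dvd_nat h.hG.1 (Subgroup.card_subgroup_dvd_card A)
    have h2 : Nat.card A ≠ 1 := fun e => hA (Subgroup.card_eq_one.1 e)
    have h3 : 0 < Nat.card A := Nat.card_pos
    rw [Nat.odd_iff] at h1
    omega
  have hk := hodd h.hK1
  have hs := hodd h.fixed_ne
  have hne : Nat.card K ≠ Nat.card ↥(Cfsg.sigmaCore M ⊓ Subgroup.centralizer (K : Set G)) := fun e => by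
    obtain ⟨r, hr, hd⟩ := Nat.exists_prime_and_dvd (n := Nat.card K) (by omega)
    exact (h.hall.2.1 r hr hd).2.2.1 (isPi_piCoreOf _ M r hr ((e ▸ hd).trans (Subgroup.card_dvd_of_le inf_le_left)))
  rw [h.zHat_card]
  obtain ⟨a, ha⟩ := Nat.exists_eq_add_of_le hk
  obtain ⟨b, hb⟩ := Nat.exists_eq_add_of_le hs
  rw [ha, hb] at hne ⊢
  have hev : ∀ {A : Subgroup G} {n : ℕ}, Nat.card A = 3 + n → n % 2 = 0 := fun {A n} e => by
    have h1 : Odd (Nat.card A) := Odd.of_dvd_nat h.hG.1 (Subgroup.card_subgroup_dvd_card A)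
    rw [e, Nat.odd_iff] at h1
    omega
  have ha2 := hev ha
  have hb2 := hev hb
  have hab : 1 < a + b := by omega
  have he : (3 + a) * (3 + b) = 9 + 3 * a + 3 * b + a * b := by ring
  rw [he]
  generalize a * b = m
  omega

theorem KappaData.zHat_nonempty (h : KappaData M K E U) : (zHat M K).Nonempty := by
  refine Set.nonempty_of_ncard_ne_zero fun e => ?_
  have := h.zHat_bound
  rw [e, mul_zero] at this
  exact Nat.not_lt_zero _ this

/-- The number of conjugates of `Ẑ`. -/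
theorem KappaData.card_conj_zHat (h : KappaData M K E U) :
    Nat.card K * Nat.card ↥(Cfsg.sigmaCore M ⊓ Subgroup.centralizer (K : Set G)) *
        {a : G | ∃ g : G, ∃ z ∈ zHat M K, a = g * z * g⁻¹}.ncard = (zHat M K).ncard * Nat.card G := by
  classical
  set Z := K ⊔ (Cfsg.sigmaCore M ⊓ Subgroup.centralizer (K : Set G)) with hZ
  have hb : Nat.card ((G ⧸ Z) × zHat M K) = {a : G | ∃ g : G, ∃ z ∈ zHat M K, a = g * z * g⁻¹}.ncard := by
    rw [← Nat.card_coe_set_eq]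
    refine Nat.card_eq_of_bijective
      (fun x => ⟨x.1.out * x.2 * x.1.out⁻¹, x.1.out, x.2, x.2.2, rfl⟩) ⟨fun x y he => ?_, ?_⟩
    · obtain ⟨c, t, ht⟩ := x
      obtain ⟨c', t', ht'⟩ := y
      have he' : c.out * t * c.out⁻¹ = c'.out * t' * c'.out⁻¹ := congrArg Subtype.val he
      have hg : c'.out⁻¹ * c.out ∈ Z := h.mem_zHat_conj_iff ht (by
        rw [show c'.out⁻¹ * c.out * t * (c'.out⁻¹ * c.out)⁻¹ = c'.out⁻¹ * (c.out * t * c.out⁻¹) * c'.out by group,
          he', show c'.out⁻¹ * (c'.out * t' * c'.out⁻¹) * c'.out = t' by group]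
        exact ht')
      have hcc : c = c' := by
        rw [← QuotientGroup.out_eq' c, ← QuotientGroup.out_eq' c']
        exact (QuotientGroup.eq.2 hg).symm
      subst hcc
      exact Prod.ext rfl (Subtype.ext (mul_left_cancel (mul_right_cancel he')))
    · rintro ⟨a, g, z, hz, rfl⟩
      obtain ⟨w, hw⟩ := QuotientGroup.mk_out_eq_mul Z g
      obtain ⟨hzZ, hzK, hzS⟩ := mem_zHat.1 hz
      have hwi : (w : G)⁻¹ ∈ Z := Z.inv_mem w.2
      refine ⟨((g : G ⧸ Z), ⟨(w : G)⁻¹ * z * w, mem_zHat.2 ⟨Z.mul_mem (Z.mul_mem hwi hzZ) w.2, fun e => hzK ?_,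
        fun e => hzS ?_⟩⟩), Subtype.ext ?_⟩
      · have := (h.conj_mem_Z_of_mem w.2).1 e
        rwa [show (w : G) * ((w : G)⁻¹ * z * w) * (w : G)⁻¹ = z by group] at this
      · have := (h.conj_mem_Z_of_mem w.2).2 e
        rwa [show (w : G) * ((w : G)⁻¹ * z * w) * (w : G)⁻¹ = z by group] at this
      · show (g : G ⧸ Z).out * ((w : G)⁻¹ * z * w) * (g : G ⧸ Z).out⁻¹ = g * z * g⁻¹
        rw [hw]; group
  rw [← hb, Nat.card_prod, Nat.card_coe_set_eq, ← Subgroup.index_eq_card, ← h.card_Z, ← hZ,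
    ← Subgroup.index_mul_card Z]
  ring

/-- The conjugates of `Ẑ` make up more than half of `G`. -/
theorem KappaData.card_lt (h : KappaData M K E U) :
    Nat.card G < 2 * {a : G | ∃ g : G, ∃ z ∈ zHat M K, a = g * z * g⁻¹}.ncard := by
  refine Nat.lt_of_mul_lt_mul_left
    (a := Nat.card K * Nat.card ↥(Cfsg.sigmaCore M ⊓ Subgroup.centralizer (K : Set G))) ?_
  calc _ < 2 * (zHat M K).ncard * Nat.card G := Nat.mul_lt_mul_of_pos_right h.zHat_bound Nat.card_pos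
    _ = _ := by rw [mul_left_comm _ 2, h.card_conj_zHat, mul_assoc]

/-- The partner, from a factorisation. -/
theorem partner_of_decomposition (hG : Cfsg.IsMinSimpleOddOrder G) (hM : IsCoatom M)
    (hKU : Cfsg.IsSigmaDecomposition M K U) (hK1 : K ≠ ⊥) {Mstar : Subgroup G} (hMstar : IsCoatom Mstar)
    (hKst : K = Cfsg.sigmaCore Mstar ⊓
      Subgroup.centralizer ((Cfsg.sigmaCore M ⊓ Subgroup.centralizer (K : Set G)) : Set G))
    (hKstH : Cfsg.IsPiHallOf (Cfsg.kappa Mstar) (Cfsg.sigmaCore M ⊓ Subgroup.centralizer (K : Set G)) Mstar) :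
    ∃ Es Us : Subgroup G, Partner M K (U ⊔ K) U Mstar Es Us := by
  obtain ⟨Ms, Es, Us, h⟩ := exists_partner (kappaData_of_decomposition hG hM hKU hK1)
  exact ⟨Es, Us, h.unique hMstar hKst hKstH ▸ h⟩

/-- Every maximal subgroup with `κ` nonempty is conjugate to `M` or to its partner. -/
theorem Partner.classes (h : Partner M K E U Ms Es Us) (hH : IsCoatom H) (hκ : (Cfsg.kappa H).Nonempty) :
    ∃ g : G, H = MulAut.conj g • M ∨ H = MulAut.conj g • Ms := by
  obtain ⟨K₁, hK₁⟩ := exists_hall_kappa h.data.hG hH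
  have hK₁1 : K₁ ≠ ⊥ := fun e => by
    obtain ⟨q, hq⟩ := hκ
    refine hK₁.2.2 q hq.1 hq ?_
    rw [e, Subgroup.relIndex_bot_left]
    exact hq.2.1
  obtain ⟨E₁, U₁, h₁⟩ := exists_kappaData h.data.hG hH hK₁ hK₁1
  refine h.two_classes hH hκ ?_
  have hne : ({a : G | ∃ g : G, ∃ z ∈ zHat M K, a = g * z * g⁻¹} ∩
      {a : G | ∃ g : G, ∃ z ∈ zHat H K₁, a = g * z * g⁻¹}).Nonempty := by
    by_contra he
    rw [Set.not_nonempty_iff_eq_empty, ← Set.disjoint_iff_inter_eq_empty] at he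
    have h1 := Set.ncard_union_eq he
    have h2 := Set.ncard_le_card ({a : G | ∃ g : G, ∃ z ∈ zHat M K, a = g * z * g⁻¹} ∪
      {a : G | ∃ g : G, ∃ z ∈ zHat H K₁, a = g * z * g⁻¹})
    have h3 := h.data.card_lt
    have h4 := h₁.card_lt
    omega
  obtain ⟨a, ⟨x, z, hz, rfl⟩, y, t, ht, he⟩ := hne
  refine ⟨x⁻¹ * y, K₁, E₁, U₁, h₁, t, (mem_zHat.1 ht).1, (mem_zHat.1 ht).2.1, ?_⟩
  rw [show x⁻¹ * y * t * (x⁻¹ * y)⁻¹ = x⁻¹ * (y * t * y⁻¹) * x by group, ← he,
    show x⁻¹ * (x * z * x⁻¹) * x = z by group]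
  exact (mem_zHat.1 hz).1

end CfsgLib.OddLocal
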