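import Cfsg.Agent.Lib.OddLocal.KappaPair
import Cfsg.Agent.S1429
import Cfsg.Agent.S1446

/-!
BG 14.7: the partner of a maximal subgroup with nonempty `κ`.
-/

set_option autoImplicit false
set_option linter.style.haveILetI false
set_option linter.unusedSectionVars false

open scoped commutatorElement
open scoped Pointwise

namespace CfsgLib.OddLocal

open CfsgLib.Coprime
open CfsgLib.BG.FixedLine (conj_mem_of_le_normalizer mem_normalizer_of_conj)

universe u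

variable {G : Type u} [Group G] [Finite G] {p q r s : ℕ} {M L Z K E U : Subgroup G}

/-- The `σ`-part of a product of commuting elements of coprime orders is a power of the product. -/
theorem mem_zpowers_mul_of_coprime {a b : G} (hab : Commute a b) (hco : (orderOf a).Coprime (orderOf b)) :
    a ∈ Subgroup.zpowers (a * b) := by
  obtain ⟨n, hn1, hn2⟩ := Nat.chineseRemainder hco 1 0
  refine Subgroup.mem_zpowers_iff.2 ⟨n, ?_⟩
  rw [zpow_natCast, hab.mul_pow, (pow_eq_pow_iff_modEq (x := a)).2 hn1, (pow_eq_pow_iff_modEq (x := b)).2 hn2,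
    pow_one, pow_zero, mul_one]

namespace KappaData

theorem coprime_orderOf (h : KappaData M K E U) {k z : G} (hk : k ∈ K)
    (hz : z ∈ Cfsg.sigmaCore M ⊓ Subgroup.centralizer (K : Set G)) : (orderOf k).Coprime (orderOf z) :=
  Nat.coprime_of_dvd fun r hr h1 h2 => (h.hall.2.1 r hr (h1.trans (Subgroup.orderOf_dvd_natCard K hk))).2.2.1
    (sigma_of_orderOf hz.1 hr h2)

/-- An element of `Z` of order prime to `σ(M)` lies in `K`. -/
theorem mem_K (h : KappaData M K E U) {t : G}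
    (ht : t ∈ K ⊔ (Cfsg.sigmaCore M ⊓ Subgroup.centralizer (K : Set G)))
    (hσ : ∀ r : ℕ, r.Prime → r ∣ orderOf t → r ∉ Cfsg.sigma M) : t ∈ K := by
  obtain ⟨k, hk, z, hz, rfl⟩ := h.mem_Z_iff.1 ht
  have hzt : z ∈ Subgroup.zpowers (k * z) := by
    rw [(h.star_commute hk hz).eq]
    exact mem_zpowers_mul_of_coprime (h.star_commute hk hz).symm (h.coprime_orderOf hk hz).symm
  by_cases hz1 : z = 1
  · rw [hz1, mul_one]; exact hk
  obtain ⟨r, hr, hd⟩ := Nat.exists_prime_and_dvd fun e => hz1 (orderOf_eq_one_iff.1 e)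
  exact absurd (sigma_of_orderOf hz.1 hr hd) (hσ r hr (hd.trans (orderOf_dvd_of_mem_zpowers hzt)))

/-- An element of prime order of `Z` lies in `K` or in `K*`. -/
theorem prime_mem (h : KappaData M K E U) {t : G}
    (ht : t ∈ K ⊔ (Cfsg.sigmaCore M ⊓ Subgroup.centralizer (K : Set G))) (hq : q.Prime) (hto : orderOf t = q) :
    (q ∈ Cfsg.sigma M → t ∈ Cfsg.sigmaCore M ⊓ Subgroup.centralizer (K : Set G)) ∧
      (q ∉ Cfsg.sigma M → t ∈ K) :=
  ⟨fun hσ => h.Z_inf_core.le ⟨ht, sigma_mem_of_elem h.hG h.hM hq hσ (h.Z_le ht) (k := 1)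
    (by rw [pow_one, ← hto, pow_orderOf_eq_one])⟩, fun hσ => h.mem_K ht fun r hr hd => by
    rw [hto] at hd
    exact (Nat.prime_dvd_prime_iff_eq hr hq).1 hd ▸ hσ⟩

theorem conj_mem_Z_of_mem (h : KappaData M K E U) {g t : G}
    (hg : g ∈ K ⊔ (Cfsg.sigmaCore M ⊓ Subgroup.centralizer (K : Set G))) :
    (t ∈ K → g * t * g⁻¹ ∈ K) ∧ (t ∈ Cfsg.sigmaCore M ⊓ Subgroup.centralizer (K : Set G) →
      g * t * g⁻¹ ∈ Cfsg.sigmaCore M ⊓ Subgroup.centralizer (K : Set G)) := by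
  have hgN := h.inf_normalizer.ge hg
  refine ⟨fun ht => conj_mem_of_le_normalizer hgN.2 t ht, fun ht => h.Z_inf_core.le ⟨?_, ?_⟩⟩
  · exact Subgroup.mul_mem _ (Subgroup.mul_mem _ hg (Subgroup.mem_sup_right ht)) (Subgroup.inv_mem _ hg)
  · exact conj_mem_of_le_normalizer (le_normalizer_piCoreOf _ M (h.Z_le hg)) t ht.1

/-- `Z ∖ (K ∪ K*)` is a TI-set. -/
theorem hat_ti (h : KappaData M K E U) {g t : G}
    (ht : t ∈ K ⊔ (Cfsg.sigmaCore M ⊓ Subgroup.centralizer (K : Set G))) (htK : t ∉ K)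
    (htS : t ∉ Cfsg.sigmaCore M ⊓ Subgroup.centralizer (K : Set G))
    (hgt : g * t * g⁻¹ ∈ K ⊔ (Cfsg.sigmaCore M ⊓ Subgroup.centralizer (K : Set G))) :
    g ∈ K ⊔ (Cfsg.sigmaCore M ⊓ Subgroup.centralizer (K : Set G)) := by
  obtain ⟨k, hk, z, hz, rfl⟩ := h.mem_Z_iff.1 ht
  have hz1 : z ≠ 1 := fun e => htK (by rw [e, mul_one]; exact hk)
  have hk1 : k ≠ 1 := fun e => htS (by rw [e, one_mul]; exact hz)
  have hkz := h.star_commute hk hz
  have hzt : z ∈ Subgroup.zpowers (k * z) := by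
    rw [hkz.eq]; exact mem_zpowers_mul_of_coprime hkz.symm (h.coprime_orderOf hk hz).symm
  have hkt : k ∈ Subgroup.zpowers (k * z) := mem_zpowers_mul_of_coprime hkz (h.coprime_orderOf hk hz)
  have hconj : ∀ {w : G}, w ∈ Subgroup.zpowers (k * z) →
      g * w * g⁻¹ ∈ K ⊔ (Cfsg.sigmaCore M ⊓ Subgroup.centralizer (K : Set G)) := fun {w} hw => by
    obtain ⟨i, rfl⟩ := Subgroup.mem_zpowers_iff.1 hw
    rw [← conj_zpow]
    exact zpow_mem hgt i
  obtain ⟨q, c, hq, hc, hco⟩ := exists_prime_power_elem hz1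
  obtain ⟨s, y, hs, hy, hyo⟩ := exists_prime_power_elem hk1
  have hgM : g ∈ M := h.mem_of_conj_star hq (Subgroup.zpowers_le.2 hz hc) hco
    (h.Z_le (hconj (Subgroup.zpowers_le.2 hzt hc)))
  have hyK : y ∈ K := Subgroup.zpowers_le.2 hk hy
  have hgo : orderOf (g * y * g⁻¹) = s := by
    rw [← hyo]; exact orderOf_injective (MulAut.conj g).toMonoidHom (MulAut.conj g).injective y
  exact h.mem_of_conj_line hgM hyK (hyo.symm ▸ hs) ((h.prime_mem (hconj (Subgroup.zpowers_le.2 hkt hy)) hs hgo).2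
    (h.hall.2.1 s hs (hyo ▸ Subgroup.orderOf_dvd_natCard K hyK)).2.2.1)

theorem card_Z (h : KappaData M K E U) :
    Nat.card ↥(K ⊔ (Cfsg.sigmaCore M ⊓ Subgroup.centralizer (K : Set G))) =
      Nat.card K * Nat.card ↥(Cfsg.sigmaCore M ⊓ Subgroup.centralizer (K : Set G)) :=
  card_sup_of_coprime (fun z hz => mem_normalizer_of_conj fun k hk => by
      rw [← (h.star_commute hk hz).eq, mul_inv_cancel_right]; exact hk)
    (Nat.coprime_of_dvd fun r hr h1 h2 => (h.hall.2.1 r hr h1).2.2.1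
      (isPi_piCoreOf _ M r hr (h2.trans (Subgroup.card_dvd_of_le inf_le_left))))

theorem U_eq_bot_iff (h : KappaData M K E U) :
    U = ⊥ ↔ ∀ q : ℕ, q.Prime → q ∣ Nat.card M → q ∉ Cfsg.sigma M → q ∈ Cfsg.kappa M := by
  refine ⟨fun e q hq hd hσ => ?_, fun hp => by_contra fun hU => ?_⟩
  · by_contra hκ
    refine h.hallU.2.2 q hq ⟨hq, hκ, hσ⟩ ?_
    rw [e, Subgroup.relIndex_bot_left]; exact hd
  · obtain ⟨q, hq, hd⟩ := Nat.exists_prime_and_dvd fun e : Nat.card U = 1 => hU (Subgroup.card_eq_one.1 e)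
    obtain ⟨-, hκ, hσ⟩ := h.hallU.2.1 q hq hd
    exact hκ (hp q hq (hd.trans (Subgroup.card_dvd_of_le h.hallU.1)) hσ)

theorem exists_line (h : KappaData M K E U) : ∃ (s : ℕ) (y : G), s.Prime ∧ y ∈ K ∧ orderOf y = s := by
  obtain ⟨r, b, hb, hr, hbo⟩ := h.exists_tau1
  exact ⟨r, b, hr.1, hb, hbo⟩

/-- `K*` is a proper subgroup of `M_σ` of index at least `3`. -/
theorem three_mul_card_star_le (h : KappaData M K E U) :
    3 * Nat.card ↥(Cfsg.sigmaCore M ⊓ Subgroup.centralizer (K : Set G)) ≤ Nat.card (Cfsg.sigmaCore M) := by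
  obtain ⟨q, z, hq, hz, hzo⟩ := h.exists_star_prime
  haveI := Fact.mk hq
  obtain ⟨T₀⟩ : Nonempty (Sylow q G) := inferInstance
  obtain ⟨g, hg⟩ := exists_conj_sylow_normalizer (sigma_of_mem_core hq hz.1 hzo) T₀
  set T : Sylow q G := g⁻¹ • T₀ with hT
  have hTM : (T : Subgroup G) ≤ M := fun x hx => by
    replace hx : x ∈ MulAut.conj g⁻¹ • (T₀ : Subgroup G) := hx
    rw [mem_conj_smul_iff] at hx
    have h2 := (Subgroup.le_normalizer.trans hg) hx
    rw [mem_conj_smul_iff] at h2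
    simpa [mul_assoc] using h2
  have hTσ := le_sigmaCore_of_isPGroup h.hG h.hM hq (sigma_of_mem_core hq hz.1 hzo) hTM T.2
  have hi := Subgroup.relIndex_mul_relIndex ⊥ (Cfsg.sigmaCore M ⊓ Subgroup.centralizer (K : Set G))
    (Cfsg.sigmaCore M) bot_le inf_le_left
  simp only [Subgroup.relIndex_bot_left] at hi
  have hne : (Cfsg.sigmaCore M ⊓ Subgroup.centralizer (K : Set G)).relIndex (Cfsg.sigmaCore M) ≠ 1 := fun e =>
    h.not_sylow_le_star hz hzo T hTM (hTσ.trans (Subgroup.relIndex_eq_one.1 e))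
  have hd := Dvd.intro_left _ hi
  obtain ⟨c, hc⟩ := hd.trans (Subgroup.card_subgroup_dvd_card _)
  have hodd := h.hG.1
  rw [← hi, mul_comm 3]
  refine Nat.mul_le_mul le_rfl ?_
  by_contra hlt
  have h0 : (Cfsg.sigmaCore M ⊓ Subgroup.centralizer (K : Set G)).relIndex (Cfsg.sigmaCore M) ≠ 0 := fun e => by
    rw [e, mul_zero] at hi; exact absurd hi.symm Nat.card_pos.ne'
  have h2 : (Cfsg.sigmaCore M ⊓ Subgroup.centralizer (K : Set G)).relIndex (Cfsg.sigmaCore M) = 2 := by omega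
  rw [h2] at hc
  have := hodd
  rw [Nat.odd_iff] at this
  omega

/-- BG 3.10 applied to `U K` on `M_σ`. -/
theorem prime_of_U_ne_bot (h : KappaData M K E U) (hU : U ≠ ⊥) : (Nat.card K).Prime := by
  classical
  have hG := h.hG
  have hM := h.hM
  obtain ⟨p, hp, hd⟩ := Nat.exists_prime_and_dvd fun e : Nat.card U = 1 => hU (Subgroup.card_eq_one.1 e)
  haveI := Fact.mk hp
  haveI := isSolvable_of_ne_top hG hM.1
  obtain ⟨-, hκ, hσ⟩ := h.hallU.2.1 p hp hd
  have hpM : p ∣ Nat.card M := hd.trans (Subgroup.card_dvd_of_le h.hallU.1)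
  have hP1 : ¬ ∀ q : ℕ, q.Prime → q ∣ Nat.card M → q ∉ Cfsg.sigma M → q ∈ Cfsg.kappa M := fun e =>
    hU (h.U_eq_bot_iff.2 e)
  obtain ⟨S⟩ : Nonempty (Sylow p M) := inferInstance
  obtain ⟨-, hfix, hnil⟩ := Cfsg.Agent.S1429.result hG M hM hP1 p hpM
    (fun e => e.elim hσ hκ) S
  obtain ⟨m, hm, hmU⟩ := exists_conj_le_hallOf h.hallU (Subgroup.map_subtype_le (S : Subgroup M))
    (fun r hr hrd => by
      obtain ⟨n, hn⟩ := (S.2.map M.subtype).exists_card_eq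
      rw [hn] at hrd
      have := (Nat.prime_dvd_prime_iff_eq hr hp).1 (hr.dvd_of_dvd_pow hrd)
      exact ⟨hr, this ▸ hκ, this ▸ hσ⟩)
  have hCU : Cfsg.sigmaCore M ⊓ Subgroup.centralizer (U : Set G) = ⊥ := (Subgroup.eq_bot_iff_forall _).2 fun w hw => by
    have h1 : m⁻¹ * w * m ∈ (⊥ : Subgroup G) := by
      rw [← hfix]
      refine ⟨?_, ?_⟩
      · have := conj_mem_of_le_normalizer (le_normalizer_piCoreOf _ M (inv_mem hm)) w hw.1
        rwa [inv_inv] at this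
      · refine Subgroup.mem_centralizer_iff.2 fun x hx => ?_
        have hmem : m⁻¹ * w * m ∈ Subgroup.centralizer {x : G | x ∈ (S : Subgroup M).map M.subtype ∧ x ^ p = 1} := by
          refine Subgroup.mem_centralizer_iff.2 fun y hy => ?_
          have hc := commute_of_mem_centralizer (hmU (show m * y * m⁻¹ ∈ _ by
            rw [mem_conj_smul_iff, show m⁻¹ * (m * y * m⁻¹) * m = y by group]; exact hy.1)) hw.2
          calc y * (m⁻¹ * w * m) = m⁻¹ * ((m * y * m⁻¹) * w) * m := by group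
            _ = m⁻¹ * (w * (m * y * m⁻¹)) * m := by rw [hc.eq]
            _ = _ := by group
        rw [← Subgroup.centralizer_closure] at hmem
        exact Subgroup.mem_centralizer_iff.1 hmem x hx
    rw [Subgroup.mem_bot] at h1
    calc w = m * (m⁻¹ * w * m) * m⁻¹ := by group
      _ = 1 := by rw [h1, mul_one, mul_inv_cancel]
  have hσ1 : Cfsg.sigmaCore M ≠ ⊥ := fun e => h.fixed_ne (by rw [e, bot_inf_eq])
  have hEc : (Nat.card E).Coprime (Nat.card (Cfsg.sigmaCore M)) := Nat.coprime_of_dvd fun r hr h1 h2 =>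
    not_sigma_of_dvd_compl hG hM h.hE hr h1 (isPi_piCoreOf _ M r hr h2)
  refine (Cfsg.Agent.S1446.result U K (Cfsg.sigmaCore M) hU h.hK1 (inf_eq_bot_of_coprime_card
      (Nat.coprime_of_dvd fun r hr h1 h2 => (h.hallU.2.1 r hr h1).2.1 (h.hall.2.1 r hr h2)))
    (h.hKE.trans h.normalU) h.fpf (isSolvable_of_le (h.sup_eq.le.trans h.hE.1) inferInstance)
    (Odd.of_dvd_nat hG.1 (Subgroup.card_subgroup_dvd_card _)) hσ1 hnil
    (h.hallU.1.trans (le_normalizer_piCoreOf _ M)) (h.hKM.trans (le_normalizer_piCoreOf _ M))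
    (by rw [h.sup_eq]; exact hEc) hCU h.action).1

end KappaData

/-- A maximal subgroup having `Z` as `K K*`. -/
def ZMember (Z L : Subgroup G) : Prop :=
  ∃ K E U : Subgroup G, KappaData L K E U ∧
    K ⊔ (Cfsg.sigmaCore L ⊓ Subgroup.centralizer (K : Set G)) = Z

theorem ZMember.eq_of_sigma {L L' : Subgroup G} (h : ZMember Z L) (h' : ZMember Z L') {y : G} (hyZ : y ∈ Z)
    (hq : q.Prime) (hyo : orderOf y = q) (hσ : q ∈ Cfsg.sigma L) (hσ' : q ∈ Cfsg.sigma L') : L = L' := by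
  obtain ⟨K₁, E₁, U₁, h₁, e₁⟩ := h
  obtain ⟨K₂, E₂, U₂, h₂, e₂⟩ := h'
  exact (h₂.star_uniq hq ((h₂.prime_mem (e₂.symm ▸ hyZ) hq hyo).1 hσ') hyo).2 L h₁.hM
    (h₁.star_uniq hq ((h₁.prime_mem (e₁.symm ▸ hyZ) hq hyo).1 hσ) hyo).1

theorem KappaData.exists_member (h : KappaData M K E U) {y : G}
    (hy : y ∈ K ⊔ (Cfsg.sigmaCore M ⊓ Subgroup.centralizer (K : Set G))) (hq : q.Prime) (hyo : orderOf y = q) :
    ∃ L : Subgroup G, ZMember (K ⊔ (Cfsg.sigmaCore M ⊓ Subgroup.centralizer (K : Set G))) L ∧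
      q ∈ Cfsg.sigma L := by
  by_cases hσ : q ∈ Cfsg.sigma M
  · exact ⟨M, ⟨K, E, U, h, rfl⟩, hσ⟩
  have hyK := (h.prime_mem hy hq hyo).2 hσ
  obtain ⟨L, hL, hN⟩ := (eq_top_or_exists_le_coatom _).resolve_left
    (normalizer_ne_top h.hG (line_ne_bot hq (zpowers_line hq hyo).1) fun e => h.hM.1 (top_unique (e.ge.trans
      (Subgroup.zpowers_le.2 (h.hKM hyK)))))
  obtain ⟨K₁, E₁, U₁, h₁, he, -, -, hyS, -⟩ := h.exists_pair hyK hq hyo hL hN
  exact ⟨L, ⟨K₁, E₁, U₁, h₁, he⟩, sigma_of_mem_core hq hyS.1 hyo⟩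

theorem ZMember.not_conj {L L' : Subgroup G} (h : ZMember Z L) (h' : ZMember Z L') {g : G}
    (he : L' = MulAut.conj g • L) : L = L' := by
  obtain ⟨K₂, E₂, U₂, h₂, e₂⟩ := h'
  obtain ⟨q, y, hq, hy, hyo⟩ := h₂.exists_star_prime
  have hσ := sigma_of_mem_core hq hy.1 hyo
  exact ZMember.eq_of_sigma h ⟨K₂, E₂, U₂, h₂, e₂⟩ (e₂ ▸ Subgroup.mem_sup_right hy) hq hyo
    (sigma_conj_iff.1 (he ▸ hσ)) hσ

theorem ZMember.star_eq {L : Subgroup G} {K₁ E₁ U₁ : Subgroup G} (h : KappaData L K₁ E₁ U₁)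
    (he : K₁ ⊔ (Cfsg.sigmaCore L ⊓ Subgroup.centralizer (K₁ : Set G)) = Z) :
    Z ⊓ Cfsg.sigmaCore L = Cfsg.sigmaCore L ⊓ Subgroup.centralizer (K₁ : Set G) := he ▸ h.Z_inf_core

end CfsgLib.OddLocal
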