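import Cfsg.Agent.Lib.OddLocal.TildeCount
import Cfsg.Agent.Lib.OddLocal.KappaStar

/-!
BG 14.7, first part: the maximal subgroups around `Z = K K*`.
-/

set_option autoImplicit false
set_option linter.style.haveILetI false
set_option linter.unusedSectionVars false

open scoped commutatorElement
open scoped Pointwise

namespace CfsgLib.OddLocal

open CfsgLib.Coprime
open CfsgLib.BG.FixedLine (conj_mem_of_le_normalizer mem_normalizer_of_conj)

universe u

variable {G : Type u} [Group G] [Finite G] {p q r s : ℕ} {M L K E U : Subgroup G}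

theorem exists_conj_le_hallOf {π : Set ℕ} {X H A : Subgroup G} [Group.IsSolvable X]
    (hH : Cfsg.IsPiHallOf π H X) (hAX : A ≤ X) (hA : IsPi π A) : ∃ m ∈ X, MulAut.conj m • A ≤ H := by
  obtain ⟨g, hg⟩ := CfsgLib.BG.exists_conj_le_piHall (π := π) (H := H.subgroupOf X) (K := A.subgroupOf X)
    ⟨fun r hr hd => hH.2.1 r hr (by rwa [Nat.card_congr (Subgroup.subgroupOfEquivOfLe hH.1).toEquiv] at hd),
      fun r hr hπ hd => hH.2.2 r hr hπ hd⟩
    fun r hr hd => hA r hr (by rwa [Nat.card_congr (Subgroup.subgroupOfEquivOfLe hAX).toEquiv] at hd)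
  refine ⟨((g⁻¹ : X) : G), (g⁻¹).2, fun x hx => ?_⟩
  rw [mem_conj_smul_iff] at hx
  have hxX : ((g⁻¹ : X) : G)⁻¹ * x * ((g⁻¹ : X) : G) ∈ X := hAX hx
  have h1 := hg (show (⟨_, hxX⟩ : X) ∈ A.subgroupOf X from hx)
  rw [mem_conj_smul_iff, Subgroup.mem_subgroupOf] at h1
  simpa [mul_assoc] using h1

namespace KappaData

/-- `K* = C_{M_σ}(K)`. -/
theorem star_le_core (_h : KappaData M K E U) :
    Cfsg.sigmaCore M ⊓ Subgroup.centralizer (K : Set G) ≤ Cfsg.sigmaCore M := inf_le_left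

theorem star_commute (_h : KappaData M K E U) {k z : G} (hk : k ∈ K)
    (hz : z ∈ Cfsg.sigmaCore M ⊓ Subgroup.centralizer (K : Set G)) : Commute k z :=
  commute_of_mem_centralizer hk hz.2

theorem K_inf_core (h : KappaData M K E U) : K ⊓ Cfsg.sigmaCore M = ⊥ :=
  le_bot_iff.1 (h.hE.2.2.1 ▸ inf_le_inf_right _ h.hKE)

/-- The elements of `Z = K K*`. -/
theorem mem_Z_iff (h : KappaData M K E U) {t : G} :
    t ∈ K ⊔ (Cfsg.sigmaCore M ⊓ Subgroup.centralizer (K : Set G)) ↔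
      ∃ k ∈ K, ∃ z ∈ Cfsg.sigmaCore M ⊓ Subgroup.centralizer (K : Set G), t = k * z := by
  rw [← SetLike.mem_coe, Subgroup.coe_mul_of_left_le_normalizer_right]
  · simp only [Set.mem_mul, SetLike.mem_coe, eq_comm]
  · intro k hk
    exact mem_normalizer_of_conj fun z hz => by
      rw [(h.star_commute hk hz).eq, mul_inv_cancel_right]
      exact hz

theorem Z_le (h : KappaData M K E U) : K ⊔ (Cfsg.sigmaCore M ⊓ Subgroup.centralizer (K : Set G)) ≤ M :=
  sup_le h.hKM (inf_le_left.trans (piCoreOf_le _ M))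

theorem Z_inf_core (h : KappaData M K E U) :
    (K ⊔ (Cfsg.sigmaCore M ⊓ Subgroup.centralizer (K : Set G))) ⊓ Cfsg.sigmaCore M =
      Cfsg.sigmaCore M ⊓ Subgroup.centralizer (K : Set G) := by
  refine le_antisymm (fun t ht => ?_) (le_inf le_sup_right inf_le_left)
  obtain ⟨k, hk, z, hz, rfl⟩ := h.mem_Z_iff.1 ht.1
  have hk1 : k ∈ K ⊓ Cfsg.sigmaCore M := ⟨hk, by
    have := (Cfsg.sigmaCore M).mul_mem ht.2 ((Cfsg.sigmaCore M).inv_mem hz.1)
    rwa [mul_inv_cancel_right] at this⟩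
  rw [h.K_inf_core, Subgroup.mem_bot] at hk1
  rw [hk1, one_mul]
  exact hz

/-- An element of prime order of `K*`. -/
theorem exists_star_prime (h : KappaData M K E U) :
    ∃ (q : ℕ) (z : G), q.Prime ∧ z ∈ Cfsg.sigmaCore M ⊓ Subgroup.centralizer (K : Set G) ∧ orderOf z = q := by
  obtain ⟨q, hq, hd⟩ := Nat.exists_prime_and_dvd
    fun e : Nat.card ↥(Cfsg.sigmaCore M ⊓ Subgroup.centralizer (K : Set G)) = 1 =>
      h.fixed_ne (Subgroup.card_eq_one.1 e)
  obtain ⟨z, hz, hzo⟩ := exists_order_of_dvd hq hd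
  exact ⟨q, z, hq, hz, hzo⟩

theorem normalizer_star_le (h : KappaData M K E U) (hq : q.Prime) {z : G}
    (hz : z ∈ Cfsg.sigmaCore M ⊓ Subgroup.centralizer (K : Set G)) (hzo : orderOf z = q) :
    Subgroup.normalizer ((Subgroup.zpowers z : Subgroup G) : Set G) ≤ M :=
  normalizer_le_of_uniq h.hG h.hM (by rw [centralizer_zpowers_eq]; exact h.star_uniq hq hz hzo)

/-- BG 14.7: the partner of a line of `K` contains `Z` as its own `K K*`. -/
theorem exists_pair (h : KappaData M K E U) {y : G} (hy : y ∈ K) (hs : s.Prime) (hyo : orderOf y = s)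
    (hL : IsCoatom L) (hNL : Subgroup.normalizer ((Subgroup.zpowers y : Subgroup G) : Set G) ≤ L) :
    ∃ K₁ E₁ U₁ : Subgroup G, KappaData L K₁ E₁ U₁ ∧
      K₁ ⊔ (Cfsg.sigmaCore L ⊓ Subgroup.centralizer (K₁ : Set G)) =
        K ⊔ (Cfsg.sigmaCore M ⊓ Subgroup.centralizer (K : Set G)) ∧
      Cfsg.sigmaCore M ⊓ Subgroup.centralizer (K : Set G) ≤ K₁ ∧
      Cfsg.sigmaCore L ⊓ Subgroup.centralizer (K₁ : Set G) ≤ K ∧
      y ∈ Cfsg.sigmaCore L ⊓ Subgroup.centralizer (K₁ : Set G) ∧ ∀ g : G, L ≠ MulAut.conj g • M := by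
  classical
  have hG := h.hG
  have hM := h.hM
  have hsκ : s ∈ Cfsg.kappa M := h.hall.2.1 s hs (hyo ▸ Subgroup.orderOf_dvd_natCard K hy)
  have hyM : y ∈ M := h.hKM hy
  obtain ⟨hYc, -, hy1⟩ := zpowers_line hs hyo
  obtain ⟨q₀, z₀, hq₀, hz₀, hz₀o⟩ := h.exists_star_prime
  obtain ⟨hsL, hconj⟩ := partner_sigma hG hM hs hsκ.2.2.1 (kappa_prankLE hsκ) (Subgroup.zpowers_le.2 hyM) hYc hq₀
    hz₀.1 hz₀o (by rw [centralizer_zpowers_eq]; exact mem_centralizer_singleton_of_commute (h.star_commute hy hz₀))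
    hL hNL
  have hCL : Subgroup.centralizer ({y} : Set G) ≤ L := by
    rw [← centralizer_zpowers_eq]; exact (Subgroup.centralizer_le_normalizer _).trans hNL
  have hyC : y ∈ Subgroup.centralizer ({y} : Set G) := mem_centralizer_singleton_of_commute (Commute.refl y)
  have hyLσ : y ∈ Cfsg.sigmaCore L :=
    sigma_mem_of_elem hG hL hs hsL (hCL hyC) (k := 1) (by rw [pow_one, ← hyo, pow_orderOf_eq_one])
  have hsC : Cfsg.sigmaCore M ⊓ Subgroup.centralizer (K : Set G) ≤ L := fun z hz =>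
    hCL (mem_centralizer_singleton_of_commute (h.star_commute hy hz))
  have hpiK : IsPi (Cfsg.kappa L) (Cfsg.sigmaCore M ⊓ Subgroup.centralizer (K : Set G)) := fun q hq hd => by
    obtain ⟨z, hz, hzo⟩ := exists_order_of_dvd hq hd
    have hqσ : q ∉ Cfsg.sigma L := fun hqL => by
      obtain ⟨g, hg⟩ := sigma_disjoint hG hM hL (sigma_of_mem_core hq hz.1 hzo) hqL
      exact hconj g hg
    rcases sigma_dichotomy hG hL hyLσ hy1 (hsC hz) (h.star_commute hy hz).symm (zpowers_line hq hzo).2.2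
      (fun r hr hd' => by rw [hzo] at hd'; exact (Nat.prime_dvd_prime_iff_eq hr hq).1 hd' ▸ hqσ)
      with ⟨hκ, -⟩ | ⟨-, -, hzL, -⟩
    · exact hκ q hq (hzo ▸ dvd_rfl)
    · exact absurd ((h.star_uniq hq hz hzo).2 L hL hzL) fun e => hconj 1 (by rw [e, map_one, one_smul])
  haveI := isSolvable_of_ne_top hG hL.1
  haveI := isSolvable_of_ne_top hG hM.1
  obtain ⟨K₁, hK₁, hsK₁⟩ := exists_hallOf_ge hsC hpiK
  obtain ⟨E₁, U₁, h₁⟩ := exists_kappaData hG hL hK₁ fun e => h.fixed_ne (le_bot_iff.1 (hsK₁.trans e.le))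
  set Z := K ⊔ (Cfsg.sigmaCore M ⊓ Subgroup.centralizer (K : Set G)) with hZ
  set Z₁ := K₁ ⊔ (Cfsg.sigmaCore L ⊓ Subgroup.centralizer (K₁ : Set G)) with hZ₁
  have hN₁ : L ⊓ Subgroup.normalizer ((Subgroup.zpowers z₀ : Subgroup G) : Set G) = Z₁ :=
    h₁.inf_normalizer_line (hsK₁ hz₀) (hz₀o.symm ▸ hq₀)
  have hKL : K ≤ L := fun k hk => hNL (by
    have h0 := hk
    rw [← h.line_normal y hy (hyo.symm ▸ hs)] at h0
    exact (Subgroup.mem_inf.1 h0).2)
  have hZZ₁ : Z ≤ Z₁ := sup_le (hN₁ ▸ le_inf hKL fun k hk => by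
    refine Subgroup.centralizer_le_normalizer _ ?_
    rw [centralizer_zpowers_eq]
    exact mem_centralizer_singleton_of_commute (h.star_commute hk hz₀).symm) (hsK₁.trans le_sup_left)
  have hZ₁M : Z₁ ≤ M := hN₁ ▸ inf_le_right.trans (h.normalizer_star_le hq₀ hz₀ hz₀o)
  have hy₁ : y ∈ Cfsg.sigmaCore L ⊓ Subgroup.centralizer (K₁ : Set G) := by
    rw [← h₁.Z_inf_core]; exact ⟨hZZ₁ (Subgroup.mem_sup_left hy), hyLσ⟩
  have hpiS : IsPi (Cfsg.kappa M) (Cfsg.sigmaCore L ⊓ Subgroup.centralizer (K₁ : Set G)) := fun t ht hd => by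
    obtain ⟨w, hw, hwo⟩ := exists_order_of_dvd ht hd
    have htσ : t ∉ Cfsg.sigma M := fun htM => by
      obtain ⟨g, hg⟩ := sigma_disjoint hG hM hL htM (sigma_of_mem_core ht hw.1 hwo)
      exact hconj g hg
    rcases sigma_dichotomy hG hM hz₀.1 (zpowers_line hq₀ hz₀o).2.2 (hZ₁M (Subgroup.mem_sup_right hw))
      (h₁.star_commute (hsK₁ hz₀) hw).symm (zpowers_line ht hwo).2.2
      (fun r hr hd' => by rw [hwo] at hd'; exact (Nat.prime_dvd_prime_iff_eq hr ht).1 hd' ▸ htσ)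
      with ⟨hκ, -⟩ | ⟨-, -, hwM, -⟩
    · exact hκ t ht (hwo ▸ dvd_rfl)
    · exact absurd ((h₁.star_uniq ht hw hwo).2 M hM hwM) fun e => hconj 1 (by rw [e, map_one, one_smul])
  obtain ⟨m, hm, hmK⟩ := exists_conj_le_hallOf h.hall (le_sup_right.trans hZ₁M) hpiS
  have hmy : m * y * m⁻¹ ∈ K := hmK (by
    rw [mem_conj_smul_iff, show m⁻¹ * (m * y * m⁻¹) * m = y by group]; exact hy₁)
  have hmN : m ∈ Subgroup.normalizer (K : Set G) := by
    have hmZ := h.mem_of_conj_line hm hy (hyo.symm ▸ hs) hmy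
    rw [← h.inf_normalizer] at hmZ
    exact hmZ.2
  have hSK : Cfsg.sigmaCore L ⊓ Subgroup.centralizer (K₁ : Set G) ≤ K := fun w hw => by
    have h2 : m * w * m⁻¹ ∈ K := hmK (by
      rw [mem_conj_smul_iff, show m⁻¹ * (m * w * m⁻¹) * m = w by group]; exact hw)
    have h3 := conj_mem_of_le_normalizer (inv_mem hmN) _ h2
    rwa [inv_inv, show m⁻¹ * (m * w * m⁻¹) * m = w by group] at h3
  refine ⟨K₁, E₁, U₁, h₁, le_antisymm ?_ hZZ₁, hsK₁, hSK, hy₁, hconj⟩
  refine sup_le ?_ (hSK.trans le_sup_left)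
  rw [hZ, ← h.inf_normalizer_line hy (hyo.symm ▸ hs)]
  refine le_inf (le_sup_left.trans hZ₁M) fun k hk => Subgroup.centralizer_le_normalizer _ ?_
  rw [centralizer_zpowers_eq]
  exact mem_centralizer_singleton_of_commute (h₁.star_commute hk hy₁).symm

end KappaData

end CfsgLib.OddLocal
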