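import Cfsg.Agent.Lib.OddLocal.KappaCount

/-!
BG 14.7: `K` is cyclic, and the partner `M*`.
-/

set_option autoImplicit false
set_option linter.style.haveILetI false
set_option linter.unusedSectionVars false

open scoped commutatorElement
open scoped Pointwise

namespace CfsgLib.OddLocal

open CfsgLib.Coprime
open CfsgLib.BG.FixedLine (conj_mem_of_le_normalizer mem_normalizer_of_conj)

universe u

variable {G : Type u} [Group G] [Finite G] {p q r s : ℕ} {M L Z K E U Ms Es Us : Subgroup G}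

/-- `M` and its partner `Ms`. -/
structure Partner (M K E U Ms Es Us : Subgroup G) : Prop where
  data : KappaData M K E U
  pdata : KappaData Ms (Cfsg.sigmaCore M ⊓ Subgroup.centralizer (K : Set G)) Es Us
  dual : Cfsg.sigmaCore Ms ⊓
    Subgroup.centralizer ((Cfsg.sigmaCore M ⊓ Subgroup.centralizer (K : Set G) : Subgroup G) : Set G) = K
  nonconj : ∀ g : G, Ms ≠ MulAut.conj g • M
  nonP1 : U ≠ ⊥ ∨ Us ≠ ⊥

theorem KappaData.hall_unique {K₁ E₁ U₁ : Subgroup G} (h : KappaData M K E U) (h₁ : KappaData M K₁ E₁ U₁)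
    (he : K₁ ⊔ (Cfsg.sigmaCore M ⊓ Subgroup.centralizer (K₁ : Set G)) =
      K ⊔ (Cfsg.sigmaCore M ⊓ Subgroup.centralizer (K : Set G))) : K₁ = K :=
  le_antisymm
    (fun k hk => h.mem_K (he ▸ Subgroup.mem_sup_left hk) fun r hr hd =>
      (h₁.hall.2.1 r hr (hd.trans (Subgroup.orderOf_dvd_natCard K₁ hk))).2.2.1)
    (fun k hk => h₁.mem_K (he.symm ▸ Subgroup.mem_sup_left hk) fun r hr hd =>
      (h.hall.2.1 r hr (hd.trans (Subgroup.orderOf_dvd_natCard K hk))).2.2.1)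

/-- BG 14.7. -/
theorem exists_partner (h : KappaData M K E U) : ∃ Ms Es Us : Subgroup G, Partner M K E U Ms Es Us := by
  obtain ⟨L₀, K₀, E₀, U₀, h₀, e₀, hU₀⟩ := h.exists_member_not_P1
  have hprime := h₀.prime_of_U_ne_bot hU₀
  obtain ⟨s, y, hs, hy, hyo⟩ := h₀.exists_line
  obtain ⟨L, hL, hN⟩ := (eq_top_or_exists_le_coatom _).resolve_left
    (normalizer_ne_top h.hG (line_ne_bot hs (zpowers_line hs hyo).1) fun e => h₀.hM.1 (top_unique (e.ge.trans
      (Subgroup.zpowers_le.2 (h₀.hKM hy)))))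
  obtain ⟨K₁, E₁, U₁, h₁, e₁, hSK, hSK', hyS, hne⟩ := h₀.exists_pair hy hs hyo hL hN
  have hd : Cfsg.sigmaCore L ⊓ Subgroup.centralizer (K₁ : Set G) = K₀ :=
    Subgroup.eq_of_le_of_card_ge hSK' (le_of_eq (by
      rcases (Nat.dvd_prime hprime).1 (Subgroup.card_dvd_of_le hSK') with e | e
      · exact absurd (Subgroup.card_eq_one.1 e) h₁.fixed_ne
      · exact e.symm))
  have hK₁ : K₁ = Cfsg.sigmaCore L₀ ⊓ Subgroup.centralizer (K₀ : Set G) := by
    refine (Subgroup.eq_of_le_of_card_ge hSK (le_of_eq ?_)).symm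
    have hc := h₁.card_Z
    rw [e₁, h₀.card_Z, hd, mul_comm] at hc
    exact (Nat.eq_of_mul_eq_mul_right Nat.card_pos hc).symm
  subst hK₁
  obtain ⟨q, z, hq, hz, hzo⟩ := h.exists_star_prime
  have hzσ := sigma_of_mem_core hq hz.1 hzo
  have hzZ : z ∈ K₀ ⊔ (Cfsg.sigmaCore L₀ ⊓ Subgroup.centralizer (K₀ : Set G)) :=
    e₀.symm ▸ Subgroup.mem_sup_right hz
  have hmemM : ZMember (K ⊔ (Cfsg.sigmaCore M ⊓ Subgroup.centralizer (K : Set G))) M := ⟨K, E, U, h, rfl⟩
  by_cases hq0 : q ∈ Cfsg.sigma L₀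
  · have hML : M = L₀ := hmemM.eq_of_sigma ⟨K₀, E₀, U₀, h₀, e₀⟩ (Subgroup.mem_sup_right hz) hq hzo hzσ hq0
    subst hML
    obtain rfl := h.hall_unique h₀ e₀
    exact ⟨L, E₁, U₁, h, h₁, hd, hne, Or.inl fun e => hU₀ (h₀.U_eq_bot_iff.2 (h.U_eq_bot_iff.1 e))⟩
  · have hz1 : z ∈ Cfsg.sigmaCore L ⊓ _ := hd.symm ▸ (h₀.prime_mem hzZ hq hzo).2 hq0
    have hML : M = L := hmemM.eq_of_sigma ⟨_, E₁, U₁, h₁, e₁.trans e₀⟩ (Subgroup.mem_sup_right hz) hq hzo hzσ
      (sigma_of_mem_core hq hz1.1 hzo)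
    subst hML
    obtain rfl := h.hall_unique h₁ (e₁.trans e₀)
    refine ⟨L₀, E₀, U₀, h, hd.symm ▸ h₀, by rw [hd], fun g e => hne g⁻¹ ?_, Or.inr hU₀⟩
    rw [e, ← mul_smul, ← map_mul, inv_mul_cancel, map_one, one_smul]

namespace Partner

theorem symm (h : Partner M K E U Ms Es Us) :
    Partner Ms (Cfsg.sigmaCore M ⊓ Subgroup.centralizer (K : Set G)) Es Us M E U := by
  refine ⟨h.pdata, ?_, by rw [h.dual], fun g e => h.nonconj g⁻¹ ?_, h.nonP1.symm⟩
  · rw [h.dual]; exact h.data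
  · rw [e, ← mul_smul, ← map_mul, inv_mul_cancel, map_one, one_smul]

theorem prime_K (h : Partner M K E U Ms Es Us) (hU : U ≠ ⊥) : (Nat.card K).Prime := h.data.prime_of_U_ne_bot hU

theorem star_prime (h : Partner M K E U Ms Es Us) (hU : U = ⊥) :
    (Nat.card ↥(Cfsg.sigmaCore M ⊓ Subgroup.centralizer (K : Set G))).Prime :=
  h.pdata.prime_of_U_ne_bot (h.nonP1.resolve_left fun e => e hU)

/-- If `U = 1` then `E` is cyclic. -/
theorem cyclic_of_U_bot (h : Partner M K E U Ms Es Us) (hU : U = ⊥) : IsCyclic K := by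
  classical
  have hG := h.data.hG
  have hUs : Us ≠ ⊥ := h.nonP1.resolve_left fun e => e hU
  obtain ⟨p, hp, hd⟩ := Nat.exists_prime_and_dvd fun e : Nat.card Us = 1 => hUs (Subgroup.card_eq_one.1 e)
  haveI := Fact.mk hp
  obtain ⟨-, hκ, hσ⟩ := h.pdata.hallU.2.1 p hp hd
  obtain ⟨S⟩ : Nonempty (Sylow p Ms) := inferInstance
  have hnil := (Cfsg.Agent.S1429.result hG Ms h.pdata.hM (fun e => hUs (h.pdata.U_eq_bot_iff.2 e)) p
    (hd.trans (Subgroup.card_dvd_of_le h.pdata.hallU.1)) (fun e => e.elim hσ hκ) S).2.2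
  have hKσ : K ≤ Cfsg.sigmaCore Ms := h.dual.ge.trans inf_le_left
  haveI : Group.IsNilpotent K :=
    Group.nilpotent_of_mulEquiv (_h := inferInstanceAs (Group.IsNilpotent (K.subgroupOf (Cfsg.sigmaCore Ms))))
      (Subgroup.subgroupOfEquivOfLe hKσ)
  haveI : IsZGroup K := ⟨fun r hr P => by
    haveI := Fact.mk hr
    have hle : (P : Subgroup K).map K.subtype ≤ K := Subgroup.map_subtype_le _
    by_cases hP : (P : Subgroup K) = ⊥
    · rw [hP]; infer_instance
    have hrd : r ∣ Nat.card K := by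
      obtain ⟨n, hn⟩ := P.2.exists_card_eq
      rcases Nat.eq_zero_or_pos n with rfl | hn0
      · exact absurd (Subgroup.card_eq_one.1 (by simpa using hn)) hP
      · exact (dvd_pow_self r hn0.ne').trans (hn ▸ Subgroup.card_subgroup_dvd_card (P : Subgroup K))
    haveI : IsCyclic ↥((P : Subgroup K).map K.subtype) :=
      cyclic_of_prankLE_one hG hr (kappa_prankLE (h.data.hall.2.1 r hr hrd)) (P.2.map _) (hle.trans h.data.hKM)
    exact isCyclic_of_surjective _
      (Subgroup.equivMapOfInjective (P : Subgroup K) K.subtype K.subtype_injective).symm.surjective⟩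
  infer_instance

theorem cyclic_K (h : Partner M K E U Ms Es Us) : IsCyclic K := by
  by_cases hU : U = ⊥
  · exact h.cyclic_of_U_bot hU
  · haveI := Fact.mk (h.prime_K hU)
    exact isCyclic_of_prime_card (p := Nat.card K) rfl

theorem cyclic_star (h : Partner M K E U Ms Es Us) :
    IsCyclic ↥(Cfsg.sigmaCore M ⊓ Subgroup.centralizer (K : Set G)) := h.symm.cyclic_K

theorem kappa_eq_tau1 (h : Partner M K E U Ms Es Us) : Cfsg.kappa M = Cfsg.tau1 M := by
  have hd := h.data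
  ext q
  rcases hd.dichotomy with ⟨-, hiff⟩ | ⟨hKE, hU, hτ2⟩
  · exact ⟨fun hq => (hiff q hq.1 hq.2.1).1 hq, fun hq => (hiff q hq.1 hq.2.2.1).2 hq⟩
  · refine ⟨fun hq => ?_, fun hq => hd.U_eq_bot_iff.1 hU q hq.1 hq.2.2.1 hq.2.1⟩
    refine (tau13_of_kappa hd.hG hd.hM hq).resolve_right fun h3 => ?_
    obtain ⟨b, hb, hbo⟩ := exists_order_of_dvd hq.1 (dvd_compl hd.hE hq.1 hq.2.2.1 hq.2.1)
    obtain ⟨e, he, -, hne⟩ := exists_acting hd.hG hd.hM hd.hE h3 (Subgroup.zpowers_le.2 hb)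
      (zpowers_line hq.1 hbo).1
    haveI := h.cyclic_K
    haveI : IsMulCommutative K := IsCyclic.isMulCommutative
    apply hne
    rw [centralizer_zpowers_eq]
    exact mem_centralizer_singleton_of_commute
      (congrArg Subtype.val (mul_comm' (⟨b, hKE.ge hb⟩ : K) ⟨e, hKE.ge he⟩))

theorem cyclic_Z (h : Partner M K E U Ms Es Us) :
    IsCyclic ↥(K ⊔ (Cfsg.sigmaCore M ⊓ Subgroup.centralizer (K : Set G))) := by
  obtain ⟨a, ha⟩ := (isCyclic_iff_exists_zpowers_eq_top).1 h.cyclic_K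
  obtain ⟨b, hb⟩ := (isCyclic_iff_exists_zpowers_eq_top).1 h.cyclic_star
  have ha' : Subgroup.zpowers (a : G) = K := by
    have := congrArg (Subgroup.map K.subtype) ha
    rwa [MonoidHom.map_zpowers, ← MonoidHom.range_eq_map, Subgroup.range_subtype] at this
  have hb' : Subgroup.zpowers (b : G) = Cfsg.sigmaCore M ⊓ Subgroup.centralizer (K : Set G) := by
    have := congrArg (Subgroup.map (Cfsg.sigmaCore M ⊓ Subgroup.centralizer (K : Set G)).subtype) hb
    rwa [MonoidHom.map_zpowers, ← MonoidHom.range_eq_map, Subgroup.range_subtype] at this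
  have hc := h.data.star_commute a.2 b.2
  have hco := h.data.coprime_orderOf a.2 b.2
  have he : K ⊔ (Cfsg.sigmaCore M ⊓ Subgroup.centralizer (K : Set G)) = Subgroup.zpowers ((a : G) * b) := by
    refine le_antisymm (sup_le ?_ ?_) (Subgroup.zpowers_le.2 (Subgroup.mul_mem_sup a.2 b.2))
    · exact ha'.ge.trans (Subgroup.zpowers_le.2 (mem_zpowers_mul_of_coprime hc hco))
    · refine hb'.ge.trans (Subgroup.zpowers_le.2 ?_)
      rw [hc.eq]; exact mem_zpowers_mul_of_coprime hc.symm hco.symm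
  rw [he]; infer_instance

/-- The partner is unique. -/
theorem unique (h : Partner M K E U Ms Es Us) {L : Subgroup G} (hL : IsCoatom L)
    (hst : K = Cfsg.sigmaCore L ⊓
      Subgroup.centralizer ((Cfsg.sigmaCore M ⊓ Subgroup.centralizer (K : Set G) : Subgroup G) : Set G))
    (hH : Cfsg.IsPiHallOf (Cfsg.kappa L) (Cfsg.sigmaCore M ⊓ Subgroup.centralizer (K : Set G)) L) : L = Ms := by
  obtain ⟨E', U', hL'⟩ := exists_kappaData h.data.hG hL hH h.data.fixed_ne
  obtain ⟨s, y, hs, hy, hyo⟩ := h.data.exists_line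
  exact (h.pdata.star_uniq hs (h.dual.ge hy) hyo).2 L hL (hL'.star_uniq hs (hst.le hy) hyo).1

end Partner

end CfsgLib.OddLocal
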