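import Cfsg.Agent.Lib.OddLocal.TauThreeFixed

/-!
BG 14.2: the structure of a Hall `κ(M)`-subgroup and of a complement containing it.
-/

set_option autoImplicit false
set_option linter.style.haveILetI false
set_option linter.unusedSectionVars false

open scoped commutatorElement
open scoped Pointwise

namespace CfsgLib.OddLocal

open CfsgLib.Coprime
open CfsgLib.BG.FixedLine (conj_mem_of_le_normalizer mem_normalizer_of_conj)

universe u

variable {G : Type u} [Group G] [Finite G] {p q r s : ℕ} {M L E K U P : Subgroup G}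

/-- The structure around a nontrivial Hall `κ`-subgroup `K`. -/
structure KappaData (M K E U : Subgroup G) : Prop where
  hG : Cfsg.IsMinSimpleOddOrder G
  hM : IsCoatom M
  hall : Cfsg.IsPiHallOf (Cfsg.kappa M) K M
  hK1 : K ≠ ⊥
  hE : Cfsg.IsComplIn E (Cfsg.sigmaCore M) M
  hKE : K ≤ E
  hUE : U ≤ E
  fixed_ne : Cfsg.sigmaCore M ⊓ Subgroup.centralizer (K : Set G) ≠ ⊥
  action : ∀ k ∈ K, k ≠ 1 →
    Cfsg.sigmaCore M ⊓ Subgroup.centralizer ({k} : Set G) = Cfsg.sigmaCore M ⊓ Subgroup.centralizer (K : Set G)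
  comm : IsMulCommutative U
  hallU : Cfsg.IsPiHallOf {q | q.Prime ∧ q ∉ Cfsg.kappa M ∧ q ∉ Cfsg.sigma M} U M
  normalU : E ≤ Subgroup.normalizer (U : Set G)
  fpf : ∀ k ∈ K, k ≠ 1 → U ⊓ Subgroup.centralizer ({k} : Set G) = ⊥
  sup_eq : U ⊔ K = E
  line_normal : ∀ b ∈ K, (orderOf b).Prime →
    E ⊓ Subgroup.normalizer ((Subgroup.zpowers b : Subgroup G) : Set G) = K
  normalizer_eq : E ⊓ Subgroup.normalizer (K : Set G) = K
  exists_tau1 : ∃ r, ∃ b ∈ K, r ∈ Cfsg.tau1 M ∧ orderOf b = r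
  dichotomy : (IsCyclic K ∧ ∀ q : ℕ, q.Prime → q ∣ Nat.card M → (q ∈ Cfsg.kappa M ↔ q ∈ Cfsg.tau1 M)) ∨
    (K = E ∧ U = ⊥ ∧ ∀ q : ℕ, q ∉ Cfsg.tau2 M)

theorem line_commutator_eq_one (hr : r.Prime) {b : G} (hbo : orderOf b = r) {N : Subgroup G} {u : G}
    (hN : ¬ r ∣ Nat.card N) (hu : u ∈ N) (hbN : b ∈ Subgroup.normalizer (N : Set G))
    (hub : u ∈ Subgroup.normalizer ((Subgroup.zpowers b : Subgroup G) : Set G)) : Commute u b := by
  have h1 : ⁅u, b⁆ ∈ Subgroup.zpowers b ⊓ N := ⟨by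
    rw [commutatorElement_def]
    exact (Subgroup.zpowers b).mul_mem (conj_mem_of_le_normalizer hub b (Subgroup.mem_zpowers b))
      (inv_mem (Subgroup.mem_zpowers b)), by
    rw [show ⁅u, b⁆ = u * (b * u⁻¹ * b⁻¹) by rw [commutatorElement_def]; group]
    exact N.mul_mem hu (conj_mem_of_le_normalizer hbN _ (N.inv_mem hu))⟩
  rw [inf_eq_bot_of_coprime_card (by rw [Nat.card_zpowers, hbo]; exact hr.coprime_iff_not_dvd.2 hN),
    Subgroup.mem_bot] at h1
  exact commutatorElement_eq_one_iff_mul_comm.1 h1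

/-- BG 14.2, without fixed `τ₃`-lines. -/
theorem kappaData_of_no_tau3 (hG : Cfsg.IsMinSimpleOddOrder G) (hM : IsCoatom M)
    (hK : Cfsg.IsPiHallOf (Cfsg.kappa M) K M) (hK1 : K ≠ ⊥) (hE : Cfsg.IsComplIn E (Cfsg.sigmaCore M) M)
    (hKE : K ≤ E) (hno : ∀ (p : ℕ) (P L : Subgroup G), ¬ Tau3Fixed p M E P L) :
    ∃ U : Subgroup G, KappaData M K E U := by
  classical
  have hfix3 : ∀ {r : ℕ}, r ∈ Cfsg.tau3 M → ∀ b ∈ E, orderOf b = r →
      ∀ y ∈ Cfsg.sigmaCore M, Commute b y → y = 1 := fun {r} hr b hb hbo y hy hby => by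
    by_contra hy1
    obtain ⟨hBc, -, -⟩ := zpowers_line hr.1 hbo
    obtain ⟨L, hL, hN⟩ := (eq_top_or_exists_le_coatom _).resolve_left
      (normalizer_ne_top hG (line_ne_bot hr.1 hBc) fun e => hM.1 (top_unique (e.ge.trans
        ((Subgroup.zpowers_le.2 hb).trans hE.1))))
    refine hno r _ L ⟨hG, hM, hE, hr, Subgroup.zpowers_le.2 hb, hBc, fun e => hy1 (Subgroup.mem_bot.1 ?_), hL, hN⟩
    rw [← e, centralizer_zpowers_eq]
    exact ⟨hy, mem_centralizer_singleton_of_commute hby⟩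
  have hκ1 : ∀ {r : ℕ}, r ∈ Cfsg.kappa M → r ∈ Cfsg.tau1 M := fun {r} hr => by
    rcases tau13_of_kappa hG hM hr with h | h
    · exact h
    · obtain ⟨b, hb, hbo, y, hy, hy1, hby⟩ := exists_line_of_kappa hG hM hE hr
      exact absurd (hfix3 h b hb hbo y hy hby) hy1
  have hKM : K ≤ M := hK.1
  have hKc : IsCyclic K := tau1_cyclic hG hM hKM fun r hr hd => hκ1 (hK.2.1 r hr hd)
  -- a line of `K` with a fixed point
  obtain ⟨s, hs, hsd⟩ := Nat.exists_prime_and_dvd fun e : Nat.card K = 1 => hK1 (Subgroup.card_eq_one.1 e)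
  have hs1 : s ∈ Cfsg.tau1 M := hκ1 (hK.2.1 s hs hsd)
  obtain ⟨a, ha, hao⟩ := exists_order_of_dvd hs hsd
  obtain ⟨y, hy, hy1, hay⟩ : ∃ y ∈ Cfsg.sigmaCore M, y ≠ 1 ∧ Commute a y := by
    obtain ⟨b, hb, hbo, y, hy, hy1, hby⟩ := exists_line_of_kappa hG hM hE (hK.2.1 s hs hsd)
    obtain ⟨c, hc, hce⟩ := line_conj hG hs (prankLE_compl hE hs1.2.2.2.2) (Subgroup.zpowers_le.2 (hKE ha))
      (zpowers_line hs hao).1 (Subgroup.zpowers_le.2 hb) (zpowers_line hs hbo).1
    rw [conj_smul_line] at hce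
    obtain ⟨i, hi⟩ := Subgroup.mem_zpowers_iff.1 (hce.symm ▸ Subgroup.mem_zpowers a)
    refine ⟨c * y * c⁻¹, conj_mem_of_le_normalizer (le_normalizer_piCoreOf _ M (hE.1 hc)) y hy,
      fun e => hy1 (conj_eq_one_iff.1 e), ?_⟩
    have h1 : Commute (c * b * c⁻¹) (c * y * c⁻¹) := by
      show _ = _
      calc c * b * c⁻¹ * (c * y * c⁻¹) = c * (b * y) * c⁻¹ := by group
        _ = c * (y * b) * c⁻¹ := by rw [hby.eq]
        _ = _ := by group
    exact hi ▸ h1.zpow_left i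
  have hlines : ∀ {r : ℕ}, r.Prime → ∀ b ∈ K, orderOf b = r →
      Cfsg.sigmaCore M ⊓ Subgroup.centralizer ({b} : Set G) =
        Cfsg.sigmaCore M ⊓ Subgroup.centralizer ({a} : Set G) := fun {r} hr b hb hbo => by
    have hr1 : r ∈ Cfsg.tau1 M := hκ1 (hK.2.1 r hr (hbo ▸ Subgroup.orderOf_dvd_natCard K hb))
    have hab : Commute a b := haveI : IsMulCommutative K := IsCyclic.isMulCommutative
      congrArg Subtype.val (mul_comm' (⟨a, ha⟩ : K) ⟨b, hb⟩)
    exact le_antisymm (le_inf inf_le_left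
      (centralizer_le_of_commute hG hM hr1 (hKM hb) hbo (hKM ha) hs hao hs1.2.1 hab.symm))
      (le_inf inf_le_left (centralizer_le_of_commute hG hM hs1 (hKM ha) hao (hKM hb) hr hbo hr1.2.1 hab))
  have hCK : Cfsg.sigmaCore M ⊓ Subgroup.centralizer ({a} : Set G) =
      Cfsg.sigmaCore M ⊓ Subgroup.centralizer (K : Set G) := by
    refine le_antisymm (le_inf inf_le_left fun z hz x hx => ?_)
      (inf_le_inf_left _ (Subgroup.centralizer_le (by simpa using ha)))
    refine (commute_of_mem_centralizer_singleton (a := z) (mem_of_primary fun r hr _ v hv ⟨k, hk⟩ => ?_)).symm.eq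
    by_cases hv1 : v = 1
    · exact hv1 ▸ one_mem _
    obtain ⟨b, hb, hbo⟩ := exists_line_pow hr hk hv1
    have hvK : v ∈ K := Subgroup.zpowers_le.2 hx hv
    have hbK : b ∈ K := Subgroup.zpowers_le.2 hvK hb
    have hrκ := hK.2.1 r hr (hbo ▸ Subgroup.orderOf_dvd_natCard K hbK)
    rw [← hlines hr b hbK hbo] at hz
    exact mem_centralizer_singleton_of_commute (commute_of_mem_centralizer_singleton
      (centralizer_le_of_primary hG hM hr hrκ.2.2.1 (kappa_prankLE hrκ) (hKM hvK) hk hb hbo hz)).symm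
  have htau1 : ∀ {r : ℕ}, r ∈ Cfsg.tau1 M → r ∈ Cfsg.kappa M := fun {r} hr => by
    obtain ⟨b, hb, hbo⟩ := exists_order_of_dvd hr.1 (dvd_compl hE hr.1 hr.2.1 hr.2.2.1)
    obtain ⟨c, hc, hca⟩ := tau1_commute hG hM hE.1 hb (hKE ha)
      (fun t ht hd => by rw [hbo] at hd; exact (Nat.prime_dvd_prime_iff_eq ht hr.1).1 hd ▸ hr)
      (fun t ht hd => by rw [hao] at hd; exact (Nat.prime_dvd_prime_iff_eq ht hs).1 hd ▸ hs1)
    have hbE : c * b * c⁻¹ ∈ E := E.mul_mem (E.mul_mem hc hb) (E.inv_mem hc)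
    have hbo' : orderOf (c * b * c⁻¹) = r := by
      rw [← hbo]; exact orderOf_injective (MulAut.conj c).toMonoidHom (MulAut.conj c).injective b
    exact mem_kappa_of_line hG hM hr.1 hr.2.1 hr.2.2.2.2 (hE.1 hbE) hbo' hy hy1
      (commute_of_mem_centralizer_singleton (centralizer_le_of_commute hG hM hs1 (hE.1 (hKE ha)) hao (hE.1 hbE)
        hr.1 hbo' hr.2.1 hca.symm ⟨hy, mem_centralizer_singleton_of_commute hay⟩))
  -- the Hall subgroup `U`
  haveI : Group.IsSolvable E :=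
    haveI := isSolvable_of_ne_top hG hM.1; isSolvable_of_le hE.1 inferInstance
  obtain ⟨U, hU, hDU⟩ := exists_hallOf_ge (π := {r | r ∉ Cfsg.kappa M}) (Subgroup.commutator_le_self E)
    fun r hr hd hk => (hκ1 hk).2.2.2.1 (hd.trans (Subgroup.card_dvd_of_le (Subgroup.commutator_mono hE.1 hE.1)))
  have hUn : E ≤ Subgroup.normalizer (U : Set G) := fun x hx => mem_normalizer_of_conj fun u hu => by
    rw [show x * u * x⁻¹ = ⁅x, u⁆ * u by rw [commutatorElement_def]; group]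
    exact U.mul_mem (hDU (Subgroup.commutator_mem_commutator hx (hU.1 hu))) hu
  have hUσ : ∀ t : ℕ, t.Prime → t ∣ Nat.card U → t ∉ Cfsg.sigma M := fun t ht hd =>
    not_sigma_of_dvd_compl hG hM hE ht (hd.trans (Subgroup.card_dvd_of_le hU.1))
  have hfpf : ∀ k ∈ K, k ≠ 1 → U ⊓ Subgroup.centralizer ({k} : Set G) = ⊥ := fun k hk hk1 => by
    by_contra hne
    obtain ⟨t, ht, htd⟩ := Nat.exists_prime_and_dvd
      fun e : Nat.card ↥(U ⊓ Subgroup.centralizer ({k} : Set G)) = 1 => hne (Subgroup.card_eq_one.1 e)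
    obtain ⟨c, hc, hco⟩ := exists_order_of_dvd ht htd
    obtain ⟨r, hr, hrd⟩ := Nat.exists_prime_and_dvd fun e => hk1 (orderOf_eq_one_iff.1 e)
    obtain ⟨b, hb, hbo⟩ := exists_order_of_dvd hr (by rwa [Nat.card_zpowers] : r ∣ Nat.card (Subgroup.zpowers k))
    have hbK : b ∈ K := Subgroup.zpowers_le.2 hk hb
    have hr1 : r ∈ Cfsg.tau1 M := hκ1 (hK.2.1 r hr (hbo ▸ Subgroup.orderOf_dvd_natCard K hbK))
    have hbc : Commute b c := by
      obtain ⟨i, rfl⟩ := Subgroup.mem_zpowers_iff.1 hb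
      exact (commute_of_mem_centralizer_singleton hc.2).zpow_left i
    have htU : t ∣ Nat.card U := hco ▸ Subgroup.orderOf_dvd_natCard U hc.1
    have hyb : y ∈ Cfsg.sigmaCore M ⊓ Subgroup.centralizer ({b} : Set G) := by
      rw [hlines hr b hbK hbo]; exact ⟨hy, mem_centralizer_singleton_of_commute hay⟩
    have hcE : c ∈ E := hU.1 hc.1
    obtain ⟨t', ht', hd'⟩ := Nat.exists_prime_and_dvd fun e => hy1 (orderOf_eq_one_iff.1 e)
    obtain ⟨z, hz, hzo⟩ := exists_order_of_dvd ht' (by rwa [Nat.card_zpowers] : t' ∣ Nat.card (Subgroup.zpowers y))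
    rcases tau_cases hG hM ht (hUσ t ht htU) (hco ▸ Subgroup.orderOf_dvd_natCard M (hE.1 hcE)) with (h1 | h3) | h2
    · exact hU.2.1 t ht htU (htau1 h1)
    · exact hy1 (hfix3 h3 c hcE hco y hy (commute_of_mem_centralizer_singleton (centralizer_le_of_commute hG hM hr1
        (hKM hbK) hbo (hE.1 hcE) ht hco (hUσ t ht htU) hbc hyb)))
    · refine tau2_fixed_false hG hM hr1 (Subgroup.zpowers_le.2 (hKM hbK)) (zpowers_line hr hbo).1 ht'
        (Subgroup.zpowers_le.2 hy hz) hzo ?_ h2 (hE.1 hcE) hco ?_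
      · rw [centralizer_zpowers_eq]
        exact Subgroup.zpowers_le.2 hyb.2 hz
      · rw [centralizer_zpowers_eq]
        exact mem_centralizer_singleton_of_commute hbc
  have hUc : IsMulCommutative U := nilpotent_comm hG hM (hU.1.trans hE.1)
    (isNilpotent_of_fpf_elem hs (by rw [← hao, pow_orderOf_eq_one]) (hUn (hKE ha))
      (hfpf a ha (zpowers_line hs hao).2.2)) hUσ
  have hsup : U ⊔ K = E := by
    refine le_antisymm (sup_le hU.1 hKE) (Subgroup.relIndex_eq_one.1 ?_)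
    by_contra hne
    obtain ⟨t, ht, htd⟩ := Nat.exists_prime_and_dvd hne
    have h1 : t ∣ K.relIndex M := by
      refine (htd.trans (Subgroup.relIndex_dvd_of_le_left E (le_sup_right : K ≤ U ⊔ K))).trans ?_
      rw [← Subgroup.relIndex_mul_relIndex K E M hKE hE.1]
      exact dvd_mul_right _ _
    by_cases htκ : t ∈ Cfsg.kappa M
    · exact hK.2.2 t ht htκ h1
    · exact hU.2.2 t ht htκ (htd.trans (Subgroup.relIndex_dvd_of_le_left E le_sup_left))
  have hline : ∀ b ∈ K, (orderOf b).Prime →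
      E ⊓ Subgroup.normalizer ((Subgroup.zpowers b : Subgroup G) : Set G) = K := fun b hb hbp => by
    have hKb : K ≤ Subgroup.normalizer ((Subgroup.zpowers b : Subgroup G) : Set G) := fun x hx => by
      refine Subgroup.centralizer_le_normalizer _ ?_
      rw [centralizer_zpowers_eq]
      haveI : IsMulCommutative K := IsCyclic.isMulCommutative
      exact mem_centralizer_singleton_of_commute (congrArg Subtype.val (mul_comm' (⟨b, hb⟩ : K) ⟨x, hx⟩))
    refine le_antisymm (fun n hn => ?_) (le_inf hKE hKb)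
    obtain ⟨hnE, hnN⟩ : n ∈ E ∧ n ∈ Subgroup.normalizer ((Subgroup.zpowers b : Subgroup G) : Set G) :=
      Subgroup.mem_inf.1 hn
    have hnE : n ∈ ((U ⊔ K : Subgroup G) : Set G) := by rw [hsup]; exact hnE
    rw [Subgroup.coe_mul_of_right_le_normalizer_left _ _ (hKE.trans hUn)] at hnE
    obtain ⟨u, hu, k, hk, rfl⟩ := Set.mem_mul.1 hnE
    have huN : u ∈ Subgroup.normalizer ((Subgroup.zpowers b : Subgroup G) : Set G) := by
      have := mul_mem hnN (inv_mem (hKb hk))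
      rwa [mul_inv_cancel_right] at this
    have hub : Commute u b := line_commutator_eq_one hbp rfl
      (fun hd => hU.2.1 _ hbp hd (hK.2.1 _ hbp (Subgroup.orderOf_dvd_natCard K hb))) hu (hUn (hKE hb)) huN
    have hu1 : u ∈ U ⊓ Subgroup.centralizer ({b} : Set G) := ⟨hu, mem_centralizer_singleton_of_commute hub.symm⟩
    rw [hfpf b hb fun e => hbp.ne_one (by rw [e, orderOf_one]), Subgroup.mem_bot] at hu1
    rw [hu1, one_mul]
    exact hk
  refine ⟨U, hG, hM, hK, hK1, hE, hKE, hU.1, ?_, ?_, hUc, ⟨hU.1.trans hE.1, fun t ht hd =>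
    ⟨ht, hU.2.1 t ht hd, hUσ t ht hd⟩, ?_⟩, hUn, hfpf, hsup, hline, ?_, ⟨s, a, ha, hs1, hao⟩,
    Or.inl ⟨hKc, fun t _ _ => ⟨hκ1, htau1⟩⟩⟩
  · intro e
    refine hy1 (Subgroup.mem_bot.1 ?_)
    rw [← e, ← hCK]
    exact ⟨hy, mem_centralizer_singleton_of_commute hay⟩
  · intro k hk hk1
    refine le_antisymm ?_ (inf_le_inf_left _ (Subgroup.centralizer_le (by simpa using hk)))
    obtain ⟨r, hr, hrd⟩ := Nat.exists_prime_and_dvd fun e => hk1 (orderOf_eq_one_iff.1 e)
    obtain ⟨b, hb, hbo⟩ := exists_order_of_dvd hr (by rwa [Nat.card_zpowers] : r ∣ Nat.card (Subgroup.zpowers k))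
    rw [← hCK, ← hlines hr b (Subgroup.zpowers_le.2 hk hb) hbo]
    refine inf_le_inf_left _ fun z hz => mem_centralizer_singleton_of_commute ?_
    obtain ⟨i, rfl⟩ := Subgroup.mem_zpowers_iff.1 hb
    exact (commute_of_mem_centralizer_singleton hz).zpow_left i
  · intro t ht htm hd
    rw [← Subgroup.relIndex_mul_relIndex U E M hU.1 hE.1] at hd
    rcases ht.dvd_mul.1 hd with h | h
    · exact hU.2.2 t ht htm.2.1 h
    · exact (compl_isPiHall hG hM hE).2 t ht ⟨ht, htm.2.2⟩ h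
  · refine le_antisymm (fun n hn => ?_) (le_inf hKE Subgroup.le_normalizer)
    rw [← hline a ha (hao.symm ▸ hs)]
    refine ⟨hn.1, mem_normalizer_of_conj fun x hx => ?_⟩
    exact mem_line_of_cyclic hs hKc (Subgroup.zpowers_le.2 ha) (zpowers_line hs hao).1
      (conj_mem_of_le_normalizer hn.2 x (Subgroup.zpowers_le.2 ha hx))
      (by rw [conj_pow, pow_eq_one_of_line hs (zpowers_line hs hao).1 hx, mul_one, mul_inv_cancel])

/-- BG 14.2, with a fixed `τ₃`-line. -/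
theorem kappaData_of_tau3 (h : Tau3Fixed p M E P L) (hK : Cfsg.IsPiHallOf (Cfsg.kappa M) K M) (hKE : K ≤ E) :
    ∃ U : Subgroup G, KappaData M K E U := by
  have hKeq : K = E := h.eq_of_hall hK hKE
  subst hKeq
  have hne : ∀ k ∈ K, k ≠ 1 → (⊥ : Subgroup G) ⊓ Subgroup.centralizer ({k} : Set G) = ⊥ := fun _ _ _ => bot_inf_eq _
  have hCK : Cfsg.sigmaCore M ⊓ Subgroup.centralizer (P : Set G) =
      Cfsg.sigmaCore M ⊓ Subgroup.centralizer (K : Set G) :=
    le_antisymm (le_inf inf_le_left (Subgroup.le_centralizer_iff.1 h.compl_le_centralizer))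
      (inf_le_inf_left _ (Subgroup.centralizer_le h.hPE))
  obtain ⟨e, he, ⟨s, k, hs, hk⟩, hne'⟩ := exists_acting h.hG h.hM h.hE h.hp h.hPE h.hP
  obtain ⟨a, ha, hao⟩ := exists_line_pow hs hk fun e' => hne' (e' ▸ one_mem _)
  refine ⟨⊥, h.hG, h.hM, hK, fun e' => line_ne_bot h.hp.1 h.hP (le_bot_iff.1 (e' ▸ h.hPE)), h.hE, le_rfl, bot_le,
    hCK ▸ h.hfix, fun k hk hk1 => (h.prime_action hk hk1).trans hCK,
    ⟨⟨fun a b => Subsingleton.elim _ _⟩⟩,
    ⟨bot_le, fun t ht hd => ?_, ?_⟩, fun x _ => mem_normalizer_of_conj fun u hu => by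
      rw [Subgroup.mem_bot.1 hu, mul_one, mul_inv_cancel]; exact one_mem _,
    hne, bot_sup_eq _, fun b hb hbp => inf_eq_left.2 (h.line_normal hbp hb rfl),
    inf_eq_left.2 Subgroup.le_normalizer, ⟨s, a, Subgroup.zpowers_le.2 he ha, h.tau1_of_acting hs he hk hne', hao⟩,
    Or.inr ⟨rfl, rfl, fun q hq => h.tau2_empty hq⟩⟩
  · rw [Subgroup.card_bot] at hd
    exact absurd (Nat.dvd_one.1 hd) ht.ne_one
  · intro t ht htm hd
    rw [Subgroup.relIndex_bot_left] at hd
    exact htm.2.1 (h.mem_kappa ht (dvd_compl h.hE ht htm.2.2 hd))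

theorem exists_kappaData (hG : Cfsg.IsMinSimpleOddOrder G) (hM : IsCoatom M)
    (hK : Cfsg.IsPiHallOf (Cfsg.kappa M) K M) (hK1 : K ≠ ⊥) : ∃ E U : Subgroup G, KappaData M K E U := by
  obtain ⟨E, hE, hKE⟩ := exists_compl_ge_kappa hG hM hK
  by_cases h : ∃ (p : ℕ) (P L : Subgroup G), Tau3Fixed p M E P L
  · obtain ⟨p, P, L, h⟩ := h
    exact ⟨E, kappaData_of_tau3 h hK hKE⟩
  · push Not at h
    exact ⟨E, kappaData_of_no_tau3 hG hM hK hK1 hE hKE h⟩

namespace KappaData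

theorem hKM (h : KappaData M K E U) : K ≤ M := h.hall.1

theorem inf_normalizer_line (h : KappaData M K E U) {b : G} (hb : b ∈ K) (hbp : (orderOf b).Prime) :
    M ⊓ Subgroup.normalizer ((Subgroup.zpowers b : Subgroup G) : Set G) =
      K ⊔ (Cfsg.sigmaCore M ⊓ Subgroup.centralizer (K : Set G)) := by
  rw [inf_normalizer_compl h.hE (Subgroup.zpowers_le.2 (h.hKE hb)), h.line_normal b hb hbp,
    centralizer_zpowers_eq, h.action b hb fun e => hbp.ne_one (by rw [e, orderOf_one])]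

theorem inf_normalizer (h : KappaData M K E U) :
    M ⊓ Subgroup.normalizer (K : Set G) = K ⊔ (Cfsg.sigmaCore M ⊓ Subgroup.centralizer (K : Set G)) := by
  rw [inf_normalizer_compl h.hE h.hKE, h.normalizer_eq]

end KappaData

end CfsgLib.OddLocal
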