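import Cfsg.Agent.Lib.OddLocal.KappaHat

/-!
The normal Hall subgroup `U M_σ` of `M`.
-/

set_option autoImplicit false
set_option linter.style.haveILetI false
set_option linter.unusedSectionVars false

open scoped commutatorElement
open scoped Pointwise

namespace CfsgLib.OddLocal

open CfsgLib.Coprime
open CfsgLib.BG.FixedLine (conj_mem_of_le_normalizer mem_normalizer_of_conj)

universe u

variable {G : Type u} [Group G] [Finite G] {p q r s t : ℕ} {M L H Z K E U Ms Es Us : Subgroup G}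

theorem card_UM (hG : Cfsg.IsMinSimpleOddOrder G) (hM : IsCoatom M) (hKU : Cfsg.IsSigmaDecomposition M K U) :
    Nat.card ↥(U ⊔ Cfsg.sigmaCore M) = Nat.card U * Nat.card (Cfsg.sigmaCore M) := by
  rw [sup_comm, card_sup_of_coprime (show U ≤ Subgroup.normalizer (Cfsg.sigmaCore M : Set G) from
    hKU.compl.1.trans (le_normalizer_piCoreOf _ M)) (Nat.coprime_of_dvd fun l hl h1 h2 =>
      (isPi_U hG hM hKU hl h2).2 (isPi_piCoreOf _ M l hl h1)), mul_comm]

theorem hall_UM (hG : Cfsg.IsMinSimpleOddOrder G) (hM : IsCoatom M) (hKU : Cfsg.IsSigmaDecomposition M K U) :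
    Cfsg.IsPiHallOf {l | l.Prime ∧ l ∉ Cfsg.kappa M} (U ⊔ Cfsg.sigmaCore M) M := by
  refine ⟨sup_le hKU.compl.1 (piCoreOf_le _ M), fun l hl hd => ⟨hl, ?_⟩, fun l hl hπ hd => ?_⟩
  · rw [card_UM hG hM hKU] at hd
    exact fun hκ => (hl.dvd_mul.1 hd).elim (fun h => (isPi_U hG hM hKU hl h).1 hκ)
      fun h => hκ.2.2.1 (isPi_piCoreOf _ M l hl h)
  · have h := Subgroup.relIndex_mul_relIndex ⊥ (U ⊔ Cfsg.sigmaCore M) M bot_le
      (sup_le hKU.compl.1 (piCoreOf_le _ M))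
    simp only [Subgroup.relIndex_bot_left] at h
    rw [card_of_sigmaDecomposition hKU, card_UM hG hM hKU, mul_left_comm (Nat.card U) (Nat.card K),
      mul_comm (Nat.card K)] at h
    rw [Nat.eq_of_mul_eq_mul_left (Nat.mul_pos Nat.card_pos Nat.card_pos) h] at hd
    exact hπ.2 (hKU.hall.2.1 l hl hd)

theorem UM_inf_K (hG : Cfsg.IsMinSimpleOddOrder G) (hM : IsCoatom M) (hKU : Cfsg.IsSigmaDecomposition M K U) :
    (U ⊔ Cfsg.sigmaCore M) ⊓ K = ⊥ :=
  inf_eq_bot_of_coprime_card (Nat.coprime_of_dvd fun l hl h1 h2 =>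
    ((hall_UM hG hM hKU).2.1 l hl h1).2 (hKU.hall.2.1 l hl h2))

theorem mem_UM_of_primes (hG : Cfsg.IsMinSimpleOddOrder G) (hM : IsCoatom M)
    (hKU : Cfsg.IsSigmaDecomposition M K U) {x : G} (hx : x ∈ M)
    (h : ∀ l : ℕ, l.Prime → l ∣ orderOf x → l ∉ Cfsg.kappa M) : x ∈ U ⊔ Cfsg.sigmaCore M := by
  haveI := isSolvable_of_ne_top hG hM.1
  obtain ⟨m, hm, hmle⟩ := exists_conj_le_hallOf (hall_UM hG hM hKU) (Subgroup.zpowers_le.2 hx)
    (fun l hl hd => ⟨hl, h l hl (by rwa [Nat.card_zpowers] at hd)⟩)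
  have h1 : m * x * m⁻¹ ∈ U ⊔ Cfsg.sigmaCore M := hmle (mem_sigmaCore_conj_iff.2 (Subgroup.mem_zpowers x))
  have h2 := conj_mem_of_le_normalizer (inv_mem (le_normalizer_UM hKU hm)) _ h1
  rwa [inv_inv, show m⁻¹ * (m * x * m⁻¹) * m = x by group] at h2

end CfsgLib.OddLocal
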