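import Cfsg.Agent.Lib.OddLocal.KappaHat
import Cfsg.Agent.Lib.OddLocal.TauTwoCommutative
import Cfsg.Agent.S1409

/-!
BG 14.7 (b): `N_G(U)` is not contained in `M`.
-/

set_option autoImplicit false
set_option linter.style.haveILetI false
set_option linter.unusedSectionVars false

open scoped commutatorElement
open scoped Pointwise

namespace CfsgLib.OddLocal

open CfsgLib.Coprime
open CfsgLib.BG.FixedLine (conj_mem_of_le_normalizer mem_normalizer_of_conj)

universe u

variable {G : Type u} [Group G] [Finite G] {p q r s t : ℕ} {M L H Z K E U Ms Es Us : Subgroup G}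

theorem KappaData.K_inf_U (h : KappaData M K E U) : U ⊓ K = ⊥ :=
  inf_eq_bot_of_coprime_card (Nat.coprime_of_dvd fun r hr h1 h2 =>
    (h.hallU.2.1 r hr h1).2.1 (h.hall.2.1 r hr h2))

/-- A factor in `K` of an element of `E` centralizing a nontrivial element of `U` is trivial. -/
theorem KappaData.mem_U_of_commute (h : KappaData M K E U) {x b : G} (hx : x ∈ E) (hb : b ∈ U) (hb1 : b ≠ 1)
    (hc : Commute b x) : x ∈ U := by
  rw [← h.sup_eq, ← SetLike.mem_coe,
    Subgroup.coe_mul_of_right_le_normalizer_left _ _ (h.hKE.trans h.normalU)] at hx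
  obtain ⟨u, hu, k, hk, rfl⟩ := Set.mem_mul.1 hx
  haveI := h.comm
  have hbu : Commute b u := congrArg Subtype.val (mul_comm' (⟨b, hb⟩ : U) ⟨u, hu⟩)
  have hbk : Commute b k := by
    have := hbu.inv_right.mul_right hc
    rwa [inv_mul_cancel_left] at this
  by_cases hk1 : k = 1
  · rw [hk1, mul_one]; exact hu
  · exfalso
    refine hb1 (Subgroup.mem_bot.1 (h.fpf k hk hk1 ▸ ?_))
    exact ⟨hb, mem_centralizer_singleton_of_commute hbk.symm⟩

theorem Partner.not_normalizer_le (h : Partner M K E U Ms Es Us) : ¬ Subgroup.normalizer (U : Set G) ≤ M := by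
  classical
  intro hN
  have hG := h.data.hG
  have hM := h.data.hM
  have hd := h.data
  by_cases hU : U = ⊥
  · refine hM.1 (top_unique ?_)
    rwa [hU, Subgroup.normalizer_eq_top (H := (⊥ : Subgroup G))] at hN
  haveI := hd.comm
  have hUM : U ≤ M := hd.hallU.1
  by_cases h2 : ∃ p, p.Prime ∧ p ∣ Nat.card U ∧ p ∈ Cfsg.tau2 M
  · obtain ⟨p, hp, hpd, hp2⟩ := h2
    haveI := Fact.mk hp
    obtain ⟨A, A₀, hAE, hA⟩ := exists_elem_compl hG hM hd.hE hp2
    obtain ⟨-, ⟨hC, hEeq, hNA⟩, -⟩ :=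
      Cfsg.Agent.S1418.result hG M hM E hd.hE p hp2 A ⟨hAE, hA.hAe, hA.hA2⟩
    haveI := isSolvable_of_ne_top hG hM.1
    haveI : Group.IsSolvable E := isSolvable_of_le hd.hE.1 inferInstance
    obtain ⟨m, hm, hmU⟩ := exists_conj_le_hallOf (π := {q | q.Prime ∧ q ∉ Cfsg.kappa M ∧ q ∉ Cfsg.sigma M})
      (X := E) (H := U) ⟨hd.hUE, hd.hallU.2.1, fun r hr hπ hrd => hd.hallU.2.2 r hr hπ (hrd.trans (by
        rw [← Subgroup.relIndex_mul_relIndex U E M hd.hUE hd.hE.1]; exact dvd_mul_right _ _))⟩ hAE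
      fun r hr hrd => by
        rw [hA.hA2] at hrd
        have := (Nat.prime_dvd_prime_iff_eq hr hp).1 (hr.dvd_of_dvd_pow hrd)
        subst this
        exact ⟨hp, fun hκ => hp2.2.2.2 (kappa_prankLE hκ), hp2.2.1⟩
    have hAU : A ≤ U := fun a ha => by
      have h1 : m * a * m⁻¹ ∈ U := hmU (mem_sigmaCore_conj_iff.2 ha)
      have h3 := conj_mem_of_le_normalizer (inv_mem (hd.normalU hm)) _ h1
      rwa [inv_inv, show m⁻¹ * (m * a * m⁻¹) * m = a by group] at h3
    have hCU : Subgroup.centralizer (A : Set G) = U := by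
      refine le_antisymm (fun c hc => ?_) fun u hu => Subgroup.mem_centralizer_iff.2 fun a ha =>
        congrArg Subtype.val (mul_comm' (⟨a, hAU ha⟩ : U) ⟨u, hu⟩)
      obtain ⟨a, ha, hao⟩ := exists_order_of_dvd hp hA.maxElem.dvd_card
      exact hd.mem_U_of_commute ((hC.trans hEeq.le) hc) (hAU ha) (zpowers_line hp hao).2.2
        (Subgroup.mem_centralizer_iff.1 hc a ha)
    refine hNA (le_trans (fun n hn => ?_) hN)
    rw [← hCU]
    exact mem_normalizer_of_conj fun c hc => by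
      refine Subgroup.mem_centralizer_iff.2 fun a ha => ?_
      have hn' := conj_mem_of_le_normalizer (inv_mem hn) a ha
      rw [inv_inv] at hn'
      have := Subgroup.mem_centralizer_iff.1 hc _ hn'
      calc a * (n * c * n⁻¹) = n * (n⁻¹ * a * n * c) * n⁻¹ := by group
        _ = n * (c * (n⁻¹ * a * n)) * n⁻¹ := by rw [this]
        _ = _ := by group
  push Not at h2
  -- every prime of `U` is a `τ₃`-prime
  have hτ3 : ∀ {l : ℕ}, l.Prime → l ∣ Nat.card U → l ∈ Cfsg.tau3 M := fun {l} hl hld => by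
    obtain ⟨-, hκ, hσ⟩ := hd.hallU.2.1 l hl hld
    rcases tau_cases hG hM hl hσ (hld.trans (Subgroup.card_dvd_of_le hUM)) with (h1 | h3) | h22
    · exact absurd (h.kappa_eq_tau1.ge h1) hκ
    · exact h3
    · exact absurd h22 (h2 l hl hld)
  have hMC : ∀ {l : ℕ} {b : G}, l.Prime → b ∈ U → orderOf b = l →
      M ⊓ Subgroup.centralizer ({b} : Set G) = U := fun {l b} hl hb hbo => by
    have hl3 := hτ3 hl (hbo ▸ Subgroup.orderOf_dvd_natCard U hb)
    refine le_antisymm (fun w hw => ?_) (le_inf hUM fun u hu =>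
      mem_centralizer_singleton_of_commute (congrArg Subtype.val (mul_comm' (⟨b, hb⟩ : U) ⟨u, hu⟩)))
    obtain ⟨a, ha, k, hk, rfl, hba, hbk⟩ :=
      decomp_centralizer hd.hE (hd.hUE hb) hw.1 (commute_of_mem_centralizer_singleton hw.2)
    have hk1 : k = 1 := by_contra fun hk1 =>
      (hd.hallU.2.1 l hl (hbo ▸ Subgroup.orderOf_dvd_natCard U hb)).2.1
        (mem_kappa_of_line hG hM hl hl3.2.1 hl3.2.2.2 (hUM hb) hbo hk hk1 hbk)
    rw [hk1, mul_one]
    exact hd.mem_U_of_commute ha hb (zpowers_line hl hbo).2.2 hba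
  obtain ⟨p, hp, hpd⟩ := Nat.exists_prime_and_dvd fun e : Nat.card U = 1 => hU (Subgroup.card_eq_one.1 e)
  haveI := Fact.mk hp
  have hp3 := hτ3 hp hpd
  obtain ⟨b, hb, hbo⟩ := exists_order_of_dvd hp hpd
  obtain ⟨hBc, -, hb1⟩ := zpowers_line hp hbo
  obtain ⟨L, hL, hNL⟩ := (eq_top_or_exists_le_coatom _).resolve_left
    (normalizer_ne_top hG (line_ne_bot hp hBc) fun e => hM.1 (top_unique (e.ge.trans
      (Subgroup.zpowers_le.2 (hUM hb)))))
  have hUL : U ≤ L := fun u hu => hNL (Subgroup.centralizer_le_normalizer _ (by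
    rw [centralizer_zpowers_eq]
    exact mem_centralizer_singleton_of_commute (congrArg Subtype.val (mul_comm' (⟨b, hb⟩ : U) ⟨u, hu⟩))))
  have hLM : L ≠ M := fun e =>
    (Cfsg.Agent.S1409.result hG M hM p hp3.2.1 (Subgroup.zpowers b) hBc (e ▸ hNL)).1.2 hp3.2.2.2
  obtain ⟨s, y, hs, hy, hyo⟩ := hd.exists_line
  have hyL : y ∈ L := hNL (tau3_normalized hG hM hd.hE.1
    (fun r hr hrd => not_sigma_of_dvd_compl hG hM hd.hE hr hrd) (hd.hUE hb) (hbo.symm ▸ hp3) (hd.hKE hy))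
  have hy1 : y ≠ 1 := (zpowers_line hs hyo).2.2
  have hyS : y ∈ Cfsg.sigmaCore Ms ⊓
      Subgroup.centralizer ((Cfsg.sigmaCore M ⊓ Subgroup.centralizer (K : Set G) : Subgroup G) : Set G) :=
    h.dual.ge hy
  have hsMs : s ∈ Cfsg.sigma Ms := sigma_of_mem_core hs hyS.1 hyo
  have hconjM : ∀ g : G, L ≠ MulAut.conj g • M := fun g e => by
    haveI := isSolvable_of_ne_top hG hM.1
    have hU' : MulAut.conj g⁻¹ • U ≤ M := fun x hx => by
      rw [mem_conj_smul_iff, inv_inv] at hx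
      have h1 := hUL hx
      rw [e, mem_conj_smul_iff] at h1
      rwa [show g⁻¹ * (g * x * g⁻¹) * g = x by group] at h1
    obtain ⟨m, hm, hmU⟩ := exists_conj_le_hallOf hd.hallU hU' fun r hr hrd => by
      rw [Nat.card_congr (Subgroup.equivSMul (MulAut.conj g⁻¹) U).symm.toEquiv] at hrd
      exact hd.hallU.2.1 r hr hrd
    rw [← mul_smul, ← map_mul] at hmU
    have hmg : m * g⁻¹ ∈ M := hN (mem_normalizer_of_conj fun x hx => hmU (mem_sigmaCore_conj_iff.2 hx))
    have hg : g ∈ M := by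
      have := M.mul_mem (M.inv_mem hmg) hm
      rwa [show (m * g⁻¹)⁻¹ * m = g by group] at this
    exact hLM (e.trans ((conj_smul_self_iff hG hM).2 hg))
  have hsL : s ∉ Cfsg.sigma L := fun hsL => by
    obtain ⟨g, hg⟩ := sigma_disjoint hG h.pdata.hM hL hsMs hsL
    have hgM : g⁻¹ ∈ Ms := h.pdata.mem_of_conj_star hs hyS hyo (by
      rw [hg, mem_conj_smul_iff] at hyL
      rwa [inv_inv])
    rw [(conj_smul_self_iff hG h.pdata.hM).2 (inv_mem_iff.1 hgM)] at hg
    have hbZ : b ∈ K ⊔ (Cfsg.sigmaCore M ⊓ Subgroup.centralizer (K : Set G)) := by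
      rw [← h.inf_eq]; exact ⟨hUM hb, hg ▸ hUL hb⟩
    have : b ∈ U ⊓ K := ⟨hb, (hd.prime_mem hbZ hp hbo).2 hp3.2.1⟩
    rw [hd.K_inf_U, Subgroup.mem_bot] at this
    exact hb1 this
  have hyfix : Cfsg.sigmaCore L ⊓ Subgroup.centralizer ({y} : Set G) = ⊥ :=
    (Subgroup.eq_bot_iff_forall _).2 fun w hw => by_contra fun hw1 => by
      rcases sigma_dichotomy hG hL hw.1 hw1 hyL (commute_of_mem_centralizer_singleton hw.2) hy1
        (fun r hr hrd => by rw [hyo] at hrd; exact (Nat.prime_dvd_prime_iff_eq hr hs).1 hrd ▸ hsL)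
        with ⟨hκ, -⟩ | ⟨-, -, hyLc, -⟩
      · obtain ⟨g, e | e⟩ := h.classes hL ⟨s, hκ s hs (hyo ▸ dvd_rfl)⟩
        · exact hconjM g e
        · exact hsL (e ▸ sigma_conj_iff.2 hsMs)
      · exact hsL ((h.pdata.star_uniq hs hyS hyo).2 L hL hyLc ▸ hsMs)
  -- `W = L_σ U` is nilpotent, so equal to `U`
  set W := Cfsg.sigmaCore L ⊔ U with hW
  have hUσn : U ≤ Subgroup.normalizer (Cfsg.sigmaCore L : Set G) := hUL.trans (le_normalizer_piCoreOf _ L)
  have hyN : y ∈ Subgroup.normalizer (Cfsg.sigmaCore L : Set G) := le_normalizer_piCoreOf _ L hyL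
  have hyU : y ∈ Subgroup.normalizer (U : Set G) := hd.normalU (hd.hKE hy)
  have hyW : y ∈ Subgroup.normalizer (W : Set G) := by
    rw [mem_normalizer_iff_conj_smul, hW, Subgroup.smul_sup, conj_smul_eq_self_of_mem_normalizer hyN,
      conj_smul_eq_self_of_mem_normalizer hyU]
  have hWfix : W ⊓ Subgroup.centralizer ({y} : Set G) = ⊥ := (Subgroup.eq_bot_iff_forall _).2 fun w hw => by
    obtain ⟨hwW, hwC⟩ := Subgroup.mem_inf.1 hw
    rw [hW, ← SetLike.mem_coe, Subgroup.coe_mul_of_right_le_normalizer_left _ _ hUσn] at hwW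
    obtain ⟨k, hk, u, hu, rfl⟩ := Set.mem_mul.1 hwW
    have hf : ∀ v : ↥(U ⊓ Cfsg.sigmaCore L), y * (v : G) * y⁻¹ * (v : G)⁻¹ ∈ U ⊓ Cfsg.sigmaCore L := fun v =>
      Subgroup.mul_mem _ ⟨conj_mem_of_le_normalizer hyU v v.2.1, conj_mem_of_le_normalizer hyN v v.2.2⟩
        (Subgroup.inv_mem _ v.2)
    have hinj : ∀ {v v' : G}, v ∈ U → v' ∈ U → y * v * y⁻¹ * v⁻¹ = y * v' * y⁻¹ * v'⁻¹ → v = v' :=
      fun {v v'} hv hv' he => by
        have h1 : v'⁻¹ * v ∈ U ⊓ Subgroup.centralizer ({y} : Set G) := by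
          refine ⟨U.mul_mem (U.inv_mem hv') hv, mem_centralizer_singleton_of_commute ?_⟩
          have h3 : y * (v'⁻¹ * v) * y⁻¹ = v'⁻¹ * v := by
            calc y * (v'⁻¹ * v) * y⁻¹ = (y * v' * y⁻¹)⁻¹ * (y * v * y⁻¹ * v⁻¹) * v := by group
              _ = (y * v' * y⁻¹)⁻¹ * (y * v' * y⁻¹ * v'⁻¹) * v := by rw [he]
              _ = _ := by group
          exact mul_inv_eq_iff_eq_mul.1 h3
        rw [hd.fpf y hy hy1, Subgroup.mem_bot, inv_mul_eq_one] at h1
        exact h1.symm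
    let f : ↥(U ⊓ Cfsg.sigmaCore L) → ↥(U ⊓ Cfsg.sigmaCore L) := fun v => ⟨_, hf v⟩
    have hfi : Function.Injective f := fun v v' he =>
      Subtype.ext (hinj v.2.1 v'.2.1 (congrArg Subtype.val he))
    have hc : y * (k * u) * y⁻¹ = k * u := by
      rw [(commute_of_mem_centralizer_singleton hwC).eq, mul_inv_cancel_right]
    have hcu : y * u * y⁻¹ * u⁻¹ ∈ U ⊓ Cfsg.sigmaCore L := ⟨U.mul_mem
      (conj_mem_of_le_normalizer hyU u hu) (U.inv_mem hu), by
      rw [show y * u * y⁻¹ * u⁻¹ = (y * k * y⁻¹)⁻¹ * (y * (k * u) * y⁻¹) * u⁻¹ by group, hc,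
        show (y * k * y⁻¹)⁻¹ * (k * u) * u⁻¹ = (y * k * y⁻¹)⁻¹ * k by group]
      exact (Cfsg.sigmaCore L).mul_mem
        ((Cfsg.sigmaCore L).inv_mem (conj_mem_of_le_normalizer hyN k hk)) hk⟩
    obtain ⟨v, hv⟩ := (Finite.injective_iff_surjective.1 hfi) ⟨_, hcu⟩
    have huv : (v : G) = u := hinj v.2.1 hu (congrArg Subtype.val hv)
    exact Subgroup.mem_bot.1 (hyfix ▸ ⟨(Cfsg.sigmaCore L).mul_mem hk (huv ▸ v.2.2), hwC⟩)
  have hWn : Group.IsNilpotent W :=
    isNilpotent_of_fpf_elem hs (by rw [← hyo, pow_orderOf_eq_one]) hyW hWfix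
  have hMN : ∀ n ∈ M ⊓ Subgroup.normalizer (U : Set G), n ∈ E := fun n hn => by
    obtain ⟨a, ha, k, hk, rfl⟩ := hd.hE.2.2.2 n hn.1
    have hkN : k ∈ Subgroup.normalizer (U : Set G) := by
      have := mul_mem (inv_mem (hd.normalU ha)) hn.2
      rwa [inv_mul_cancel_left] at this
    have hkb : Commute k b := by
      have h1 : ⁅k, b⁆ ∈ U ⊓ Cfsg.sigmaCore M := ⟨by
        rw [commutatorElement_def]
        exact U.mul_mem (conj_mem_of_le_normalizer hkN b hb) (U.inv_mem hb), by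
        rw [show ⁅k, b⁆ = k * (b * k⁻¹ * b⁻¹) by rw [commutatorElement_def]; group]
        exact (Cfsg.sigmaCore M).mul_mem hk (conj_mem_of_le_normalizer (le_normalizer_piCoreOf _ M (hUM hb)) _
          ((Cfsg.sigmaCore M).inv_mem hk))⟩
      rw [show U ⊓ Cfsg.sigmaCore M = ⊥ from le_bot_iff.1 (hd.hE.2.2.1 ▸ inf_le_inf_right _ hd.hUE),
        Subgroup.mem_bot] at h1
      exact commutatorElement_eq_one_iff_mul_comm.1 h1
    have hk1 : k ∈ U := (hMC hp hb hbo).le ⟨piCoreOf_le _ M hk, mem_centralizer_singleton_of_commute hkb.symm⟩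
    exact E.mul_mem ha (hd.hUE hk1)
  have hLU : Cfsg.sigmaCore L ≤ U := by
    have hWU : W ≤ U := by
      by_contra hne
      have hlt : U.subgroupOf W < ⊤ :=
        lt_top_iff_ne_top.2 fun e => hne (Subgroup.subgroupOf_eq_top.1 e)
      obtain ⟨n, hn, hnU⟩ := SetLike.exists_of_lt (Group.normalizerCondition_of_isNilpotent (h := hWn) _ hlt)
      have hnN : (n : G) ∈ Subgroup.normalizer (U : Set G) := mem_normalizer_of_conj fun u hu => by
        have := conj_mem_of_le_normalizer hn (⟨u, le_sup_right (a := Cfsg.sigmaCore L) hu⟩ : W)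
          (show (⟨u, _⟩ : W) ∈ U.subgroupOf W from hu)
        exact this
      have hnE := hMN n ⟨hN hnN, hnN⟩
      rw [← hd.sup_eq, ← SetLike.mem_coe,
        Subgroup.coe_mul_of_right_le_normalizer_left _ _ (hd.hKE.trans hd.normalU)] at hnE
      obtain ⟨u, hu, k, hk, hek⟩ := Set.mem_mul.1 hnE
      haveI := h.cyclic_K
      haveI : IsMulCommutative K := IsCyclic.isMulCommutative
      have hkW : k ∈ W ⊓ Subgroup.centralizer ({y} : Set G) := ⟨by
        rw [show k = u⁻¹ * (n : G) by rw [← hek, inv_mul_cancel_left]]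
        exact W.mul_mem (W.inv_mem (Subgroup.mem_sup_right hu)) n.2,
        mem_centralizer_singleton_of_commute (congrArg Subtype.val (mul_comm' (⟨y, hy⟩ : K) ⟨k, hk⟩))⟩
      rw [hWfix, Subgroup.mem_bot] at hkW
      apply hnU
      show (n : G) ∈ U
      rw [← hek, hkW, mul_one]
      exact hu
    exact le_sup_left.trans hWU
  obtain ⟨t, ht, htd⟩ := Nat.exists_prime_and_dvd
    fun e : Nat.card (Cfsg.sigmaCore L) = 1 => sigmaCore_ne_bot hG hL (Subgroup.card_eq_one.1 e)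
  obtain ⟨c, hc, hco⟩ := exists_order_of_dvd ht htd
  have htL := sigma_of_mem_core ht hc hco
  have hcU := hLU hc
  have htd' : t ∣ Nat.card U := hco ▸ Subgroup.orderOf_dvd_natCard U hcU
  have hκL : Cfsg.kappa L = ∅ := Set.not_nonempty_iff_eq_empty.1 fun hne => by
    obtain ⟨g, e | e⟩ := h.classes hL hne
    · exact hconjM g e
    · have htMs : t ∈ Cfsg.sigma Ms := sigma_conj_iff.1 (e ▸ htL)
      have hh := h.symm.sigma_hall
      rw [h.dual] at hh
      refine hh.2.2 t ht htMs ?_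
      have hrel := Subgroup.relIndex_mul_relIndex ⊥ K M bot_le hd.hKM
      simp only [Subgroup.relIndex_bot_left] at hrel
      exact (ht.dvd_mul.1 (hrel ▸ htd'.trans (Subgroup.card_dvd_of_le hUM))).resolve_left fun hk =>
        (hd.hallU.2.1 t ht htd').2.1 (hd.hall.2.1 t ht hk)
  obtain ⟨EL, hEL⟩ := exists_compl hG hL
  set C := L ⊓ Subgroup.centralizer (Cfsg.sigmaCore L : Set G) with hC
  haveI hDc : IsMulCommutative ↥(EL ⊓ C) := tau2_isMulCommutative hG hL hEL inf_le_left fun l hl hld => by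
    obtain ⟨v, hv, hvo⟩ := exists_order_of_dvd hl hld
    rcases sigma_dichotomy hG hL hc (zpowers_line ht hco).2.2 hv.2.1
      (commute_of_mem_centralizer hc hv.2.2).symm (zpowers_line hl hvo).2.2
      (fun r hr hrd => by
        rw [hvo] at hrd
        exact (Nat.prime_dvd_prime_iff_eq hr hl).1 hrd ▸
          not_sigma_of_dvd_compl hG hL hEL hl (hvo ▸ Subgroup.orderOf_dvd_natCard EL hv.1))
      with ⟨hκ, -⟩ | ⟨h2', -⟩
    · have := hκ l hl (hvo ▸ dvd_rfl)
      rw [hκL] at this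
      exact absurd this (Set.notMem_empty l)
    · exact h2' l hl (hvo ▸ dvd_rfl)
  have hσC : Cfsg.sigmaCore L ≤ C := le_inf (piCoreOf_le _ L) fun k hk => Subgroup.mem_centralizer_iff.2
    fun w hw => congrArg Subtype.val (mul_comm' (⟨w, hLU hw⟩ : U) ⟨k, hLU hk⟩)
  have hsplit : ∀ x ∈ C, ∃ a ∈ EL ⊓ C, ∃ k ∈ Cfsg.sigmaCore L, x = a * k := fun x hx => by
    obtain ⟨a, ha, k, hk, rfl⟩ := hEL.2.2.2 x hx.1
    have haC : a ∈ C := by
      have := C.mul_mem hx (C.inv_mem (hσC hk))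
      rwa [mul_inv_cancel_right] at this
    exact ⟨a, ⟨ha, haC⟩, k, hk, rfl⟩
  have hcomm : ∀ x ∈ C, ∀ z ∈ C, Commute x z := fun x hx z hz => by
    obtain ⟨a, ha, k, hk, rfl⟩ := hsplit x hx
    obtain ⟨a', ha', k', hk', rfl⟩ := hsplit z hz
    have h1 : Commute a a' := congrArg Subtype.val (mul_comm' (⟨a, ha⟩ : ↥(EL ⊓ C)) ⟨a', ha'⟩)
    have h2 : Commute a k' := (commute_of_mem_centralizer hk' ha.2.2).symm
    have h3 : Commute k a' := commute_of_mem_centralizer hk ha'.2.2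
    have h4 : Commute k k' := congrArg Subtype.val (mul_comm' (⟨k, hLU hk⟩ : U) ⟨k', hLU hk'⟩)
    exact (h1.mul_right h2).mul_left (h3.mul_right h4)
  have hUC : U ≤ C := le_inf hUL fun u hu => Subgroup.mem_centralizer_iff.2 fun w hw =>
    congrArg Subtype.val (mul_comm' (⟨w, hLU hw⟩ : U) ⟨u, hu⟩)
  have hCeq : C = U := by
    refine le_antisymm (fun x hx => ?_) hUC
    have hxM : x ∈ M := hN (Subgroup.centralizer_le_normalizer _ (Subgroup.mem_centralizer_iff.2 fun u hu =>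
      (hcomm u (hUC hu) x hx).eq))
    exact (hMC ht hcU hco).le ⟨hxM, mem_centralizer_singleton_of_commute (commute_of_mem_centralizer hc hx.2)⟩
  refine hLM ((hL.le_iff.1 (le_trans ?_ hN)).resolve_left hM.1).symm
  rw [← hCeq]
  exact le_normalizer_inf_of_le Subgroup.le_normalizer
    (le_normalizer_centralizer (le_normalizer_piCoreOf _ L))

end CfsgLib.OddLocal
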