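import Cfsg.Agent.Lib.OddLocal.KappaDecomp
import Cfsg.Agent.S1417
import Cfsg.Agent.S1418
import Cfsg.Agent.Lib.OddLocal.SupportPrimes

/-!
BG 14.7: the subgroup `Z = K K* = M ∩ M*`.
-/

set_option autoImplicit false
set_option linter.style.haveILetI false
set_option linter.unusedSectionVars false

open scoped commutatorElement
open scoped Pointwise

namespace CfsgLib.OddLocal

open CfsgLib.Coprime
open CfsgLib.BG.FixedLine (conj_mem_of_le_normalizer mem_normalizer_of_conj)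

universe u

variable {G : Type u} [Group G] [Finite G] {p q r s t : ℕ} {M L H Z K E U Ms Es Us : Subgroup G}

theorem KappaData.inf_centralizer (h : KappaData M K E U) (hc : IsCyclic K) {k : G} (hk : k ∈ K) (hk1 : k ≠ 1) :
    M ⊓ Subgroup.centralizer ({k} : Set G) = K ⊔ (Cfsg.sigmaCore M ⊓ Subgroup.centralizer (K : Set G)) := by
  refine le_antisymm ?_ (le_inf h.Z_le (sup_le (fun x hx => ?_) fun x hx => ?_))
  · obtain ⟨q, y, hq, hy, hyo⟩ := exists_prime_power_elem hk1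
    have hyK : y ∈ K := Subgroup.zpowers_le.2 hk hy
    rw [← h.inf_normalizer_line hyK (hyo.symm ▸ hq)]
    refine inf_le_inf_left _ ((centralizer_le_zpowers hy).trans ?_)
    rw [← centralizer_zpowers_eq]
    exact Subgroup.centralizer_le_normalizer _
  · haveI := hc
    haveI : IsMulCommutative K := IsCyclic.isMulCommutative
    exact mem_centralizer_singleton_of_commute (congrArg Subtype.val (mul_comm' (⟨k, hk⟩ : K) ⟨x, hx⟩))
  · exact mem_centralizer_singleton_of_commute (h.star_commute hk hx)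

/-- An element of prime order of `M_σ ∩ Ms` centralizes `K`. -/
theorem Partner.core_inf_partner (h : Partner M K E U Ms Es Us) :
    Cfsg.sigmaCore M ⊓ Ms = Cfsg.sigmaCore M ⊓ Subgroup.centralizer (K : Set G) := by
  refine le_antisymm (fun b hb => ⟨hb.1, Subgroup.mem_centralizer_iff.2 fun w hw => ?_⟩)
    (le_inf inf_le_left (le_sup_left.trans h.pdata.Z_le))
  have hwσ : w ∈ Cfsg.sigmaCore Ms := (h.dual.ge hw).1
  have hwM : w ∈ M := h.data.hKM hw
  have h1 : ⁅w, b⁆ ∈ Cfsg.sigmaCore M ⊓ Cfsg.sigmaCore Ms := ⟨by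
    rw [commutatorElement_def]
    exact (Cfsg.sigmaCore M).mul_mem (conj_mem_of_le_normalizer (le_normalizer_piCoreOf _ M hwM) b hb.1)
      ((Cfsg.sigmaCore M).inv_mem hb.1), by
    rw [show ⁅w, b⁆ = w * (b * w⁻¹ * b⁻¹) by rw [commutatorElement_def]; group]
    exact (Cfsg.sigmaCore Ms).mul_mem hwσ (conj_mem_of_le_normalizer (le_normalizer_piCoreOf _ Ms hb.2) _
      ((Cfsg.sigmaCore Ms).inv_mem hwσ))⟩
  have hbot : Cfsg.sigmaCore M ⊓ Cfsg.sigmaCore Ms = ⊥ :=
    inf_eq_bot_of_coprime_card (Nat.coprime_of_dvd fun r hr h1 h2 => by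
      obtain ⟨g, hg⟩ := sigma_disjoint h.data.hG h.data.hM h.pdata.hM (isPi_piCoreOf _ M r hr h1)
        (isPi_piCoreOf _ Ms r hr h2)
      exact h.nonconj g hg)
  rw [hbot, Subgroup.mem_bot] at h1
  exact commutatorElement_eq_one_iff_mul_comm.1 h1

/-- BG 14.7: `M ∩ Ms = Z`. -/
theorem Partner.inf_eq (h : Partner M K E U Ms Es Us) :
    M ⊓ Ms = K ⊔ (Cfsg.sigmaCore M ⊓ Subgroup.centralizer (K : Set G)) := by
  have hK : Cfsg.sigmaCore Ms ⊓ M = K := h.symm.core_inf_partner.trans h.dual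
  refine le_antisymm (fun x hx => h.data.inf_normalizer.le ⟨hx.1, mem_normalizer_of_conj fun k hk => ?_⟩)
    (le_inf h.data.Z_le (sup_le ((h.dual.ge.trans inf_le_left).trans (piCoreOf_le _ Ms))
      (le_sup_left.trans h.pdata.Z_le)))
  rw [← hK] at hk ⊢
  exact ⟨conj_mem_of_le_normalizer (le_normalizer_piCoreOf _ Ms hx.2) k hk.1,
    M.mul_mem (M.mul_mem hx.1 hk.2) (M.inv_mem hx.1)⟩

theorem Partner.centralizer_mul (h : Partner M K E U Ms Es Us) {k z : G} (hk : k ∈ K) (hk1 : k ≠ 1)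
    (hz : z ∈ Cfsg.sigmaCore M ⊓ Subgroup.centralizer (K : Set G)) (hz1 : z ≠ 1) :
    Subgroup.centralizer ({k * z} : Set G) = K ⊔ (Cfsg.sigmaCore M ⊓ Subgroup.centralizer (K : Set G)) := by
  have hZ : k * z ∈ K ⊔ (Cfsg.sigmaCore M ⊓ Subgroup.centralizer (K : Set G)) := Subgroup.mul_mem_sup hk hz
  refine le_antisymm (fun w hw => h.data.hat_ti hZ (fun e => ?_) (fun e => ?_) ?_) fun w hw => ?_
  · have : z ∈ K ⊓ Cfsg.sigmaCore M := ⟨by
      have := K.mul_mem (K.inv_mem hk) e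
      rwa [inv_mul_cancel_left] at this, hz.1⟩
    rw [h.data.K_inf_core] at this
    exact hz1 this
  · have : k ∈ K ⊓ Cfsg.sigmaCore M := ⟨hk, by
      have := (Cfsg.sigmaCore M).mul_mem e.1 ((Cfsg.sigmaCore M).inv_mem hz.1)
      rwa [mul_inv_cancel_right] at this⟩
    rw [h.data.K_inf_core] at this
    exact hk1 this
  · rw [show w * (k * z) * w⁻¹ = k * z by
      rw [← (commute_of_mem_centralizer_singleton hw).eq, mul_inv_cancel_right]]
    exact hZ
  · haveI := h.cyclic_Z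
    haveI : IsMulCommutative ↥(K ⊔ (Cfsg.sigmaCore M ⊓ Subgroup.centralizer (K : Set G))) :=
      IsCyclic.isMulCommutative
    exact mem_centralizer_singleton_of_commute (congrArg Subtype.val
      (mul_comm' (⟨k * z, hZ⟩ : ↥(K ⊔ (Cfsg.sigmaCore M ⊓ Subgroup.centralizer (K : Set G)))) ⟨w, hw⟩))

/-- The elements of `Z ∖ (K ∪ K*)` are in no other conjugate of `M`. -/
theorem KappaData.hat_not_mem_conj (h : KappaData M K E U) {g t : G} (hg : g ∉ M)
    (ht : t ∈ K ⊔ (Cfsg.sigmaCore M ⊓ Subgroup.centralizer (K : Set G))) (htK : t ∉ K) :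
    t ∉ MulAut.conj g • M := fun htg => by
  obtain ⟨k, hk, z, hz, rfl⟩ := h.mem_Z_iff.1 ht
  have hz1 : z ≠ 1 := fun e => htK (by rw [e, mul_one]; exact hk)
  have hzt : z ∈ Subgroup.zpowers (k * z) := by
    rw [(h.star_commute hk hz).eq]
    exact mem_zpowers_mul_of_coprime (h.star_commute hk hz).symm (h.coprime_orderOf hk hz).symm
  obtain ⟨q, c, hq, hc, hco⟩ := exists_prime_power_elem hz1
  have hcg : c ∈ MulAut.conj g • M := Subgroup.zpowers_le.2 (Subgroup.zpowers_le.2 htg hzt) hc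
  rw [mem_conj_smul_iff] at hcg
  exact hg (inv_mem_iff.1 (h.mem_of_conj_star hq (Subgroup.zpowers_le.2 hz hc) hco
    (show g⁻¹ * c * g⁻¹⁻¹ ∈ M by rwa [inv_inv])))

/-- `K*` is the full `σ(M)`-part of `Ms`. -/
theorem Partner.sigma_hall (h : Partner M K E U Ms Es Us) :
    Cfsg.IsPiHallOf (Cfsg.sigma M) (Cfsg.sigmaCore M ⊓ Subgroup.centralizer (K : Set G)) Ms := by
  have hG := h.data.hG
  refine ⟨le_sup_left.trans h.pdata.Z_le, fun r hr hd => isPi_piCoreOf _ M r hr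
    (hd.trans (Subgroup.card_dvd_of_le inf_le_left)), fun t ht htσ hd => ?_⟩
  haveI := Fact.mk ht
  have htM : t ∣ Nat.card Ms := hd.trans (Subgroup.relIndex_dvd_card _ _)
  have htns : t ∉ Cfsg.sigma Ms := fun e => by
    obtain ⟨g, hg⟩ := sigma_disjoint hG h.data.hM h.pdata.hM htσ e
    exact h.nonconj g hg
  have htκ : t ∉ Cfsg.kappa Ms := fun e => h.pdata.hall.2.2 t ht e hd
  obtain ⟨q, z, hq, hz, hzo⟩ := h.data.exists_star_prime
  have hzE : z ∈ Es := h.pdata.hKE hz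
  have htE : t ∣ Nat.card Es := dvd_compl h.pdata.hE ht htns htM
  have hzs : Subgroup.normalizer ((Subgroup.zpowers z : Subgroup G) : Set G) ≤ M :=
    h.data.normalizer_star_le hq hz hzo
  have key : ∀ b ∈ Ms, orderOf b = t → b ∈ M → False := fun b hb hbo hbM => by
    have hbS : b ∈ Cfsg.sigmaCore M ⊓ Ms :=
      ⟨sigma_mem_of_elem hG h.data.hM ht htσ hbM (k := 1) (by rw [pow_one, ← hbo, pow_orderOf_eq_one]), hb⟩
    rw [h.core_inf_partner] at hbS
    exact htκ (h.pdata.hall.2.1 t ht (hbo ▸ Subgroup.orderOf_dvd_natCard _ hbS))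
  have fusion : ∀ g : G, z ∈ MulAut.conj g • M → MulAut.conj g • M = M := fun g hg => by
    rw [mem_conj_smul_iff] at hg
    exact (conj_smul_self_iff hG h.data.hM).2 (inv_mem_iff.1 (h.data.mem_of_conj_star hq hz hzo
      (show g⁻¹ * z * g⁻¹⁻¹ ∈ M by rwa [inv_inv])))
  by_cases h2 : Cfsg.PRankLE t 1 Ms
  · obtain ⟨b, hb, hbo⟩ := exists_order_of_dvd ht htE
    have hbMs : b ∈ Ms := h.pdata.hE.1 hb
    have ht3 : t ∈ Cfsg.tau3 Ms := by
      rcases tau_cases hG h.pdata.hM ht htns htM with (h1 | h3) | h22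
      · exact absurd (h.symm.kappa_eq_tau1.ge h1) htκ
      · exact h3
      · exact absurd h2 h22.2.2.2
    have hzb : z ∈ Subgroup.normalizer ((Subgroup.zpowers b : Subgroup G) : Set G) :=
      tau3_normalized hG h.pdata.hM h.pdata.hE.1 (fun r hr hd => not_sigma_of_dvd_compl hG h.pdata.hM h.pdata.hE hr hd)
        hb (hbo.symm ▸ ht3) hzE
    obtain ⟨hBc, hBp, hb1⟩ := zpowers_line ht hbo
    obtain ⟨g, hg⟩ := exists_conj_le_sigmaCore hG h.data.hM (line_ne_bot ht hBc) (fun r hr hrd => by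
      rw [hBc] at hrd; exact (Nat.prime_dvd_prime_iff_eq hr ht).1 hrd ▸ htσ)
    set M' := MulAut.conj g⁻¹ • M with hM'
    have hM'c := isCoatom_conj h.data.hM g⁻¹
    have hbM' : b ∈ Cfsg.sigmaCore M' := by
      have := hg (show g * b * g⁻¹ ∈ MulAut.conj g • Subgroup.zpowers b from
        mem_sigmaCore_conj_iff.2 (Subgroup.mem_zpowers b))
      have h4 := conj_mem_sigmaCore hG h.data.hM g⁻¹ this
      rwa [show g⁻¹ * (g * b * g⁻¹) * g⁻¹⁻¹ = b by group] at h4
    by_cases hC : Subgroup.centralizer ({b} : Set G) ≤ M'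
    · have hN := (Cfsg.Agent.S1404.result hG M' hM'c t (sigma_conj_iff.2 htσ) (Subgroup.zpowers b) hBp
        (line_ne_bot ht hBc) (Subgroup.zpowers_le.2 (piCoreOf_le _ _ hbM'))).2
      have hzM' : z ∈ M' := (hN.le.trans (sup_le inf_le_left (by rw [centralizer_zpowers_eq]; exact hC))) hzb
      exact key b hbMs hbo (fusion _ hzM' ▸ piCoreOf_le _ _ hbM')
    · obtain ⟨N₀, hs⟩ := exists_support hG hM'c hbM' hb1 hC
      have hzN : z ∈ N₀ := by
        refine normalizer_le_of_uniq hG hs.hN ?_ hzb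
        rw [centralizer_zpowers_eq]
        exact ⟨hs.hle, hs.uniq⟩
      set A := Subgroup.zpowers b ⊔ Subgroup.zpowers z with hA
      have htq : t ≠ q := fun e => htκ (h.pdata.hall.2.1 t ht (by
        rw [e, ← hzo]; exact Subgroup.orderOf_dvd_natCard _ hz))
      have hAc : Nat.card A = t * q := by
        rw [hA, card_sup_of_coprime (Subgroup.zpowers_le.2 hzb) (by
          rw [hBc, Nat.card_zpowers, hzo]; exact (Nat.coprime_primes ht hq).2 htq), hBc, Nat.card_zpowers, hzo]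
      obtain ⟨n, hn, hnE⟩ := exists_conj_le_compl hG hs.hN hs.compl
        (sup_le (Subgroup.zpowers_le.2 hs.hxN) (Subgroup.zpowers_le.2 hzN) : A ≤ N₀) fun r hr hrd => by
          rw [hAc] at hrd
          rcases hr.dvd_mul.1 hrd with h5 | h5
          · exact (Nat.prime_dvd_prime_iff_eq hr ht).1 h5 ▸ fun e => hs.not_sigma_left e (sigma_conj_iff.2 htσ)
          · exact (Nat.prime_dvd_prime_iff_eq hr hq).1 h5 ▸
              fun e => hs.not_sigma_left e (sigma_conj_iff.2 (sigma_of_mem_core hq hz.1 hzo))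
      have hin : ∀ w ∈ A, w ∈ MulAut.conj (n⁻¹ * g⁻¹) • M := fun w hw => by
        have h6 : n * w * n⁻¹ ∈ MulAut.conj g⁻¹ • M := (hnE (mem_sigmaCore_conj_iff.2 hw)).1
        rw [map_mul, mul_smul, mem_conj_smul_iff, inv_inv]
        exact h6
      exact key b hbMs hbo
        (fusion _ (hin z (Subgroup.mem_sup_right (Subgroup.mem_zpowers z))) ▸
          hin b (Subgroup.mem_sup_left (Subgroup.mem_zpowers b)))
  · have ht2 : t ∈ Cfsg.tau2 Ms := ⟨ht, htns, prankLE_two_of_not_sigma hG h.pdata.hM ht htns, h2⟩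
    obtain ⟨A, A₀, hAE, hA⟩ := exists_elem_compl hG h.pdata.hM h.pdata.hE ht2
    obtain ⟨hEA, -⟩ := Cfsg.Agent.S1418.result hG Ms h.pdata.hM Es h.pdata.hE t ht2 A ⟨hAE, hA.hAe, hA.hA2⟩
    obtain ⟨g, hg⟩ := exists_conj_le_sigmaCore hG h.data.hM hA.maxElem.ne_bot (fun r hr hrd => by
      rw [hA.hA2] at hrd; exact (Nat.prime_dvd_prime_iff_eq hr ht).1 (hr.dvd_of_dvd_pow hrd) ▸ htσ)
    have hAM' : A ≤ MulAut.conj g⁻¹ • M := fun a ha => by
      rw [mem_conj_smul_iff, inv_inv]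
      exact piCoreOf_le _ M (hg (mem_sigmaCore_conj_iff.2 ha))
    have hzM' : z ∈ MulAut.conj g⁻¹ • M := normalizer_le_of_noncyclic hG (isCoatom_conj h.data.hM g⁻¹)
      (sigma_conj_iff.2 htσ) hA.maxElem.isPGroup hAM' hA.maxElem.not_isCyclic (hEA.1 hzE)
    rw [fusion _ hzM'] at hAM'
    obtain ⟨-, -, -, -, hdis, -⟩ :=
      Cfsg.Agent.S1417.result hG Ms h.pdata.hM t ht2 A ⟨hA.hAM, hA.hAe, hA.hA2⟩
    refine h.data.hK1 (le_bot_iff.1 ((hdis M h.data.hM (fun e => h.nonconj 1 ?_) hAM') ▸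
      le_inf (h.dual.ge.trans inf_le_left) h.data.hKM))
    rw [map_one, one_smul, e]

/-- BG 14.7 (f): the maximal subgroups with `κ` nonempty. -/
theorem Partner.two_classes (h : Partner M K E U Ms Es Us) (hH : IsCoatom H)
    (hκ : (Cfsg.kappa H).Nonempty) (ht : ∃ g : G, ∃ K₁ E₁ U₁ : Subgroup G, KappaData H K₁ E₁ U₁ ∧
      ∃ t ∈ K₁ ⊔ (Cfsg.sigmaCore H ⊓ Subgroup.centralizer (K₁ : Set G)), t ∉ K₁ ∧
        g * t * g⁻¹ ∈ K ⊔ (Cfsg.sigmaCore M ⊓ Subgroup.centralizer (K : Set G))) :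
    ∃ g : G, H = MulAut.conj g • M ∨ H = MulAut.conj g • Ms := by
  obtain ⟨g, K₁, E₁, U₁, h₁, t, ht, htK, hgt⟩ := ht
  obtain ⟨k, hk, z, hz, rfl⟩ := h₁.mem_Z_iff.1 ht
  have hz1 : z ≠ 1 := fun e => htK (by rw [e, mul_one]; exact hk)
  have hzt : z ∈ Subgroup.zpowers (k * z) := by
    rw [(h₁.star_commute hk hz).eq]
    exact mem_zpowers_mul_of_coprime (h₁.star_commute hk hz).symm (h₁.coprime_orderOf hk hz).symm
  obtain ⟨q, c, hq, hc, hco⟩ := exists_prime_power_elem hz1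
  obtain ⟨i, hi⟩ := Subgroup.mem_zpowers_iff.1 (Subgroup.zpowers_le.2 hzt hc)
  have hcZ : g * c * g⁻¹ ∈ K ⊔ (Cfsg.sigmaCore M ⊓ Subgroup.centralizer (K : Set G)) := by
    rw [← hi, ← conj_zpow]; exact zpow_mem hgt i
  have hco' : orderOf (g * c * g⁻¹) = q := by
    rw [← hco]; exact orderOf_injective (MulAut.conj g).toMonoidHom (MulAut.conj g).injective c
  have hσ : q ∈ Cfsg.sigma H := sigma_of_mem_core hq (Subgroup.zpowers_le.2 hz.1 hc) hco
  by_cases hσM : q ∈ Cfsg.sigma M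
  · obtain ⟨x, hx⟩ := sigma_disjoint h.data.hG h.data.hM hH hσM hσ
    exact ⟨x, Or.inl hx⟩
  · have hK := h.dual.ge ((h.data.prime_mem hcZ hq hco').2 hσM)
    obtain ⟨x, hx⟩ := sigma_disjoint h.data.hG h.pdata.hM hH (sigma_of_mem_core hq hK.1 hco') hσ
    exact ⟨x, Or.inr hx⟩

end CfsgLib.OddLocal
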