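import Cfsg.Agent.Lib.OddLocal.MaxElem

/-!
Lines and elementary subgroups of small `q`-groups.
-/

set_option autoImplicit false
set_option linter.style.haveILetI false
set_option linter.unusedSectionVars false

namespace CfsgLib.OddLocal

open CfsgLib.BG.FixedLine (conj_mem_of_le_normalizer mem_normalizer_of_conj)

universe u

variable {G : Type u} [Group G] [Finite G] {q : ℕ}

/-- A `q`-group normalizing a group of order `q` centralizes it. -/
theorem centralizes_line (hq : q.Prime) {Y Z : Subgroup G} (hY : IsPGroup q Y) (hZ : Nat.card Z = q)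
    (hYZ : Y ≤ Subgroup.normalizer (Z : Set G)) : Y ≤ Subgroup.centralizer (Z : Set G) := by
  classical
  haveI := Fact.mk hq
  letI : MulAction Y Z := MulAction.compHom Z ((Subgroup.normalizerMonoidHom Z).comp (Subgroup.inclusion hYZ))
  have hact : ∀ (y : Y) (a : Z), ((y • a : Z) : G) = (y : G) * a * (y : G)⁻¹ := fun y a => rfl
  set C := Z ⊓ Subgroup.centralizer (Y : Set G) with hC
  have hfix : Nat.card (MulAction.fixedPoints Y Z) = Nat.card C := by
    refine Nat.card_congr
      { toFun := fun a => ⟨(a : Z), (a : Z).2, fun y hy => by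
          have := congrArg Subtype.val (a.2 (⟨y, hy⟩ : Y))
          rw [hact] at this
          exact mul_inv_eq_iff_eq_mul.1 this⟩
        invFun := fun c => ⟨⟨c, c.2.1⟩, fun y => Subtype.ext (by
          rw [hact]
          exact mul_inv_eq_iff_eq_mul.2 (c.2.2 y y.2))⟩
        left_inv := fun a => rfl
        right_inv := fun c => rfl }
  have hmod := hY.card_modEq_card_fixedPoints (α := Z)
  rw [hfix, hZ] at hmod
  rcases (Nat.dvd_prime hq).1 (hZ ▸ Subgroup.card_dvd_of_le (inf_le_left : C ≤ Z)) with h1 | h1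
  · rw [h1] at hmod
    exact absurd ((Nat.modEq_iff_dvd' hq.one_le).1 hmod.symm)
      (fun hd => absurd (Nat.le_of_dvd (Nat.sub_pos_of_lt hq.one_lt) hd) (by have := hq.one_lt; omega))
  · exact Subgroup.le_centralizer_iff.1 (inf_eq_left.1
      (Subgroup.eq_of_le_of_card_ge (inf_le_left : C ≤ Z) (by rw [hZ, h1])))

/-- A nontrivial `q`-group has a central element of order `q`. -/
theorem exists_central_order (hq : q.Prime) {U : Subgroup G} (hU : IsPGroup q U) (hU1 : U ≠ ⊥) :
    ∃ z ∈ U, z ∈ Subgroup.centralizer (U : Set G) ∧ orderOf z = q := by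
  haveI := Fact.mk hq
  haveI : Nontrivial U := (Subgroup.nontrivial_iff_ne_bot _).2 hU1
  haveI := hU.center_nontrivial
  obtain ⟨z, hz⟩ := exists_prime_orderOf_dvd_card' (G := Subgroup.center U) q (by
    obtain ⟨k, hk⟩ := (hU.to_subgroup (Subgroup.center U)).exists_card_eq
    have : 1 < Nat.card (Subgroup.center U) := Finite.one_lt_card
    rw [hk] at this ⊢
    exact dvd_pow_self q fun h0 => by rw [h0, pow_zero] at this; exact lt_irrefl 1 this)
  refine ⟨(z : U), (z : U).2, fun y hy => congrArg Subtype.val (Subgroup.mem_center_iff.1 z.2 ⟨y, hy⟩), ?_⟩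
  rw [Subgroup.orderOf_coe, Subgroup.orderOf_coe, hz]

/-- In a cyclic group all elements of exponent `q` lie in a subgroup of order `q`. -/
theorem mem_line_of_cyclic (hq : q.Prime) {U Z : Subgroup G} (hU : IsCyclic U) (hZU : Z ≤ U)
    (hZ : Nat.card Z = q) {x : G} (hx : x ∈ U) (hxq : x ^ q = 1) : x ∈ Z := by
  classical
  haveI := hU
  haveI := Fintype.ofFinite U
  set S := Finset.univ.filter fun a : U => a ^ q = 1 with hS
  set T := Finset.univ.filter fun a : U => (a : G) ∈ Z with hT
  have hTS : T ⊆ S := fun a ha => by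
    rw [hT, Finset.mem_filter] at ha
    rw [hS, Finset.mem_filter]
    refine ⟨Finset.mem_univ _, Subtype.ext ?_⟩
    have := pow_card_eq_one' (x := (⟨(a : G), ha.2⟩ : Z))
    rw [hZ] at this
    simpa using congrArg Subtype.val this
  have hTc : T.card = q := by
    rw [← hZ, ← Nat.card_congr (Subgroup.subgroupOfEquivOfLe hZU).toEquiv, hT,
      Nat.card_eq_fintype_card, Fintype.card_subtype]
    congr 1
  have h1 : T = S := Finset.eq_of_subset_of_card_le hTS (by rw [hTc, hS]; exact IsCyclic.card_pow_eq_one_le hq.pos)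
  have h2 : (⟨x, hx⟩ : U) ∈ S := Finset.mem_filter.2 ⟨Finset.mem_univ _, Subtype.ext (by simpa using hxq)⟩
  rw [← h1, hT, Finset.mem_filter] at h2
  exact h2.2

/-- A noncyclic `q`-subgroup contains an elementary subgroup of order `q ^ 2`. -/
theorem exists_elem_sq (hG : Cfsg.IsMinSimpleOddOrder G) (hq : q.Prime) {U : Subgroup G} (hU : IsPGroup q U)
    (hnc : ¬ IsCyclic U) : ∃ E ≤ U, Cfsg.IsElementaryAbelian q E ∧ Nat.card E = q ^ 2 := by
  classical
  haveI := Fact.mk hq
  obtain ⟨r, hr, hrU⟩ : ∃ r : ℕ, r.Prime ∧ ¬ Cfsg.PRankLE r 1 ↥U := by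
    have h := exists_noncyclic_elementary hG hU hnc
    by_contra hne; push Not at hne; exact h hne
  haveI := Fact.mk hr
  obtain ⟨B, hBU, hBe, hB2⟩ := exists_elementary hrU
  obtain ⟨j, hj⟩ := (isPGroup_of_elementary hBe).exists_card_eq
  have hj2 : 2 ≤ j := by
    rw [hj] at hB2
    have := (Nat.pow_le_pow_iff_right hr.one_lt).1 hB2
    omega
  have hrq : r = q := by
    obtain ⟨m, hm⟩ := hU.exists_card_eq
    have h1 : r ∣ q ^ m := hm ▸ (hj ▸ dvd_pow_self r (by omega)).trans (Subgroup.card_dvd_of_le hBU)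
    exact (Nat.prime_dvd_prime_iff_eq hr hq).1 (hr.dvd_of_dvd_pow h1)
  subst hrq
  haveI := hBe.1
  obtain ⟨A₀, hA₀⟩ := Sylow.exists_subgroup_card_pow_prime (G := B) r (n := 2) (hj ▸ pow_dvd_pow r hj2)
  exact ⟨A₀.map B.subtype, (Subgroup.map_subtype_le _).trans hBU,
    ⟨Subgroup.map_isMulCommutative A₀ _, fun a ha => hBe.2 a (Subgroup.map_subtype_le _ ha)⟩,
    by rw [Subgroup.card_map_of_injective B.subtype_injective, hA₀]⟩

end CfsgLib.OddLocal
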