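import Cfsg.Agent.Lib.OddLocal.ExceptionalDecomp
import Cfsg.Agent.Lib.OddLocal.LineHelpers
import Cfsg.Agent.S1394

/-!
BG §11: `A` centralizes the invariant `σ(M)'`-subgroups of `M` of order prime to `p`.
-/

set_option autoImplicit false
set_option linter.style.haveILetI false
set_option linter.unusedSectionVars false

open scoped commutatorElement
open scoped Pointwise

namespace CfsgLib.OddLocal

open CfsgLib.Coprime
open CfsgLib.BG.FixedLine (conj_mem_of_le_normalizer mem_normalizer_of_conj)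

universe u

variable {G : Type u} [Group G] [Finite G] {p q : ℕ} {M A A₀ : Subgroup G}

namespace Exc

/-- No normal elementary subgroup of order `q ^ 2` centralizes `M_σ`. -/
theorem not_elem_centralizes (h : Exc p M A A₀) (hq : q.Prime) (hqσ : q ∉ Cfsg.sigma M) {E : Subgroup G}
    (hE : MaxElem q E) (hEM : E ≤ M) (hME : M ≤ Subgroup.normalizer (E : Set G))
    (hEC : E ≤ Subgroup.centralizer (Cfsg.sigmaCore M : Set G)) : False := by
  classical
  haveI := Fact.mk hq
  have hNE : Subgroup.normalizer (E : Set G) = M := normalizer_eq_of_isCoatom h.hG h.hM hEM hE.ne_bot hME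
  obtain ⟨S, hS⟩ := (hE.isPGroup.comap_of_injective M.subtype M.subtype_injective :
    IsPGroup q (E.subgroupOf M)).exists_le_sylow
  set S' := (S : Subgroup M).map M.subtype with hS'
  have hES : E ≤ S' := (Subgroup.map_subgroupOf_eq_of_le hEM).ge.trans (Subgroup.map_mono hS)
  have hS'q : IsPGroup q S' := S.2.map _
  have hS'M : S' ≤ M := Subgroup.map_subtype_le _
  obtain ⟨n, hn, hnM⟩ := exists_normalizer_not_mem (hE.dvd_card.trans (Subgroup.card_dvd_of_le hEM)) hqσ S
  set Z := E ⊓ Subgroup.centralizer (S' : Set G) with hZ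
  have hnC : ∀ z ∈ S', z ∈ Subgroup.centralizer (S' : Set G) → z ^ q = 1 → z ∈ E := fun z hz hzC hzq =>
    hE.mem_of_commutes (fun e he => hzC e (hES he)) hzq
  have hnZ : MulAut.conj n • Z = Z := by
    refine Subgroup.eq_of_le_of_card_ge ?_ (card_conj_smul n Z).ge
    rintro _ ⟨z, hz, rfl⟩
    show n * z * n⁻¹ ∈ Z
    have h1 : n * z * n⁻¹ ∈ Subgroup.centralizer (S' : Set G) :=
      conj_mem_of_le_normalizer ((le_normalizer_centralizer (A := Subgroup.normalizer (S' : Set G))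
        (H := S') le_rfl) hn) z hz.2
    exact ⟨hnC _ (conj_mem_of_le_normalizer hn z (hES hz.1)) h1 (by
      rw [conj_pow, hE.elem.2 z hz.1, mul_one, mul_inv_cancel]), h1⟩
  have hS1 : S' ≠ ⊥ := fun e => hE.ne_bot (le_bot_iff.1 (hES.trans e.le))
  obtain ⟨z, hzS, hzC, hzo⟩ := exists_central_order hq hS'q hS1
  have hzZ : z ∈ Z := ⟨hnC z hzS hzC (hzo ▸ pow_orderOf_eq_one z), hzC⟩
  have hZ1 : Z ≠ ⊥ := fun e => by
    rw [e, Subgroup.mem_bot] at hzZ
    rw [hzZ, orderOf_one] at hzo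
    exact hq.ne_one hzo.symm
  obtain ⟨r, hrσ⟩ := exists_mem_sigma h.hG h.hM
  haveI := Fact.mk (prime_of_mem_sigma hrσ)
  obtain ⟨Q⟩ : Nonempty (Sylow r M) := inferInstance
  obtain ⟨T, hT⟩ := exists_sylow_map_eq hrσ Q
  have hTM : (T : Subgroup G) ≤ M := hT.le.trans (Subgroup.map_subtype_le _)
  have hMT := h.sylow_normal hrσ T hTM
  set T₂ : Sylow r G := n • T
  have hT₂ : (T₂ : Subgroup G) = MulAut.conj n • (T : Subgroup G) := Sylow.coe_subgroup_smul
  have hET₂ : E ≤ Subgroup.normalizer ((T₂ : Subgroup G) : Set G) := by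
    rw [hT₂]
    exact (hES.trans (conj_smul_eq_self_of_mem_normalizer hn).ge).trans
      ((Subgroup.map_mono (hS'M.trans hMT)).trans (Subgroup.le_normalizer_map _))
  have hTC : (T : Subgroup G) ≤ Subgroup.centralizer (Z : Set G) := fun t ht z hz =>
    ((hEC hz.1) t (le_sigmaCore_of_isPGroup h.hG h.hM (prime_of_mem_sigma hrσ) hrσ hTM T.2 ht)).symm
  have hT1 : (T : Subgroup G) ≠ ⊥ := T.ne_bot_of_dvd_card (hrσ.2.1.trans M.card_subgroup_dvd_card)
  have hT₂C : (T₂ : Subgroup G) ≤ Subgroup.centralizer (Z : Set G) := by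
    rintro y hy z hz
    rw [hT₂, mem_conj_smul_iff] at hy
    rw [← hnZ, SetLike.mem_coe, mem_conj_smul_iff] at hz
    have := hTC hy _ hz
    calc z * y = n * ((n⁻¹ * z * n) * (n⁻¹ * y * n)) * n⁻¹ := by group
      _ = n * ((n⁻¹ * y * n) * (n⁻¹ * z * n)) * n⁻¹ := by rw [this]
      _ = _ := by group
  have hT₂1 : (T₂ : Subgroup G) ≠ ⊥ := T₂.ne_bot_of_dvd_card (hrσ.2.1.trans M.card_subgroup_dvd_card)
  obtain ⟨k, hk, hkT⟩ := hE.meet_conj h.hG (prime_of_mem_sigma hrσ) (fun e => hqσ (e ▸ hrσ))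
    (sylow_mem_maxInv T (hEM.trans hMT)) (sylow_mem_maxInv T₂ hET₂) (centralizer_ne_top h.hG hZ1)
    (fun a ha z hz => hE.comm hz.1 ha) (by rwa [inf_eq_right.2 hTC]) (by rwa [inf_eq_right.2 hT₂C])
  have hkM : k ∈ M := hNE.le (Subgroup.centralizer_le_normalizer _ hk)
  rw [hT₂, conj_smul_eq_self_of_mem_normalizer (hMT hkM)] at hkT
  have h1 : n ∈ Subgroup.normalizer ((T : Subgroup G) : Set G) := mem_normalizer_iff_conj_smul.2 hkT
  rw [hT] at h1
  exact hnM (sylow_normalizer_le hrσ Q h1)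

/-- A moved invariant `q`-subgroup yields a normal line of `M`. -/
theorem exists_line (h : Exc p M A A₀) (hq : q.Prime) (hqp : q ≠ p) (hqσ : q ∉ Cfsg.sigma M) {X : Subgroup G}
    (hXM : X ≤ M) (hX : IsPGroup q X) (hAX : A ≤ Subgroup.normalizer (X : Set G))
    (hne : ¬ A ≤ Subgroup.centralizer (X : Set G)) :
    ∃ Z : Subgroup G, Nat.card Z = q ∧ Z ≤ M ∧ M ≤ Subgroup.normalizer (Z : Set G) ∧
      Z ≤ Subgroup.centralizer (Cfsg.sigmaCore M : Set G) ∧ ¬ A ≤ Subgroup.centralizer (Z : Set G) ∧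
      ∀ Z' : Subgroup G, Nat.card Z' = q → Z' ≤ ⁅X, A⁆ → Z' = Z := by
  classical
  haveI := Fact.mk h.hp
  haveI := Fact.mk hq
  have hcop : ∀ {W : Subgroup G}, IsPGroup q W → (Nat.card A).Coprime (Nat.card W) := fun hW => by
    obtain ⟨k, hk⟩ := hW.exists_card_eq
    rw [h.hA2, hk]
    exact ((Nat.coprime_primes h.hp hq).2 hqp.symm).pow 2 k
  haveI := h.hAe.1
  have hsA : Group.IsSolvable A := isSolvable_of_isMulCommutative A
  set Y := ⁅X, A⁆ with hY
  have hYX : Y ≤ X := commutator_le_left_of_le_normalizer hAX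
  have hY1 : Y ≠ ⊥ := fun e => hne (Subgroup.le_centralizer_iff.1 (Subgroup.commutator_eq_bot_iff_le_centralizer.1 e))
  have hYC := h.commutator_A_le_centralizer hq hqp hqσ hXM hX hAX
  have hYU : Y ≤ opOf q M := le_opOf_of_centralizes_sigmaCore h.hG h.hM hq (hX.to_le hYX)
    (Subgroup.commutator_mono hXM h.hAM) hYC
  set U := opOf q M with hU
  have hUq : IsPGroup q U := isPGroup_opOf hq M
  have hUM : U ≤ M := piCoreOf_le _ M
  have hMU : M ≤ Subgroup.normalizer (U : Set G) := le_normalizer_piCoreOf _ M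
  have hUC : U ≤ Subgroup.centralizer (Cfsg.sigmaCore M : Set G) :=
    commute_of_disjoint (hUM.trans (le_normalizer_piCoreOf _ M)) ((piCoreOf_le _ M).trans hMU)
      (isPi_piCoreOf _ M) (isPi_piCoreOf _ M) (Set.disjoint_singleton_left.2 hqσ)
  have hUA : ¬ A ≤ Subgroup.centralizer (U : Set G) := by
    intro hle
    refine hY1 ?_
    rw [hY, ← commutator_commutator_eq hAX (hcop hX) (Or.inl hsA)]
    exact Subgroup.commutator_eq_bot_iff_le_centralizer.2
      (Subgroup.le_centralizer_iff.1 (hle.trans (Subgroup.centralizer_le (SetLike.coe_subset_coe.2 hYU))))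
  have hUcyc : IsCyclic U := by
    by_contra hnc
    obtain ⟨E, hEU, hEe, hE2⟩ := exists_elem_sq h.hG hq hUq hnc
    have hEM := hEU.trans hUM
    have hE : MaxElem q E := ⟨hq, hEe, hE2, elementary_maximal_of_not_sigma h.hG h.hM hqσ hEM hEe hE2⟩
    have hcen : ∀ z ∈ U, z ∈ Subgroup.centralizer (U : Set G) → z ^ q = 1 → z ∈ E := fun z hz hzC hzq =>
      hE.mem_of_commutes (fun e he => hzC e (hEU he)) hzq
    set Z := E ⊓ Subgroup.centralizer (U : Set G) with hZ
    have hMZ : M ≤ Subgroup.normalizer (Z : Set G) := fun m hm => mem_normalizer_of_conj fun z hz => by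
      have h1 : m * z * m⁻¹ ∈ Subgroup.centralizer (U : Set G) :=
        conj_mem_of_le_normalizer ((le_normalizer_centralizer hMU) hm) z hz.2
      exact ⟨hcen _ (conj_mem_of_le_normalizer (hMU hm) z (hEU hz.1)) h1 (by
        rw [conj_pow, hE.elem.2 z hz.1, mul_one, mul_inv_cancel]), h1⟩
    obtain ⟨z, hzU, hzC, hzo⟩ := exists_central_order hq hUq fun e => hY1 (le_bot_iff.1 (hYU.trans e.le))
    have hzZ : z ∈ Z := ⟨hcen z hzU hzC (hzo ▸ pow_orderOf_eq_one z), hzC⟩
    obtain ⟨k, hk2, hk⟩ := (Nat.dvd_prime_pow hq).1 (hE2 ▸ Subgroup.card_dvd_of_le (inf_le_left : Z ≤ E))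
    interval_cases k
    · rw [pow_zero] at hk
      have hz1 : z ∈ (⊥ : Subgroup G) := (Subgroup.card_eq_one.1 hk).le hzZ
      rw [Subgroup.mem_bot] at hz1
      rw [hz1, orderOf_one] at hzo
      exact hq.ne_one hzo.symm
    · have hN : Subgroup.normalizer (Z : Set G) ≤ M := (normalizer_eq_of_isCoatom h.hG h.hM
        ((inf_le_left : Z ≤ E).trans hEM) (fun e => hq.ne_one (by rw [← pow_one q, ← hk, e, Subgroup.card_bot]))
        hMZ).le
      have h' : Exc q M E Z := ⟨h.hG, h.hM, hq, hqσ, hEM, hEe, hE2, inf_le_left, hk.trans (pow_one q), hN⟩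
      refine sigmaCore_ne_bot h.hG h.hM (le_bot_iff.1 (h'.sigmaCore_inf_centralizer ▸ le_inf le_rfl ?_))
      exact Subgroup.le_centralizer_iff.1 (hEU.trans hUC)
    · have hZE : Z = E := Subgroup.eq_of_le_of_card_ge inf_le_left (by rw [hE2, hk])
      exact h.not_elem_centralizes hq hqσ hE hEM (hZE ▸ hMZ) (hEU.trans hUC)
  obtain ⟨z, hzU, -, hzo⟩ := exists_central_order hq hUq fun e => hY1 (le_bot_iff.1 (hYU.trans e.le))
  set Z := Subgroup.zpowers z with hZ
  have hZc : Nat.card Z = q := by rw [hZ, Nat.card_zpowers, hzo]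
  have hZU : Z ≤ U := Subgroup.zpowers_le.2 hzU
  have huniq : ∀ {x : G}, x ∈ U → x ^ q = 1 → x ∈ Z := fun hx hxq => mem_line_of_cyclic hq hUcyc hZU hZc hx hxq
  have hZq : ∀ x ∈ Z, x ^ q = 1 := fun x hx => by
    have := pow_card_eq_one' (x := (⟨x, hx⟩ : Z))
    rw [hZc] at this
    simpa using congrArg Subtype.val this
  have hMZ : M ≤ Subgroup.normalizer (Z : Set G) := fun m hm => mem_normalizer_of_conj fun x hx =>
    huniq (conj_mem_of_le_normalizer (hMU hm) x (hZU hx)) (by rw [conj_pow, hZq x hx, mul_one, mul_inv_cancel])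
  refine ⟨Z, hZc, hZU.trans hUM, hMZ, hZU.trans hUC, fun hle => hUA ?_, fun Z' hZ' hZ'Y => ?_⟩
  · have hq2 : q ≠ 2 := fun e => Nat.not_even_iff_odd.2 h.hG.1 (even_iff_two_dvd.2
      (e ▸ hZc ▸ Z.card_subgroup_dvd_card))
    refine CfsgLib.PSolvable.le_centralizer_of_omega hq2 (A := (⊥ : Subgroup G)) IsPGroup.of_bot ?_ bot_le hUq bot_le
      (h.hAM.trans hMU) fun x hx hxq _ a ha => ?_
    · rw [h.hA2]
      exact ((Nat.coprime_primes h.hp hq).2 hqp.symm).pow_left 2
    · exact ((hle ha) x (huniq hx hxq)).symm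
  · refine Subgroup.eq_of_le_of_card_ge (fun x hx => huniq (hYU (hZ'Y hx)) ?_) (by rw [hZc, hZ'])
    have := pow_card_eq_one' (x := (⟨x, hx⟩ : Z'))
    rw [hZ'] at this
    simpa using congrArg Subtype.val this

/-- Lemma N: `A` centralizes invariant `q`-subgroups, `q ∉ σ(M) ∪ {p}`. -/
theorem centralizes (h : Exc p M A A₀) (hq : q.Prime) (hqp : q ≠ p) (hqσ : q ∉ Cfsg.sigma M) {X : Subgroup G}
    (hXM : X ≤ M) (hX : IsPGroup q X) (hAX : A ≤ Subgroup.normalizer (X : Set G)) :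
    A ≤ Subgroup.centralizer (X : Set G) := by
  classical
  by_contra hne
  haveI := Fact.mk h.hp
  haveI := Fact.mk hq
  haveI := h.hAe.1
  have hG := h.hG
  obtain ⟨Xq, hXqc, hXqM, hMXq, hXqC, hXqA, -⟩ := h.exists_line hq hqp hqσ hXM hX hAX hne
  have hXqq : IsPGroup q Xq := IsPGroup.of_card (n := 1) (by rw [hXqc, pow_one])
  have hXq1 : Xq ≠ ⊥ := fun e => hq.ne_one (by rw [← hXqc, e, Subgroup.card_bot])
  have hNXq : Subgroup.normalizer (Xq : Set G) = M := normalizer_eq_of_isCoatom hG h.hM hXqM hXq1 hMXq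
  have hAXq : A ≤ Subgroup.normalizer (Xq : Set G) := h.hAM.trans hMXq
  -- the kernel `K` of `A` on `Xq`
  set K := A ⊓ Subgroup.centralizer (Xq : Set G) with hK
  have hcopXq : (Nat.card A).Coprime (Nat.card Xq) := by
    rw [h.hA2, hXqc]; exact ((Nat.coprime_primes h.hp hq).2 hqp.symm).pow_left 2
  haveI hXqcyc : IsCyclic Xq := isCyclic_of_prime_card hXqc
  have hK1 : K ≠ ⊥ := by
    intro e
    refine hXq1 (le_bot_iff.1 (le_of_centralizer_le h.maxElem.not_isCyclic hAXq hcopXq fun g hg hg1 => ?_))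
    intro x hx
    by_contra hx1
    refine hg1 ((Subgroup.eq_bot_iff_forall _).1 e g ⟨hg, fun y hy => ?_⟩)
    have hgen : Subgroup.zpowers x = Xq := Subgroup.eq_of_le_of_card_ge (Subgroup.zpowers_le.2 hx.1) (by
      rw [hXqc, Nat.card_zpowers, orderOf_eq_prime (x := x) (p := q) ?_ hx1]
      have := pow_card_eq_one' (x := (⟨x, hx.1⟩ : Xq))
      rw [hXqc] at this
      simpa using congrArg Subtype.val this)
    rw [SetLike.mem_coe, ← hgen] at hy
    obtain ⟨i, rfl⟩ := Subgroup.mem_zpowers_iff.1 hy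
    exact ((show Commute g x from hx.2 g rfl).zpow_right i).eq.symm
  have hKc : Nat.card K = p := by
    obtain ⟨k, hk2, hk⟩ := (Nat.dvd_prime_pow h.hp).1 (h.hA2 ▸ Subgroup.card_dvd_of_le (inf_le_left : K ≤ A))
    interval_cases k
    · exact absurd (Subgroup.card_eq_one.1 (hk.trans (pow_zero p))) hK1
    · exact hk.trans (pow_one p)
    · exact absurd (inf_eq_left.1 (Subgroup.eq_of_le_of_card_ge (inf_le_left : K ≤ A) (by rw [h.hA2, hk]))) hXqA
  -- `p < q`
  have hpq : p < q := by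
    by_contra hle
    have hlt : q < p := lt_of_le_of_ne (not_lt.1 hle) hqp
    refine hXqA fun a ha => ?_
    letI : MulAction A Xq := MulAction.compHom Xq ((Subgroup.normalizerMonoidHom Xq).comp (Subgroup.inclusion hAXq))
    intro x hx
    obtain ⟨j, hj⟩ := h.maxElem.isPGroup.card_orbit (⟨x, hx⟩ : Xq)
    have hle' : Nat.card (MulAction.orbit A (⟨x, hx⟩ : Xq)) ≤ q := hXqc ▸
      Nat.card_le_card_of_injective _ Subtype.val_injective
    rw [hj] at hle'
    have hj0 : j = 0 := by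
      by_contra hj0
      exact absurd ((Nat.le_self_pow hj0 p).trans hle') (by omega)
    rw [hj0, pow_zero] at hj
    have hsub := (Nat.card_eq_one_iff_unique.1 hj).1
    have h1 := congrArg Subtype.val (congrArg Subtype.val (hsub.elim
      ⟨(⟨a, ha⟩ : A) • (⟨x, hx⟩ : Xq), MulAction.mem_orbit _ _⟩ ⟨_, MulAction.mem_orbit_self _⟩))
    exact (mul_inv_eq_iff_eq_mul.1 (show a * x * a⁻¹ = x from h1)).symm
  -- an `A`-invariant Sylow `q`-subgroup of `M`
  set D := (Cfsg.pPrimeCore p M).map M.subtype with hD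
  have hDM : D ≤ M := Subgroup.map_subtype_le _
  have hAD : A ≤ Subgroup.normalizer (D : Set G) :=
    h.hAM.trans (CfsgLib.PSolvable.le_normalizer_map_of_characteristic Subgroup.le_normalizer _)
  have hcopD : (Nat.card A).Coprime (Nat.card D) := by
    rw [h.hA2, hD, Subgroup.card_subtype]
    exact ((CfsgLib.Transfer.pPrimeCore_coprime p).symm).pow_left 2
  obtain ⟨T, hXqT, hAT⟩ := exists_invariant_sylow_ge (p := q) hAD hcopD (Or.inl (isSolvable_of_isMulCommutative A))
    (h.le_pPrimeCore_of_gt hq hpq hXqM hXqq) hXqq hAXq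
  set S := (T : Subgroup D).map D.subtype with hS
  have hSq : IsPGroup q S := T.2.map _
  have hSM : S ≤ M := (Subgroup.map_subtype_le _).trans hDM
  obtain ⟨P, hP⟩ := (hSq.comap_of_injective M.subtype M.subtype_injective :
    IsPGroup q (S.subgroupOf M)).exists_le_sylow
  have hSP : (P : Subgroup M).map M.subtype = S := by
    have h1 : S ≤ (P : Subgroup M).map M.subtype :=
      (Subgroup.map_subgroupOf_eq_of_le hSM).ge.trans (Subgroup.map_mono hP)
    have h2 : (P : Subgroup M).map M.subtype ≤ D :=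
      h.le_pPrimeCore_of_gt hq hpq (Subgroup.map_subtype_le _) (P.2.map _)
    refine le_antisymm ?_ h1
    have h3 := T.is_maximal' ((P.2.map M.subtype).comap_of_injective D.subtype D.subtype_injective :
      IsPGroup q (((P : Subgroup M).map M.subtype).subgroupOf D)) (fun t ht => h1 ⟨t, ht, rfl⟩)
    rw [hS, ← h3]
    exact (Subgroup.map_subgroupOf_eq_of_le h2).ge
  -- the elementary subgroup `E = Ω₁(S)`
  have hqM : q ∣ Nat.card M := hXqc ▸ Subgroup.card_dvd_of_le hXqM
  have hSnc : ¬ IsCyclic S := by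
    intro hc
    obtain ⟨n, hn, hnM⟩ := exists_normalizer_not_mem hqM hqσ P
    rw [hSP] at hn
    refine hnM (hNXq.le (mem_normalizer_of_conj fun x hx => mem_line_of_cyclic hq hc hXqT hXqc
      (conj_mem_of_le_normalizer hn x (hXqT hx)) ?_))
    have := pow_card_eq_one' (x := (⟨x, hx⟩ : Xq))
    rw [hXqc] at this
    rw [conj_pow, show x ^ q = 1 by simpa using congrArg Subtype.val this, mul_one, mul_inv_cancel]
  obtain ⟨E, hES, hEe, hE2⟩ := exists_elem_sq hG hq hSq hSnc
  have hE : MaxElem q E := ⟨hq, hEe, hE2, elementary_maximal_of_not_sigma hG h.hM hqσ (hES.trans hSM) hEe hE2⟩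
  have hSC : S ≤ Subgroup.centralizer (Xq : Set G) := centralizes_line hq hSq hXqc (hSM.trans hMXq)
  have hXqE : Xq ≤ E := fun x hx => hE.mem_of_commutes
    (fun e he => ((hSC (hES he)) x hx).symm) (by
      have := pow_card_eq_one' (x := (⟨x, hx⟩ : Xq))
      rw [hXqc] at this
      simpa using congrArg Subtype.val this)
  have h' : Exc q M E Xq := ⟨hG, h.hM, hq, hqσ, hES.trans hSM, hEe, hE2, hXqE, hXqc, hNXq.le⟩
  have hΩ : ∀ x ∈ S, x ^ q = 1 ↔ x ∈ E := fun x hx =>
    h'.le_sylow_mem P (hSP ▸ hES) (hSP.symm ▸ hx)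
  have hnormE : ∀ {g : G}, g ∈ Subgroup.normalizer (S : Set G) → g ∈ Subgroup.normalizer (E : Set G) :=
    fun hg => mem_normalizer_of_conj fun e he => (hΩ _ (conj_mem_of_le_normalizer hg e (hES he))).1
      (by rw [conj_pow, hEe.2 e he, mul_one, mul_inv_cancel])
  have hAE : A ≤ Subgroup.normalizer (E : Set G) := fun a ha => hnormE (hAT ha)
  haveI := hEe.1
  have hcopE : (Nat.card A).Coprime (Nat.card E) := by
    rw [h.hA2, hE2]; exact ((Nat.coprime_primes h.hp hq).2 hqp.symm).pow 2 2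
  have hcomE : ⁅E, A⁆ ≤ Xq := by
    have h1 : ⁅E, A⁆ ≤ E ⊓ Subgroup.centralizer (Cfsg.sigmaCore M : Set G) := le_inf
      (commutator_le_left_of_le_normalizer hAE)
      (h.commutator_A_le_centralizer hq hqp hqσ (hES.trans hSM) hE.isPGroup hAE)
    refine h1.trans (le_of_eq (Subgroup.eq_of_le_of_card_ge (le_inf hXqE hXqC) ?_).symm)
    obtain ⟨k, hk2, hk⟩ := (Nat.dvd_prime_pow hq).1 (hE2 ▸
      Subgroup.card_dvd_of_le (inf_le_left : E ⊓ Subgroup.centralizer (Cfsg.sigmaCore M : Set G) ≤ E))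
    rw [hk, hXqc]
    refine (Nat.pow_le_pow_right hq.pos (?_ : k ≤ 1)).trans (pow_one q).le
    by_contra hk1
    refine sigmaCore_ne_bot hG h.hM (le_bot_iff.1 (h'.sigmaCore_inf_centralizer ▸ le_inf le_rfl ?_))
    refine Subgroup.le_centralizer_iff.1 (inf_eq_left.1 (Subgroup.eq_of_le_of_card_ge inf_le_left ?_))
    rw [hk, hE2]
    exact Nat.pow_le_pow_right hq.pos (by omega)
  set W := E ⊓ Subgroup.centralizer (A : Set G) with hW
  have hWE := centralizer_sup_commutator_eq hAE hcopE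
  have hKE : ∀ a ∈ K, ∀ e ∈ E, a * e = e * a := by
    intro a ha e he
    have hle : E ≤ Subgroup.centralizer ({a} : Set G) := by
      rw [← hWE]
      refine sup_le (fun w hw => Subgroup.mem_centralizer_singleton_iff.2 (hw.2 a ha.1).symm) (hcomE.trans fun x hx => ?_)
      exact Subgroup.mem_centralizer_singleton_iff.2 (ha.2 x hx)
    exact (Subgroup.mem_centralizer_singleton_iff.1 (hle he)).symm
  have hWC : W ≤ Subgroup.centralizer (A : Set G) := inf_le_right
  have hW1 : W ≠ ⊥ := by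
    intro e
    rw [show E ⊓ Subgroup.centralizer (A : Set G) = ⊥ from e, bot_sup_eq] at hWE
    have := Subgroup.card_le_of_le (hWE.ge.trans hcomE)
    rw [hE2, hXqc] at this
    exact absurd this (not_le.2 (lt_self_pow₀ hq.one_lt one_lt_two))
  -- an overgroup of `N(K)`
  have hKtop : Subgroup.normalizer (K : Set G) ≠ ⊤ := normalizer_ne_top hG hK1 fun e => h.hM.1
    (top_unique (e.ge.trans (inf_le_left.trans h.hAM)))
  obtain ⟨L, hL, hKL⟩ := (eq_top_or_exists_le_coatom (Subgroup.normalizer (K : Set G))).resolve_left hKtop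
  have hAL : A ≤ L := (fun a ha => hKL (mem_normalizer_of_conj fun k hk => by
    rw [h.maxElem.comm ha hk.1, mul_inv_cancel_right]; exact hk) : A ≤ L)
  have hCKL : Subgroup.centralizer (K : Set G) ≤ L := (Subgroup.centralizer_le_normalizer _).trans hKL
  have hXqL : Xq ≤ L := fun x hx => hCKL fun k hk => (hk.2 x hx).symm
  have hWL : W ≤ L := fun w hw => hCKL fun k hk => hw.2 k hk.1
  have hqG : q ∣ Nat.card G := hqM.trans M.card_subgroup_dvd_card
  have hpσL : p ∉ Cfsg.sigma L := by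
    intro hpσ
    have hAD : A ≤ ⁅L, L⁆ := by
      intro a ha
      obtain ⟨P₁, hP₁⟩ := (h.maxElem.isPGroup.comap_of_injective L.subtype L.subtype_injective :
        IsPGroup p (A.subgroupOf L)).exists_le_sylow
      rw [← CfsgLib.BG.map_commutator_subtype]
      exact ⟨⟨a, hAL ha⟩, sylow_le_commutator hG hL hpσ P₁.2 (hP₁ ha), rfl⟩
    exact hXqA (centralizes_of_le_derived hG hL h.hp hq hqp
      (fun hb => (h'.maxElem.not_ideal hG) hb.2) h.maxElem.isPGroup hAD hXqq hXqL hAXq)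
  have hExcL : Exc p L A K := ⟨hG, hL, h.hp, hpσL, hAL, h.hAe, h.hA2, inf_le_left, hKc, hKL⟩
  have hqσL : q ∉ Cfsg.sigma L := fun hqσL => hW1 (le_bot_iff.1 (hExcL.sigmaCore_inf_centralizer ▸
    le_inf (le_sigmaCore_of_isPGroup hG hL hq hqσL hWL (hE.isPGroup.to_le inf_le_left)) hWC))
  obtain ⟨Z, hZc, hZL, hLZ, -, -, hZu⟩ := hExcL.exists_line hq hqp hqσL hXqL hXqq hAXq hXqA
  have hLM : L = M := by
    have hcx : ⁅Xq, A⁆ = Xq := by
      rcases (Nat.dvd_prime hq).1 (hXqc ▸ Subgroup.card_dvd_of_le (commutator_le_left_of_le_normalizer hAXq)) with h1 | h1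
      · exact absurd (Subgroup.le_centralizer_iff.1
          (Subgroup.commutator_eq_bot_iff_le_centralizer.1 (Subgroup.card_eq_one.1 h1))) hXqA
      · exact Subgroup.eq_of_le_of_card_ge (commutator_le_left_of_le_normalizer hAXq) (by rw [h1, hXqc])
    rw [← hZu Xq hXqc hcx.ge] at hLZ
    exact ((hL.le_iff).1 (hNXq ▸ hLZ : L ≤ M)).resolve_left h.hM.1 |>.symm
  have hCK : Subgroup.centralizer (K : Set G) ≤ M := hLM ▸ hCKL
  -- maximal invariant `q`-subgroup above `S`
  obtain ⟨n, hn, hnM⟩ := h.exists_normalizer_not_mem'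
  obtain ⟨Q, hQ, hSQ⟩ := exists_max_ge hq (inv_of_pGroup (A := A) hq hSq hAT)
  have hQq : IsPGroup q Q := pGroup_of_inv hq hQ.1
  by_cases hQS : Q ≤ S
  · have hQS' : Q = S := le_antisymm hQS hSQ
    subst hQS'
    have hrk : ¬ Cfsg.RankLE 1 ↥(A ⊓ Subgroup.centralizer (A : Set G)) :=
      not_rankLE_one_of_elementary h.hAe h.hA2.ge (le_inf le_rfl fun a ha b hb => h.maxElem.comm hb ha)
    have hqC : q ∣ Nat.card (Subgroup.centralizer (A : Set G)) := by
      obtain ⟨k, hk⟩ := (hE.isPGroup.to_le (inf_le_left : W ≤ E)).exists_card_eq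
      refine dvd_trans ?_ (Subgroup.card_dvd_of_le hWC)
      rw [hk]
      exact dvd_pow_self q fun h0 => hW1 (Subgroup.card_eq_one.1 (by rw [hk, h0, pow_zero]))
    obtain ⟨k, hk, hkQ⟩ := Cfsg.Agent.S1394.result hG A (h.maxElem.transitivityHypothesis hG) hrk q hq
      (h.maxElem.not_dvd hq hqp) hqC _ hQ _ (conj_mem_max hn hQ)
    have hkC : k ∈ Subgroup.centralizer (A : Set G) := piCoreOf_le _ _ hk
    have hg : k⁻¹ * n ∈ Subgroup.normalizer (S : Set G) := by
      rw [mem_normalizer_iff_conj_smul, map_mul, mul_smul]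
      have : MulAut.conj n • S = MulAut.conj k • S := hkQ
      rw [this, ← mul_smul, ← map_mul, inv_mul_cancel, map_one, one_smul]
    have hgA : k⁻¹ * n ∈ Subgroup.normalizer (A : Set G) :=
      mul_mem (inv_mem (Subgroup.centralizer_le_normalizer _ hkC)) hn
    have hgX : k⁻¹ * n ∈ Subgroup.normalizer (Xq : Set G) := by
      have hcx : ⁅E, A⁆ = Xq := by
        refine Subgroup.eq_of_le_of_card_ge hcomE ?_
        rcases (Nat.dvd_prime hq).1 (hXqc ▸ Subgroup.card_dvd_of_le hcomE) with h1 | h1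
        · exfalso
          refine hXqA ((Subgroup.le_centralizer_iff.1
            (Subgroup.commutator_eq_bot_iff_le_centralizer.1 (Subgroup.card_eq_one.1 h1))).trans
            (Subgroup.centralizer_le (SetLike.coe_subset_coe.2 hXqE)))
        · rw [hXqc, h1]
      rw [mem_normalizer_iff_conj_smul, ← hcx, conj_smul_commutator,
        conj_smul_eq_self_of_mem_normalizer (hnormE hg), conj_smul_eq_self_of_mem_normalizer hgA]
    have h1 := M.mul_mem (h.centralizer_le hkC) (hNXq.le hgX)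
    rw [mul_inv_cancel_left] at h1
    exact hnM h1
  · obtain ⟨t, htQ, htN, htS⟩ := exists_mem_normalizer_not_mem hQq hSQ hQS
    set T₁ := Q ⊓ Subgroup.normalizer (S : Set G) with hT₁
    have hTS : ∀ x ∈ T₁, x ∈ M → x ∈ S := by
      intro x hx hxM
      have hR : IsPGroup q ↥(T₁ ⊓ M) := hQq.to_le (inf_le_left.trans inf_le_left)
      have hle : (P : Subgroup M) ≤ (T₁ ⊓ M).subgroupOf M := fun s hs =>
        have hsS : (s : G) ∈ S := hSP ▸ ⟨s, hs, rfl⟩
        ⟨⟨hSQ hsS, Subgroup.le_normalizer hsS⟩, s.2⟩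
      have h3 := P.is_maximal' (hR.comap_of_injective M.subtype M.subtype_injective :
        IsPGroup q ((T₁ ⊓ M).subgroupOf M)) hle
      rw [← hSP, ← h3]
      exact ⟨⟨x, hxM⟩, ⟨hx, hxM⟩, rfl⟩
    have hAT₁ : A ≤ Subgroup.normalizer (T₁ : Set G) := le_normalizer_inf_of_le hQ.1.2.2 fun a ha =>
      mem_normalizer_of_conj fun w hw =>
        mul_mem (mul_mem (hAT ha) hw) (inv_mem (hAT ha))
    have hcopK : (Nat.card K).Coprime (Nat.card T₁) := by
      obtain ⟨k, hk⟩ := (hQq.to_le (inf_le_left : T₁ ≤ Q)).exists_card_eq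
      rw [hKc, hk]
      exact ((Nat.coprime_primes h.hp hq).2 hqp.symm).pow_right k
    obtain ⟨c, hc, hct⟩ := exists_centralizer_mem_coset (A := K) (K := T₁) (inf_le_left.trans hAT₁) hcopK
      (Or.inr (haveI := (hQq.to_le (inf_le_left : T₁ ≤ Q)).isNilpotent; inferInstance)) (N := S)
      (le_inf hSQ Subgroup.le_normalizer) (inf_le_left.trans hAT) (k := t) ⟨htQ, htN⟩ fun a ha => by
        have hmemT : t⁻¹ * (a * t * a⁻¹) ∈ T₁ :=
          mul_mem (inv_mem ⟨htQ, htN⟩) (conj_mem_of_le_normalizer (hAT₁ ha.1) t ⟨htQ, htN⟩)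
        refine hTS _ hmemT (h'.centralizer_le ?_)
        intro e he
        have htE := hnormE htN
        have haa : ∀ e ∈ E, a * e = e * a := hKE a ha
        set e' := t * e * t⁻¹ with he'
        have he'E : e' ∈ E := conj_mem_of_le_normalizer htE e he
        have c1 := haa e he
        have c2 := haa e' he'E
        have c1' : a⁻¹ * e = e * a⁻¹ := ((show Commute a e from c1).inv_left).eq
        calc e * (t⁻¹ * (a * t * a⁻¹)) = t⁻¹ * (e' * a) * t * a⁻¹ := by rw [he']; group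
          _ = t⁻¹ * (a * e') * t * a⁻¹ := by rw [c2]
          _ = t⁻¹ * a * t * (e * a⁻¹) := by rw [he']; group
          _ = t⁻¹ * a * t * (a⁻¹ * e) := by rw [c1']
          _ = _ := by group
    have hcM : c ∈ M := hCK hc.2
    have htM : t ∈ M := by
      have h1 := M.mul_mem hcM (M.inv_mem (hSM hct))
      rwa [show c * (t⁻¹ * c)⁻¹ = t by group] at h1
    exact htS (hTS t ⟨htQ, htN⟩ htM)

end Exc

end CfsgLib.OddLocal
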