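import Cfsg.Agent.Lib.OddLocal.Beta
import Cfsg.Agent.Lib.OddLocal.Transitivity
import Cfsg.Agent.Lib.OddLocal.Uniqueness
import Cfsg.Agent.S1392
import Cfsg.Agent.S1396
import Cfsg.Agent.S1403

/-!
Maximal elementary abelian subgroups of order `p ^ 2` and the maximal invariant `q`-subgroups they control.
-/

set_option autoImplicit false
set_option linter.style.haveILetI false
set_option linter.unusedSectionVars false

open scoped commutatorElement
open scoped Pointwise

namespace CfsgLib.OddLocal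

open CfsgLib.Coprime

universe u

variable {G : Type u} [Group G] [Finite G] {p q : ℕ} {A M L : Subgroup G}

/-- `A ∈ E*_p(G)` of order `p ^ 2`. -/
structure MaxElem (p : ℕ) (A : Subgroup G) : Prop where
  prime : p.Prime
  elem : Cfsg.IsElementaryAbelian p A
  card : Nat.card A = p ^ 2
  maximal : ∀ B : Subgroup G, Cfsg.IsElementaryAbelian p B → A ≤ B → B = A

namespace MaxElem

theorem comm (hA : MaxElem p A) {a b : G} (ha : a ∈ A) (hb : b ∈ A) : a * b = b * a := by
  haveI := hA.elem.1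
  exact congrArg Subtype.val (mul_comm' (⟨a, ha⟩ : A) ⟨b, hb⟩)

theorem isPGroup (hA : MaxElem p A) : IsPGroup p A :=
  isPGroup_of_elementary hA.elem

theorem ne_bot (hA : MaxElem p A) : A ≠ ⊥ := fun h => by
  have := hA.card
  rw [h, Subgroup.card_bot] at this
  exact (Nat.one_lt_pow two_ne_zero hA.prime.one_lt).ne this

theorem dvd_card (hA : MaxElem p A) : p ∣ Nat.card A := hA.card ▸ dvd_pow_self p two_ne_zero

theorem not_dvd (hA : MaxElem p A) (hq : q.Prime) (hqp : q ≠ p) : ¬ q ∣ Nat.card A := fun h => by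
  rw [hA.card] at h
  exact hqp ((Nat.prime_dvd_prime_iff_eq hq hA.prime).1 (hq.dvd_of_dvd_pow h))

theorem not_isCyclic (hA : MaxElem p A) : ¬ IsCyclic A :=
  not_isCyclic_of_exponent hA.elem.2 hA.prime.pos
    (hA.card ▸ (by rw [sq]; exact lt_mul_of_one_lt_left hA.prime.pos hA.prime.one_lt))

theorem mem_of_commutes (hA : MaxElem p A) {x : G} (hx : x ∈ Subgroup.centralizer (A : Set G))
    (hxp : x ^ p = 1) : x ∈ A := by
  haveI := hA.elem.1
  set B := Subgroup.closure ((A : Set G) ∪ {x}) with hB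
  haveI hBc : IsMulCommutative B := Subgroup.isMulCommutative_closure (by
    rintro u (hu | rfl) v (hv | rfl)
    · exact hA.comm hu hv
    · exact hx u hu
    · exact (hx v hv).symm
    · rfl)
  have hBe : Cfsg.IsElementaryAbelian p B := ⟨hBc, fun u hu => by
    induction hu using Subgroup.closure_induction with
    | mem v hv =>
      rcases hv with hv | rfl
      · exact hA.elem.2 v hv
      · exact hxp
    | one => exact one_pow _
    | mul v w hv hw h1 h2 =>
      have hc : Commute v w := congrArg Subtype.val (mul_comm' (⟨v, hv⟩ : B) ⟨w, hw⟩)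
      rw [hc.mul_pow, h1, h2, one_mul]
    | inv v _ h1 => rw [inv_pow, h1, inv_one]⟩
  rw [← hA.maximal B hBe fun a ha => Subgroup.subset_closure (Or.inl ha)]
  exact Subgroup.subset_closure (Or.inr rfl)

theorem conj (hA : MaxElem p A) (g : G) : MaxElem p (MulAut.conj g • A : Subgroup G) := by
  haveI := hA.elem.1
  refine ⟨hA.prime, ⟨Subgroup.map_isMulCommutative A _, ?_⟩, (card_conj_smul g A).trans hA.card, ?_⟩
  · rintro _ ⟨a, ha, rfl⟩
    show (g * a * g⁻¹) ^ p = 1
    rw [conj_pow, hA.elem.2 a ha, mul_one, mul_inv_cancel]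
  · intro B hB hle
    haveI := hB.1
    have h1 := hA.maximal (MulAut.conj g⁻¹ • B) ⟨Subgroup.map_isMulCommutative B _, by
      rintro _ ⟨b, hb, rfl⟩
      show (g⁻¹ * b * g⁻¹⁻¹) ^ p = 1
      rw [conj_pow, hB.2 b hb, mul_one, mul_inv_cancel]⟩ (fun a ha => by
        rw [mem_conj_smul_iff, inv_inv]
        exact hle (conj_mem_conj_smul ha))
    rw [← h1, ← mul_smul, ← map_mul, mul_inv_cancel, map_one, one_smul]

theorem conj_card (hA : MaxElem p A) (g : G) : Nat.card (MulAut.conj g • A : Subgroup G) = p ^ 2 :=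
  (card_conj_smul g A).trans hA.card

variable (hG : Cfsg.IsMinSimpleOddOrder G)

include hG

theorem ne_two (hA : MaxElem p A) : p ≠ 2 := fun e =>
  Nat.not_even_iff_odd.2 hG.1 (even_iff_two_dvd.2 (e ▸ hA.dvd_card.trans A.card_subgroup_dvd_card))

theorem ne_top (hA : MaxElem p A) : A ≠ ⊤ := fun h => by
  refine center_eq_bot hG |> fun hz => hA.ne_bot ?_
  rw [eq_bot_iff, ← hz]
  intro a ha
  exact Subgroup.mem_center_iff.2 fun g => hA.comm (h ▸ Subgroup.mem_top g) ha

theorem centralizer_ne_top (hA : MaxElem p A) : Subgroup.centralizer (A : Set G) ≠ ⊤ :=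
  CfsgLib.OddLocal.centralizer_ne_top hG hA.ne_bot

theorem transitivityHypothesis (hA : MaxElem p A) : Cfsg.TransitivityHypothesis A := by
  haveI := Fact.mk hA.prime
  exact Cfsg.Agent.S1396.result hG p (hA.dvd_card.trans A.card_subgroup_dvd_card) A hA.isPGroup hA.elem.1
    (Or.inl ⟨fun x hx => ⟨fun hxp => hA.mem_of_commutes hx hxp, fun h => hA.elem.2 x h⟩,
      fun H hH => pLengthLE_one_of_ne_top hG p hH⟩)

/-- An ideal prime has no maximal elementary subgroup of order `p ^ 2`. -/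
theorem not_ideal (hA : MaxElem p A) : ¬ Cfsg.IsIdealPrime p G := fun h => by
  obtain ⟨S, hS⟩ := hA.isPGroup.exists_le_sylow
  obtain ⟨B, -, hB, hlt⟩ := h.2.2 S A hS hA.elem hA.card
  exact hlt.ne (hA.maximal B hB hlt.le).symm

theorem not_beta (hA : MaxElem p A) (L : Subgroup G) : p ∉ Cfsg.beta L := fun h => hA.not_ideal hG h.2

/-- `r(C(A)) ≤ 2` unless `A` is a uniqueness subgroup. -/
theorem centralizer_rankLE (hA : MaxElem p A) (hU : ¬ Cfsg.InUniqueMaximal A) :
    Cfsg.RankLE 2 ↥(Subgroup.centralizer (A : Set G)) := by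
  by_contra h
  haveI := Fact.mk hA.prime
  exact hU (Cfsg.Agent.S1403.result hG A (hA.ne_top hG)
    (not_rankLE_one_of_elementary hA.elem hA.card.ge le_rfl) (Or.inr h))

/-- Two maximal invariant `q`-subgroups met by a proper overgroup are conjugate under `C(A)`. -/
theorem meet_conj (hA : MaxElem p A) (hq : q.Prime) (hqp : q ≠ p) {Q₁ Q₂ H : Subgroup G}
    (h₁ : Q₁ ∈ Cfsg.maxInvSubgroups ⊤ A {q}) (h₂ : Q₂ ∈ Cfsg.maxInvSubgroups ⊤ A {q})
    (hH : H ≠ ⊤) (hAH : A ≤ H) (hH₁ : H ⊓ Q₁ ≠ ⊥) (hH₂ : H ⊓ Q₂ ≠ ⊥) :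
    ∃ k ∈ Subgroup.centralizer (A : Set G), Q₂ = MulAut.conj k • Q₁ := by
  obtain ⟨k, hk, hk'⟩ := Cfsg.Agent.S1392.result hG A (hA.transitivityHypothesis hG) q hq (hA.not_dvd hq hqp)
    Q₁ Q₂ h₁ h₂ H hH hAH hH₁ hH₂
  exact ⟨k, piCoreOf_le _ _ hk, hk'⟩

/-- Invariant `q`-subgroups of a proper overgroup lie in its `p'`-core. -/
theorem le_pPrimeCore (hA : MaxElem p A) (hL : L ≠ ⊤) (hAL : A ≤ L) (hq : q.Prime) (hqp : q ≠ p)
    {X : Subgroup G} (hXL : X ≤ L) (hX : IsPGroup q X) (hAX : A ≤ Subgroup.normalizer (X : Set G)) :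
    X ≤ (Cfsg.pPrimeCore p L).map L.subtype := by
  haveI := Fact.mk hA.prime
  haveI := Fact.mk hq
  have hπ : IsPi (Cfsg.primesNotDvd (Nat.card A)) X :=
    isPi_of_inv hq (hA.not_dvd hq hqp) (inv_of_pGroup hq hX hAX)
  refine (inv_le_core hG (hA.transitivityHypothesis hG) hL hAL hXL hπ hAX).trans ?_
  rw [Cfsg.piCoreOf]
  refine Subgroup.map_mono (CfsgLib.Transfer.le_pPrimeCore inferInstance ?_)
  rw [Nat.coprime_comm, hA.prime.coprime_iff_not_dvd]
  exact fun hd => (Cfsg.Agent.S1886.piCore_isPi _ p hA.prime hd).2 hA.dvd_card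

end MaxElem

theorem sylow_mem_maxInv {q : ℕ} [Fact q.Prime] (S : Sylow q G)
    (hAS : A ≤ Subgroup.normalizer ((S : Subgroup G) : Set G)) :
    (S : Subgroup G) ∈ Cfsg.maxInvSubgroups ⊤ A {q} :=
  ⟨inv_of_pGroup Fact.out S.2 hAS, fun _ hR hle => S.is_maximal' (pGroup_of_inv Fact.out hR) hle⟩

variable (hG : Cfsg.IsMinSimpleOddOrder G)

include hG

/-- For `p ∉ β(M)` the `p'`-core covers the other Sylow subgroups of `M_σ`. -/
theorem not_dvd_index_pPrimeCore (hM : IsCoatom M) (hp : p.Prime) (hpβ : p ∉ Cfsg.beta M) (hq : q.Prime)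
    (hqσ : q ∈ Cfsg.sigma M) (hqp : q ≠ p) : ¬ q ∣ (Cfsg.pPrimeCore p ↥M).index := by
  haveI := Fact.mk hp
  haveI := Fact.mk hq
  obtain ⟨Q⟩ : Nonempty (Sylow q M) := inferInstance
  have hQD := sylow_le_commutator hG hM hqσ Q.2
  haveI := CfsgLib.Transfer.pPrimeCore_normal p (commutator M)
  have hle : (Q : Subgroup M) ≤ Cfsg.pPrimeCore p ↥M := by
    intro x hx
    refine (CfsgLib.Transfer.le_pPrimeCore (CfsgLib.PSolvable.normal_map_of_characteristic (commutator M) _) ?_ :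
      (Cfsg.pPrimeCore p (commutator M)).map (commutator M).subtype ≤ Cfsg.pPrimeCore p ↥M) ⟨⟨x, hQD hx⟩, ?_, rfl⟩
    · rw [Subgroup.card_subtype]; exact CfsgLib.Transfer.pPrimeCore_coprime p
    rw [CfsgLib.Transfer.pPrimeCore_eq_pResidual (npc_commutator hG hM hp hpβ)]
    refine CfsgLib.Transfer.mem_pResidual_of_coprime ?_
    obtain ⟨k, hk⟩ := IsPGroup.iff_orderOf.mp Q.2 ⟨x, hx⟩
    rw [Subgroup.orderOf_mk] at hk
    rw [Subgroup.orderOf_mk, hk]
    exact ((Nat.coprime_primes hq hp).2 hqp).pow_left k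
  exact fun hd => Q.not_dvd_index (hd.trans (Subgroup.index_dvd_of_le hle))

/-- An invariant `q`-subgroup of `M`, `q ∈ σ(M)`, lies in an invariant Sylow subgroup of `G` inside `M`. -/
theorem MaxElem.exists_sylow_ge (hA : MaxElem p A) (hM : IsCoatom M) (hAM : A ≤ M) (hq : q.Prime)
    (hqσ : q ∈ Cfsg.sigma M) (hqp : q ≠ p) {X : Subgroup G} (hXM : X ≤ M) (hX : IsPGroup q X)
    (hAX : A ≤ Subgroup.normalizer (X : Set G)) :
    ∃ S : Sylow q G, X ≤ (S : Subgroup G) ∧ (S : Subgroup G) ≤ M ∧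
      A ≤ Subgroup.normalizer ((S : Subgroup G) : Set G) ∧ Subgroup.normalizer ((S : Subgroup G) : Set G) ≤ M := by
  haveI := Fact.mk hq
  haveI := Fact.mk hA.prime
  set D := (Cfsg.pPrimeCore p ↥M).map M.subtype with hD
  have hAD : A ≤ Subgroup.normalizer (D : Set G) :=
    hAM.trans (CfsgLib.PSolvable.le_normalizer_map_of_characteristic Subgroup.le_normalizer _)
  have hcop : (Nat.card A).Coprime (Nat.card D) := by
    rw [hA.card, hD, Subgroup.card_subtype]
    exact ((CfsgLib.Transfer.pPrimeCore_coprime p).symm).pow_left 2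
  haveI := hA.isPGroup.isNilpotent
  obtain ⟨T, hXT, hT⟩ := exists_invariant_sylow_ge (p := q) hAD hcop (Or.inl inferInstance)
    (hA.le_pPrimeCore hG hM.1 hAM hq hqp hXM hX hAX) hX hAX
  set T' := (T : Subgroup D).map D.subtype with hT'
  have hT'M : T' ≤ M := (Subgroup.map_subtype_le _).trans (Subgroup.map_subtype_le _)
  have hTq : IsPGroup q T' := T.2.map _
  have hidx : ¬ q ∣ T'.relIndex M := by
    rw [← Subgroup.relIndex_mul_relIndex T' D M (Subgroup.map_subtype_le _) (Subgroup.map_subtype_le _),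
      hq.dvd_mul, not_or]
    refine ⟨?_, ?_⟩
    · rw [hT', Subgroup.relIndex, Subgroup.subgroupOf, Subgroup.comap_map_eq_self_of_injective D.subtype_injective]
      exact T.not_dvd_index
    · rw [hD, Subgroup.relIndex, Subgroup.subgroupOf, Subgroup.comap_map_eq_self_of_injective M.subtype_injective]
      exact not_dvd_index_pPrimeCore hG hM hA.prime (hA.not_beta hG M) hq hqσ hqp
  set P₀ := (hTq.of_equiv (Subgroup.subgroupOfEquivOfLe hT'M).symm).toSylow hidx
  obtain ⟨S, hS⟩ := exists_sylow_map_eq hqσ P₀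
  have hS' : (S : Subgroup G) = T' := hS.trans (Subgroup.map_subgroupOf_eq_of_le hT'M)
  refine ⟨S, hS' ▸ hXT, hS' ▸ hT'M, hS' ▸ hT, ?_⟩
  rw [hS]
  exact sylow_normalizer_le hqσ P₀

/-- BG 11, first observation: a `p`-part of `L'` centralizes invariant `q`-subgroups for `q ∉ β(L)`. -/
theorem centralizes_of_le_derived (hL : IsCoatom L) (hp : p.Prime) (hq : q.Prime) (hqp : q ≠ p)
    (hqβ : q ∉ Cfsg.beta L) {B X : Subgroup G} (hB : IsPGroup p B) (hBL : B ≤ ⁅L, L⁆) (hX : IsPGroup q X)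
    (hXL : X ≤ L) (hBX : B ≤ Subgroup.normalizer (X : Set G)) :
    B ≤ Subgroup.centralizer (X : Set G) := by
  haveI := Fact.mk hq
  haveI := Fact.mk hp
  haveI := CfsgLib.Transfer.pPrimeCore_normal q (commutator L)
  set N := ((Cfsg.pPrimeCore q (commutator L)).map (commutator L).subtype).map L.subtype with hN
  have hBN : B ≤ N := by
    intro b hb
    have h1 := hBL hb
    rw [show ⁅L, L⁆ = (commutator L).map L.subtype by
      rw [commutator_def, Subgroup.map_commutator, ← MonoidHom.range_eq_map, Subgroup.range_subtype]] at h1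
    obtain ⟨b', hb', rfl⟩ := h1
    refine ⟨b', ⟨⟨b', hb'⟩, ?_, rfl⟩, rfl⟩
    rw [CfsgLib.Transfer.pPrimeCore_eq_pResidual (npc_commutator hG hL hq hqβ)]
    refine CfsgLib.Transfer.mem_pResidual_of_coprime ?_
    obtain ⟨k, hk⟩ := IsPGroup.iff_orderOf.mp hB ⟨_, hb⟩
    rw [Subgroup.orderOf_mk, Subgroup.coe_subtype, Subgroup.orderOf_coe] at hk
    rw [Subgroup.orderOf_mk, hk]
    exact ((Nat.coprime_primes hp hq).2 hqp.symm).pow_left k
  have hNn : L ≤ Subgroup.normalizer (N : Set G) := by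
    haveI := CfsgLib.PSolvable.normal_map_of_characteristic (commutator L) (Cfsg.pPrimeCore q (commutator L))
    refine fun l hl => CfsgLib.BG.FixedLine.mem_normalizer_of_conj ?_
    rintro _ ⟨w, hw, rfl⟩
    exact ⟨⟨l, hl⟩ * w * ⟨l, hl⟩⁻¹, Subgroup.Normal.conj_mem inferInstance w hw _, rfl⟩
  have hbot : N ⊓ X = ⊥ := inf_eq_bot_of_coprime_card (by
    obtain ⟨k, hk⟩ := hX.exists_card_eq
    rw [hk, hN, Subgroup.card_subtype, Subgroup.card_subtype]
    exact (CfsgLib.Transfer.pPrimeCore_coprime q).pow_right k)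
  intro b hb x hx
  have h1 : ⁅b, x⁆ ∈ N ⊓ X := by
    refine ⟨?_, ?_⟩
    · rw [show ⁅b, x⁆ = b * (x * b⁻¹ * x⁻¹) by rw [commutatorElement_def]; group]
      exact N.mul_mem (hBN hb)
        (CfsgLib.BG.FixedLine.conj_mem_of_le_normalizer (hNn (hXL hx)) _ (N.inv_mem (hBN hb)))
    · rw [commutatorElement_def]
      exact X.mul_mem (CfsgLib.BG.FixedLine.conj_mem_of_le_normalizer (hBX hb) x hx) (X.inv_mem hx)
  rw [hbot, Subgroup.mem_bot, commutatorElement_eq_one_iff_mul_comm] at h1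
  exact h1.symm

end CfsgLib.OddLocal
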