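import Cfsg.Agent.Lib.OddLocal.MaxElem
import Cfsg.Agent.Lib.OddLocal.NoncyclicUniq
import Cfsg.Agent.S1412
import Cfsg.Agent.S1453

/-!
The centralizer of a maximal elementary subgroup of order `p ^ 2` in a Sylow subgroup is abelian.
-/

set_option autoImplicit false
set_option linter.style.haveILetI false
set_option linter.unusedSectionVars false

open scoped commutatorElement

namespace CfsgLib.OddLocal

universe u

variable {G : Type u} [Group G] [Finite G] {p : ℕ} {A : Subgroup G}

/-- A proper centralizer in a group of order `p ^ 3` is commutative. -/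
theorem centralizer_comm_of_cube {E : Type*} [Group E] [Finite E] [Fact p.Prime] (hE : Nat.card E = p ^ 3)
    {x : E} (hx : x ∉ Subgroup.center E) :
    ∀ y z : E, y * x = x * y → z * x = x * z → y * z = z * y := by
  have hp : p.Prime := Fact.out
  set K := Subgroup.centralizer ({x} : Set E)
  have hne : K ≠ ⊤ := fun h => hx (Subgroup.mem_center_iff.2 fun g =>
    (Subgroup.mem_centralizer_singleton_iff.1 (h.ge (Subgroup.mem_top g))))
  obtain ⟨k, hk3, hk⟩ := (Nat.dvd_prime_pow hp).1 (hE ▸ K.card_subgroup_dvd_card)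
  have hk2 : k ≤ 2 := by
    by_contra h
    obtain rfl : k = 3 := by omega
    exact hne (Subgroup.eq_top_of_card_eq _ (hk.trans hE.symm))
  have hcomm : ∀ a b : K, a * b = b * a := by
    interval_cases k
    · haveI : Subsingleton K := (Nat.card_eq_one_iff_unique.1 (by simpa using hk)).1
      exact fun a b => Subsingleton.elim _ _
    · haveI : IsCyclic K := isCyclic_of_prime_card (p := p) (by simpa using hk)
      obtain ⟨g, hg⟩ := IsCyclic.exists_generator (α := K)
      intro a b
      obtain ⟨i, rfl⟩ := Subgroup.mem_zpowers_iff.1 (hg a)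
      obtain ⟨j, rfl⟩ := Subgroup.mem_zpowers_iff.1 (hg b)
      exact (Commute.zpow_zpow_self g i j).eq
    · exact IsPGroup.commutative_of_card_eq_prime_sq hk
  intro y z hy hz
  exact congrArg Subtype.val (hcomm ⟨y, Subgroup.mem_centralizer_singleton_iff.2 hy⟩
    ⟨z, Subgroup.mem_centralizer_singleton_iff.2 hz⟩)

/-- `C_S(A)` is abelian. -/
theorem MaxElem.centralizer_comm (hG : Cfsg.IsMinSimpleOddOrder G) (hA : MaxElem p A) [Fact p.Prime] (S : Sylow p G)
    (hAS : A ≤ (S : Subgroup G)) :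
    ∀ x ∈ (S : Subgroup G) ⊓ Subgroup.centralizer (A : Set G),
      ∀ y ∈ (S : Subgroup G) ⊓ Subgroup.centralizer (A : Set G), x * y = y * x := by
  classical
  intro x hx y hy
  have hp : p.Prime := Fact.out
  by_cases hr : Cfsg.PRankLE p 2 (S : Subgroup G)
  · rcases Cfsg.Agent.S1412.result hG p S hr with hab | ⟨P₁, P₂, hsup, hcomm, hna, hc3, -, hcyc, hΩ⟩
    · haveI := hab
      exact congrArg Subtype.val (mul_comm' (⟨x, hx.1⟩ : (S : Subgroup G)) ⟨y, hy.1⟩)
    obtain ⟨c₀, hc₀⟩ := hcyc.exists_generator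
    have hP₂c : ∀ u ∈ P₂, ∀ v ∈ P₂, u * v = v * u := fun u hu v hv => by
      obtain ⟨i, hi⟩ := Subgroup.mem_zpowers_iff.1 (hc₀ ⟨u, hu⟩)
      obtain ⟨j, hj⟩ := Subgroup.mem_zpowers_iff.1 (hc₀ ⟨v, hv⟩)
      have := congrArg Subtype.val ((Commute.zpow_zpow_self c₀ i j).eq)
      rw [hi, hj] at this
      exact this
    have hdec : ∀ s ∈ (S : Subgroup G), ∃ a ∈ P₁, ∃ b ∈ P₂, s = a * b := by
      intro s hs
      rw [← hsup, ← SetLike.mem_coe, Subgroup.coe_mul_of_right_le_normalizer_left P₁ P₂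
        (fun b hb => Subgroup.centralizer_le_normalizer _ fun a ha => hcomm a ha b hb), Set.mem_mul] at hs
      obtain ⟨a, ha, b, hb, e⟩ := hs
      exact ⟨a, ha, b, hb, e.symm⟩
    have hZ₂ : ∀ z ∈ P₁ ⊓ Subgroup.centralizer (P₁ : Set G), z ∈ P₂ := fun z hz => by
      rw [← hΩ] at hz
      exact (Subgroup.closure_le _).2 (fun w hw => hw.1) hz
    -- some element of `A` has non-central `P₁`-part
    obtain ⟨u, hu, w, hw, hmem, hune⟩ : ∃ u ∈ P₁, ∃ w ∈ P₂, u * w ∈ A ∧ u ∉ Subgroup.centralizer (P₁ : Set G) := by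
      by_contra hne
      push Not at hne
      refine hA.not_isCyclic ?_
      haveI := hcyc
      refine isCyclic_of_injective (Subgroup.inclusion (fun a ha => ?_ : A ≤ P₂)) (Subgroup.inclusion_injective _)
      obtain ⟨u, hu, w, hw, rfl⟩ := hdec a (hAS ha)
      exact P₂.mul_mem (hZ₂ u ⟨hu, hne u hu w hw ha⟩) hw
    have hu' : (⟨u, hu⟩ : P₁) ∉ Subgroup.center P₁ := fun h => hune fun g hg =>
      congrArg Subtype.val (Subgroup.mem_center_iff.1 h ⟨g, hg⟩)
    have hcen : ∀ s ∈ (S : Subgroup G) ⊓ Subgroup.centralizer (A : Set G),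
        ∃ a, ∃ b ∈ P₂, ∃ ha : a ∈ P₁, s = a * b ∧ (⟨a, ha⟩ : P₁) * ⟨u, hu⟩ = ⟨u, hu⟩ * ⟨a, ha⟩ := by
      rintro s ⟨hs, hsA⟩
      obtain ⟨a, ha, b, hb, rfl⟩ := hdec s hs
      refine ⟨a, b, hb, ha, rfl, Subtype.ext ?_⟩
      have h1 := hsA _ hmem
      have c1 : Commute a w := hcomm a ha w hw
      have c2 : Commute u b := hcomm u hu b hb
      have c3 : Commute b w := hP₂c b hb w hw
      have h2 : (u * a) * (w * b) = (a * u) * (b * w) := by
        calc (u * a) * (w * b) = u * (a * w) * b := by group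
          _ = u * (w * a) * b := by rw [c1.eq]
          _ = (u * w) * (a * b) := by group
          _ = (a * b) * (u * w) := h1
          _ = a * (b * u) * w := by group
          _ = a * (u * b) * w := by rw [c2.eq]
          _ = _ := by group
      rw [← c3.eq] at h2
      exact (mul_right_cancel h2).symm
    obtain ⟨a, b, hb, ha, rfl, hau⟩ := hcen x hx
    obtain ⟨a', b', hb', ha', rfl, hau'⟩ := hcen y hy
    have e1 : Commute a a' := congrArg Subtype.val (centralizer_comm_of_cube hc3 hu' _ _ hau hau')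
    have e2 : Commute a b' := hcomm a ha b' hb'
    have e3 : Commute b a' := (hcomm a' ha' b hb).symm
    have e4 : Commute b b' := hP₂c b hb b' hb'
    exact ((e1.mul_right e2).mul_left (e3.mul_right e4)).eq
  · set R := (S : Subgroup G)
    set E := A.subgroupOf R with hE
    haveI := hA.elem.1
    have hEe : Cfsg.IsElementaryAbelian p E := ⟨⟨⟨fun a b => Subtype.ext (Subtype.ext
      (hA.comm a.2 b.2))⟩⟩, fun a ha => Subtype.ext (hA.elem.2 _ ha)⟩
    have hEc : Nat.card E = p ^ 2 := (Nat.card_congr (Subgroup.subgroupOfEquivOfLe hAS).toEquiv).trans hA.card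
    have hEmax : ∀ B : Subgroup R, Cfsg.IsElementaryAbelian p B → E ≤ B → B = E := by
      intro B hB hle
      haveI := hB.1
      have h1 := hA.maximal (B.map R.subtype) ⟨Subgroup.map_isMulCommutative B _, by
        rintro _ ⟨b, hb, rfl⟩; rw [← map_pow, hB.2 b hb, map_one]⟩
        (fun a ha => ⟨⟨a, hAS ha⟩, hle ha, rfl⟩)
      refine le_antisymm (fun b hb => ?_) hle
      show (b : G) ∈ A
      exact h1.le ⟨b, hb, rfl⟩
    obtain ⟨hnle, -, -, hchar, hidx⟩ := Cfsg.Agent.S1453.result p (hA.ne_two hG) S.2 hr E hEe hEc hEmax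
    set T := Subgroup.closure {x : R | x ∈ Subgroup.upperCentralSeries R 2 ∧ x ^ p = 1}
    set C := Subgroup.centralizer (T : Set R)
    haveI : C.Characteristic := hchar
    obtain ⟨a, ha, haC⟩ := SetLike.not_le_iff_exists.1 hnle
    set D := Subgroup.centralizer (E : Set R) ⊓ C with hD
    -- `D` is cyclic
    have hDcyc : IsCyclic D := by
      by_contra hnc
      have hDp : IsPGroup p (D.map R.subtype) := (S.2.to_subgroup D).map _
      have hnc' : ¬ IsCyclic (D.map R.subtype) := fun hc => hnc (by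
        haveI := hc
        exact isCyclic_of_surjective (D.equivMapOfInjective R.subtype R.subtype_injective).symm
          (MulEquiv.surjective _))
      obtain ⟨q, hq, hrq⟩ : ∃ q : ℕ, q.Prime ∧ ¬ Cfsg.PRankLE q 1 ↥(D.map R.subtype) := by
        have h := exists_noncyclic_elementary hG hDp hnc'
        by_contra hne; push Not at hne; exact h hne
      haveI := Fact.mk hq
      obtain ⟨B, hBD, hBe, hB2⟩ := exists_elementary hrq
      have hqp : q = p := by
        obtain ⟨m, hm⟩ := hDp.exists_card_eq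
        obtain ⟨j, hj⟩ := (isPGroup_of_elementary hBe).exists_card_eq
        have hj0 : j ≠ 0 := fun h => by
          rw [hj, h, pow_zero] at hB2
          exact absurd hB2 (not_le.2 (Nat.one_lt_pow two_ne_zero hq.one_lt))
        have h1 : q ∣ p ^ m := hm ▸ (hj ▸ dvd_pow_self q hj0).trans (Subgroup.card_dvd_of_le hBD)
        exact (Nat.prime_dvd_prime_iff_eq hq hp).1 (hq.dvd_of_dvd_pow h1)
      subst hqp
      have hBA : B ≤ A := fun b hb => by
        obtain ⟨d, hd, rfl⟩ := hBD hb
        exact hA.mem_of_commutes (fun a' ha' => congrArg Subtype.val (hd.1 ⟨a', hAS ha'⟩ ha')) (hBe.2 _ hb)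
      have hBeq : B = A := Subgroup.eq_of_le_of_card_ge hBA (by rw [hA.card]; exact hB2)
      refine haC ?_
      obtain ⟨d, hd, hde⟩ := hBD (hBeq ▸ (show (a : G) ∈ A from ha))
      exact Subtype.ext hde ▸ hd.2
    obtain ⟨d₀, hd₀⟩ := hDcyc.exists_generator
    have hcomm' : ∀ s ∈ Subgroup.centralizer (E : Set R), ∃ i j : ℤ, s = a ^ i * (d₀ : R) ^ j := by
      intro s hs
      have hq : Nat.card (R ⧸ C) = p := by rw [← Subgroup.index_eq_card, hidx]
      haveI : IsCyclic (R ⧸ C) := isCyclic_of_prime_card hq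
      have hgen : ∀ w : R ⧸ C, w ∈ Subgroup.zpowers (QuotientGroup.mk a : R ⧸ C) := fun w =>
        mem_zpowers_of_prime_card hq (fun h => haC ((QuotientGroup.eq_one_iff a).1 h))
      obtain ⟨i, hi⟩ := Subgroup.mem_zpowers_iff.1 (hgen (QuotientGroup.mk s))
      have haE : a ∈ Subgroup.centralizer (E : Set R) := fun e he => Subtype.ext (hA.comm he ha)
      have hd : (a ^ i)⁻¹ * s ∈ D :=
        ⟨(Subgroup.centralizer (E : Set R)).mul_mem
          ((Subgroup.centralizer (E : Set R)).inv_mem ((Subgroup.centralizer (E : Set R)).zpow_mem haE i)) hs,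
          QuotientGroup.eq.1 (by rw [QuotientGroup.mk_zpow, hi])⟩
      obtain ⟨j, hj⟩ := Subgroup.mem_zpowers_iff.1 (hd₀ ⟨_, hd⟩)
      refine ⟨i, j, ?_⟩
      have := congrArg Subtype.val hj
      simp only [SubgroupClass.coe_zpow] at this
      rw [this]; group
    have had : Commute a (d₀ : R) := d₀.2.1 a ha
    have hx' : (⟨x, hx.1⟩ : R) ∈ Subgroup.centralizer (E : Set R) := fun e he => Subtype.ext (hx.2 _ he)
    have hy' : (⟨y, hy.1⟩ : R) ∈ Subgroup.centralizer (E : Set R) := fun e he => Subtype.ext (hy.2 _ he)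
    obtain ⟨i, j, hi⟩ := hcomm' _ hx'
    obtain ⟨k, l, hk⟩ := hcomm' _ hy'
    have : Commute (⟨x, hx.1⟩ : R) ⟨y, hy.1⟩ := by
      rw [hi, hk]
      exact ((Commute.zpow_zpow_self a i k).mul_right (had.zpow_zpow i l)).mul_left
        ((had.symm.zpow_zpow j k).mul_right (Commute.zpow_zpow_self _ j l))
    exact congrArg Subtype.val this.eq

end CfsgLib.OddLocal
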