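import Cfsg.Agent.Lib.OddLocal.MaxElemCentralizer

/-!
`C_S(A)` is elementary times cyclic.
-/

set_option autoImplicit false
set_option linter.style.haveILetI false
set_option linter.unusedSectionVars false

open scoped commutatorElement

namespace CfsgLib.OddLocal

universe u

variable {G : Type u} [Group G] [Finite G] {p : ℕ} {A : Subgroup G}

/-- `p`-th powers are central in a nonabelian group of order `p ^ 3`. -/
theorem pow_mem_center_of_cube {K : Subgroup G} [Fact p.Prime] (hK : Nat.card K = p ^ 3)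
    (hna : ¬ IsMulCommutative K) (a : K) : a ^ p ∈ Subgroup.center K := by
  classical
  have hp : p.Prime := Fact.out
  set Z := Subgroup.center K
  have hdvd := Z.card_mul_index
  obtain ⟨k, hk3, hk⟩ := (Nat.dvd_prime_pow hp).1 (hK ▸ Z.card_subgroup_dvd_card)
  have hnc : ¬ IsCyclic (K ⧸ Z) := fun hc => by
    haveI := hc
    exact hna ⟨⟨fun x y => commutative_of_cyclic_center_quotient (QuotientGroup.mk' Z) (by simp [Z]) x y⟩⟩
  have hk1 : 1 ≤ k := by
    haveI : Nontrivial K := Finite.one_lt_card_iff_nontrivial.1 (by rw [hK]; exact Nat.one_lt_pow (by norm_num) hp.one_lt)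
    haveI := ((IsPGroup.of_card hK).center_nontrivial : Nontrivial Z)
    by_contra h0
    have : 1 < Nat.card Z := Finite.one_lt_card
    rw [hk, show k = 0 by omega, pow_zero] at this
    exact lt_irrefl 1 this
  have hidx : Nat.card (K ⧸ Z) = p ^ (3 - k) := by
    rw [← Subgroup.index_eq_card]
    rw [hk, hK, show p ^ 3 = p ^ k * p ^ (3 - k) by rw [← pow_add]; congr 1; omega] at hdvd
    exact Nat.eq_of_mul_eq_mul_left (pow_pos hp.pos k) hdvd
  have hk' : 3 - k = 2 := by
    by_contra hne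
    rcases (show 3 - k = 0 ∨ 3 - k = 1 by omega) with h | h
    · rw [h, pow_zero] at hidx
      exact hnc (haveI := (Nat.card_eq_one_iff_unique.1 hidx).1; inferInstance)
    · rw [h, pow_one] at hidx; exact hnc (isCyclic_of_prime_card hidx)
  rw [hk'] at hidx
  rw [← QuotientGroup.eq_one_iff, QuotientGroup.mk_pow]
  have hd := orderOf_dvd_natCard (G := K ⧸ Z) (QuotientGroup.mk a)
  rw [hidx] at hd
  obtain ⟨j, hj2, hj⟩ := (Nat.dvd_prime_pow hp).1 hd
  rw [← orderOf_dvd_iff_pow_eq_one, hj]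
  interval_cases j
  · simp
  · simp
  · exfalso
    exact hnc (isCyclic_of_orderOf_eq_card _ (hj.trans hidx.symm))

/-- There is a cyclic subgroup containing all `p`-th powers of `C_S(A)`. -/
theorem MaxElem.centralizer_shape (hG : Cfsg.IsMinSimpleOddOrder G) (hA : MaxElem p A) [Fact p.Prime] (S : Sylow p G)
    (hAS : A ≤ (S : Subgroup G)) (hnab : ¬ IsMulCommutative (S : Subgroup G)) :
    ∃ D : Subgroup G, ∀ x ∈ (S : Subgroup G) ⊓ Subgroup.centralizer (A : Set G),
      x ^ p ∈ D ∧ IsCyclic D := by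
  classical
  have hp : p.Prime := Fact.out
  by_cases hr : Cfsg.PRankLE p 2 (S : Subgroup G)
  · rcases Cfsg.Agent.S1412.result hG p S hr with hab | ⟨P₁, P₂, hsup, hcomm, hna, hc3, -, hcyc, hΩ⟩
    · exact absurd hab hnab
    obtain ⟨c₀, hc₀⟩ := hcyc.exists_generator
    have hP₂c : ∀ u ∈ P₂, ∀ v ∈ P₂, u * v = v * u := fun u hu v hv => by
      obtain ⟨i, hi⟩ := Subgroup.mem_zpowers_iff.1 (hc₀ ⟨u, hu⟩)
      obtain ⟨j, hj⟩ := Subgroup.mem_zpowers_iff.1 (hc₀ ⟨v, hv⟩)
      have := congrArg Subtype.val ((Commute.zpow_zpow_self c₀ i j).eq)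
      rw [hi, hj] at this
      exact this
    have hdec : ∀ s ∈ (S : Subgroup G), ∃ a ∈ P₁, ∃ b ∈ P₂, s = a * b := by
      intro s hs
      rw [← hsup, ← SetLike.mem_coe, Subgroup.coe_mul_of_right_le_normalizer_left P₁ P₂
        (fun b hb => Subgroup.centralizer_le_normalizer _ fun a ha => hcomm a ha b hb), Set.mem_mul] at hs
      obtain ⟨a, ha, b, hb, e⟩ := hs
      exact ⟨a, ha, b, hb, e.symm⟩
    have hZ₂ : ∀ z ∈ P₁ ⊓ Subgroup.centralizer (P₁ : Set G), z ∈ P₂ := fun z hz => by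
      rw [← hΩ] at hz
      exact (Subgroup.closure_le _).2 (fun w hw => hw.1) hz
    refine ⟨P₂, fun x hx => ⟨?_, hcyc⟩⟩
    obtain ⟨a, ha, b, hb, rfl⟩ := hdec x hx.1
    have hab : Commute a b := hcomm a ha b hb
    rw [hab.mul_pow]
    refine P₂.mul_mem (hZ₂ _ ⟨P₁.pow_mem ha p, fun g hg => ?_⟩) (P₂.pow_mem hb p)
    exact congrArg Subtype.val (Subgroup.mem_center_iff.1 (pow_mem_center_of_cube hc3 hna ⟨a, ha⟩) ⟨g, hg⟩)
  · set R := (S : Subgroup G)
    set E := A.subgroupOf R with hE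
    haveI := hA.elem.1
    have hEe : Cfsg.IsElementaryAbelian p E := ⟨⟨⟨fun a b => Subtype.ext (Subtype.ext
      (hA.comm a.2 b.2))⟩⟩, fun a ha => Subtype.ext (hA.elem.2 _ ha)⟩
    have hEc : Nat.card E = p ^ 2 := (Nat.card_congr (Subgroup.subgroupOfEquivOfLe hAS).toEquiv).trans hA.card
    have hEmax : ∀ B : Subgroup R, Cfsg.IsElementaryAbelian p B → E ≤ B → B = E := by
      intro B hB hle
      haveI := hB.1
      have h1 := hA.maximal (B.map R.subtype) ⟨Subgroup.map_isMulCommutative B _, by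
        rintro _ ⟨b, hb, rfl⟩; rw [← map_pow, hB.2 b hb, map_one]⟩
        (fun a ha => ⟨⟨a, hAS ha⟩, hle ha, rfl⟩)
      refine le_antisymm (fun b hb => ?_) hle
      show (b : G) ∈ A
      exact h1.le ⟨b, hb, rfl⟩
    obtain ⟨hnle, -, -, hchar, hidx⟩ := Cfsg.Agent.S1453.result p (hA.ne_two hG) S.2 hr E hEe hEc hEmax
    set T := Subgroup.closure {x : R | x ∈ Subgroup.upperCentralSeries R 2 ∧ x ^ p = 1}
    set C := Subgroup.centralizer (T : Set R)
    haveI : C.Characteristic := hchar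
    obtain ⟨a, ha, haC⟩ := SetLike.not_le_iff_exists.1 hnle
    set D := Subgroup.centralizer (E : Set R) ⊓ C with hD
    -- `D` is cyclic
    have hDcyc : IsCyclic D := by
      by_contra hnc
      have hDp : IsPGroup p (D.map R.subtype) := (S.2.to_subgroup D).map _
      have hnc' : ¬ IsCyclic (D.map R.subtype) := fun hc => hnc (by
        haveI := hc
        exact isCyclic_of_surjective (D.equivMapOfInjective R.subtype R.subtype_injective).symm
          (MulEquiv.surjective _))
      obtain ⟨q, hq, hrq⟩ : ∃ q : ℕ, q.Prime ∧ ¬ Cfsg.PRankLE q 1 ↥(D.map R.subtype) := by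
        have h := exists_noncyclic_elementary hG hDp hnc'
        by_contra hne; push Not at hne; exact h hne
      haveI := Fact.mk hq
      obtain ⟨B, hBD, hBe, hB2⟩ := exists_elementary hrq
      have hqp : q = p := by
        obtain ⟨m, hm⟩ := hDp.exists_card_eq
        obtain ⟨j, hj⟩ := (isPGroup_of_elementary hBe).exists_card_eq
        have hj0 : j ≠ 0 := fun h => by
          rw [hj, h, pow_zero] at hB2
          exact absurd hB2 (not_le.2 (Nat.one_lt_pow two_ne_zero hq.one_lt))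
        have h1 : q ∣ p ^ m := hm ▸ (hj ▸ dvd_pow_self q hj0).trans (Subgroup.card_dvd_of_le hBD)
        exact (Nat.prime_dvd_prime_iff_eq hq hp).1 (hq.dvd_of_dvd_pow h1)
      subst hqp
      have hBA : B ≤ A := fun b hb => by
        obtain ⟨d, hd, rfl⟩ := hBD hb
        exact hA.mem_of_commutes (fun a' ha' => congrArg Subtype.val (hd.1 ⟨a', hAS ha'⟩ ha')) (hBe.2 _ hb)
      have hBeq : B = A := Subgroup.eq_of_le_of_card_ge hBA (by rw [hA.card]; exact hB2)
      refine haC ?_
      obtain ⟨d, hd, hde⟩ := hBD (hBeq ▸ (show (a : G) ∈ A from ha))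
      exact Subtype.ext hde ▸ hd.2
    obtain ⟨d₀, hd₀⟩ := hDcyc.exists_generator
    have hcomm' : ∀ s ∈ Subgroup.centralizer (E : Set R), ∃ i j : ℤ, s = a ^ i * (d₀ : R) ^ j := by
      intro s hs
      have hq : Nat.card (R ⧸ C) = p := by rw [← Subgroup.index_eq_card, hidx]
      haveI : IsCyclic (R ⧸ C) := isCyclic_of_prime_card hq
      have hgen : ∀ w : R ⧸ C, w ∈ Subgroup.zpowers (QuotientGroup.mk a : R ⧸ C) := fun w =>
        mem_zpowers_of_prime_card hq (fun h => haC ((QuotientGroup.eq_one_iff a).1 h))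
      obtain ⟨i, hi⟩ := Subgroup.mem_zpowers_iff.1 (hgen (QuotientGroup.mk s))
      have haE : a ∈ Subgroup.centralizer (E : Set R) := fun e he => Subtype.ext (hA.comm he ha)
      have hd : (a ^ i)⁻¹ * s ∈ D :=
        ⟨(Subgroup.centralizer (E : Set R)).mul_mem
          ((Subgroup.centralizer (E : Set R)).inv_mem ((Subgroup.centralizer (E : Set R)).zpow_mem haE i)) hs,
          QuotientGroup.eq.1 (by rw [QuotientGroup.mk_zpow, hi])⟩
      obtain ⟨j, hj⟩ := Subgroup.mem_zpowers_iff.1 (hd₀ ⟨_, hd⟩)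
      refine ⟨i, j, ?_⟩
      have := congrArg Subtype.val hj
      simp only [SubgroupClass.coe_zpow] at this
      rw [this]; group
    have had : Commute a (d₀ : R) := d₀.2.1 a ha
    refine ⟨D.map R.subtype, fun x hx => ⟨?_, ?_⟩⟩
    · have hx' : (⟨x, hx.1⟩ : R) ∈ Subgroup.centralizer (E : Set R) := fun e he => Subtype.ext (hx.2 _ he)
      obtain ⟨i, j, hi⟩ := hcomm' _ hx'
      refine ⟨((d₀ : R) ^ j) ^ p, D.pow_mem (D.zpow_mem d₀.2 j) p, ?_⟩
      have h1 : (⟨x, hx.1⟩ : R) ^ p = ((d₀ : R) ^ j) ^ p := by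
        rw [hi, (had.zpow_zpow i j).mul_pow, ← zpow_natCast (a ^ i), ← zpow_mul, mul_comm, zpow_mul, zpow_natCast,
          show a ^ p = 1 from Subtype.ext (hA.elem.2 _ ha), one_zpow, one_mul]
      exact (congrArg Subtype.val h1).symm
    · haveI := hDcyc
      exact isCyclic_of_surjective (D.equivMapOfInjective R.subtype R.subtype_injective) (MulEquiv.surjective _)

end CfsgLib.OddLocal
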