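import Cfsg.Agent.Lib.OddLocal.TypeCore
import Cfsg.Agent.Lib.OddLocal.Fusion
import Cfsg.Agent.Lib.OddLocal.P2Normalizer
import Cfsg.Agent.Lib.OddLocal.HallFusion

/-!
BG 16: a nilpotent Hall subgroup controls fusion in its normalizer.
-/

set_option autoImplicit false
set_option linter.style.haveILetI false
set_option linter.unusedSectionVars false

open scoped Pointwise

namespace CfsgLib.OddLocal

open CfsgLib.Coprime

universe u

variable {G : Type u} [Group G] [Finite G] {H : Subgroup G} {p q : ℕ}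

/-- A prime divisor of a nilpotent Hall subgroup has a Sylow subgroup inside it, normalized by it. -/
theorem exists_sylow_le_hall (hn : Group.IsNilpotent H) (hc : (Nat.card H).Coprime H.index) [Fact p.Prime]
    (hd : p ∣ Nat.card H) : ∃ P : Sylow p G, (P : Subgroup G) ≤ H ∧ (P : Subgroup G) ≠ ⊥ ∧
      Subgroup.normalizer (H : Set G) ≤ Subgroup.normalizer ((P : Subgroup G) : Set G) := by
  obtain ⟨R⟩ : Nonempty (Sylow p H) := inferInstance
  haveI := CfsgLib.Splitting.sylow_normal_of_isNilpotent hn R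
  haveI := Sylow.characteristic_of_normal R inferInstance
  have hnot : ¬ p ∣ H.index := fun h => Nat.not_coprime_of_dvd_of_dvd (Fact.out : p.Prime).one_lt hd h hc
  have hcard : Nat.card ((R : Subgroup H).map H.subtype) = p ^ (Nat.card G).factorization p := by
    rw [Subgroup.card_subtype, R.card_eq_multiplicity, ← H.card_mul_index,
      Nat.factorization_mul Nat.card_pos.ne' Subgroup.index_ne_zero_of_finite, Finsupp.add_apply,
      Nat.factorization_eq_zero_of_not_dvd hnot, add_zero]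
  refine ⟨Sylow.ofCard _ hcard, ?_, fun e => ?_, ?_⟩
  · rw [Sylow.coe_ofCard]; exact Subgroup.map_subtype_le _
  · rw [Sylow.coe_ofCard, ← Subgroup.card_eq_one, Subgroup.card_subtype, R.card_eq_multiplicity] at e
    exact (Fact.out (p := p.Prime) |>.factorization_pos_of_dvd Nat.card_pos.ne' hd).ne'
      ((Nat.pow_eq_one.1 e).resolve_left (Fact.out (p := p.Prime)).ne_one)
  · rw [Sylow.coe_ofCard]
    exact CfsgLib.PSolvable.le_normalizer_map_of_characteristic le_rfl _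

/-- A nilpotent Hall subgroup lies in the core of a maximal subgroup. -/
theorem exists_core_ge_hall (hG : Cfsg.IsMinSimpleOddOrder G) (hn : Group.IsNilpotent H)
    (hc : (Nat.card H).Coprime H.index) (hH1 : H ≠ ⊥) :
    ∃ M : Subgroup G, IsCoatom M ∧ H ≤ Cfsg.sigmaCore M := by
  classical
  obtain ⟨p, hp, hpd⟩ := Nat.exists_prime_and_dvd fun e : Nat.card H = 1 => hH1 (Subgroup.card_eq_one.1 e)
  haveI := Fact.mk hp
  obtain ⟨P, hPH, hP1, hNP⟩ := exists_sylow_le_hall hn hc hpd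
  obtain ⟨M, hM, hNM, hpσ⟩ := exists_coatom_sylow_normalizer hG P hP1
  have hHM : H ≤ M := (Subgroup.le_normalizer.trans hNP).trans hNM
  have hPM : (P : Subgroup G) ≤ M := hPH.trans hHM
  have hPσ := le_sigmaCore_of_isPGroup hG hM hp hpσ hPM P.2
  refine ⟨M, hM, fun h hh => mem_sigmaCore_of_primary hG hM (hHM hh) fun q hq hd => ?_⟩
  by_contra hqσ
  haveI := Fact.mk hq
  have hqH : q ∣ Nat.card H := hd.trans (Subgroup.orderOf_dvd_natCard H hh)
  obtain ⟨Q, hQH, hQ1, -⟩ := exists_sylow_le_hall hn hc hqH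
  have hqp : q ≠ p := fun e => hqσ (e ▸ hpσ)
  have hQM : (Q : Subgroup G) ≤ M := hQH.trans hHM
  have hcomm : ∀ a ∈ (Q : Subgroup G), ∀ b ∈ (P : Subgroup G), Commute a b := fun a ha b hb => by
    haveI := hn
    obtain ⟨i, hi⟩ := Q.2 ⟨a, ha⟩
    obtain ⟨j, hj⟩ := P.2 ⟨b, hb⟩
    obtain ⟨i', -, hi'⟩ := (Nat.dvd_prime_pow hq).1
      (orderOf_dvd_of_pow_eq_one (x := a) (n := q ^ i) (by simpa using congrArg Subtype.val hi))
    have hco : (orderOf b).Coprime q := Nat.Coprime.coprime_dvd_left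
      (orderOf_dvd_of_pow_eq_one (x := b) (n := p ^ j) (by simpa using congrArg Subtype.val hj))
      (((Nat.coprime_primes hp hq).2 hqp.symm).pow_left j)
    exact congrArg Subtype.val (CfsgLib.Hall.commute_of_coprime_orderOf (G := H) (p := q) (j := i')
      (x := ⟨a, hQH ha⟩) (y := ⟨b, hPH hb⟩) (by rw [Subgroup.orderOf_mk, hi'])
      (by rw [Subgroup.orderOf_mk]; exact hco))
  obtain ⟨n, hn'⟩ := Q.2.exists_card_eq
  have hn0 : n ≠ 0 := fun e => hQ1 (Subgroup.card_eq_one.1 (by rw [hn', e, pow_zero]))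
  obtain ⟨b, hbQ, hbo⟩ := exists_order_of_dvd hq (hn' ▸ dvd_pow_self q hn0 : q ∣ Nat.card (Q : Subgroup G))
  rcases tau_cases hG hM hq hqσ ((hqH).trans (Subgroup.card_dvd_of_le hHM)) with h13 | h2
  · have hr1 : Cfsg.PRankLE q 1 M := h13.elim (fun h1 => h1.2.2.2.2) fun h3 => h3.2.2.2
    obtain ⟨⟨y, hy⟩, hy1⟩ := (Subgroup.ne_bot_iff_exists_ne_one).1 hP1
    have hκ := mem_kappa_of_line hG hM hq hqσ hr1 (hQM hbQ) hbo (hPσ hy) (fun e => hy1 (Subtype.ext e))
      (hcomm b hbQ y hy)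
    refine not_kappa_centralizes_hall hG hM hPσ hP1 ?_ hκ (hQM hbQ) hbo fun y hy => (hcomm b hbQ y hy).eq.symm
    refine Nat.coprime_of_dvd fun l hl h1 h2 => ?_
    obtain ⟨m, hm⟩ := P.2.exists_card_eq
    rw [hm] at h1
    rw [(Nat.prime_dvd_prime_iff_eq hl hp).1 (hl.dvd_of_dvd_pow h1)] at h2
    exact P.not_dvd_index (h2.trans (Subgroup.relIndex_dvd_index_of_le hPσ))
  · obtain ⟨B, B₀, hB, -⟩ := exists_exc_mem hG hM h2 (hQM hbQ) (by rw [← hbo, pow_orderOf_eq_one])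
    obtain ⟨A, A₀, hAQ, hA⟩ := hB.exists_in_sylow (Q.subtype hQM)
    rw [Sylow.coe_subtype, Subgroup.map_subgroupOf_eq_of_le hQM] at hAQ
    have h0 := (Cfsg.Agent.S1417.result hG M hM q h2 A ⟨hA.hAM, hA.hAe, hA.hA2⟩).2.2.2.1
    exact hP1 (le_bot_iff.1 (h0 ▸ le_inf hPσ fun y hy a ha => (hcomm a (hAQ ha) y hy).eq))

theorem nilpotent_hall_fusion (hG : Cfsg.IsMinSimpleOddOrder G) (hn : Group.IsNilpotent H)
    (hc : (Nat.card H).Coprime H.index) {x g : G} (hx : x ∈ H) (hgx : g * x * g⁻¹ ∈ H) :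
    ∃ n ∈ Subgroup.normalizer (H : Set G), n * x * n⁻¹ = g * x * g⁻¹ := by
  by_cases hH1 : H = ⊥
  · refine ⟨1, one_mem _, ?_⟩
    rw [hH1, Subgroup.mem_bot] at hx hgx
    rw [hgx, hx]; group
  obtain ⟨M, hM, hHσ⟩ := exists_core_ge_hall hG hn hc hH1
  obtain ⟨n, hn', he⟩ := hall_fusion hG hM hHσ
    (hc.coprime_dvd_right (Subgroup.relIndex_dvd_index_of_le hHσ)) hx hgx
  exact ⟨n, hn'.2, he⟩

end CfsgLib.OddLocal
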