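import Cfsg.Agent.Lib.OddLocal.NonTIPoint
import Cfsg.Agent.Lib.OddLocal.ExtraspecialOrder
import Cfsg.Agent.S1412
import Cfsg.Agent.S1399
import Cfsg.Agent.Lib.Transfer.Basic

/-!
BG 15.7: the structure of `M` when `F(M)` is not a TI-subgroup.
-/

set_option autoImplicit false
set_option linter.style.haveILetI false
set_option linter.unusedSectionVars false

open scoped commutatorElement
open scoped Pointwise

namespace CfsgLib.OddLocal

open CfsgLib.Coprime
open CfsgLib.BG.FixedLine (conj_mem_of_le_normalizer mem_normalizer_of_conj)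

universe u

variable {G : Type u} [Group G] [Finite G] {p q r : ℕ} {M E U K L Y : Subgroup G} {g x : G}

theorem fittingOf_ne_bot (hG : Cfsg.IsMinSimpleOddOrder G) (hM : IsCoatom M) : Cfsg.fittingOf M ≠ ⊥ :=
  fun e => fittingHallOf_ne_bot hG hM (le_bot_iff.1 (e ▸
    (fittingOf_eq_centralizer_sup hG hM).ge.trans' le_sup_right))

theorem not_ti_of (hG : Cfsg.IsMinSimpleOddOrder G) (hM : IsCoatom M) (hg : g ∉ M) (hx : x ∈ Cfsg.fittingOf M)
    (hx1 : x ≠ 1) (hgx : g * x * g⁻¹ ∈ Cfsg.fittingOf M) : ¬ Cfsg.IsTISubset (Cfsg.fittingOf M : Set G) :=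
  fun h => hx1 (h g (by rwa [normalizer_eq_self hG hM (fittingOf_ne_bot hG hM) (fittingOf_le M)
    (le_normalizer_fittingOf M)]) x hx hgx)

/-- An element of prime order of `F(M)` with a conjugate in `F(M)` lies in `M_σ`. -/
theorem nonTIPoint_of (hG : Cfsg.IsMinSimpleOddOrder G) (hM : IsCoatom M) (hg : g ∉ M) (hr : r.Prime)
    (hxo : orderOf x = r) (hx : x ∈ Cfsg.fittingOf M) (hgx : g * x * g⁻¹ ∈ Cfsg.fittingOf M) :
    NonTIPoint M g x r := by
  have hnil : Group.IsNilpotent (Cfsg.sigmaCore M) := by_contra fun h =>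
    not_ti_of hG hM hg hx (fun e => hr.ne_one (by rw [← hxo, e, orderOf_one])) hgx
      (fitting_ti_of_not_nilpotent hG hM h)
  have hgo : orderOf (g * x * g⁻¹) = r :=
    (orderOf_injective (MulAut.conj g).toMonoidHom (MulAut.conj g).injective x).trans hxo
  have hxk : x ^ r ^ 1 = 1 := by rw [pow_one, ← hxo, pow_orderOf_eq_one]
  have hgk : (g * x * g⁻¹) ^ r ^ 1 = 1 := by rw [pow_one, ← hgo, pow_orderOf_eq_one]
  have hrσ : r ∈ Cfsg.sigma M := by
    by_contra hrσ
    have hmem : ∀ w ∈ Cfsg.fittingOf M, w ^ r ^ 1 = 1 → w ∈ fittingPrimePart M := fun w hw hk =>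
      le_piCoreOf (π := {q | q.Prime ∧ q ∉ Cfsg.sigma M}) (opOf_le_fittingOf hr M)
        ((fittingOf_le M).trans (le_normalizer_piCoreOf _ M))
        (fun l hl hd => ⟨hl, (isPi_piCoreOf _ M l hl hd : l = r) ▸ hrσ⟩) (mem_opOf_of_mem_fittingOf hr hw hk)
    exact hg (mem_of_cyclic_normal hG hM (fittingPrimePart_le M) (le_normalizer_fittingPrimePart M)
      (fittingPrimePart_cyclic hG hM) hr (hmem x hx hxk) hxo (hmem _ hgx hgk))
  exact ⟨hG, hM, hnil, hg, sigma_mem_of_elem hG hM hr hrσ (fittingOf_le M hx) hxk,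
    sigma_mem_of_elem hG hM hr hrσ (fittingOf_le M hgx) hgk, hr, hxo⟩

/-- The identification of `O_p(M_σ)`. -/
theorem pCore_sigmaCore_map (hnil : Group.IsNilpotent (Cfsg.sigmaCore M)) (hp : p.Prime)
    (hle : opOf p M ≤ Cfsg.sigmaCore M) :
    (Cfsg.pCore p ↥(Cfsg.sigmaCore M)).map (Cfsg.sigmaCore M).subtype = opOf p M := by
  haveI := Fact.mk hp
  refine le_antisymm (fun v hv => ?_) fun v hv => ⟨⟨v, hle hv⟩, ?_, rfl⟩
  · obtain ⟨w, hw, rfl⟩ := hv
    obtain ⟨k, hk⟩ := (Fitting.pCore_isPGroup (G := Cfsg.sigmaCore M) p) ⟨w, hw⟩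
    exact mem_opOf_of_nilpotent hnil hp w.2 (k := k) (by simpa using congrArg (fun z => ((z.1 : Cfsg.sigmaCore M) : G)) hk)
  · haveI : ((opOf p M).subgroupOf (Cfsg.sigmaCore M)).Normal := (Subgroup.normal_subgroupOf_iff_le_normalizer hle).2
      ((piCoreOf_le _ M).trans (le_normalizer_piCoreOf _ M))
    exact Fitting.le_pCore inferInstance ((isPGroup_opOf hp M).of_equiv (Subgroup.subgroupOfEquivOfLe hle).symm)
      (show (⟨v, hle hv⟩ : Cfsg.sigmaCore M) ∈ (opOf p M).subgroupOf (Cfsg.sigmaCore M) from hv)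

/-- The exponent of `M/M_σ`. -/
theorem exponent_quotient_dvd {N : Subgroup M} [N.Normal] (hE : Cfsg.IsComplIn E (Cfsg.sigmaCore M) M)
    (hN : ∀ v : M, (v : G) ∈ Cfsg.sigmaCore M → v ∈ N) {n : ℕ} (hn : ∀ e ∈ E, e ^ n = 1) :
    Monoid.exponent (M ⧸ N) ∣ n := by
  refine Monoid.exponent_dvd_of_forall_pow_eq_one fun v => ?_
  obtain ⟨m, rfl⟩ := QuotientGroup.mk'_surjective N v
  obtain ⟨a, ha, b, hb, he⟩ := hE.2.2.2 m m.2
  have hm : m = (⟨a, hE.1 ha⟩ : M) * ⟨b, piCoreOf_le _ M hb⟩ := Subtype.ext he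
  rw [hm, map_mul, show QuotientGroup.mk' N ⟨b, piCoreOf_le _ M hb⟩ = 1 from (QuotientGroup.eq_one_iff _).2 (hN _ hb),
    mul_one, ← map_pow, show ((⟨a, hE.1 ha⟩ : M) ^ n) = 1 from Subtype.ext (by simpa using hn a ha), map_one]

theorem relIndex_sigmaCore (hE : Cfsg.IsComplIn E (Cfsg.sigmaCore M) M) :
    (Cfsg.sigmaCore M).relIndex M = Nat.card E := by
  have h1 := ((Cfsg.sigmaCore M).subgroupOf M).card_mul_index
  have hle : Cfsg.sigmaCore M ≤ M := piCoreOf_le _ M
  rw [Nat.card_congr (Subgroup.subgroupOfEquivOfLe hle).toEquiv,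
    card_eq_of_compl hE, mul_comm (Nat.card E)] at h1
  exact Nat.eq_of_mul_eq_mul_left Nat.card_pos h1

namespace NonTIPoint

variable (h : NonTIPoint M g x p)

include h

theorem opOf_abelian (hne : r ≠ p) (hr : r.Prime) : IsMulCommutative (opOf r M) :=
  h.commutative_of_centralized hr (isPGroup_opOf hr M) (piCoreOf_le _ M) (h.opOf_centralizes hne)

theorem opOf_cyclic (hP : ¬ IsMulCommutative (opOf p M)) (hne : r ≠ p) (hr : r.Prime) : IsCyclic (opOf r M) := by
  by_contra hnc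
  haveI := Fact.mk h.hp
  obtain ⟨B, hB, hBe, hB2⟩ := exists_elem_sq h.hG hr (isPGroup_opOf hr M) hnc
  have hu := Cfsg.Agent.S1422.result h.hG p (opOf p M) (isPGroup_opOf h.hp M) hP
  refine h.not_unique (hB.trans (piCoreOf_le _ M)) (hB.trans (h.opOf_centralizes hne))
    (Cfsg.Agent.S1399.result h.hG (opOf p M) B hu (hB.trans (opOf_commute hne M)) fun h' => ?_)
  have h1 := h' r hr ⊤ ⟨⟨fun a b => Subtype.ext
    (haveI := hBe.1; mul_comm' (a : B) (b : B))⟩⟩ fun a _ => Subtype.ext (by simpa using hBe.2 (a : G) a.2)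
  rw [Subgroup.card_top, hB2, sq, pow_one] at h1
  exact absurd h1 (Nat.not_le_of_lt (lt_mul_of_one_lt_left hr.pos hr.one_lt))

theorem exists_center_line (hP : ¬ IsMulCommutative (opOf p M)) :
    ∃ z ∈ opOf p M, orderOf z = p ∧ (∀ v ∈ opOf p M, Commute z v) ∧
      (∀ v ∈ opOf p M, (∀ w ∈ opOf p M, Commute v w) → v ^ p = 1 → v ∈ Subgroup.zpowers z) := by
  classical
  haveI := Fact.mk h.hp
  set P := opOf p M with hPdef
  have hPp := isPGroup_opOf h.hp M
  haveI : Nontrivial P := (Subgroup.nontrivial_iff_ne_bot P).2 fun e => h.hx1 (Subgroup.mem_bot.1 (e ▸ h.mem_opOf))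
  haveI := hPp.center_nontrivial
  obtain ⟨z₀, hz₀⟩ := exists_order_of_dvd (N := (Subgroup.center P).map P.subtype) h.hp (by
    rw [Subgroup.card_subtype]
    obtain ⟨k, hk⟩ := (hPp.to_subgroup (Subgroup.center P)).exists_card_eq
    rw [hk]
    refine dvd_pow_self p fun e => ?_
    have := Finite.one_lt_card_iff_nontrivial.2 (inferInstance : Nontrivial (Subgroup.center P))
    rw [hk, e, pow_zero] at this
    exact lt_irrefl 1 this)
  obtain ⟨⟨z', hz', rfl⟩, hzo⟩ := hz₀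
  have hzc : ∀ v ∈ P, Commute (z' : G) v := fun v hv =>
    (congrArg Subtype.val (Subgroup.mem_center_iff.1 hz' ⟨v, hv⟩)).symm
  refine ⟨z', z'.2, hzo, hzc, fun v hv hvc hvp => ?_⟩
  by_contra hvn
  -- otherwise `⟨x, z, v⟩` would be elementary of rank three
  set C := P ⊓ Subgroup.centralizer ({x} : Set G)
  have hC := h.centralizer_part
  haveI := hC.1
  have hmem : ∀ {w : G}, w ∈ P → (∀ u ∈ P, Commute w u) → w ∈ C := fun {w} hw hc =>
    ⟨hw, mem_centralizer_singleton_of_commute (hc x h.mem_opOf).symm⟩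
  set Z := Subgroup.zpowers (z' : G) ⊔ Subgroup.zpowers v with hZ
  have hZC : Z ≤ Subgroup.centralizer (P : Set G) := sup_le
    (Subgroup.zpowers_le.2 fun u hu => (hzc u hu).eq.symm) (Subgroup.zpowers_le.2 fun u hu => (hvc u hu).eq.symm)
  have hZP : Z ≤ P := sup_le (Subgroup.zpowers_le.2 z'.2) (Subgroup.zpowers_le.2 hv)
  set B := Subgroup.zpowers x ⊔ Z with hB
  have hBC : B ≤ C := sup_le
    (Subgroup.zpowers_le.2 ⟨h.mem_opOf, Subgroup.mem_centralizer_singleton_iff.2 rfl⟩)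
    fun w hw => hmem (hZP hw) fun u hu => (hZC hw u hu).symm
  have hCc : ∀ a ∈ C, ∀ b ∈ C, a * b = b * a := fun a ha b hb => by
    have e := congrArg Subtype.val (mul_comm' (⟨a, ha⟩ : C) ⟨b, hb⟩)
    exact e
  have hBp : ∀ w ∈ B, w ^ p = 1 := by
    intro w hw
    rw [hB, hZ, Subgroup.zpowers_eq_closure, Subgroup.zpowers_eq_closure, Subgroup.zpowers_eq_closure,
      ← Subgroup.closure_union, ← Subgroup.closure_union] at hw
    induction hw using Subgroup.closure_induction with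
    | mem t ht =>
      rcases ht with ht | ht | ht <;> rw [Set.mem_singleton_iff] at ht <;> subst ht
      · rw [← h.hxo, pow_orderOf_eq_one]
      · rw [← hzo, Subgroup.subtype_apply, pow_orderOf_eq_one]
      · exact hvp
    | one => exact one_pow p
    | mul a b ha hb iha ihb =>
      have hle : Subgroup.closure ({x} ∪ ({(z' : G)} ∪ {v})) ≤ C := by
        rw [Subgroup.closure_union, Subgroup.closure_union, ← Subgroup.zpowers_eq_closure,
          ← Subgroup.zpowers_eq_closure, ← Subgroup.zpowers_eq_closure]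
        exact hBC
      rw [(show Commute a b from hCc a (hle ha) b (hle hb)).mul_pow, iha, ihb, one_mul]
    | inv a _ iha => rw [inv_pow, iha, inv_one]
  have hcard := hC.2 (B.subgroupOf C) ⟨⟨fun a b => Subtype.ext (Subtype.ext (hCc _ (hBC a.2) _ (hBC b.2)))⟩⟩
    fun a ha => Subtype.ext (by simpa using hBp (a : G) ha)
  rw [Nat.card_congr (Subgroup.subgroupOfEquivOfLe hBC).toEquiv] at hcard
  have hlt1 : Nat.card (Subgroup.zpowers (z' : G)) < Nat.card Z := by
    refine lt_of_le_of_ne (Nat.le_of_dvd Nat.card_pos (Subgroup.card_dvd_of_le le_sup_left)) fun e => hvn ?_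
    rw [Subgroup.eq_of_le_of_card_ge (le_sup_left : Subgroup.zpowers (z' : G) ≤ Z) e.ge]
    exact Subgroup.mem_sup_right (Subgroup.mem_zpowers v)
  have hlt2 : Nat.card Z < Nat.card B := by
    refine lt_of_le_of_ne (Nat.le_of_dvd Nat.card_pos (Subgroup.card_dvd_of_le le_sup_right)) fun e => hP ?_
    have hxZ : x ∈ Z := by
      rw [Subgroup.eq_of_le_of_card_ge (le_sup_right : Z ≤ B) e.ge]
      exact Subgroup.mem_sup_left (Subgroup.mem_zpowers x)
    have hPC : P ≤ C := fun w hw => ⟨hw, mem_centralizer_singleton_of_commute (show Commute x w from (hZC hxZ w hw).symm)⟩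
    exact ⟨⟨fun a b => Subtype.ext (hCc _ (hPC a.2) _ (hPC b.2))⟩⟩
  have hBp' : IsPGroup p B := hPp.to_le (hBC.trans inf_le_left)
  obtain ⟨i, hi⟩ := (hPp.to_le hZP).exists_card_eq
  obtain ⟨j, hj⟩ := hBp'.exists_card_eq
  rw [Nat.card_zpowers, show orderOf (z' : G) = p from hzo, hi] at hlt1
  rw [hi, hj, Nat.pow_lt_pow_iff_right h.hp.one_lt] at hlt2
  rw [hj, Nat.pow_le_pow_iff_right h.hp.one_lt] at hcard
  have : 1 < i := (Nat.pow_lt_pow_iff_right h.hp.one_lt).1 (by rwa [pow_one])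
  omega

end NonTIPoint

/-- With `M_σ'` inside `O_p(M)'`. -/
theorem sigmaCore_derived_le (hnil : Group.IsNilpotent (Cfsg.sigmaCore M)) (hp : p.Prime)
    (hPσ : opOf p M ≤ Cfsg.sigmaCore M)
    (hab : ∀ r : ℕ, r.Prime → r ∣ Nat.card (Cfsg.sigmaCore M) → r ≠ p → IsMulCommutative (opOf r M)) :
    ⁅Cfsg.sigmaCore M, Cfsg.sigmaCore M⁆ ≤ ⁅opOf p M, opOf p M⁆ := by
  set S := Cfsg.sigmaCore M
  set P := opOf p M
  set Z := S ⊓ Subgroup.centralizer (S : Set G)
  have hle : S ≤ P ⊔ Z := fun v hv => mem_of_primary fun r hr hd w hw ⟨k, hk⟩ => by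
    have hwS : w ∈ S := Subgroup.zpowers_le.2 hv hw
    have hwO := mem_opOf_of_nilpotent hnil hr hwS hk
    by_cases hrp : r = p
    · rw [hrp] at hwO; exact Subgroup.mem_sup_left hwO
    refine Subgroup.mem_sup_right ⟨hwS, ?_⟩
    have hrS : r ∣ Nat.card S := hd.trans (Subgroup.orderOf_dvd_natCard _ hv)
    have hS : S ≤ Subgroup.centralizer ((opOf r M : Subgroup G) : Set G) := le_centralizer_sigmaCore_of hnil
      fun t ht _ => by
        by_cases htr : t = r
        · subst htr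
          haveI := hab t hr hrS hrp
          exact fun a ha b hb => congrArg Subtype.val (mul_comm' (⟨b, hb⟩ : opOf t M) ⟨a, ha⟩)
        · exact opOf_commute htr M
    exact Subgroup.le_centralizer_iff.1 hS hwO
  have hPn : P ≤ Subgroup.normalizer (⁅P, P⁆ : Subgroup G) :=
    le_normalizer_commutator Subgroup.le_normalizer Subgroup.le_normalizer
  refine Subgroup.commutator_le.2 fun a ha b hb => ?_
  have hZn : P ≤ Subgroup.normalizer (Z : Set G) := fun c hc =>
    Subgroup.centralizer_le_normalizer _ fun w hw => (hw.2 c (hPσ hc)).symm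
  have hdec : ∀ v ∈ S, ∃ c ∈ P, ∃ d ∈ Z, v = c * d := fun v hv => by
    have hv' := hle hv
    rw [← SetLike.mem_coe, Subgroup.coe_mul_of_left_le_normalizer_right P Z hZn] at hv'
    obtain ⟨c, hc, d, hd, rfl⟩ := Set.mem_mul.1 hv'
    exact ⟨c, hc, d, hd, rfl⟩
  obtain ⟨c, hc, d, hd, rfl⟩ := hdec a ha
  obtain ⟨c', hc', d', hd', rfl⟩ := hdec b hb
  have hc1 : ∀ {u w : G}, u ∈ Z → w ∈ S → Commute w u := fun {u w} hu hw => hu.2 w hw
  have : ⁅c * d, c' * d'⁆ = ⁅c, c'⁆ := by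
    rw [commutatorElement_def, commutatorElement_def, mul_inv_rev, mul_inv_rev]
    have e1 : Commute (c' * d') d := hc1 hd (S.mul_mem (hPσ hc') hd'.1)
    have e2 : Commute c⁻¹ d' := hc1 hd' (S.inv_mem (hPσ hc))
    calc c * d * (c' * d') * (d⁻¹ * c⁻¹) * (d'⁻¹ * c'⁻¹)
        = c * (d * (c' * d') * d⁻¹) * c⁻¹ * (d'⁻¹ * c'⁻¹) := by group
      _ = c * c' * (d' * c⁻¹) * d'⁻¹ * c'⁻¹ := by rw [← e1.eq, mul_inv_cancel_right]; group
      _ = c * c' * c⁻¹ * c'⁻¹ := by rw [← e2.eq]; group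
  rw [this]
  exact Subgroup.commutator_mem_commutator hc hc'

/-- BG 15.7. -/
theorem fitting_not_ti_structure (hG : Cfsg.IsMinSimpleOddOrder G) (hM : IsCoatom M)
    (hKU : Cfsg.IsSigmaDecomposition M K U) (hg : g ∉ M)
    (hX : Cfsg.fittingOf M ⊓ (Cfsg.fittingOf M).map (MulAut.conj g).toMonoidHom ≠ ⊥) :
    (Cfsg.fittingOf M ⊓ (Cfsg.fittingOf M).map (MulAut.conj g).toMonoidHom ≤ Cfsg.fittingHallOf M ∧
        IsCyclic ↥(Cfsg.fittingOf M ⊓ (Cfsg.fittingOf M).map (MulAut.conj g).toMonoidHom)) ∧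
      (Group.IsNilpotent (Cfsg.sigmaCore M) ∧ ⁅M, M⁆ ≤ Cfsg.fittingOf M ∧
        Cfsg.fittingOf M = Cfsg.sigmaCore M ⊔ fittingPrimePart M ∧
        (K ≠ ⊥ → U = ⊥ ∧ ⁅M, M⁆ = Cfsg.fittingOf M)) ∧
      ((K = ⊥ ∧ IsMulCommutative (Cfsg.fittingHallOf M) ∧ Cfsg.RankLE 2 (Cfsg.fittingHallOf M) ∧ ¬ Cfsg.RankLE 1 (Cfsg.fittingHallOf M)) ∨
       (∃ p : ℕ, p.Prime ∧ Nat.card ↥(Cfsg.fittingOf M ⊓ (Cfsg.fittingOf M).map (MulAut.conj g).toMonoidHom) = p ∧ p ∈ Cfsg.sigma M ∧ p ∉ Cfsg.beta M ∧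
          ¬ IsMulCommutative (Cfsg.pCore p ↥(Cfsg.fittingHallOf M)) ∧ IsCyclic (Cfsg.pPrimeCore p ↥(Cfsg.fittingHallOf M)) ∧
          ∀ q : ℕ, q.Prime → q ∣ Nat.card (Cfsg.fittingHallOf M) → Monoid.exponent (↥M ⧸ Cfsg.fittingHall ↥M) ∣ q - 1) ∨
       (∃ p : ℕ, p.Prime ∧ Nat.card ↥(Cfsg.fittingOf M ⊓ (Cfsg.fittingOf M).map (MulAut.conj g).toMonoidHom) = p ∧ p ∈ Cfsg.sigma M ∧ p ∉ Cfsg.beta M ∧
          IsCyclic (Cfsg.pPrimeCore p ↥(Cfsg.fittingHallOf M)) ∧ Nat.card (Cfsg.pCore p ↥(Cfsg.fittingHallOf M)) = p ^ 3 ∧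
          ¬ IsMulCommutative (Cfsg.pCore p ↥(Cfsg.fittingHallOf M)) ∧ K ≠ ⊥ ∧ U = ⊥ ∧ (Cfsg.fittingHallOf M).relIndex M ∣ p + 1)) := by
  classical
  set F := Cfsg.fittingOf M with hF
  set X := F ⊓ F.map (MulAut.conj g).toMonoidHom with hXdef
  set S := Cfsg.sigmaCore M with hS
  have hmemX : ∀ {w : G}, w ∈ X → w ∈ F ∧ g⁻¹ * w * g⁻¹⁻¹ ∈ F := fun {w} hw => by
    obtain ⟨v, hv, rfl⟩ := hw.2
    refine ⟨hw.1, ?_⟩
    rw [inv_inv, show g⁻¹ * (MulAut.conj g).toMonoidHom v * g = v by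
      show g⁻¹ * (g * v * g⁻¹) * g = v
      group]
    exact hv
  have hg' : g⁻¹ ∉ M := fun e => hg (inv_mem_iff.1 e)
  have hpt : ∀ {w : G} {r : ℕ}, w ∈ X → r.Prime → orderOf w = r → NonTIPoint M g⁻¹ w r := fun {w r} hw hr hwo =>
    nonTIPoint_of hG hM hg' hr hwo (hmemX hw).1 (hmemX hw).2
  obtain ⟨p, hp, hpX⟩ := Nat.exists_prime_and_dvd fun e : Nat.card X = 1 => hX (Subgroup.card_eq_one.1 e)
  obtain ⟨x, hxX, hxo⟩ := exists_order_of_dvd hp hpX
  have h := hpt hxX hp hxo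
  haveI := Fact.mk hp
  have hnil := h.nil
  have hSF : S ≤ F := le_fittingOf_of_le_normalizer (piCoreOf_le _ M) (le_normalizer_piCoreOf _ M) hnil
  have hnotTI := not_ti_of hG hM hg' (hmemX hxX).1 h.hx1 (hmemX hxX).2
  have hXS : X ≤ S := fun w hw => mem_of_primary fun r hr _ v hv ⟨k, hk⟩ => by
    by_cases hv1 : v = 1
    · rw [hv1]; exact one_mem _
    obtain ⟨b, hb, hbo⟩ := exists_line_pow hr hk hv1
    have hvX : v ∈ X := Subgroup.zpowers_le.2 hw hv
    exact sigma_mem_of_elem hG hM hr (hpt (Subgroup.zpowers_le.2 hvX hb) hr hbo).hσ (fittingOf_le M hvX.1) hk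
  have hFS : F = S ⊔ fittingPrimePart M := by
    rw [hF, fittingOf_eq_sup hG hM]
    exact congrArg (· ⊔ fittingPrimePart M) (le_antisymm (fittingOf_le _)
      (le_fittingOf_of_le_normalizer le_rfl Subgroup.le_normalizer hnil))
  have hMF : Cfsg.fittingHallOf M = S := fittingHallOf_eq_sigmaCore hG hM hnil
  have hXcyc : IsCyclic X := by
    haveI := (sigmaCore_inf_conj hG hM hg).1
    have hle : X ≤ S ⊓ MulAut.conj g • M := le_inf hXS
      (inf_le_right.trans (Subgroup.map_mono (fittingOf_le M)))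
    exact isCyclic_of_injective (Subgroup.inclusion hle) (Subgroup.inclusion_injective _)
  have hKU0 : K ≠ ⊥ → U = ⊥ := fun hK1 => by_contra fun hU =>
    hnotTI (fitting_ti_of_U_ne_bot hG hM hKU hK1 hU).1
  have hder := h.derived_le_fitting
  refine ⟨⟨hXS.trans hMF.ge, hXcyc⟩, ⟨hnil, hder, hFS, fun hK1 => ⟨hKU0 hK1, le_antisymm hder ?_⟩⟩, ?_⟩
  · refine fittingOf_le_derived hG hM ?_
    obtain ⟨l, hl, hld⟩ := Nat.exists_prime_and_dvd fun e : Nat.card K = 1 => hK1 (Subgroup.card_eq_one.1 e)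
    exact ⟨l, hKU.hall.2.1 l hl hld⟩
  obtain ⟨hEc, -⟩ := isCompl_UK hG hM hKU
  set P := opOf p M with hP
  have hPσ : P ≤ S := opOf_le_sigmaCore hG hM hp h.hσ
  have hEσ : ∀ e ∈ U ⊔ K, e ∈ S → e = 1 := fun e he heS => Subgroup.mem_bot.1 (hEc.2.2.1 ▸ ⟨he, heS⟩)
  have hPc : ∀ {r : ℕ}, r.Prime → IsMulCommutative (opOf r M) → opOf r M ≤ Subgroup.centralizer (opOf r M : Set G) :=
    fun {r} _ hc a ha b hb => by
      haveI := hc
      exact congrArg Subtype.val (mul_comm' (⟨b, hb⟩ : opOf r M) ⟨a, ha⟩)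
  by_cases hPab : IsMulCommutative P
  · left
    have hab : ∀ r : ℕ, r.Prime → IsMulCommutative (opOf r M) := fun r hr => by
      by_cases hrp : r = p
      · exact hrp ▸ hPab
      · exact h.opOf_abelian hrp hr
    have hSC : S ≤ Subgroup.centralizer (S : Set G) := by
      refine le_centralizer_sigmaCore_of hnil fun r hr _ => Subgroup.le_centralizer_iff.1 ?_
      exact le_centralizer_sigmaCore_of hnil fun t ht _ => by
        by_cases htr : t = r
        · rw [htr]; exact hPc hr (hab r hr)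
        · exact opOf_commute htr M
    haveI hSc : IsMulCommutative S := ⟨⟨fun a b => Subtype.ext (hSC b.2 a a.2)⟩⟩
    have hK : K = ⊥ := by
      by_contra hK1
      have hd := kappaData_of_decomposition hG hM hKU hK1
      have hU := hKU0 hK1
      have hE' : Cfsg.IsComplIn K S M := by simpa [hU] using hEc
      have h2 := centralizer_compl_le_derived hG hM hE'
      refine hd.fixed_ne (le_bot_iff.1 (h2.trans ?_))
      exact Subgroup.commutator_le.2 fun a ha b hb => by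
        rw [Subgroup.mem_bot, commutatorElement_eq_one_iff_mul_comm]
        exact hSC hb a ha
    rw [hMF]
    refine ⟨hK, hSc, fun r hr => ?_, fun h1 => ?_⟩
    · exact h.rank_of_centralized hr (piCoreOf_le _ M) fun w hw =>
        mem_centralizer_singleton_of_commute (hSC hw x h.hx)
    · haveI : IsZGroup S := ⟨fun r hr T => by
        haveI := Fact.mk hr
        suffices hc : IsCyclic ((T : Subgroup S).map S.subtype) by
          haveI := hc
          exact isCyclic_of_surjective _ (Subgroup.equivMapOfInjective (T : Subgroup S) _ S.subtype_injective).symm.surjective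
        by_contra hnc
        obtain ⟨B, hB, hBe, hB2⟩ := exists_elem_sq hG hr (T.2.map _) hnc
        have hBS : B ≤ S := hB.trans (Subgroup.map_subtype_le _)
        have := h1 r hr (B.subgroupOf S) ⟨⟨fun a b => Subtype.ext (mul_comm' (a : S) (b : S))⟩⟩
          fun a ha => Subtype.ext (by simpa using hBe.2 (a : G) ha)
        rw [Nat.card_congr (Subgroup.subgroupOfEquivOfLe hBS).toEquiv, hB2, sq, pow_one] at this
        exact absurd this (Nat.not_le_of_lt (lt_mul_of_one_lt_left hr.pos hr.one_lt))⟩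
      haveI := hnil
      exact h.hg (mem_of_cyclic_normal (L := S) hG hM (piCoreOf_le _ M) (le_normalizer_piCoreOf _ M) inferInstance hp h.hx
        hxo h.hgx)
  right
  have hcyc : ∀ {r : ℕ}, r ≠ p → r.Prime → IsCyclic (opOf r M) := fun {r} hne hr => h.opOf_cyclic hPab hne hr
  -- `X` has order `p`
  have hXp : ∀ r : ℕ, r.Prime → r ∣ Nat.card X → r = p := fun r hr hrX => by
    by_contra hne
    obtain ⟨b, hb, hbo⟩ := exists_order_of_dvd hr hrX
    have hb' := hpt hb hr hbo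
    refine hg' (mem_of_cyclic_normal hG hM (piCoreOf_le _ M) (le_normalizer_piCoreOf _ M) (hcyc hne hr) hr hb'.mem_opOf hbo
      (mem_opOf_of_nilpotent hnil hr hb'.hgx (k := 1) ?_))
    rw [conj_pow, pow_one, ← hbo, pow_orderOf_eq_one, mul_one, mul_inv_cancel]
  have hXcard : Nat.card X = p := by
    obtain ⟨n, hn⟩ : ∃ n, Nat.card X = p ^ n :=
      ⟨_, Nat.eq_prime_pow_of_unique_prime_dvd Nat.card_pos.ne' fun {d} hd hdd => hXp d hd hdd⟩
    have hn0 : n ≠ 0 := fun e => by rw [hn, e, pow_zero] at hpX; exact hp.ne_one (Nat.dvd_one.1 hpX)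
    by_contra hne
    have hn2 : 2 ≤ n := by
      by_contra hlt
      exact hne (by rw [hn, show n = 1 by omega, pow_one])
    haveI := hXcyc
    obtain ⟨⟨w, hw⟩, hgen⟩ := IsCyclic.exists_generator (α := X)
    have hwo : orderOf w = p ^ n := by rw [← hn, ← orderOf_eq_card_of_forall_mem_zpowers hgen, Subgroup.orderOf_mk]
    obtain ⟨i, rfl⟩ := Nat.exists_eq_add_of_le hn2
    set w₁ := w ^ p ^ i with hw₁
    have hw₁o : orderOf w₁ = p ^ 2 := by
      rw [hw₁, orderOf_pow_of_dvd (pow_ne_zero _ hp.ne_zero) (hwo ▸ pow_dvd_pow p (Nat.le_add_left i 2)), hwo, pow_add,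
        Nat.mul_div_cancel _ (pow_pos hp.pos i)]
    have hx'o : orderOf (w₁ ^ p) = p := by
      rw [orderOf_pow_of_dvd hp.ne_zero (hw₁o ▸ dvd_pow_self p two_ne_zero), hw₁o, sq, Nat.mul_div_cancel _ hp.pos]
    have hw₁X : w₁ ∈ X := X.pow_mem hw _
    have h' := hpt (X.pow_mem hw₁X p) hp hx'o
    have hw₁P : w₁ ∈ P := mem_opOf_of_nilpotent hnil hp (hXS hw₁X) (k := 2) (by rw [← hw₁o, pow_orderOf_eq_one])
    have hcen : ∀ c : P, c ∈ Subgroup.centralizer ({(⟨w₁ ^ p, h'.mem_opOf⟩ : P)} : Set P) →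
        (c : G) ∈ P ⊓ Subgroup.centralizer ({w₁ ^ p} : Set G) := fun c hc =>
      ⟨c.2, Subgroup.mem_centralizer_singleton_iff.2 (congrArg Subtype.val (Subgroup.mem_centralizer_singleton_iff.1 hc))⟩
    let f : Subgroup.centralizer ({(⟨w₁ ^ p, h'.mem_opOf⟩ : P)} : Set P) →* ↥(P ⊓ Subgroup.centralizer ({w₁ ^ p} : Set G)) :=
      MonoidHom.mk' (fun c => ⟨((c : P) : G), hcen c c.2⟩) fun a b => rfl
    have hfi : Function.Injective f := fun a b e => Subtype.ext (Subtype.ext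
      (congrArg (fun z : ↥(P ⊓ Subgroup.centralizer ({w₁ ^ p} : Set G)) => (z : G)) e))
    refine no_root_of_centralizer (R := P) (isPGroup_opOf hp M) h.p_ne_two hPab (x := ⟨w₁ ^ p, h'.mem_opOf⟩)
      (w := ⟨w₁, hw₁P⟩) (by rw [Subgroup.orderOf_mk, hx'o]) (Subtype.ext (by simp)) (fun hd => ?_) ?_
      (CfsgLib.BG.prankLE_of_injective f hfi h'.centralizer_part.2)
    · refine h'.not_derived (Subgroup.commutator_mono hPσ hPσ ?_)
      rw [← CfsgLib.BG.map_commutator_subtype]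
      exact ⟨_, hd, rfl⟩
    · haveI := h'.centralizer_part.1
      exact ⟨⟨fun a b => hfi (by rw [map_mul, map_mul]; exact mul_comm' (f a) (f b))⟩⟩
  have hpβ : p ∉ Cfsg.beta M := fun hβ => hg' (mem_of_conj_beta hG hM hp hβ (piCoreOf_le _ M h.hx) h.hgx hxo)
  have hcoreMap := pCore_sigmaCore_map hnil hp hPσ
  have hcoreEq := Subgroup.equivMapOfInjective (Cfsg.pCore p ↥S) S.subtype S.subtype_injective
  have hnab : ¬ IsMulCommutative (Cfsg.pCore p ↥S) := fun hc => hPab (by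
    haveI := hc
    rw [hP, ← hcoreMap]
    exact Subgroup.map_isMulCommutative _ _)
  have hprime : IsCyclic (Cfsg.pPrimeCore p ↥S) := by
    haveI := hnil
    haveI : Group.IsNilpotent (Cfsg.pPrimeCore p ↥S) := Subgroup.isNilpotent _
    haveI : IsZGroup (Cfsg.pPrimeCore p ↥S) := ⟨fun r hr T => by
      haveI := Fact.mk hr
      set T' := ((T : Subgroup (Cfsg.pPrimeCore p ↥S)).map (Cfsg.pPrimeCore p ↥S).subtype).map S.subtype with hT'
      have e := ((T : Subgroup (Cfsg.pPrimeCore p ↥S)).equivMapOfInjective _ (Cfsg.pPrimeCore p ↥S).subtype_injective).trans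
        (((T : Subgroup (Cfsg.pPrimeCore p ↥S)).map (Cfsg.pPrimeCore p ↥S).subtype).equivMapOfInjective _ S.subtype_injective)
      suffices hc : IsCyclic T' by
        haveI := hc
        exact isCyclic_of_surjective e.symm.toMonoidHom e.symm.surjective
      by_cases hrp : r = p
      · subst hrp
        have hT1 : Nat.card T' = 1 := by
          rw [hT', Subgroup.card_subtype, Subgroup.card_subtype]
          obtain ⟨k, hk⟩ := T.2.exists_card_eq
          exact Nat.eq_one_of_dvd_coprimes ((CfsgLib.Transfer.pPrimeCore_coprime (G := ↥S) r).pow_right k)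
            (Subgroup.card_subgroup_dvd_card _) hk.dvd
        haveI : Subsingleton T' := (Nat.card_eq_one_iff_unique.1 hT1).1
        exact isCyclic_of_subsingleton
      have hTO : T' ≤ opOf r M := fun v hv => by
        obtain ⟨k, hk⟩ := ((T.2.map _).map _) ⟨v, hv⟩
        exact mem_opOf_of_nilpotent hnil hr (Subgroup.map_subtype_le _ hv) (by simpa using congrArg Subtype.val hk)
      haveI := hcyc hrp hr
      exact isCyclic_of_injective (Subgroup.inclusion hTO) (Subgroup.inclusion_injective _)⟩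
    infer_instance
  have hXcard' : Nat.card ↥(Cfsg.fittingOf M ⊓ (Cfsg.fittingOf M).map (MulAut.conj g).toMonoidHom) = p := hXcard
  have hN : ∀ v : M, (v : G) ∈ S → v ∈ Cfsg.fittingHall ↥M := fun v hv => by
    obtain ⟨w, hw, he⟩ := hMF.ge hv
    rwa [show v = w from M.subtype_injective he.symm]
  obtain ⟨z, hzP, hzo, hzc, hzuniq⟩ := h.exists_center_line hPab
  -- a normal line for every prime
  have hline : ∀ q : ℕ, q.Prime → q ∣ Nat.card S → ∃ l ∈ opOf q M, orderOf l = q ∧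
      M ≤ Subgroup.normalizer ((Subgroup.zpowers l : Subgroup G) : Set G) ∧ (q = p → l = z) := by
    intro q hq hqd
    haveI := Fact.mk hq
    have hconj : ∀ (c v : G), orderOf (c * v * c⁻¹) = orderOf v := fun c v =>
      orderOf_injective (MulAut.conj c).toMonoidHom (MulAut.conj c).injective v
    have hnl : ∀ l : G, orderOf l = q → (∀ m ∈ M, m * l * m⁻¹ ∈ Subgroup.zpowers l) →
        M ≤ Subgroup.normalizer ((Subgroup.zpowers l : Subgroup G) : Set G) := fun l _ hl m hm =>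
      mem_normalizer_of_conj fun v hv => by
        obtain ⟨i, rfl⟩ := Subgroup.mem_zpowers_iff.1 hv
        rw [← conj_zpow]
        exact Subgroup.zpow_mem _ (hl m hm) i
    by_cases hqp : q = p
    · subst hqp
      refine ⟨z, hzP, hzo, hnl z hzo fun m hm => ?_, fun _ => rfl⟩
      have hmP := le_normalizer_piCoreOf {q} M hm
      refine hzuniq _ (conj_mem_of_le_normalizer hmP z hzP) (fun w hw => ?_)
        (by rw [conj_pow, ← hzo, pow_orderOf_eq_one, mul_one, mul_inv_cancel])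
      have h1 := conj_mem_of_le_normalizer (le_normalizer_piCoreOf {q} M (M.inv_mem hm)) w hw
      rw [inv_inv] at h1
      show _ = _
      calc m * z * m⁻¹ * w = m * (z * (m⁻¹ * w * m)) * m⁻¹ := by group
        _ = m * (m⁻¹ * w * m * z) * m⁻¹ := by rw [(hzc _ h1).eq]
        _ = _ := by group
    · obtain ⟨l, hl, hlo⟩ := exists_order_of_dvd hq hqd
      have hlO := mem_opOf_of_nilpotent hnil hq hl (k := 1) (by rw [pow_one, ← hlo, pow_orderOf_eq_one])
      refine ⟨l, hlO, hlo, hnl l hlo fun m hm => ?_, fun e => absurd e hqp⟩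
      exact mem_line_of_cyclic hq (hcyc hqp hq) (Subgroup.zpowers_le.2 hlO) (by rw [Nat.card_zpowers, hlo])
        (conj_mem_of_le_normalizer (le_normalizer_piCoreOf _ M hm) l hlO)
        (by rw [conj_pow, ← hlo, pow_orderOf_eq_one, mul_one, mul_inv_cancel])
  have hcent : ∀ q : ℕ, q.Prime → ∀ l : G, orderOf l = q →
      M ≤ Subgroup.normalizer ((Subgroup.zpowers l : Subgroup G) : Set G) → ∀ e ∈ M, Commute (e ^ (q - 1)) l :=
    fun q hq l hlo hn e he => pow_sub_one_centralizes hq (by rw [Nat.card_zpowers, hlo]) (hn he) l (Subgroup.mem_zpowers l)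
  rw [hMF]
  by_cases hexp : ∀ q : ℕ, q.Prime → q ∣ Nat.card S → ∀ e ∈ U ⊔ K, e ^ (q - 1) = 1
  · exact Or.inl ⟨p, hp, hXcard', h.hσ, hpβ, hnab, hprime, fun q hq hqd => exponent_quotient_dvd hEc hN (hexp q hq hqd)⟩
  right
  have hK1 : K ≠ ⊥ := by
    intro hK
    obtain ⟨U₀, hU₀, hexpU, hfree⟩ := exists_free_exponent hG hM hKU
    refine hexp fun q hq hqd e he => ?_
    obtain ⟨l, hl, hlo, hln, -⟩ := hline q hq hqd
    rw [hK, sup_bot_eq] at he hEc
    have hdvd : Monoid.exponent U₀ ∣ q - 1 := Monoid.exponent_dvd_of_forall_pow_eq_one fun u => Subtype.ext <|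
      hfree _ (U₀.pow_mem u.2 _) ⟨M.pow_mem (hEc.1 (hU₀ u.2)) _, l,
        opOf_le_sigmaCore hG hM hq (prime_sigma_of_dvd hq hqd) hl,
        fun e' => hq.ne_one (by rw [← hlo, e', orderOf_one]), (hcent q hq l hlo hln u (hEc.1 (hU₀ u.2))).eq⟩
    obtain ⟨t, ht⟩ := hexpU ▸ hdvd
    have := congrArg Subtype.val (Monoid.pow_exponent_eq_one (⟨e, he⟩ : U))
    rw [ht, pow_mul, show e ^ Monoid.exponent U = 1 by simpa using this, one_pow]
  have hU := hKU0 hK1
  have hd := kappaData_of_decomposition hG hM hKU hK1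
  rw [hU, bot_sup_eq] at hexp hEc hEσ
  haveI := hKU.cyclic
  push Not at hexp
  obtain ⟨q, hq, hqd, e, he, hne⟩ := hexp
  obtain ⟨l, hl, hlo, hln, hlz⟩ := hline q hq hqd
  have hlS : l ∈ S := opOf_le_sigmaCore hG hM hq (prime_sigma_of_dvd hq hqd) hl
  have hstar_le : S ⊓ Subgroup.centralizer (K : Set G) ≤ ⁅P, P⁆ :=
    (centralizer_compl_le_derived hG hM hEc).trans (sigmaCore_derived_le hnil hp hPσ fun r hr _ hne => h.opOf_abelian hne hr)
  have hlstar : l ∈ S ⊓ Subgroup.centralizer (K : Set G) := by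
    rw [← hd.action _ (K.pow_mem he _) hne]
    exact ⟨hlS, mem_centralizer_singleton_of_commute (hcent q hq l hlo hln e (hEc.1 he))⟩
  have hder_le : ⁅P, P⁆ ≤ P := Subgroup.commutator_le.2 fun a ha b hb => by
    rw [commutatorElement_def]; exact P.mul_mem (P.mul_mem (P.mul_mem ha hb) (P.inv_mem ha)) (P.inv_mem hb)
  obtain rfl : q = p := by
    obtain ⟨i, hi⟩ := isPGroup_opOf hp M ⟨l, hder_le (hstar_le hlstar)⟩
    exact prime_dvd_of_primary hq hp (k := i) (by simpa using congrArg Subtype.val hi) hlo.symm.dvd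
  obtain rfl := hlz rfl
  -- `P` is a Sylow subgroup
  obtain ⟨T₀⟩ : Nonempty (Sylow q M) := inferInstance
  obtain ⟨T, hT⟩ := exists_sylow_map_eq h.hσ T₀
  have hTM : (T : Subgroup G) ≤ M := hT.le.trans (Subgroup.map_subtype_le _)
  have hTP : (T : Subgroup G) = P := by
    refine (T.is_maximal' (isPGroup_opOf hp M) fun v hv => ?_).symm
    obtain ⟨i, hi⟩ := T.2 ⟨v, hv⟩
    exact mem_opOf_of_nilpotent hnil hp (le_sigmaCore_of_isPGroup hG hM hp h.hσ hTM T.2 hv)
      (by simpa using congrArg Subtype.val hi)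
  have hnostar := hd.not_sylow_le_star hlstar hlo T hTM
  have hPn : K ≤ Subgroup.normalizer (P : Set G) := hEc.1.trans (le_normalizer_piCoreOf _ M)
  obtain ⟨⟨k, hkK⟩, hgen⟩ := IsCyclic.exists_generator (α := K)
  have hko : orderOf k = Nat.card K := by
    rw [← orderOf_eq_card_of_forall_mem_zpowers hgen, Subgroup.orderOf_mk]
  set φ := Subgroup.normalizerMonoidHom P ⟨k, hPn hkK⟩ with hφ
  have hfaith : ∀ m : ℕ, φ ^ m = 1 → k ^ m = 1 := fun m hm => by_contra fun hne' => by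
    refine hnostar (hTP.le.trans fun v hv => ?_)
    rw [← hd.action _ (K.pow_mem hkK m) hne']
    rw [hφ, ← map_pow] at hm
    have h2 := congrArg Subtype.val (DFunLike.congr_fun hm ⟨v, hv⟩)
    have h3 : k ^ m * v * (k ^ m)⁻¹ = v := by simpa using h2
    exact ⟨hPσ hv, mem_centralizer_singleton_of_commute (mul_inv_eq_iff_eq_mul.1 h3)⟩
  have hφo : orderOf φ = Nat.card K := by
    refine Nat.dvd_antisymm ?_ (hko ▸ orderOf_dvd_of_pow_eq_one (hfaith _ (pow_orderOf_eq_one φ)))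
    rw [← hko, ← Subgroup.orderOf_mk k (hPn hkK)]
    exact orderOf_map_dvd _ _
  have hφc : (orderOf φ).Coprime q := by
    rw [hφo]
    exact (hp.coprime_iff_not_dvd.2 fun hd' => not_sigma_of_dvd_compl hG hM hEc hp hd' h.hσ).symm
  have hK_not : ¬ Nat.card K ∣ q - 1 := fun hd' => by
    obtain ⟨t, ht⟩ := hd'
    exact hne (by rw [ht, pow_mul, orderOf_dvd_iff_pow_eq_one.1 (Subgroup.orderOf_dvd_natCard K he), one_pow])
  have hrk : Cfsg.PRankLE q 2 P := by
    by_contra hrk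
    refine hK_not ?_
    rw [← hφo]
    exact (CfsgLib.BG.narrow_auto h.p_ne_two (isPGroup_opOf hp M) h.narrow hrk
      (MonoidHom.id (MulAut P)) φ).1 hφc
  -- `K` centralizes the centre
  have hcentre : ∀ v ∈ Subgroup.center P, φ v = v := fun v hv => by
    refine fixed_of_omega_fixed (isPGroup_opOf hp M) hφc (Subgroup.center P)
      (fun a ha b _ => (Subgroup.mem_center_iff.1 ha b).symm)
      (fun a ha => ?_) (fun a ha hap => ?_) v hv
    · exact Subgroup.mem_center_iff.2 fun b => by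
        obtain ⟨b', rfl⟩ := φ.surjective b
        rw [← map_mul, ← map_mul, Subgroup.mem_center_iff.1 ha b']
    · have h1 := hzuniq (a : G) a.2 (fun w hw => (congrArg Subtype.val (Subgroup.mem_center_iff.1 ha ⟨w, hw⟩)).symm)
        (by simpa using congrArg Subtype.val hap)
      obtain ⟨i, hi⟩ := Subgroup.mem_zpowers_iff.1 h1
      refine Subtype.ext (show k * (a : G) * k⁻¹ = a from ?_)
      rw [← hi]
      have hkz : Commute k l := commute_of_mem_centralizer hkK hlstar.2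
      rw [(hkz.zpow_right i).eq, mul_inv_cancel_right]
  have hk1 : k ≠ 1 := fun e' => hK1 (Subgroup.card_eq_one.1 (by rw [← hko, e', orderOf_one]))
  have hcstar : ∀ v ∈ Subgroup.center P, (v : G) ∈ ⁅P, P⁆ := fun v hv => hstar_le (by
    rw [← hd.action k hkK hk1]
    refine ⟨hPσ v.2, mem_centralizer_singleton_of_commute ?_⟩
    exact mul_inv_eq_iff_eq_mul.1 (congrArg Subtype.val (hcentre v hv) : k * (v : G) * k⁻¹ = v))
  rcases Cfsg.Agent.S1412.result hG q T (by rw [hTP]; exact hrk) with hc | ⟨P₁, P₂, h12, hcomm, hna, hc3, he3, hc2, -⟩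
  · exact absurd (by rw [hTP] at hc; exact hc) hPab
  rw [hTP] at h12
  have hP1 : P₁ ≤ P := h12 ▸ le_sup_left
  have hP2 : P₂ ≤ P := h12 ▸ le_sup_right
  haveI := hc2
  have hP2c : ∀ b ∈ P₂, ∀ v ∈ P, Commute b v := by
    intro b hb v hv
    rw [← h12] at hv
    have hle : P₁ ⊔ P₂ ≤ Subgroup.centralizer ({b} : Set G) := sup_le
      (fun a ha => Subgroup.mem_centralizer_singleton_iff.2 (hcomm a ha b hb))
      (fun a ha => Subgroup.mem_centralizer_singleton_iff.2
        (haveI : IsMulCommutative P₂ := IsCyclic.isMulCommutative; congrArg Subtype.val (mul_comm' (⟨a, ha⟩ : P₂) ⟨b, hb⟩)))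
    exact (Subgroup.mem_centralizer_singleton_iff.1 (hle hv)).symm
  have hPP1 : P₁ = P := by
    refine le_antisymm hP1 (h12 ▸ sup_le le_rfl fun b hb => ?_)
    have h1 : ⁅P, P⁆ ≤ P₁ := by
      refine Subgroup.commutator_le.2 fun a ha a' ha' => ?_
      have hdec : ∀ v ∈ P, ∃ c ∈ P₁, ∃ d ∈ P₂, v = c * d := fun v hv => by
        rw [← h12, ← SetLike.mem_coe, Subgroup.coe_mul_of_left_le_normalizer_right P₁ P₂ (fun c hc =>
          Subgroup.centralizer_le_normalizer _ fun d hd => (hcomm c hc d hd).symm)] at hv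
        obtain ⟨c, hc, d, hd, rfl⟩ := Set.mem_mul.1 hv
        exact ⟨c, hc, d, hd, rfl⟩
      obtain ⟨c, hc, d, hd, rfl⟩ := hdec a ha
      obtain ⟨c', hc', d', hd', rfl⟩ := hdec a' ha'
      have : ⁅c * d, c' * d'⁆ = ⁅c, c'⁆ := by
        rw [commutatorElement_def, commutatorElement_def, mul_inv_rev, mul_inv_rev]
        have e1 : Commute d (c' * d') := hP2c d hd _ (P.mul_mem (hP1 hc') (hP2 hd'))
        have e2 : Commute d' c⁻¹ := hP2c d' hd' _ (P.inv_mem (hP1 hc))
        calc c * d * (c' * d') * (d⁻¹ * c⁻¹) * (d'⁻¹ * c'⁻¹)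
            = c * (d * (c' * d') * d⁻¹) * c⁻¹ * (d'⁻¹ * c'⁻¹) := by group
          _ = c * c' * (d' * c⁻¹) * d'⁻¹ * c'⁻¹ := by rw [e1.eq, mul_inv_cancel_right]; group
          _ = c * c' * c⁻¹ * c'⁻¹ := by rw [e2.eq]; group
      rw [this, commutatorElement_def]
      exact P₁.mul_mem (P₁.mul_mem (P₁.mul_mem hc hc') (P₁.inv_mem hc)) (P₁.inv_mem hc')
    exact h1 (hcstar ⟨b, hP2 hb⟩ (Subgroup.mem_center_iff.2 fun w => Subtype.ext (hP2c b hb w w.2).eq.symm))
  rw [hPP1] at hc3 he3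
  have hKdvd : Nat.card K ∣ q + 1 := by
    have := orderOf_dvd_of_cube (R := P) hc3 (fun v => by rw [← he3]; exact Monoid.pow_exponent_eq_one v) hPab hcentre hφc
    rw [hφo] at this
    exact this.resolve_left hK_not
  refine ⟨q, hp, hXcard', h.hσ, hpβ, hprime, ?_, hnab, hK1, hU, ?_⟩
  · rw [← hc3, hP, ← hcoreMap]
    exact (Nat.card_congr hcoreEq.toEquiv)
  · rw [relIndex_sigmaCore hEc]; exact hKdvd

end CfsgLib.OddLocal
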