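import Cfsg.Agent.Lib.OddLocal.FreeExponent
import Cfsg.Agent.Lib.OddLocal.PGroupFacts
import Cfsg.Agent.Lib.BG.NarrowOfElementary
import Cfsg.Agent.Lib.BG.RankTwoOperators
import Cfsg.Agent.S1422
import Cfsg.Agent.S1403

/-!
BG 15.7: facts at a point of `M_σ` with a conjugate in `M_σ` under an element outside `M`.
-/

set_option autoImplicit false
set_option linter.style.haveILetI false
set_option linter.unusedSectionVars false

open scoped commutatorElement
open scoped Pointwise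

namespace CfsgLib.OddLocal

open CfsgLib.Coprime
open CfsgLib.BG.FixedLine (conj_mem_of_le_normalizer mem_normalizer_of_conj)

universe u

variable {G : Type u} [Group G] [Finite G] {p q r : ℕ} {M E U K L Y : Subgroup G} {g x : G}

theorem normalizer_eq_self (hG : Cfsg.IsMinSimpleOddOrder G) (hM : IsCoatom M) {Z : Subgroup G} (hZ1 : Z ≠ ⊥)
    (hZM : Z ≤ M) (hMZ : M ≤ Subgroup.normalizer (Z : Set G)) : Subgroup.normalizer (Z : Set G) = M :=
  (eq_or_lt_of_le hMZ).elim Eq.symm fun hlt =>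
    absurd (hM.2 _ hlt) (normalizer_ne_top hG hZ1 fun e => hM.1 (top_le_iff.1 (e ▸ hZM)))

/-- An element and a conjugate in a normal cyclic subgroup of `M`. -/
theorem mem_of_cyclic_normal (hG : Cfsg.IsMinSimpleOddOrder G) (hM : IsCoatom M) (hLM : L ≤ M)
    (hML : M ≤ Subgroup.normalizer (L : Set G)) (hLc : IsCyclic L) (hq : q.Prime) (hx : x ∈ L)
    (hxo : orderOf x = q) (hgx : g * x * g⁻¹ ∈ L) : g ∈ M := by
  set Z := Subgroup.zpowers x
  have hZc : Nat.card Z = q := by rw [Nat.card_zpowers, hxo]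
  have hmem : ∀ {v : G}, v ∈ L → orderOf v = q → v ∈ Z := fun {v} hv hvo =>
    mem_line_of_cyclic hq hLc (Subgroup.zpowers_le.2 hx) hZc hv (hvo ▸ pow_orderOf_eq_one v)
  have hconj : ∀ (c v : G), orderOf (c * v * c⁻¹) = orderOf v := fun c v =>
    orderOf_injective (MulAut.conj c).toMonoidHom (MulAut.conj c).injective v
  have hnorm : ∀ {c : G}, c * x * c⁻¹ ∈ L → c ∈ Subgroup.normalizer (Z : Set G) := fun {c} hc =>
    mem_normalizer_of_conj fun v hv => by
      obtain ⟨i, rfl⟩ := Subgroup.mem_zpowers_iff.1 hv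
      rw [← conj_zpow]
      exact Z.zpow_mem (hmem hc ((hconj c x).trans hxo)) i
  rw [← normalizer_eq_self hG hM (Z := Z) (fun e => hq.ne_one (by rw [← hZc, e, Subgroup.card_bot])) ((Subgroup.zpowers_le.2 hx).trans hLM)
    fun m hm => hnorm (conj_mem_of_le_normalizer (hML hm) x hx)]
  exact hnorm hgx

/-- `e ^ (q - 1)` centralizes a normalized subgroup of order `q`. -/
theorem pow_sub_one_centralizes (hq : q.Prime) (hL : Nat.card L = q) {e : G}
    (he : e ∈ Subgroup.normalizer (L : Set G)) : ∀ v ∈ L, Commute (e ^ (q - 1)) v := by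
  haveI := Fact.mk hq
  haveI : IsCyclic L := isCyclic_of_prime_card (p := q) hL
  set φ := Subgroup.normalizerMonoidHom L ⟨e, he⟩
  have h1 : φ ^ (q - 1) = 1 := orderOf_dvd_iff_pow_eq_one.1 ((orderOf_dvd_natCard φ).trans (by
    rw [IsCyclic.card_mulAut L, hL, Nat.totient_prime hq]))
  intro v hv
  have h2 := congrArg Subtype.val (DFunLike.congr_fun h1 ⟨v, hv⟩)
  rw [← map_pow] at h2
  have h3 : e ^ (q - 1) * v * (e ^ (q - 1))⁻¹ = v := by simpa using h2
  exact mul_inv_eq_iff_eq_mul.1 h3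

/-- The elements of `r`-power order of a nilpotent `M_σ`. -/
theorem mem_opOf_of_nilpotent (hnil : Group.IsNilpotent (Cfsg.sigmaCore M)) (hr : r.Prime) {v : G}
    (hv : v ∈ Cfsg.sigmaCore M) {k : ℕ} (hk : v ^ r ^ k = 1) : v ∈ opOf r M :=
  mem_opOf_of_mem_fittingOf hr
    (le_fittingOf_of_le_normalizer (piCoreOf_le _ M) (le_normalizer_piCoreOf _ M) hnil hv) hk

theorem opOf_le_sigmaCore (hG : Cfsg.IsMinSimpleOddOrder G) (hM : IsCoatom M) (hr : r.Prime)
    (hσ : r ∈ Cfsg.sigma M) : opOf r M ≤ Cfsg.sigmaCore M :=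
  haveI := Fact.mk hr
  le_sigmaCore_of_isPGroup hG hM hr hσ (piCoreOf_le _ M) (isPGroup_opOf hr M)

theorem prime_sigma_of_dvd (hr : r.Prime) (hd : r ∣ Nat.card (Cfsg.sigmaCore M)) : r ∈ Cfsg.sigma M :=
  isPi_piCoreOf _ M r hr hd

/-- A subgroup is centralized as soon as the primary components of `M_σ` centralize it. -/
theorem le_centralizer_sigmaCore_of (hnil : Group.IsNilpotent (Cfsg.sigmaCore M))
    (h : ∀ r : ℕ, r.Prime → r ∣ Nat.card (Cfsg.sigmaCore M) → opOf r M ≤ Subgroup.centralizer (Y : Set G)) :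
    Cfsg.sigmaCore M ≤ Subgroup.centralizer (Y : Set G) := fun v hv =>
  mem_of_primary fun r hr hd w hw ⟨_, hk⟩ =>
    h r hr (hd.trans (Subgroup.orderOf_dvd_natCard _ hv))
      (mem_opOf_of_nilpotent hnil hr (Subgroup.zpowers_le.2 hv hw) hk)

/-- A nontrivial intersection with a conjugate of `M_σ`. -/
structure NonTIPoint (M : Subgroup G) (g x : G) (p : ℕ) : Prop where
  hG : Cfsg.IsMinSimpleOddOrder G
  hM : IsCoatom M
  nil : Group.IsNilpotent (Cfsg.sigmaCore M)
  hg : g ∉ M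
  hx : x ∈ Cfsg.sigmaCore M
  hgx : g * x * g⁻¹ ∈ Cfsg.sigmaCore M
  hp : p.Prime
  hxo : orderOf x = p

namespace NonTIPoint

theorem hx1 (h : NonTIPoint M g x p) : x ≠ 1 := fun e => h.hp.ne_one (by rw [← h.hxo, e, orderOf_one])

theorem hσ (h : NonTIPoint M g x p) : p ∈ Cfsg.sigma M := sigma_of_mem_core h.hp h.hx h.hxo

theorem mem_opOf (h : NonTIPoint M g x p) : x ∈ opOf p M :=
  mem_opOf_of_nilpotent h.nil h.hp h.hx (k := 1) (by rw [pow_one, ← h.hxo, pow_orderOf_eq_one])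

theorem not_derived (h : NonTIPoint M g x p) : x ∉ ⁅Cfsg.sigmaCore M, Cfsg.sigmaCore M⁆ := fun hd => by
  have hg' : g⁻¹ ∉ M := fun e => h.hg (inv_mem_iff.1 e)
  have hxg : x ∈ MulAut.conj g⁻¹ • M := by
    rw [mem_conj_smul_iff, inv_inv]; exact piCoreOf_le _ M h.hgx
  have := (sigmaCore_inf_conj h.hG h.hM hg').2.2
  exact h.hx1 (Subgroup.mem_bot.1 (this ▸ ⟨⟨h.hx, hxg⟩, hd⟩))

theorem not_le (h : NonTIPoint M g x p) : ¬ Subgroup.centralizer ({x} : Set G) ≤ M := fun hle => by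
  have hxg : x ∈ MulAut.conj g⁻¹ • M := by
    rw [mem_conj_smul_iff, inv_inv]; exact piCoreOf_le _ M h.hgx
  exact h.hg (inv_mem_iff.1 ((conj_smul_self_iff h.hG h.hM).1 ((exists_conj_eq h.hG h.hM h.hx h.hx1 hxg).1 hle)))

/-- No subgroup of `C_M(x)` is a uniqueness subgroup. -/
theorem not_unique (h : NonTIPoint M g x p) (hYM : Y ≤ M) (hY : Y ≤ Subgroup.centralizer ({x} : Set G)) :
    ¬ Cfsg.InUniqueMaximal Y := fun hu => by
  obtain ⟨N, hN⟩ := exists_support h.hG h.hM h.hx h.hx1 h.not_le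
  exact h.not_le (uniq_eq hu hN.hN (hY.trans hN.hle) h.hM hYM ▸ hN.hle)

theorem commutative_of_centralized (h : NonTIPoint M g x p) (hr : r.Prime) (hY : IsPGroup r Y) (hYM : Y ≤ M)
    (hYx : Y ≤ Subgroup.centralizer ({x} : Set G)) : IsMulCommutative Y := by
  haveI := Fact.mk hr
  by_contra hna
  exact h.not_unique hYM hYx (Cfsg.Agent.S1422.result h.hG r Y hY hna)

theorem rank_of_centralized (h : NonTIPoint M g x p) (hr : r.Prime) (hYM : Y ≤ M)
    (hYx : Y ≤ Subgroup.centralizer ({x} : Set G)) : Cfsg.PRankLE r 2 Y := by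
  by_contra hY
  have h2 : ¬ Cfsg.RankLE 2 Y := fun h' => hY (h' r hr)
  have h1 : ¬ Cfsg.RankLE 1 Y := fun h' => hY fun A hA hAe =>
    (h' r hr A hA hAe).trans (Nat.pow_le_pow_right hr.pos one_le_two)
  refine h.not_unique hYM hYx (Cfsg.Agent.S1403.result h.hG Y ?_ h1 (Or.inl h2))
  exact fun e => h.hM.1 (top_le_iff.1 (e ▸ hYM))

theorem opOf_centralizes (h : NonTIPoint M g x p) (hne : r ≠ p) :
    opOf r M ≤ Subgroup.centralizer ({x} : Set G) := fun w hw =>
  mem_centralizer_singleton_of_commute (commute_of_mem_centralizer h.mem_opOf (opOf_commute hne M hw))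

/-- The centralizer of `x` in `O_p(M)` is abelian of rank at most two. -/
theorem centralizer_part (h : NonTIPoint M g x p) :
    IsMulCommutative ↥(opOf p M ⊓ Subgroup.centralizer ({x} : Set G)) ∧
      Cfsg.PRankLE p 2 ↥(opOf p M ⊓ Subgroup.centralizer ({x} : Set G)) :=
  ⟨h.commutative_of_centralized h.hp ((isPGroup_opOf h.hp M).to_le inf_le_left)
      (inf_le_left.trans (piCoreOf_le _ M)) inf_le_right,
    h.rank_of_centralized h.hp (inf_le_left.trans (piCoreOf_le _ M)) inf_le_right⟩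

theorem p_ne_two (h : NonTIPoint M g x p) : p ≠ 2 := fun e =>
  Nat.not_even_iff_odd.2 h.hG.1 (even_iff_two_dvd.2 (e ▸ h.hxo ▸ orderOf_dvd_natCard x))

theorem narrow (h : NonTIPoint M g x p) : Cfsg.IsNarrow p ↥(opOf p M) := by
  haveI := Fact.mk h.hp
  set P := opOf p M
  set x' : P := ⟨x, h.mem_opOf⟩
  have hxp : x' ^ p = 1 := Subtype.ext (by simp [x', ← h.hxo, pow_orderOf_eq_one])
  refine CfsgLib.BG.isNarrow_of_centralizer_rank h.p_ne_two (isPGroup_opOf h.hp M) (E := Subgroup.zpowers x')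
    ⟨⟨⟨fun a b => mul_comm' a b⟩⟩, fun a ha => by
      obtain ⟨i, rfl⟩ := Subgroup.mem_zpowers_iff.1 ha
      rw [← zpow_natCast, ← zpow_mul, mul_comm, zpow_mul, zpow_natCast, hxp, one_zpow]⟩ ?_
  set C := Subgroup.centralizer ((Subgroup.zpowers x' : Subgroup P) : Set P)
  let f : C →* ↥(P ⊓ Subgroup.centralizer ({x} : Set G)) :=
    MonoidHom.mk' (fun c => ⟨((c : P) : G), (c : P).2, Subgroup.mem_centralizer_singleton_iff.2
      (congrArg Subtype.val (c.2 x' (Subgroup.mem_zpowers x'))).symm⟩) (fun a b => rfl)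
  exact CfsgLib.BG.prankLE_of_injective f
    (fun a b (e : f a = f b) => Subtype.ext (Subtype.ext (show ((a : P) : G) = ((b : P) : G) from congrArg (fun z : ↥(P ⊓ Subgroup.centralizer ({x} : Set G)) => (z : G)) e))) h.centralizer_part.2

/-- The derived subgroup of a complement centralizes `M_σ`. -/
theorem derived_compl_centralizes (h : NonTIPoint M g x p) (hE : Cfsg.IsComplIn E (Cfsg.sigmaCore M) M) :
    Cfsg.sigmaCore M ≤ Subgroup.centralizer ((⁅E, E⁆ : Subgroup G) : Set G) := by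
  classical
  haveI : Group.IsSolvable E := isSolvable_of_le hE.1 (isSolvable_of_ne_top h.hG h.hM.1)
  have hEodd : Odd (Nat.card E) := Odd.of_dvd_nat h.hG.1 E.card_subgroup_dvd_card
  refine le_centralizer_sigmaCore_of h.nil fun r hr hrd => Subgroup.le_centralizer_iff.1 ?_
  haveI := Fact.mk hr
  have hrσ := prime_sigma_of_dvd hr hrd
  set T := opOf r M with hT
  have hTp := isPGroup_opOf hr M
  have hET : E ≤ Subgroup.normalizer (T : Set G) := hE.1.trans (le_normalizer_piCoreOf _ M)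
  set f := (Subgroup.normalizerMonoidHom T).comp (Subgroup.inclusion hET) with hf
  have hr2 : r ≠ 2 := fun e => Nat.not_even_iff_odd.2 h.hG.1 (even_iff_two_dvd.2
    (e ▸ hrd.trans (Subgroup.card_subgroup_dvd_card _)))
  have hact : ∀ a ∈ commutator E, ∃ k : ℕ, f a ^ r ^ k = 1 := by
    intro a ha
    by_cases hrk : Cfsg.PRankLE r 2 T
    · exact CfsgLib.BG.derived_acts_as_pElement hr2 hTp hrk inferInstance hEodd f ha
    obtain rfl : r = p := by
      by_contra hne
      exact hrk (h.rank_of_centralized hr (piCoreOf_le _ M) (h.opOf_centralizes hne))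
    exact (CfsgLib.BG.narrow_auto hr2 hTp h.narrow hrk f a).2 ha
  intro d hd w hw
  rw [← CfsgLib.BG.map_commutator_subtype] at hd
  obtain ⟨a, ha, rfl⟩ := hd
  obtain ⟨k, hk⟩ := hact a ha
  have hco : (orderOf (f a)).Coprime r := ((hr.coprime_iff_not_dvd.2 fun hd' =>
    not_sigma_of_dvd_compl h.hG h.hM hE hr hd' hrσ).symm).coprime_dvd_left
      ((orderOf_map_dvd f a).trans (orderOf_dvd_natCard a))
  have hfa : f a = 1 := orderOf_eq_one_iff.1 (Nat.eq_one_of_dvd_coprimes (hco.pow_right k) dvd_rfl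
    (orderOf_dvd_of_pow_eq_one hk))
  have h2 := congrArg Subtype.val (DFunLike.congr_fun hfa ⟨w, hw⟩)
  have h3 : (a : G) * w * (a : G)⁻¹ = w := by simpa [hf] using h2
  exact (mul_inv_eq_iff_eq_mul.1 h3).symm

/-- BG 15.7 (b): `M' ≤ F(M)`. -/
theorem derived_le_fitting (h : NonTIPoint M g x p) : ⁅M, M⁆ ≤ Cfsg.fittingOf M := by
  classical
  obtain ⟨E, hE⟩ := exists_compl h.hG h.hM
  set S := Cfsg.sigmaCore M
  set F := Cfsg.fittingOf M with hF
  have hSF : S ≤ F := le_fittingOf_of_le_normalizer (piCoreOf_le _ M) (le_normalizer_piCoreOf _ M) h.nil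
  have hDE : ⁅E, E⁆ ≤ E := Subgroup.commutator_le.2 fun a ha b hb => by
    rw [commutatorElement_def]; exact E.mul_mem (E.mul_mem (E.mul_mem ha hb) (E.inv_mem ha)) (E.inv_mem hb)
  have hED : E ≤ Subgroup.normalizer ((⁅E, E⁆ : Subgroup G) : Set G) :=
    le_normalizer_commutator Subgroup.le_normalizer Subgroup.le_normalizer
  have hMD : M ≤ Subgroup.normalizer ((⁅E, E⁆ : Subgroup G) : Set G) := fun m hm => by
    obtain ⟨a, ha, b, hb, rfl⟩ := hE.2.2.2 m hm
    exact mul_mem (hED ha) (Subgroup.centralizer_le_normalizer _ (h.derived_compl_centralizes hE hb))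
  have hDF : ⁅E, E⁆ ≤ F := le_fittingOf_of_le_normalizer (hDE.trans hE.1) hMD
    (nilpotent_of_comm (Cfsg.Agent.S1420.result h.hG M h.hM E hE).2.1)
  haveI hn : (F.subgroupOf M).Normal :=
    (Subgroup.normal_subgroupOf_iff_le_normalizer (fittingOf_le M)).2 (le_normalizer_fittingOf M)
  set π := QuotientGroup.mk' (F.subgroupOf M) with hπ
  refine Subgroup.commutator_le.2 fun m hm m' hm' => ?_
  obtain ⟨a, ha, b, hb, rfl⟩ := hE.2.2.2 m hm
  obtain ⟨a', ha', b', hb', rfl⟩ := hE.2.2.2 m' hm'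
  have hS1 : ∀ c (hc : c ∈ S), π ⟨c, piCoreOf_le _ M hc⟩ = 1 := fun c hc => (QuotientGroup.eq_one_iff _).2 (hSF hc)
  have hE1 : π ⁅(⟨a, hE.1 ha⟩ : M), ⟨a', hE.1 ha'⟩⁆ = 1 := by
    refine (QuotientGroup.eq_one_iff _).2 ?_
    show ⁅a, a'⁆ ∈ F
    exact hDF (Subgroup.commutator_mem_commutator ha ha')
  have h1 : π ⁅(⟨a, hE.1 ha⟩ : M) * ⟨b, piCoreOf_le _ M hb⟩, ⟨a', hE.1 ha'⟩ * ⟨b', piCoreOf_le _ M hb'⟩⁆ = 1 := by
    rw [map_commutatorElement, map_mul, map_mul, hS1 b hb, hS1 b' hb', mul_one, mul_one, ← map_commutatorElement, hE1]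
  have h4 := (QuotientGroup.eq_one_iff _).1 h1
  exact h4

end NonTIPoint

end CfsgLib.OddLocal
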