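import Cfsg.Agent.Lib.OddLocal.SigmaHall
import Cfsg.Agent.Lib.BG.PLengthHall.Main
import Cfsg.Agent.Lib.BG.PLengthOne
import Cfsg.Agent.S1407
import Cfsg.Agent.S1450
import Cfsg.Agent.S1459

/-!
BG 10.10: every proper subgroup has `p`-length one.
-/

set_option autoImplicit false
set_option linter.style.haveILetI false
set_option linter.unusedSectionVars false

open scoped commutatorElement
open scoped Pointwise

namespace CfsgLib.OddLocal

open CfsgLib.Coprime

universe u

variable {G : Type u} [Group G] [Finite G]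

theorem pLengthLE_one_of_prankLE_two {K : Type u} [Group K] [Finite K] [Group.IsSolvable K] (hodd : Odd (Nat.card K))
    {p : ℕ} [Fact p.Prime] (hr : Cfsg.PRankLE p 2 K) : Cfsg.PLengthLE p 1 K := by
  by_cases hp : p ∣ Nat.card K
  swap
  · exact CfsgLib.BG.PLengthHall.pLengthLE_one_of_not_dvd fun hd => hp (hd.trans (Subgroup.index_dvd_card _))
  obtain ⟨-, -, -, -, -, h⟩ := Cfsg.Agent.S1450.result hodd p hp hr
  haveI := CfsgLib.Transfer.pPrimeCore_normal p K
  refine CfsgLib.BG.PLengthHall.pLengthLE_one_of_surjective (QuotientGroup.mk' (Cfsg.pPrimeCore p K))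
    (QuotientGroup.mk'_surjective _) ?_ (CfsgLib.BG.PLengthHall.pLengthLE_one_of_not_dvd ?_)
  · rw [QuotientGroup.ker_mk']; exact CfsgLib.Transfer.pPrimeCore_coprime p
  · rw [Cfsg.pPrimePCore, Subgroup.index_comap_of_surjective _ (QuotientGroup.mk'_surjective _)] at h
    exact (Fact.out : p.Prime).coprime_iff_not_dvd.1 h.symm

variable {M : Subgroup G}

theorem exists_not_mem_sigma (hG : Cfsg.IsMinSimpleOddOrder G) (hM : IsCoatom M) (hM1 : M ≠ ⊥) :
    ∃ q : ℕ, q.Prime ∧ q ∣ Nat.card M ∧ q ∉ Cfsg.sigma M := by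
  by_contra hne
  push Not at hne
  have hsol := isSolvable_of_ne_top hG hM.1
  haveI := hsol
  have hle : M ≤ ⁅M, M⁆ := by
    refine le_of_eq (Subgroup.eq_of_le_of_card_ge (commutator_le_left_of_le_normalizer Subgroup.le_normalizer) ?_).symm
    refine Nat.le_of_dvd Nat.card_pos (Nat.dvd_iff_prime_pow_dvd_dvd _ _ |>.2 fun q k hq hd => ?_)
    haveI := Fact.mk hq
    rcases Nat.eq_zero_or_pos k with rfl | hk
    · simp
    have hqM : q ∣ Nat.card M := (dvd_pow_self q hk.ne').trans hd
    obtain ⟨P⟩ : Nonempty (Sylow q M) := inferInstance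
    have hP := le_derived_of_sigma hG hM (hne q hq hqM) (P.2.map M.subtype) (Subgroup.map_subtype_le _)
    refine ((P.pow_dvd_card_of_pow_dvd_card hd).trans ?_)
    rw [← Subgroup.card_subtype M (P : Subgroup M)]
    exact Subgroup.card_dvd_of_le hP
  haveI : Nontrivial M := (Subgroup.nontrivial_iff_ne_bot M).2 hM1
  have hlt := Group.IsSolvable.commutator_lt_top_of_nontrivial M
  refine hlt.ne (eq_top_iff.2 fun m _ => ?_)
  have h2 := hle m.2
  rw [show ⁅M, M⁆ = (commutator M).map M.subtype by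
    rw [commutator_def, Subgroup.map_commutator, ← MonoidHom.range_eq_map, Subgroup.range_subtype]] at h2
  obtain ⟨m', hm', e⟩ := h2
  exact Subtype.ext (show (m' : G) = (m : G) from e) ▸ hm'

/-- The maximal subgroup case of BG 10.10. -/
theorem pLengthLE_one_of_alpha (hG : Cfsg.IsMinSimpleOddOrder G) (hM : IsCoatom M) {p : ℕ} [Fact p.Prime]
    (hpα : p ∈ Cfsg.alpha M) : Cfsg.PLengthLE p 1 ↥M := by
  classical
  have hsol := isSolvable_of_ne_top hG hM.1
  haveI := hsol
  have hpM : p ∣ Nat.card M := (mem_sigma_of_mem_alpha hG hM hpα).2.1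
  have hM1 : M ≠ ⊥ := ne_bot_of_dvd Fact.out hpM
  obtain ⟨q, hq, hqM, hqσ⟩ := exists_not_mem_sigma hG hM hM1
  haveI := Fact.mk hq
  set N := Cfsg.piCore (Cfsg.alpha M) ↥M with hN
  have hNidx : ∀ r : ℕ, r.Prime → r ∈ Cfsg.alpha M → ¬ r ∣ N.index := fun r hr hra =>
    not_dvd_index_alpha hG hM hr hra
  have hNpi : ∀ r : ℕ, r.Prime → r ∣ Nat.card N → r ∈ Cfsg.alpha M := Cfsg.Agent.S1886.piCore_isPi _
  have hcop : (Nat.card N).Coprime N.index :=
    Nat.coprime_of_dvd fun r hr h1 h2 => hNidx r hr (hNpi r hr h1) h2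
  have hα1 : Cfsg.alphaCore M ≠ ⊥ := fun e => hNidx p Fact.out hpα (by
    rw [Cfsg.alphaCore, Subgroup.map_eq_bot_iff_of_injective _ M.subtype_injective] at e
    rw [hN, e, Subgroup.index_bot]; exact hpM)
  obtain ⟨P⟩ : Nonempty (Sylow q M) := inferInstance
  obtain ⟨x, hxP, hxo, hxZ, -⟩ := Cfsg.Agent.S1407.result hG M hM hα1 q hqM hqσ P
  have hxM : x ∈ M := Subgroup.map_subtype_le _ hxP
  set x' : M := ⟨x, hxM⟩
  have hx'o : orderOf x' = q := by rw [← Subgroup.orderOf_coe]; exact hxo
  obtain ⟨R, hR⟩ := Subgroup.exists_right_complement'_of_coprime hcop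
  have hRcard : Nat.card R = N.index := (hR.symm.index_eq_card).symm
  have hqN : ¬ q ∣ Nat.card N := fun hd => hqσ (alpha_subset_sigma hG hM (hNpi q hq hd))
  -- a complement containing `x`
  obtain ⟨R', hR'x, hR'cop, hR'⟩ : ∃ R' : Subgroup M, x' ∈ R' ∧ (Nat.card N).Coprime (Nat.card R') ∧
      N.IsComplement' R' := by
    have hcR : (Nat.card N).Coprime (Nat.card R) := hRcard ▸ hcop
    set X := Subgroup.zpowers x'
    have hXN : X ≤ Subgroup.normalizer (N : Set M) := Subgroup.le_normalizer_of_normal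
    set B := R ⊓ (N ⊔ X)
    have hBcop : (Nat.card N).Coprime (Nat.card B) := hcR.coprime_dvd_right (Subgroup.card_dvd_of_le inf_le_left)
    have hXcop : (Nat.card N).Coprime (Nat.card X) := by
      rw [Nat.card_zpowers, hx'o]
      exact (hq.coprime_iff_not_dvd.2 hqN).symm
    have hsup : N ⊔ B = N ⊔ X := by
      refine le_antisymm (sup_le le_sup_left inf_le_right) (sup_le le_sup_left fun w hw => ?_)
      have hwN : w ∈ (N ⊔ R : Subgroup M) := hR.sup_eq_top ▸ Subgroup.mem_top w
      rw [← SetLike.mem_coe, Subgroup.normal_mul, Set.mem_mul] at hwN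
      obtain ⟨n, hn, r, hr, rfl⟩ := hwN
      refine mul_mem (Subgroup.mem_sup_left hn) (Subgroup.mem_sup_right ⟨hr, ?_⟩)
      have := mul_mem (inv_mem (Subgroup.mem_sup_left (T := X) hn)) (Subgroup.mem_sup_right (S := N) hw)
      rwa [inv_mul_cancel_left] at this
    obtain ⟨n, hn, hnB⟩ := exists_conj_of_coprime (Subgroup.le_normalizer_of_normal) hBcop hXcop hsup
      (Or.inl inferInstance)
    refine ⟨MulAut.conj n • R, ?_, by rw [card_conj_smul]; exact hcR, ?_⟩
    · have hx2 : x' ∈ MulAut.conj n • B := hnB.symm ▸ Subgroup.mem_zpowers x'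
      rw [mem_conj_smul_iff] at hx2 ⊢
      exact hx2.1
    · refine Subgroup.isComplement'_of_coprime ?_ (by rw [card_conj_smul]; exact hcR)
      rw [card_conj_smul, hRcard]
      exact N.card_mul_index
  have hNM' : N ≤ commutator M := by
    refine fun n hn => ?_
    have key : N.map M.subtype ≤ ⁅M, M⁆ := by
      intro y hy
      rw [← Subgroup.zpowers_le]
      refine fun z hz => ?_
      obtain ⟨i, rfl⟩ := Subgroup.mem_zpowers_iff.1 hz
      refine Subgroup.zpow_mem _ ?_ i
      obtain ⟨n', hn', rfl⟩ := hy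
      -- `N` is generated by its Sylow subgroups
      have hle : N ≤ ⁅M, M⁆.subgroupOf M := by
        refine fun w hw => ?_
        have : (⊤ : Subgroup N) ≤ (⁅M, M⁆.subgroupOf M).subgroupOf N := by
          refine le_of_eq (Subgroup.eq_top_of_card_eq _ ?_).symm
          refine Nat.dvd_antisymm (Subgroup.card_subgroup_dvd_card _)
            (Nat.dvd_iff_prime_pow_dvd_dvd _ _ |>.2 fun r k hr hd => ?_)
          haveI := Fact.mk hr
          rcases Nat.eq_zero_or_pos k with rfl | hk
          · simp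
          have hrN : r ∣ Nat.card N := (dvd_pow_self r hk.ne').trans hd
          obtain ⟨S⟩ : Nonempty (Sylow r N) := inferInstance
          refine (S.pow_dvd_card_of_pow_dvd_card hd).trans (Subgroup.card_dvd_of_le fun s hs => ?_)
          exact le_derived_of_sigma hG hM (alpha_subset_sigma hG hM (hNpi r hr hrN))
            ((S.2.map N.subtype).map M.subtype) (Subgroup.map_subtype_le _) ⟨_, ⟨s, hs, rfl⟩, rfl⟩
        exact this (Subgroup.mem_top ⟨w, hw⟩)
      exact hle hn'
    have := key ⟨n, hn, rfl⟩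
    rw [show ⁅M, M⁆ = (commutator M).map M.subtype by
      rw [commutator_def, Subgroup.map_commutator, ← MonoidHom.range_eq_map, Subgroup.range_subtype]] at this
    exact (Subgroup.mem_map_iff_mem M.subtype_injective).1 this
  have hcomm := ((Cfsg.Agent.S1459.result (G := M)).1 N R' inferInstance hcop hR' hNM').1
  have hyp : CfsgLib.BG.PLengthHall.Hyp N R' (Subgroup.zpowers x') := by
    refine ⟨Odd.of_dvd_nat hG.1 M.card_subgroup_dvd_card, inferInstance, Subgroup.le_normalizer_of_normal, hR'cop,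
      Subgroup.zpowers_le.2 hR'x, by rw [Nat.card_zpowers, hx'o]; exact hq, ?_⟩
    haveI := hxZ
    let i : ↥(N ⊓ Subgroup.centralizer ((Subgroup.zpowers x' : Subgroup M) : Set M)) →*
        ↥(Cfsg.alphaCore M ⊓ Subgroup.centralizer ({x} : Set G)) :=
      { toFun := fun w => ⟨((w : M) : G), ⟨(w : M), w.2.1, rfl⟩, fun y hy => by
          rw [Set.mem_singleton_iff] at hy
          rw [hy]
          exact congrArg Subtype.val (w.2.2 x' (Subgroup.mem_zpowers x'))⟩
        map_one' := rfl
        map_mul' := fun _ _ => rfl }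
    exact IsZGroup.of_injective (f := i) fun a b e => Subtype.ext (Subtype.ext
      (congrArg (fun w : ↥(Cfsg.alphaCore M ⊓ Subgroup.centralizer ({x} : Set G)) => (w : G)) e))
  have h := CfsgLib.BG.PLengthHall.pLengthLE_one (p := p) Fact.out hyp
  rw [← hcomm] at h
  exact CfsgLib.BG.PLengthOne.of_normal (fun hd => hNidx p Fact.out hpα hd) h

/-- BG 10.10. -/
theorem pLengthLE_one_of_ne_top (hG : Cfsg.IsMinSimpleOddOrder G) (p : ℕ) [Fact p.Prime] {H : Subgroup G}
    (hH : H ≠ ⊤) : Cfsg.PLengthLE p 1 ↥H := by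
  haveI := isSolvable_of_ne_top hG hH
  by_cases hr : Cfsg.PRankLE p 2 H
  · exact pLengthLE_one_of_prankLE_two (Odd.of_dvd_nat hG.1 H.card_subgroup_dvd_card) hr
  obtain ⟨M, hM, hHM⟩ := (eq_top_or_exists_le_coatom H).resolve_left hH
  exact CfsgLib.BG.PLengthOne.of_injective (Subgroup.inclusion hHM) (Subgroup.inclusion_injective hHM)
    (pLengthLE_one_of_alpha hG hM ⟨Fact.out, fun h => hr (prankLE_mono hHM h)⟩)

end CfsgLib.OddLocal
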