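import Cfsg.Agent.Lib.OddLocal.TauThreeFixed

/-!
BG 13.8, 13.9: the sets `σ(M)` of nonconjugate maximal subgroups are disjoint.
-/

set_option autoImplicit false
set_option linter.style.haveILetI false
set_option linter.unusedSectionVars false

open scoped commutatorElement
open scoped Pointwise

namespace CfsgLib.OddLocal

open CfsgLib.Coprime
open CfsgLib.BG.FixedLine (conj_mem_of_le_normalizer mem_normalizer_of_conj)

universe u

variable {G : Type u} [Group G] [Finite G] {p q s t t' : ℕ} {M L E : Subgroup G}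

/-- A `τ₁`-line in both of two maximal subgroups with fixed points on both cores: commuting fixed elements
inside the complement. -/
theorem common_partner (hG : Cfsg.IsMinSimpleOddOrder G) (hM : IsCoatom M) (hL : IsCoatom L)
    (hconj : ∀ g : G, L ≠ MulAut.conj g • M) (hE : Cfsg.IsComplIn E (Cfsg.sigmaCore M) M) (hEL : E ≤ L)
    (hs1 : s ∈ Cfsg.tau1 M) (hsL : s ∈ Cfsg.tau1 L) {a : G} (haE : a ∈ E) (hao : orderOf a = s) {u x : G}
    (ht : t.Prime) (huK : u ∈ Cfsg.sigmaCore M) (huo : orderOf u = t) (hua : Commute a u)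
    (ht' : t'.Prime) (hxK : x ∈ Cfsg.sigmaCore L) (hxo : orderOf x = t') (hxa : Commute a x) :
    ∃ x₃ u₃ : G, t' ∉ Cfsg.sigma M ∧ x₃ ∈ E ∧ x₃ ∈ Cfsg.sigmaCore L ∧ orderOf x₃ = t' ∧ u₃ ∈ Cfsg.sigmaCore M ∧
      u₃ ∈ L ∧ orderOf u₃ = t ∧ Commute a x₃ ∧ Commute a u₃ ∧ Commute x₃ u₃ := by
  classical
  have hs : s.Prime := hs1.1
  haveI := Fact.mk hs
  obtain ⟨hAc, hAp, ha1⟩ := zpowers_line hs hao
  have haL : a ∈ L := hEL haE
  have haM : a ∈ M := hE.1 haE
  -- the common partner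
  have hsone : a ^ s = 1 := by rw [← hao, pow_orderOf_eq_one]
  obtain ⟨L₁, hL₁, hNL₁⟩ := (eq_top_or_exists_le_coatom _).resolve_left
    (normalizer_ne_top hG (line_ne_bot hs hAc) fun e' => hM.1 (top_unique (e'.ge.trans (Subgroup.zpowers_le.2 haM))))
  obtain ⟨hu1, htσ, htτ⟩ := partner_kappa_elem hG hM hs1 haM hao ht huK huo hua hL₁ hNL₁
  obtain ⟨hx1, ht'σ, ht'τ⟩ := partner_kappa_elem hG hL hsL haL hao ht' hxK hxo hxa hL₁ hNL₁
  set D := Subgroup.centralizer ({a} : Set G) with hD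
  have hDL : D ≤ L₁ := by
    rw [hD, ← centralizer_zpowers_eq]; exact (Subgroup.centralizer_le_normalizer _).trans hNL₁
  haveI : Group.IsSolvable D :=
    haveI := isSolvable_of_ne_top hG hL₁.1; isSolvable_of_le hDL inferInstance
  obtain ⟨H, hH, hxH⟩ := exists_hallOf_ge (π := {r | r ∉ Cfsg.sigma L₁}) (X := D)
    (Subgroup.zpowers_le.2 (mem_centralizer_singleton_of_commute hxa)) (isPi_zpowers fun r hr hd => by
      rw [hxo] at hd; exact (Nat.prime_dvd_prime_iff_eq hr ht').1 hd ▸ ht'σ)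
  obtain ⟨d, hd, hdH⟩ : ∃ d ∈ D, d * u * d⁻¹ ∈ H := by
    have huD : u ∈ D := mem_centralizer_singleton_of_commute hua
    obtain ⟨c, hc⟩ := CfsgLib.BG.exists_conj_le_piHall (G := ↥D) (π := {r | r ∉ Cfsg.sigma L₁})
      (H := H.subgroupOf D) (K := (Subgroup.zpowers u).subgroupOf D) ⟨fun r hr hd => hH.2.1 r hr (by
        rwa [Nat.card_congr (Subgroup.subgroupOfEquivOfLe hH.1).toEquiv] at hd), hH.2.2⟩ fun r hr hd => by
      rw [Nat.card_congr (Subgroup.subgroupOfEquivOfLe (Subgroup.zpowers_le.2 huD)).toEquiv, Nat.card_zpowers,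
        huo] at hd
      exact (Nat.prime_dvd_prime_iff_eq hr ht).1 hd ▸ htσ
    have h1 : (⟨u, huD⟩ : D) ∈ MulAut.conj c • H.subgroupOf D := hc (Subgroup.mem_zpowers u)
    rw [mem_conj_smul_iff] at h1
    exact ⟨(c : G)⁻¹, inv_mem c.2, by rw [inv_inv]; exact h1⟩
  have hHL : H ≤ L₁ := hH.1.trans hDL
  obtain ⟨d, hd, hcase⟩ : ∃ d ∈ D,
      d * u * d⁻¹ ∈ Subgroup.normalizer ((Subgroup.zpowers x : Subgroup G) : Set G) ∨
        x ∈ Subgroup.normalizer ((Subgroup.zpowers (d * u * d⁻¹) : Subgroup G) : Set G) := by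
    have hdo : orderOf (d * u * d⁻¹) = t := by rw [← huo]; exact (orderOf_injective (MulAut.conj d).toMonoidHom
      (MulAut.conj d).injective u)
    have hxH' : x ∈ H := hxH (Subgroup.mem_zpowers x)
    rcases htτ with h1 | h3
    · rcases ht'τ with h1' | h3'
      · obtain ⟨c, hc, hcc⟩ := tau1_commute hG hL₁ hHL hdH hxH'
          (fun r hr hd => by rw [hdo] at hd; exact (Nat.prime_dvd_prime_iff_eq hr ht).1 hd ▸ h1)
          (fun r hr hd => by rw [hxo] at hd; exact (Nat.prime_dvd_prime_iff_eq hr ht').1 hd ▸ h1')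
        refine ⟨c * d, mul_mem (hH.1 hc) hd, Or.inl (Subgroup.centralizer_le_normalizer _ ?_)⟩
        rw [centralizer_zpowers_eq]
        refine mem_centralizer_singleton_of_commute ?_
        rw [show c * d * u * (c * d)⁻¹ = c * (d * u * d⁻¹) * c⁻¹ by group]
        exact hcc.symm
      · exact ⟨d, hd, Or.inl (tau3_normalized hG hL₁ hHL hH.2.1 hxH' (hxo.symm ▸ h3') hdH)⟩
    · exact ⟨d, hd, Or.inr (tau3_normalized hG hL₁ hHL hH.2.1 hdH (hdo.symm ▸ h3) hxH')⟩
  set M' := MulAut.conj d • M with hM'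
  have hM'co : IsCoatom M' := ((MulAut.conj d).mapSubgroup).isCoatom_iff _ |>.2 hM
  have huu := uniq_of_fixed_elem hG hM hs1 haM hao ht huK huo hua
  have hu' : Subgroup.centralizer ({d * u * d⁻¹} : Set G) ≤ M' ∧
      ∀ L' : Subgroup G, IsCoatom L' → Subgroup.centralizer ({d * u * d⁻¹} : Set G) ≤ L' → L' = M' := by
    rw [conj_centralizer_elem]
    refine ⟨conj_le_conj.2 huu.1, fun L' hL' hle => ?_⟩
    have h2 := huu.2 _ (((MulAut.conj d⁻¹).mapSubgroup).isCoatom_iff _ |>.2 hL') (by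
      have := (conj_le_conj (c := d⁻¹)).2 hle
      rwa [← mul_smul, ← map_mul, inv_mul_cancel, map_one, one_smul] at this)
    rw [hM', ← h2]
    show L' = MulAut.conj d • MulAut.conj d⁻¹ • L'
    rw [← mul_smul, ← map_mul, mul_inv_cancel, map_one, one_smul]
  have hda : Commute a d := commute_of_mem_centralizer_singleton hd
  have hu'a : Commute a (d * u * d⁻¹) := (hda.mul_right hua).mul_right hda.inv_right
  have hxM' : x ∈ M' := by
    rcases hcase with hux | hxu
    · have hu'L : d * u * d⁻¹ ∈ L := normalizer_le_of_uniq_elem hG hL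
        (uniq_of_fixed_elem hG hL hsL haL hao ht' hxK hxo hxa) hux
      have hdo : orderOf (d * u * d⁻¹) = t := by rw [← huo]; exact (orderOf_injective (MulAut.conj d).toMonoidHom
        (MulAut.conj d).injective u)
      by_cases htL : t ∈ Cfsg.sigma L
      · have h1 := uniq_of_fixed_elem hG hL hsL haL hao ht (sigma_mem_of_elem hG hL ht htL hu'L (k := 1)
          (by rw [pow_one, ← hdo, pow_orderOf_eq_one])) hdo hu'a
        exact absurd (hu'.2 L hL h1.1) (hconj d)
      · exact hu'.1 (centralizer_le_of_commute hG hL hsL haL hao hu'L ht hdo htL hu'a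
          ⟨hxK, mem_centralizer_singleton_of_commute hxa⟩)
    · exact normalizer_le_of_uniq_elem hG hM'co hu' hxu
  rw [hM', mem_conj_smul_iff] at hxM'
  set x₁ := d⁻¹ * x * d with hx₁
  have hx₁o : orderOf x₁ = t' := by
    rw [← hxo, show x₁ = MulAut.conj d⁻¹ x by simp [hx₁, MulAut.conj_apply]]
    exact orderOf_injective (MulAut.conj d⁻¹).toMonoidHom (MulAut.conj d⁻¹).injective x
  have hx₁a : Commute a x₁ := (hda.inv_right.mul_right hxa).mul_right hda
  have ht'M : t' ∉ Cfsg.sigma M := fun hσ => by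
    have h1 := uniq_of_fixed_elem hG hM hs1 haM hao ht' (sigma_mem_of_elem hG hM ht' hσ hxM' (k := 1)
      (by rw [pow_one, ← hx₁o, pow_orderOf_eq_one])) hx₁o hx₁a
    have h2 := uniq_of_fixed_elem hG hL hsL haL hao ht' hxK hxo hxa
    have e1 : Subgroup.centralizer ({x} : Set G) = MulAut.conj d • Subgroup.centralizer ({x₁} : Set G) := by
      rw [← conj_centralizer_elem, show d * x₁ * d⁻¹ = x by rw [hx₁]; group]
    exact hconj d (h2.2 M' hM'co (e1.le.trans (conj_le_conj.2 h1.1))).symm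
  have hux : Commute x₁ u := commute_of_mem_centralizer_singleton (centralizer_le_of_commute hG hM hs1 haM hao
    hxM' ht' hx₁o ht'M hx₁a ⟨huK, mem_centralizer_singleton_of_commute hua⟩)
  -- move into `E`
  obtain ⟨F, hF, haF, hxF⟩ := exists_compl_pair hG hM haM hxM' hx₁a
    (fun r hr hd => by rw [hao] at hd; exact (Nat.prime_dvd_prime_iff_eq hr hs).1 hd ▸ hs1.2.1)
    (fun r hr hd => by rw [hx₁o] at hd; exact (Nat.prime_dvd_prime_iff_eq hr ht').1 hd ▸ ht'M)
  obtain ⟨m, hm, hmF⟩ := exists_conj_le_compl hG hM hE hF.1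
    (fun r hr hd => not_sigma_of_dvd_compl hG hM hF hr hd)
  obtain ⟨c₀, hc₀, hce⟩ := line_conj hG hs (prankLE_compl hE hs1.2.2.2.2) (Subgroup.zpowers_le.2 haE) hAc
    (P' := MulAut.conj m • Subgroup.zpowers a) (le_trans (conj_le_conj.2 (Subgroup.zpowers_le.2 haF)) hmF)
    (by rw [card_conj_smul, hAc])
  rw [← mul_smul, ← map_mul] at hce
  set c := c₀ * m with hc
  have hcM : c ∈ M := mul_mem (hE.1 hc₀) hm
  have hxE : c * x₁ * c⁻¹ ∈ E := by
    have h1 : m * x₁ * m⁻¹ ∈ E := hmF (by rw [mem_conj_smul_iff]; simpa [mul_assoc] using hxF)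
    have := E.mul_mem (E.mul_mem hc₀ h1) (E.inv_mem hc₀)
    simpa [hc, mul_assoc] using this
  have hxo₃ : orderOf (c * x₁ * c⁻¹) = t' := by
    rw [← hx₁o]; exact orderOf_injective (MulAut.conj c).toMonoidHom (MulAut.conj c).injective x₁
  have huo₃ : orderOf (c * u * c⁻¹) = t := by
    rw [← huo]; exact orderOf_injective (MulAut.conj c).toMonoidHom (MulAut.conj c).injective u
  have hcz : ∀ w : G, Commute a w → Commute a (c * w * c⁻¹) := fun w hw => by
    have h1 : a ∈ MulAut.conj c • Subgroup.zpowers a := hce.symm ▸ Subgroup.mem_zpowers a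
    rw [mem_conj_smul_iff] at h1
    obtain ⟨i, hi⟩ := Subgroup.mem_zpowers_iff.1 h1
    have h2 : Commute (c * a ^ i * c⁻¹) (c * w * c⁻¹) := by
      show _ = _
      simpa [mul_assoc] using congrArg (fun v => c * v * c⁻¹) (hw.zpow_left i).eq
    rw [hi] at h2
    simpa [mul_assoc] using h2
  have hxK₃ : c * x₁ * c⁻¹ ∈ Cfsg.sigmaCore L := sigma_mem_of_elem hG hL ht' (sigma_of_mem_core ht' hxK hxo)
    (hEL hxE) (k := 1) (by rw [pow_one, ← hxo₃, pow_orderOf_eq_one])
  have huK₃ : c * u * c⁻¹ ∈ Cfsg.sigmaCore M :=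
    conj_mem_of_le_normalizer (le_normalizer_piCoreOf _ M hcM) u huK
  have huL : c * u * c⁻¹ ∈ L := (uniq_of_fixed_elem hG hL hsL haL hao ht' hxK₃ hxo₃ (hcz _ hx₁a)).1
    (mem_centralizer_singleton_of_commute (by
      show _ = _
      simpa [mul_assoc] using congrArg (fun v => c * v * c⁻¹) hux.eq))
  exact ⟨c * x₁ * c⁻¹, c * u * c⁻¹, ht'M, hxE, hxK₃, hxo₃, huK₃, huL, huo₃, hcz _ hx₁a, hcz _ hua, by
    show _ = _
    simpa [mul_assoc] using congrArg (fun v => c * v * c⁻¹) hux.eq⟩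

/-- The Sylow subgroup of a `σ`-prime gives a complement in its normalizer. -/
theorem exists_compl_normalizing (hG : Cfsg.IsMinSimpleOddOrder G) (hM : IsCoatom M) [Fact q.Prime]
    (hq : q ∈ Cfsg.sigma M) : ∃ (E : Subgroup G) (T : Sylow q G), Cfsg.IsComplIn E (Cfsg.sigmaCore M) M ∧
      (T : Subgroup G) ≤ M ∧ E ≤ Subgroup.normalizer ((T : Subgroup G) : Set G) := by
  obtain ⟨E, hE⟩ := exists_compl hG hM
  have hKs : Group.IsSolvable (Cfsg.sigmaCore M) :=
    haveI := isSolvable_of_ne_top hG hM.1; isSolvable_of_le (piCoreOf_le _ M) inferInstance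
  obtain ⟨S, hS⟩ := exists_invariant_sylow (hE.1.trans (le_normalizer_piCoreOf _ M))
    (Nat.coprime_of_dvd fun r hr h1 h2 => not_sigma_of_dvd_compl hG hM hE hr h1 (isPi_piCoreOf _ M r hr h2))
    (Or.inr hKs) q
  obtain ⟨T, hT, hTM⟩ := exists_sylow_sigmaCore hG hM hq S
  exact ⟨E, T, hE, hTM, hT ▸ hS⟩

/-- A conjugate of a maximal subgroup contains a given Sylow subgroup. -/
theorem exists_conj_ge_sylow (hL : IsCoatom L) [Fact q.Prime] (hq : q ∈ Cfsg.sigma L) (T : Sylow q G) :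
    ∃ g : G, IsCoatom (MulAut.conj g • L) ∧ (T : Subgroup G) ≤ MulAut.conj g • L ∧
      q ∈ Cfsg.sigma (MulAut.conj g • L) := by
  obtain ⟨g, hg⟩ := exists_conj_sylow_normalizer hq T
  refine ⟨g, ((MulAut.conj g).mapSubgroup).isCoatom_iff _ |>.2 hL, Subgroup.le_normalizer.trans hg,
    sigma_of_conj (g := g⁻¹) ?_⟩
  rwa [← mul_smul, ← map_mul, inv_mul_cancel, map_one, one_smul]

/-- BG 13.9: nonconjugate maximal subgroups have disjoint sets `σ`. -/
theorem sigma_disjoint (hG : Cfsg.IsMinSimpleOddOrder G) (hM : IsCoatom M) (hL : IsCoatom L)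
    (hqM : q ∈ Cfsg.sigma M) (hqL : q ∈ Cfsg.sigma L) : ∃ g : G, L = MulAut.conj g • M := by
  classical
  by_contra hcon
  push Not at hcon
  have hq : q.Prime := hqM.1
  haveI := Fact.mk hq
  obtain ⟨E, T, hE, hTM, hET⟩ := exists_compl_normalizing hG hM hqM
  obtain ⟨g, hL', hTL, hqL'⟩ := exists_conj_ge_sylow hL hqL T
  set N := MulAut.conj g • L with hNdef
  have hconj : ∀ c : G, N ≠ MulAut.conj c • M := fun c e => hcon (g⁻¹ * c) (by
    rw [map_mul, mul_smul, ← e, hNdef, ← mul_smul, ← map_mul, inv_mul_cancel, map_one, one_smul])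
  have hne : N ≠ M := fun e => hconj 1 (by rw [map_one, one_smul, e])
  have hNTM := sylow_normalizer_le' hqM T hTM
  have hNTN := sylow_normalizer_le' hqL' T hTL
  have hEN : E ≤ N := hET.trans hNTN
  have hab := common_sylow_abelian hG hM hL' hne hqM hqL' T hTM hTL
  have hβM : q ∉ Cfsg.beta M := fun hβ => by
    obtain ⟨c, hc⟩ := conj_of_alpha hG hM hL' hqM hqL' (Or.inl hβ.1)
    exact hconj c hc
  have hβN : q ∉ Cfsg.beta N := fun hβ => by
    obtain ⟨c, hc⟩ := conj_of_alpha hG hM hL' hqM hqL' (Or.inr hβ.1)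
    exact hconj c hc
  have hT1 : (T : Subgroup G) ≠ ⊥ := fun e => by
    have h1 : Nat.card (T : Subgroup G) = 1 := by rw [e, Subgroup.card_bot]
    rw [T.card_eq_multiplicity] at h1
    exact (hq.factorization_pos_of_dvd Nat.card_pos.ne' (hqM.2.1.trans (Subgroup.card_subgroup_dvd_card M))).ne'
      ((Nat.pow_eq_one.1 h1).resolve_left hq.ne_one)
  -- some element of the complement moves `T`
  obtain ⟨y, hyE, ⟨s, k, hs, hk⟩, hyC⟩ : ∃ y ∈ E, (∃ s k : ℕ, s.Prime ∧ y ^ s ^ k = 1) ∧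
      y ∉ Subgroup.centralizer ((T : Subgroup G) : Set G) := by
    by_contra hall
    push Not at hall
    refine not_normalizer_le_centralizer hG T hT1 fun n hn => ?_
    obtain ⟨e, he, m, hm, rfl⟩ := hE.2.2.2 n (hNTM hn)
    have heC : e ∈ Subgroup.centralizer ((T : Subgroup G) : Set G) := mem_of_primary fun r hr _ y hy ⟨j, hj⟩ =>
      hall y (Subgroup.zpowers_le.2 he hy) ⟨r, j, hr, hj⟩
    have hmN : m ∈ Subgroup.normalizer ((T : Subgroup G) : Set G) := by
      have := mul_mem (inv_mem (hET he)) hn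
      rwa [inv_mul_cancel_left] at this
    refine mul_mem heC (mem_of_primary fun r hr hrd y hy ⟨j, hj⟩ => ?_)
    haveI := Fact.mk hr
    have hyK : y ∈ Cfsg.sigmaCore M := Subgroup.zpowers_le.2 hm hy
    have hyN : Subgroup.zpowers y ≤ Subgroup.normalizer ((T : Subgroup G) : Set G) :=
      Subgroup.zpowers_le.2 (Subgroup.zpowers_le.2 hmN hy)
    by_cases hrq : r = q
    · subst hrq
      have h6 : IsPGroup r ↥(Subgroup.zpowers y ⊔ (T : Subgroup G)) :=
        IsPGroup.to_sup_of_normal_right' (isPGroup_zpowers hj) T.2 hyN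
      exact fun w hw => hab w hw y ((T.is_maximal' h6 le_sup_right).le
        (Subgroup.mem_sup_left (Subgroup.mem_zpowers y)))
    · exact centralizes_of_le_derived hG hM hr hq (Ne.symm hrq) hβM (isPGroup_zpowers hj)
        (Subgroup.zpowers_le.2 (mem_derived_of_primary hG hM hr (Or.inl (isPi_piCoreOf _ M r hr
          (hrd.trans (Subgroup.orderOf_dvd_natCard _ hm)))) (piCoreOf_le _ M hyK) hj))
        T.2 hTM hyN (Subgroup.mem_zpowers y)
  have hy1 : y ≠ 1 := fun e => hyC (e ▸ one_mem _)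
  obtain ⟨a, ha, hao⟩ := exists_line_pow hs hk hy1
  have haE : a ∈ E := Subgroup.zpowers_le.2 hyE ha
  have hsd := Subgroup.orderOf_dvd_natCard E haE
  rw [hao] at hsd
  have hsM : s ∉ Cfsg.sigma M := not_sigma_of_dvd_compl hG hM hE hs hsd
  have hsq : q ≠ s := fun e => hsM (e ▸ hqM)
  have htau : ∀ {X : Subgroup G}, IsCoatom X → E ≤ X → (T : Subgroup G) ≤ X → q ∈ Cfsg.sigma X →
      q ∉ Cfsg.beta X → (∀ c : G, N ≠ MulAut.conj c • M) → X = M ∨ X = N → s ∈ Cfsg.tau1 X := by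
    intro X hX hEX hTX hqX hβX hc hXor
    have hder : s ∈ Cfsg.sigma X ∨ s ∈ Cfsg.tau3 X → False := fun h => hyC
      (centralizes_of_le_derived hG hX hs hq hsq hβX (isPGroup_zpowers hk)
        (Subgroup.zpowers_le.2 (mem_derived_of_primary hG hX hs h (hEX hyE) hk)) T.2 hTX
        (Subgroup.zpowers_le.2 (hET hyE)) (Subgroup.mem_zpowers y))
    have hsX : s ∉ Cfsg.sigma X := fun h => hder (Or.inl h)
    rcases tau_cases hG hX hs hsX (hsd.trans (Subgroup.card_dvd_of_le hEX)) with (h1 | h3) | h2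
    · exact h1
    · exact absurd (Or.inr h3) hder
    · obtain ⟨A, A₀, hA, -⟩ := exists_exc_mem hG hX h2 (one_mem X) (one_pow s)
      have hXT := hA.sylow_normal hqX T hTX
      rcases hXor with rfl | rfl
      · exact absurd ((hM.le_iff.1 (hXT.trans hNTN)).resolve_left hL'.1) hne
      · exact absurd ((hX.le_iff.1 (hXT.trans hNTM)).resolve_left hM.1) hne.symm
  have hs1 : s ∈ Cfsg.tau1 M := htau hM hE.1 hTM hqM hβM hconj (Or.inl rfl)
  have hsN : s ∈ Cfsg.tau1 N := htau hL' hEN hTL hqL' hβN hconj (Or.inr rfl)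
  -- `a` moves `T` without fixed points
  have haC : ¬ (T : Subgroup G) ≤ Subgroup.centralizer ({a} : Set G) := fun hle => hyC fun w hw =>
    (commute_of_mem_centralizer_singleton (centralizer_le_of_primary hG hM hs hsM hs1.2.2.2.2 (hE.1 hyE) hk ha hao
      ⟨le_sigmaCore_of_isPGroup hG hM hq hqM hTM T.2 hw, hle hw⟩)).symm.eq
  have hfpf : ∀ z ∈ (T : Subgroup G), orderOf z = q → ¬ Commute a z := fun z hz hzo hc => by
    have hK := fun {X : Subgroup G} (hX : IsCoatom X) (hqX : q ∈ Cfsg.sigma X) (hTX : (T : Subgroup G) ≤ X) =>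
      le_sigmaCore_of_isPGroup hG hX hq hqX hTX T.2 hz
    exact hne ((uniq_of_fixed_elem hG hM hs1 (hE.1 haE) hao hq (hK hM hqM hTM) hzo hc).2 N hL'
      (uniq_of_fixed_elem hG hL' hsN (hEN haE) hao hq (hK hL' hqL' hTL) hzo hc).1)
  have hfix : ∀ {X Y : Subgroup G}, IsCoatom X → IsCoatom Y → Y ≠ X → q ∈ Cfsg.sigma X → (T : Subgroup G) ≤ X →
      Subgroup.normalizer ((T : Subgroup G) : Set G) ≤ Y → a ∈ X →
      ∃ (r : ℕ) (u : G), r.Prime ∧ u ∈ Cfsg.sigmaCore X ∧ orderOf u = r ∧ Commute a u := by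
    intro X Y hX hY hYX hqX hTX hNY haX
    by_cases hbot : Cfsg.sigmaCore X ⊓ Subgroup.centralizer ({a} : Set G) = ⊥
    · exfalso
      have hnil : Group.IsNilpotent (Cfsg.sigmaCore X) :=
        isNilpotent_of_fpf_elem hs (by rw [← hao, pow_orderOf_eq_one]) (le_normalizer_piCoreOf _ X haX) hbot
      haveI : Group.IsNilpotent ↥((Cfsg.piCore (Cfsg.sigma X) X).map X.subtype) := hnil
      have hTn := sylow_normal_of_le_nilpotent (N := Cfsg.piCore (Cfsg.sigma X) X)
        (Group.nilpotent_of_surjective ((Subgroup.equivMapOfInjective _ _ X.subtype_injective).symm.toMonoidHom)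
          (MulEquiv.surjective _) : Group.IsNilpotent (Cfsg.piCore (Cfsg.sigma X) X)) (T.subtype hTX) fun w hw => by
        obtain ⟨w', hw', e'⟩ := le_sigmaCore_of_isPGroup hG hX hq hqX hTX T.2 hw
        exact Subtype.ext e' ▸ hw'
      have hXT : X ≤ Subgroup.normalizer ((T : Subgroup G) : Set G) := fun l hl =>
        mem_normalizer_of_conj fun w hw => hTn.conj_mem ⟨w, hTX hw⟩ hw ⟨l, hl⟩
      exact hYX ((hX.le_iff.1 (hXT.trans hNY)).resolve_left hY.1)
    · obtain ⟨r, hr, hd⟩ := Nat.exists_prime_and_dvd fun e' => hbot (Subgroup.card_eq_one.1 e')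
      obtain ⟨u, hu, huo⟩ := exists_order_of_dvd hr hd
      exact ⟨r, u, hr, hu.1, huo, commute_of_mem_centralizer_singleton hu.2⟩
  obtain ⟨t, u, ht, huK, huo, hua⟩ := hfix hM hL' hne hqM hTM hNTN (hE.1 haE)
  obtain ⟨t', x, ht', hxK, hxo, hxa⟩ := hfix hL' hM hne.symm hqL' hTL hNTM (hEN haE)
  obtain ⟨x₃, u₃, ht'M, hxE, hxK₃, hxo₃, huK₃, -, huo₃, hax, hau, hxu⟩ :=
    common_partner hG hM hL' hconj hE hEN hs1 hsN haE hao ht huK huo hua ht' hxK hxo hxa
  have hxL : x₃ ∈ N := hEN hxE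
  have hone : x₃ ^ t' ^ 1 = 1 := by rw [pow_one, ← hxo₃, pow_orderOf_eq_one]
  haveI := Fact.mk ht'
  have hTx : (T : Subgroup G) ≤ Subgroup.centralizer ({x₃} : Set G) := fun w hw =>
    mem_centralizer_singleton_of_commute (centralizes_of_le_derived hG hL' ht' hq (fun e => ht'M (e ▸ hqM)) hβN
      (isPGroup_zpowers hone) (Subgroup.zpowers_le.2 (mem_derived_of_primary hG hL' ht'
        (Or.inl (sigma_of_mem_core ht' hxK hxo)) hxL hone)) T.2 hTL (Subgroup.zpowers_le.2 (hET hxE))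
      (Subgroup.mem_zpowers x₃) w hw).symm
  have hu1 : u₃ ≠ 1 := (zpowers_line ht huo₃).2.2
  have hTK := le_sigmaCore_of_isPGroup hG hM hq hqM hTM T.2
  refine haC ?_
  rcases tau_cases hG hM ht' ht'M (hxo₃ ▸ Subgroup.orderOf_dvd_natCard M (hE.1 hxE)) with (h1 | h3) | h2
  · exact fun w hw => centralizer_le_of_commute hG hM h1 (hE.1 hxE) hxo₃ (hE.1 haE) hs hao hsM hax.symm
      ⟨hTK hw, hTx hw⟩
  · obtain ⟨hBc, -, -⟩ := zpowers_line ht' hxo₃
    obtain ⟨L₂, hL₂, hN₂⟩ := (eq_top_or_exists_le_coatom _).resolve_left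
      (normalizer_ne_top hG (line_ne_bot ht' hBc) fun e => hM.1 (top_unique (e.ge.trans
        ((Subgroup.zpowers_le.2 hxE).trans hE.1))))
    have h : Tau3Fixed t' M E (Subgroup.zpowers x₃) L₂ := ⟨hG, hM, hE, h3, Subgroup.zpowers_le.2 hxE, hBc,
      fun e => hu1 (Subgroup.mem_bot.1 (e ▸ ⟨huK₃, by
        rw [centralizer_zpowers_eq]; exact mem_centralizer_singleton_of_commute hxu⟩)), hL₂, hN₂⟩
    intro w hw
    exact ((h.tau1_lines hs1 haE hao).1.ge ⟨hTK hw, by rw [centralizer_zpowers_eq]; exact hTx hw⟩).2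
  · refine (tau2_fixed_false hG hM hs1 (Subgroup.zpowers_le.2 (hE.1 haE)) (zpowers_line hs hao).1 ht huK₃ huo₃
      ?_ h2 (hE.1 hxE) hxo₃ ?_).elim
    · rw [centralizer_zpowers_eq]; exact mem_centralizer_singleton_of_commute hau
    · rw [centralizer_zpowers_eq]; exact mem_centralizer_singleton_of_commute hax

end CfsgLib.OddLocal
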