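import Cfsg.Agent.Lib.OddLocal.KappaHat
import Cfsg.Agent.S1378

/-!
The partition of the nonidentity elements.
-/

set_option autoImplicit false
set_option linter.style.haveILetI false
set_option linter.unusedSectionVars false

open scoped commutatorElement
open scoped Pointwise

namespace CfsgLib.OddLocal

open CfsgLib.Coprime
open CfsgLib.BG.FixedLine (conj_mem_of_le_normalizer mem_normalizer_of_conj)

universe u

variable {G : Type u} [Group G] [Finite G] {p q r : ℕ} {M L H K E U Ms Es Us : Subgroup G} {g : G}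

/-- Every element lies in a maximal subgroup with one of its primes in `σ`. -/
theorem exists_maximal_sigma (hG : Cfsg.IsMinSimpleOddOrder G) (hg : g ≠ 1) :
    ∃ M : Subgroup G, IsCoatom M ∧ g ∈ M ∧ ∃ p, p.Prime ∧ p ∣ orderOf g ∧ p ∈ Cfsg.sigma M := by
  obtain ⟨p, x, hp, hx, hxo⟩ := exists_prime_power_elem hg
  have hpd : p ∣ orderOf g := hxo ▸ orderOf_dvd_of_mem_zpowers hx
  obtain ⟨M₀, hM₀, hpσ₀⟩ := (Cfsg.Agent.S1378.result hG).1 p hp (hpd.trans (orderOf_dvd_natCard g))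
  obtain ⟨hXc, -, hx1⟩ := zpowers_line hp hxo
  obtain ⟨c, hc⟩ := exists_conj_le_sigmaCore hG hM₀ (line_ne_bot hp hXc) (fun r hr hrd => by
    rw [hXc] at hrd; exact (Nat.prime_dvd_prime_iff_eq hr hp).1 hrd ▸ hpσ₀)
  set M := MulAut.conj c⁻¹ • M₀
  have hM : IsCoatom M := isCoatom_conj hM₀ c⁻¹
  have hpσ : p ∈ Cfsg.sigma M := sigma_conj_iff.2 hpσ₀
  have hxM : x ∈ Cfsg.sigmaCore M := by
    have h1 := conj_mem_sigmaCore hG hM₀ c⁻¹ (hc (mem_sigmaCore_conj_iff.2 (Subgroup.mem_zpowers x)))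
    rwa [show c⁻¹ * (c * x * c⁻¹) * c⁻¹⁻¹ = x by group] at h1
  have hgC : g ∈ Subgroup.centralizer ({x} : Set G) := by
    obtain ⟨i, rfl⟩ := Subgroup.mem_zpowers_iff.1 hx
    exact mem_centralizer_singleton_of_commute ((Commute.refl g).zpow_left i)
  by_cases hC : Subgroup.centralizer ({x} : Set G) ≤ M
  · exact ⟨M, hM, hC hgC, p, hp, hpd, hpσ⟩
  obtain ⟨N, hN⟩ := exists_support hG hM hxM hx1 hC
  by_cases hl : ∃ l, l.Prime ∧ l ∣ orderOf g ∧ l ∈ Cfsg.sigma N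
  · exact ⟨N, hN.hN, hN.hle hgC, hl⟩
  push Not at hl
  obtain ⟨n, -, hn⟩ := exists_conj_le_compl hG hN.hN hN.compl (Subgroup.zpowers_le.2 (hN.hle hgC)) fun r hr hrd => by
    rw [Nat.card_zpowers] at hrd; exact hl r hr hrd
  refine ⟨MulAut.conj n⁻¹ • M, isCoatom_conj hM _, ?_, p, hp, hpd, sigma_conj_iff.2 hpσ⟩
  rw [mem_conj_smul_iff, inv_inv]
  exact (hn (mem_sigmaCore_conj_iff.2 (Subgroup.mem_zpowers g))).1

/-- The decomposition of an element of `M` into its `σ(M)`-part and the rest. -/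
theorem exists_sigma_part (π : Set ℕ) (g : G) :
    ∃ a b : G, a ∈ Subgroup.zpowers g ∧ b ∈ Subgroup.zpowers g ∧ g = a * b ∧ Commute a b ∧
      (∀ r : ℕ, r.Prime → r ∣ orderOf a → r ∈ π) ∧ ∀ r : ℕ, r.Prime → r ∣ orderOf b → r ∉ π := by
  classical
  -- split the order
  have hkey : ∀ n : ℕ, 0 < n → ∃ u v : ℕ, n = u * v ∧ u.Coprime v ∧ (∀ r : ℕ, r.Prime → r ∣ u → r ∈ π) ∧
      ∀ r : ℕ, r.Prime → r ∣ v → r ∉ π := by
    intro n hn
    induction n using Nat.recOnPosPrimePosCoprime with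
    | prime_pow p k hp hk =>
      by_cases hpπ : p ∈ π
      · exact ⟨p ^ k, 1, (mul_one _).symm, Nat.coprime_one_right _, fun r hr hd =>
          (Nat.prime_dvd_prime_iff_eq hr hp).1 (hr.dvd_of_dvd_pow hd) ▸ hpπ,
          fun r hr hd => absurd (Nat.dvd_one.1 hd) hr.ne_one⟩
      · exact ⟨1, p ^ k, (one_mul _).symm, Nat.coprime_one_left _,
          fun r hr hd => absurd (Nat.dvd_one.1 hd) hr.ne_one,
          fun r hr hd => (Nat.prime_dvd_prime_iff_eq hr hp).1 (hr.dvd_of_dvd_pow hd) ▸ hpπ⟩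
    | zero => exact absurd hn (lt_irrefl 0)
    | one => exact ⟨1, 1, rfl, Nat.coprime_one_left _, fun r hr hd => absurd (Nat.dvd_one.1 hd) hr.ne_one,
        fun r hr hd => absurd (Nat.dvd_one.1 hd) hr.ne_one⟩
    | coprime a b ha hb hab iha ihb =>
      obtain ⟨u, v, rfl, huv, hu, hv⟩ := iha (by omega)
      obtain ⟨u', v', rfl, huv', hu', hv'⟩ := ihb (by omega)
      refine ⟨u * u', v * v', by ring, ?_, fun r hr hd => (hr.dvd_mul.1 hd).elim (hu r hr) (hu' r hr),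
        fun r hr hd => (hr.dvd_mul.1 hd).elim (hv r hr) (hv' r hr)⟩
      exact Nat.coprime_of_dvd fun r hr h1 h2 =>
        ((hr.dvd_mul.1 h2).elim (hv r hr) (hv' r hr)) ((hr.dvd_mul.1 h1).elim (hu r hr) (hu' r hr))
  obtain ⟨u, v, he, hco, hu, hv⟩ := hkey _ (orderOf_pos g)
  have hbez : (1 : ℤ) = (u : ℤ) * u.gcdA v + (v : ℤ) * u.gcdB v := by
    have := Nat.gcd_eq_gcd_ab u v
    rwa [hco, Nat.cast_one] at this
  refine ⟨g ^ ((v : ℤ) * u.gcdB v), g ^ ((u : ℤ) * u.gcdA v), Subgroup.zpow_mem _ (Subgroup.mem_zpowers g) _,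
    Subgroup.zpow_mem _ (Subgroup.mem_zpowers g) _, by rw [← zpow_add, add_comm, ← hbez, zpow_one],
    Commute.zpow_zpow (Commute.refl g) _ _, fun r hr hd => hu r hr (hd.trans ?_), fun r hr hd => hv r hr (hd.trans ?_)⟩
  · refine orderOf_dvd_of_pow_eq_one ?_
    rw [← zpow_natCast, ← zpow_mul, show (v : ℤ) * u.gcdB v * (u : ℤ) = ((u * v : ℕ) : ℤ) * u.gcdB v by
      push_cast; ring, zpow_mul, zpow_natCast, ← he, pow_orderOf_eq_one, one_zpow]
  · refine orderOf_dvd_of_pow_eq_one ?_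
    rw [← zpow_natCast, ← zpow_mul, show (u : ℤ) * u.gcdA v * (v : ℤ) = ((u * v : ℕ) : ℤ) * u.gcdA v by
      push_cast; ring, zpow_mul, zpow_natCast, ← he, pow_orderOf_eq_one, one_zpow]

/-- An element of `M` with a `σ(M)`-prime is in some `x R(x)` or conjugate into `Ẑ` of `M`. -/
theorem tilde_or_hat (hG : Cfsg.IsMinSimpleOddOrder G) (hM : IsCoatom M) (hg : g ∈ M)
    (hp : ∃ p, p.Prime ∧ p ∣ orderOf g ∧ p ∈ Cfsg.sigma M) :
    (∃ N : Subgroup G, IsCoatom N ∧ g ∈ Cfsg.tildeOf N ((Cfsg.sigmaCore N : Set G) \ {1})) ∨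
      ((Cfsg.kappa M).Nonempty ∧ ∀ K E U : Subgroup G, KappaData M K E U →
        ∃ y : G, ∃ z ∈ zHat M K, g = y * z * y⁻¹) := by
  obtain ⟨a, b, hag, hbg, hgab, hab, ha, hb⟩ := exists_sigma_part (Cfsg.sigma M) g
  obtain ⟨p, hp, hpd, hpσ⟩ := hp
  have ha1 : a ≠ 1 := fun e => hb p hp (by rwa [hgab, e, one_mul] at hpd) hpσ
  have haM : a ∈ Cfsg.sigmaCore M := mem_sigmaCore_of_primary hG hM (Subgroup.zpowers_le.2 hg hag) ha
  have hbM : b ∈ M := Subgroup.zpowers_le.2 hg hbg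
  by_cases hb1 : b = 1
  · left
    refine ⟨M, hM, a, ⟨haM, ha1⟩, 1, one_mem _, 1, ?_⟩
    rw [hgab, hb1]; group
  rcases sigma_dichotomy hG hM haM ha1 hbM hab.symm hb1 hb with ⟨hκ, -⟩ | ⟨-, ⟨L, hL, hLσ⟩, hbC, hbu⟩
  · right
    obtain ⟨l, hl, hld⟩ := Nat.exists_prime_and_dvd fun e => hb1 (orderOf_eq_one_iff.1 e)
    refine ⟨⟨l, hκ l hl hld⟩, fun K E U h => ?_⟩
    haveI := isSolvable_of_ne_top hG hM.1
    obtain ⟨m, hm, hmK⟩ := exists_conj_le_hallOf h.hall (Subgroup.zpowers_le.2 hbM)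
      (fun r hr hrd => hκ r hr (by rwa [Nat.card_zpowers] at hrd))
    have hbK : m * b * m⁻¹ ∈ K := hmK (mem_sigmaCore_conj_iff.2 (Subgroup.mem_zpowers b))
    have hb1' : m * b * m⁻¹ ≠ 1 := fun e => hb1 (conj_eq_one_iff.1 e)
    have haS : m * a * m⁻¹ ∈ Cfsg.sigmaCore M ⊓ Subgroup.centralizer (K : Set G) := by
      rw [← h.action _ hbK hb1']
      refine ⟨conj_mem_of_le_normalizer (le_normalizer_piCoreOf _ M hm) a haM,
        mem_centralizer_singleton_of_commute ?_⟩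
      show _ = _
      calc m * b * m⁻¹ * (m * a * m⁻¹) = m * (b * a) * m⁻¹ := by group
        _ = m * (a * b) * m⁻¹ := by rw [hab.eq]
        _ = _ := by group
    have ha1' : m * a * m⁻¹ ≠ 1 := fun e => ha1 (conj_eq_one_iff.1 e)
    refine ⟨m⁻¹, m * a * m⁻¹ * (m * b * m⁻¹), mem_zHat.2 ⟨?_, fun e => ha1' ?_, fun e => hb1' ?_⟩, ?_⟩
    · exact Subgroup.mul_mem _ (Subgroup.mem_sup_right haS) (Subgroup.mem_sup_left hbK)
    · have h1 : m * a * m⁻¹ ∈ K ⊓ Cfsg.sigmaCore M := ⟨by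
        have := K.mul_mem e (K.inv_mem hbK)
        rwa [mul_inv_cancel_right] at this, haS.1⟩
      rwa [h.K_inf_core, Subgroup.mem_bot] at h1
    · have h1 : m * b * m⁻¹ ∈ K ⊓ Cfsg.sigmaCore M := ⟨hbK, by
        have := (Cfsg.sigmaCore M).mul_mem ((Cfsg.sigmaCore M).inv_mem haS.1) e.1
        rwa [inv_mul_cancel_left] at this⟩
      rwa [h.K_inf_core, Subgroup.mem_bot] at h1
    · rw [hgab]; group
  · left
    have hbc : Nat.card (Subgroup.zpowers b) = orderOf b := Nat.card_zpowers b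
    obtain ⟨c, hc⟩ := exists_conj_le_sigmaCore hG hL (fun e => hb1 (Subgroup.mem_bot.1 (e ▸ Subgroup.mem_zpowers b)))
      (fun r hr hrd => hLσ r hr (hbc ▸ hrd))
    set L' := MulAut.conj c⁻¹ • L
    have hL' : IsCoatom L' := isCoatom_conj hL c⁻¹
    have hbL : b ∈ Cfsg.sigmaCore L' := by
      have h1 := conj_mem_sigmaCore hG hL c⁻¹ (hc (mem_sigmaCore_conj_iff.2 (Subgroup.mem_zpowers b)))
      rwa [show c⁻¹ * (c * b * c⁻¹) * c⁻¹⁻¹ = b by group] at h1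
    obtain ⟨r, hr, hrd⟩ := Nat.exists_prime_and_dvd fun e => hb1 (orderOf_eq_one_iff.1 e)
    have hbC' : ¬ Subgroup.centralizer ({b} : Set G) ≤ L' := fun e =>
      hb r hr hrd (hbu L' hL' e ▸ sigma_of_orderOf hbL hr hrd)
    obtain ⟨N, hN⟩ := exists_support hG hL' hbL hb1 hbC'
    have hNM : M = N := hN.uniq M hM hbC
    refine ⟨L', hL', b, ⟨hbL, hb1⟩, a, ?_, 1, by rw [hgab, hab.eq]; group⟩
    rw [supportR_eq hN, ← hNM]
    exact ⟨haM, mem_centralizer_singleton_of_commute hab.symm⟩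

theorem Partner.zHat_eq (h : Partner M K E U Ms Es Us) :
    zHat Ms (Cfsg.sigmaCore M ⊓ Subgroup.centralizer (K : Set G)) = zHat M K := by
  rw [zHat, zHat, h.dual, sup_comm, Set.union_comm]

/-- BG 14.7 (g), (h): every nonidentity element is in some `x R(x)` or conjugate into `Ẑ`. -/
theorem Partner.cover (h : Partner M K E U Ms Es Us) (hg : g ≠ 1) :
    (∃ N : Subgroup G, IsCoatom N ∧ g ∈ Cfsg.tildeOf N ((Cfsg.sigmaCore N : Set G) \ {1})) ∨
      ∃ y : G, ∃ z ∈ zHat M K, g = y * z * y⁻¹ := by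
  have hG := h.data.hG
  obtain ⟨H, hH, hgH, p, hp, hpd, hpσ⟩ := exists_maximal_sigma hG hg
  rcases tilde_or_hat hG hH hgH ⟨p, hp, hpd, hpσ⟩ with ht | ⟨hκ, -⟩
  · exact Or.inl ht
  obtain ⟨x, hx⟩ := h.classes hH hκ
  have hmove : ∀ {M' : Subgroup G}, IsCoatom M' → H = MulAut.conj x • M' → ∀ K' E' U' : Subgroup G,
      KappaData M' K' E' U' → (∃ N : Subgroup G, IsCoatom N ∧
        g ∈ Cfsg.tildeOf N ((Cfsg.sigmaCore N : Set G) \ {1})) ∨ ∃ y : G, ∃ z ∈ zHat M' K', g = y * z * y⁻¹ := by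
    intro M' hM' he K' E' U' hd
    have hgM : x⁻¹ * g * x ∈ M' := by rw [he, mem_conj_smul_iff] at hgH; exact hgH
    rcases tilde_or_hat hG hM' hgM ⟨p, hp, by
        rw [show orderOf (x⁻¹ * g * x) = orderOf g by
          have := orderOf_injective (MulAut.conj x⁻¹).toMonoidHom (MulAut.conj x⁻¹).injective g
          simpa using this]
        exact hpd, sigma_conj_iff.1 (he ▸ hpσ)⟩ with ⟨N, hN, hmem⟩ | ⟨-, hh⟩
    · left
      refine ⟨N, hN, ?_⟩
      have := conj_mem_tilde (g := x) hmem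
      rwa [show x * (x⁻¹ * g * x) * x⁻¹ = g by group] at this
    · right
      obtain ⟨y, z, hz, he'⟩ := hh K' E' U' hd
      exact ⟨x * y, z, hz, by rw [show g = x * (x⁻¹ * g * x) * x⁻¹ by group, he']; group⟩
  rcases hx with hx | hx
  · exact hmove h.data.hM hx K E U h.data
  · rcases hmove h.pdata.hM hx _ Es Us h.pdata with ht | hz
    · exact Or.inl ht
    · exact Or.inr (h.zHat_eq ▸ hz)

/-- The elements of `Ẑ` lie in no `x R(x)`. -/
theorem KappaData.hat_notMem_tilde (h : KappaData M K E U) (hL : IsCoatom L) {z : G} (hz : z ∈ zHat M K) :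
    z ∉ Cfsg.tildeOf L ((Cfsg.sigmaCore L : Set G) \ {1}) := by
  obtain ⟨hzZ, hzK, hzS⟩ := mem_zHat.1 hz
  refine h.notMem_tilde hzZ (fun L' hL' hzL => ?_) hL
  obtain ⟨k, hk, c, hc, rfl⟩ := h.mem_Z_iff.1 hzZ
  have hc1 : c ≠ 1 := fun e => hzK (by rw [e, mul_one]; exact hk)
  have hk1 : k ≠ 1 := fun e => hzS (by rw [e, one_mul]; exact hc)
  have hct : c ∈ Subgroup.zpowers (k * c) := by
    rw [(h.star_commute hk hc).eq]
    exact mem_zpowers_mul_of_coprime (h.star_commute hk hc).symm (h.coprime_orderOf hk hc).symm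
  have hkt : k ∈ Subgroup.zpowers (k * c) :=
    mem_zpowers_mul_of_coprime (h.star_commute hk hc) (h.coprime_orderOf hk hc)
  obtain ⟨q, d, hq, hd, hdo⟩ := exists_prime_power_elem hc1
  have he : M = L' := ZMember.eq_of_sigma ⟨K, E, U, h, rfl⟩ hL'
    (Subgroup.mem_sup_right (Subgroup.zpowers_le.2 hc hd)) hq hdo
    (sigma_of_mem_core hq (Subgroup.zpowers_le.2 hc.1 hd) hdo)
    (sigma_of_mem_core hq (Subgroup.zpowers_le.2 (Subgroup.zpowers_le.2 hzL hct) hd) hdo)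
  subst he
  have h1 : k ∈ K ⊓ Cfsg.sigmaCore M := ⟨hk, Subgroup.zpowers_le.2 hzL hkt⟩
  rw [h.K_inf_core] at h1
  exact hk1 h1

end CfsgLib.OddLocal
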