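import Cfsg.Agent.Lib.OddLocal.PartnerUniq

/-!
BG 13.1 and the first half of 14.2: a line of rank one with fixed points on `M_σ` lies in the `σ`-core of
every maximal subgroup containing its normalizer.
-/

set_option autoImplicit false
set_option linter.style.haveILetI false
set_option linter.unusedSectionVars false

open scoped commutatorElement
open scoped Pointwise

namespace CfsgLib.OddLocal

open CfsgLib.Coprime
open CfsgLib.BG.FixedLine (conj_mem_of_le_normalizer mem_normalizer_of_conj)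

universe u

variable {G : Type u} [Group G] [Finite G] {p q : ℕ} {M L : Subgroup G}

theorem line_eq_zpowers (hp : p.Prime) {P : Subgroup G} (hP : Nat.card P = p) {a : G} (ha : a ∈ P)
    (hao : orderOf a = p) : P = Subgroup.zpowers a :=
  (Subgroup.eq_of_le_of_card_ge (Subgroup.zpowers_le.2 ha) (by rw [hP, Nat.card_zpowers, hao])).symm

theorem zpowers_line {z : G} (hq : q.Prime) (hzo : orderOf z = q) :
    Nat.card (Subgroup.zpowers z) = q ∧ IsPGroup q (Subgroup.zpowers z) ∧ z ≠ 1 :=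
  ⟨by rw [Nat.card_zpowers, hzo], isPGroup_zpowers (k := 1) (by rw [pow_one, ← hzo, pow_orderOf_eq_one]),
    fun e => hq.ne_one (by rw [← hzo, e, orderOf_one])⟩

/-- A cyclic centralizer of an element in a Sylow subgroup forces a cyclic Sylow subgroup. -/
theorem cyclic_of_cyclic_centralizer (hq : q.Prime) {T : Subgroup G} (hT : IsPGroup q T) {z : G} (hz : z ∈ T)
    (hzo : orderOf z = q) (hc : IsCyclic ↥(T ⊓ Subgroup.centralizer ({z} : Set G))) :
    T ≤ Subgroup.centralizer ({z} : Set G) ∧ IsCyclic T := by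
  obtain ⟨z₀, hz₀T, hz₀C, hz₀o⟩ := exists_central_order hq hT fun e => by
    rw [e, Subgroup.mem_bot] at hz
    exact hq.ne_one (by rw [← hzo, hz, orderOf_one])
  have hz₀W : z₀ ∈ T ⊓ Subgroup.centralizer ({z} : Set G) :=
    ⟨hz₀T, Subgroup.mem_centralizer_singleton_iff.2 (hz₀C z hz).symm⟩
  have hzz : z ∈ Subgroup.zpowers z₀ := mem_line_of_cyclic hq hc (Subgroup.zpowers_le.2 hz₀W)
    (by rw [Nat.card_zpowers, hz₀o]) ⟨hz, Subgroup.mem_centralizer_singleton_iff.2 rfl⟩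
    (by rw [← hzo, pow_orderOf_eq_one])
  have hle : T ≤ Subgroup.centralizer ({z} : Set G) := fun t ht => by
    obtain ⟨i, rfl⟩ := Subgroup.mem_zpowers_iff.1 hzz
    exact Subgroup.mem_centralizer_singleton_iff.2 ((show Commute t z₀ from hz₀C t ht).zpow_right i).eq
  exact ⟨hle, by rwa [inf_eq_left.2 hle] at hc⟩

theorem isMulCommutative_sylow_iff [Fact p.Prime] (S T : Sylow p G) (hT : IsMulCommutative (T : Subgroup G)) :
    IsMulCommutative (S : Subgroup G) := by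
  haveI := hT
  refine ⟨⟨fun a b => (Sylow.equiv S T).injective ?_⟩⟩
  rw [map_mul, map_mul]
  exact mul_comm' _ _

/-- `τ₂`-elements with fixed points have their centralizer in `L`. -/
theorem centralizer_le_of_tau2 (hG : Cfsg.IsMinSimpleOddOrder G) (hL : IsCoatom L) (hq : q ∈ Cfsg.tau2 L) {z : G}
    (hz : z ∈ L) (hzo : orderOf z = q) {P : Subgroup G} (hP1 : P ≠ ⊥) (hPL : P ≤ Cfsg.sigmaCore L)
    (hzP : z ∈ Subgroup.centralizer (P : Set G)) :
    Subgroup.centralizer ({z} : Set G) ≤ L ∧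
      ∀ L' : Subgroup G, IsCoatom L' → Subgroup.centralizer ({z} : Set G) ≤ L' → L' = L := by
  obtain ⟨B, B₀, hB, hzB⟩ := exists_exc_mem hG hL hq hz (by rw [← hzo, pow_orderOf_eq_one])
  have h := hB.centralizer_uniq (X := Subgroup.zpowers z) (Subgroup.zpowers_le.2 hzB)
    (line_ne_bot hq.1 (zpowers_line hq.1 hzo).1) fun hbot => hP1 (le_bot_iff.1
      (hbot ▸ le_inf hPL (Subgroup.le_centralizer_iff.1 (Subgroup.zpowers_le.2 hzP))))
  rwa [centralizer_zpowers_eq] at h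

theorem normalizer_le_of_uniq (hG : Cfsg.IsMinSimpleOddOrder G) (hM : IsCoatom M) {X : Subgroup G}
    (h : Subgroup.centralizer (X : Set G) ≤ M ∧
      ∀ L : Subgroup G, IsCoatom L → Subgroup.centralizer (X : Set G) ≤ L → L = M) :
    Subgroup.normalizer (X : Set G) ≤ M := fun n hn => by
  refine mem_of_conj_eq hG hM (coatom_ne_bot hG hM) (h.2 _ (((MulAut.conj n).mapSubgroup).isCoatom_iff _ |>.2 hM) ?_)
  have h1 : MulAut.conj n • Subgroup.centralizer (X : Set G) ≤ MulAut.conj n • M := conj_le_conj.2 h.1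
  rwa [← conj_centralizer, conj_smul_eq_self_of_mem_normalizer hn] at h1

/-- BG 13.1: lines of rank one with fixed points on `M_σ`. -/
theorem partner_sigma (hG : Cfsg.IsMinSimpleOddOrder G) (hM : IsCoatom M) (hp : p.Prime)
    (hpσ : p ∉ Cfsg.sigma M) (hr : Cfsg.PRankLE p 1 M) {P : Subgroup G} (hPM : P ≤ M) (hP : Nat.card P = p)
    (hq : q.Prime) {z : G} (hzM : z ∈ Cfsg.sigmaCore M) (hzo : orderOf z = q)
    (hzP : z ∈ Subgroup.centralizer (P : Set G)) (hL : IsCoatom L) (hNP : Subgroup.normalizer (P : Set G) ≤ L) :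
    p ∈ Cfsg.sigma L ∧ ∀ g : G, L ≠ MulAut.conj g • M := by
  classical
  haveI := Fact.mk hp
  haveI := Fact.mk hq
  suffices h : p ∈ Cfsg.sigma L from ⟨h, fun g e => hpσ (sigma_of_conj (e ▸ h))⟩
  obtain hσ | hτ := sigma_or_tau2_of_normalizer_le hG hL hp (Subgroup.le_normalizer.trans hNP) hP hNP
  · exact hσ
  exfalso
  have hzM' : z ∈ M := piCoreOf_le _ M hzM
  have hqM : q ∈ Cfsg.sigma M := isPi_piCoreOf _ M q hq (hzo ▸ Subgroup.orderOf_dvd_natCard _ hzM)
  have hqp : q ≠ p := fun e => hpσ (e ▸ hqM)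
  obtain ⟨hZc, hZp, hz1⟩ := zpowers_line hq hzo
  set Z := Subgroup.zpowers z with hZ
  have hCL : Subgroup.centralizer (P : Set G) ≤ L := (Subgroup.centralizer_le_normalizer _).trans hNP
  have hzL : z ∈ L := hCL hzP
  have hPL : P ≤ L := Subgroup.le_normalizer.trans hNP
  have bot_inv : ∀ A : Subgroup G, A ≤ Subgroup.normalizer ((⊥ : Subgroup G) : Set G) := fun A a _ =>
    mem_normalizer_of_conj fun x hx => by rw [Subgroup.mem_bot.1 hx, mul_one, mul_inv_cancel]; exact one_mem _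
  by_cases hqσ : q ∈ Cfsg.sigma L
  · obtain ⟨A, A₀, hA, -⟩ := exists_exc_mem hG hL hτ (one_mem L) (one_pow p)
    obtain ⟨S, -, -, hAS, -⟩ := hA.maxElem.exists_sylow_ge hG hL hA.hAM hq hqσ hqp (bot_le (a := L))
      IsPGroup.of_bot (bot_inv A)
    exact not_normalizes_sylow hG hr hqM hA.maxElem S hAS
  by_cases hqτ : q ∈ Cfsg.tau2 L
  · exact tau2_tau2_false hG hL hτ hqτ hqp hr hqM
  obtain ⟨F, hF, hKF⟩ := exists_compl_ge hG hL (sup_le hPL (Subgroup.zpowers_le.2 hzL))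
    (isPi_sup (π := {t | t ∉ Cfsg.sigma L}) ((Subgroup.zpowers_le.2 hzP).trans (Subgroup.centralizer_le_normalizer _))
      (fun t ht hd => by rw [hP] at hd; exact (Nat.prime_dvd_prime_iff_eq ht hp).1 hd ▸ hτ.2.1)
      (fun t ht hd => by rw [hZc] at hd; exact (Nat.prime_dvd_prime_iff_eq ht hq).1 hd ▸ hqσ))
  obtain ⟨A, A₀, hAF, hA⟩ := exists_elem_compl hG hL hF hτ
  have hPA : P ≤ A := fun x hx =>
    hA.mem_of_compl hF hAF ((le_sup_left.trans hKF) hx) (pow_eq_one_of_line hp hP hx)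
  have hzA : z ∈ Subgroup.normalizer (A : Set G) :=
    hA.compl_le_normalizer hF hAF ((le_sup_right.trans hKF) (Subgroup.mem_zpowers z))
  have hAM : ∀ g : G, ¬ A ≤ MulAut.conj g • M := not_le_conj hG hr hA.maxElem
  by_cases hzC : A ≤ Subgroup.centralizer ({z} : Set G)
  · obtain ⟨L₄, hL₄, hNL₄⟩ := (eq_top_or_exists_le_coatom _).resolve_left
      (normalizer_ne_top hG (line_ne_bot hq hZc) fun e => hM.1 (top_unique (e ▸ Subgroup.zpowers_le.2 hzM')))
    have hCL₄ : Subgroup.centralizer ({z} : Set G) ≤ L₄ := by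
      rw [← centralizer_zpowers_eq]
      exact (Subgroup.centralizer_le_normalizer _).trans hNL₄
    have hAL₄ := hzC.trans hCL₄
    have hne : L₄ ≠ M := fun e => hAM 1 (by rwa [map_one, one_smul, ← e])
    rcases sigma_or_tau2_of_normalizer_le hG hL₄ hq (Subgroup.le_normalizer.trans hNL₄) hZc hNL₄ with h4 | h4
    · obtain ⟨S, -, -, hAS, -⟩ := hA.maxElem.exists_sylow_ge hG hL₄ hAL₄ hq h4 hqp (bot_le (a := L₄))
        IsPGroup.of_bot (bot_inv A)
      exact not_normalizes_sylow hG hr hqM hA.maxElem S hAS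
    · exact not_tau2_of_centralizer_le hG hM hL₄ hne hqM hr hp hqp hPM (hPA.trans hAL₄) hP
        (or_iff_not_imp_left.2 fun hn => mem_tau2_of_elem hG hL₄ hA.maxElem hAL₄ hn) hzM' hzo hCL₄ h4
  have hfix : A ⊓ Subgroup.centralizer ({z} : Set G) = P := by
    refine (Subgroup.eq_of_le_of_card_ge (le_inf hPA fun x hx =>
      Subgroup.mem_centralizer_singleton_iff.2 (hzP x hx)) ?_).symm
    obtain ⟨i, hi2, hi⟩ := (Nat.dvd_prime_pow hp).1 (hA.hA2 ▸
      Subgroup.card_dvd_of_le (inf_le_left : A ⊓ Subgroup.centralizer ({z} : Set G) ≤ A))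
    rw [hi, hP]
    interval_cases i
    · simp [hp.one_le]
    · simp
    · exact absurd (inf_eq_left.1 (Subgroup.eq_of_le_of_card_ge inf_le_left (by rw [hA.hA2, hi]))) hzC
  by_cases hab : ∀ S : Sylow p G, IsMulCommutative (S : Subgroup G)
  · obtain ⟨n, hn, hnL⟩ := hA.exists_normalizer_not_mem'
    refine hnL (hNP (mem_normalizer_of_conj fun a ha => ?_))
    rw [← hfix]
    have hb : n * a * n⁻¹ ∈ A := conj_mem_of_le_normalizer hn a (hPA ha)
    refine ⟨hb, Subgroup.mem_centralizer_singleton_iff.2 ?_⟩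
    have hc := hA.derived_normalizer_centralizes hab (Subgroup.commutator_mem_commutator hzA hn)
    have h1 : z * a = a * z := (hzP a ha).symm
    have h2 : z * (n * a * n⁻¹) * z⁻¹ = n * a * n⁻¹ :=
      calc z * (n * a * n⁻¹) * z⁻¹ = ⁅z, n⁆ * (n * (z * a * z⁻¹) * n⁻¹) * ⁅z, n⁆⁻¹ := by
            rw [commutatorElement_def]; group
        _ = ⁅z, n⁆ * (n * a * n⁻¹) * ⁅z, n⁆⁻¹ := by rw [h1, mul_inv_cancel_right]
        _ = n * a * n⁻¹ := by rw [← hc _ hb, mul_inv_cancel_right]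
    exact (mul_inv_eq_iff_eq_mul.1 h2).symm
  push Not at hab
  obtain ⟨S₀, hS₀⟩ := hab
  have hall : ∀ T : Sylow p G, ¬ IsMulCommutative (T : Subgroup G) := fun T hT =>
    hS₀ (isMulCommutative_sylow_iff S₀ T hT)
  obtain ⟨PL, S, n, hAP, hPS, hnS, -, hnA, hnL, -⟩ := hA.nonabelian_data hall
  set W := (S : Subgroup G) ⊓ Subgroup.normalizer (A : Set G) with hW
  have hWU : Cfsg.InUniqueMaximal W := inUniqueMaximal_of_nonabelian hG (S.2.to_le inf_le_left) fun hc =>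
    hnL (hA.centralizer_le fun a ha => haveI := hc
      congrArg Subtype.val (mul_comm' (⟨a, ⟨hPS (hAP ha), Subgroup.le_normalizer ha⟩⟩ : W) ⟨n, ⟨hnS, hnA⟩⟩))
  obtain ⟨L₅, hL₅, hNA⟩ := (eq_top_or_exists_le_coatom _).resolve_left
    (normalizer_ne_top hG hA.maxElem.ne_bot (hA.maxElem.ne_top hG))
  have hne5 : L₅ ≠ L := fun e => hnL (e ▸ hNA hnA)
  have hAL₅ : A ≤ L₅ := Subgroup.le_normalizer.trans hNA
  have hS1 : (S : Subgroup G) ≠ ⊥ := fun e => hA.maxElem.ne_bot (le_bot_iff.1 (e ▸ hAP.trans hPS))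
  obtain ⟨L₆, hL₆, hNS⟩ := (eq_top_or_exists_le_coatom _).resolve_left
    (normalizer_ne_top hG hS1 (sylow_ne_top hG S))
  have h65 : L₆ = L₅ := uniq_eq hWU hL₆ (inf_le_left.trans (Subgroup.le_normalizer.trans hNS)) hL₅
    (inf_le_right.trans hNA)
  subst h65
  have hSL₅ : (S : Subgroup G) ≤ L₆ := Subgroup.le_normalizer.trans hNS
  have hp5 : p ∈ Cfsg.sigma L₆ := ⟨hp, hA.maxElem.dvd_card.trans (Subgroup.card_dvd_of_le hAL₅), S.subtype hSL₅, by
    rwa [Sylow.coe_subtype, Subgroup.map_subgroupOf_eq_of_le hSL₅]⟩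
  have hne : L₆ ≠ M := fun e => hAM 1 (by rwa [map_one, one_smul, ← e])
  have hzL₅ : z ∈ L₆ := hNA hzA
  have hder : ¬ Z ≤ ⁅L₆, L₆⁆ := fun hle => hzC fun a ha => Subgroup.mem_centralizer_singleton_iff.2
    (centralizes_of_le_derived hG hL₆ hq hp hqp.symm (hA.maxElem.not_beta hG L₆) hZp hle hA.maxElem.isPGroup hAL₅
      (Subgroup.zpowers_le.2 hzA) (Subgroup.mem_zpowers z) a ha)
  have hqσ5 : q ∉ Cfsg.sigma L₆ := fun h =>
    hder (le_derived_of_sigma hG hL₆ h hZp (Subgroup.zpowers_le.2 hzL₅))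
  have hP5 : P ≤ Cfsg.sigmaCore L₆ :=
    le_sigmaCore_of_isPGroup hG hL₆ hp hp5 (hPA.trans hAL₅) (isPGroup_line hp hP)
  rcases tau_cases hG hL₆ hq hqσ5 (hzo ▸ Subgroup.orderOf_dvd_natCard L₆ hzL₅) with (h1 | h3) | h2
  · exact hne5 ((uniq_of_fixed hG hL₆ h1 hzL₅ hzo hp hP hP5 hzP).2 L hL hCL).symm
  · exact hder (le_of_normal_line hG hq h3.2.2.2 (Subgroup.commutator_le_self L₆)
      (le_normalizer_commutator Subgroup.le_normalizer Subgroup.le_normalizer) h3.2.2.1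
      (Subgroup.zpowers_le.2 hzL₅) hZc)
  · exact not_tau2_of_centralizer_le hG hM hL₆ hne hqM hr hp hqp hPM (hPA.trans hAL₅) hP (Or.inl hp5) hzM' hzo
      (centralizer_le_of_tau2 hG hL₆ h2 hzL₅ hzo (line_ne_bot hp hP) hP5 hzP).1 h2

/-- A `τ₂`-line does not commute with a `τ₁`-line having fixed points. -/
theorem tau2_fixed_false (hG : Cfsg.IsMinSimpleOddOrder G) (hM : IsCoatom M) (hpτ : p ∈ Cfsg.tau1 M)
    {P : Subgroup G} (hPM : P ≤ M) (hP : Nat.card P = p) (hq : q.Prime) {z : G} (hzM : z ∈ Cfsg.sigmaCore M)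
    (hzo : orderOf z = q) (hzP : z ∈ Subgroup.centralizer (P : Set G)) {r : ℕ} (hr : r ∈ Cfsg.tau2 M) {a : G}
    (ha : a ∈ M) (hao : orderOf a = r) (haP : a ∈ Subgroup.centralizer (P : Set G)) : False := by
  classical
  have hp := hpτ.1
  haveI := Fact.mk hp
  haveI := Fact.mk hr.1
  obtain ⟨hRc, hRp, ha1⟩ := zpowers_line hr.1 hao
  set R := Subgroup.zpowers a with hR
  obtain ⟨E, hE, hKE⟩ := exists_compl_ge hG hM (sup_le hPM (Subgroup.zpowers_le.2 ha))
    (isPi_sup (π := {t | t ∉ Cfsg.sigma M}) ((Subgroup.zpowers_le.2 haP).trans (Subgroup.centralizer_le_normalizer _))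
      (fun t ht hd => by rw [hP] at hd; exact (Nat.prime_dvd_prime_iff_eq ht hp).1 hd ▸ hpτ.2.1)
      (fun t ht hd => by rw [hRc] at hd; exact (Nat.prime_dvd_prime_iff_eq ht hr.1).1 hd ▸ hr.2.1))
  have hzR : z ∈ Cfsg.sigmaCore M ⊓ Subgroup.centralizer (R : Set G) :=
    tau_one_centralizer hG hM hE hpτ (le_sup_left.trans hKE) hP
      (le_inf (le_sup_right.trans hKE) (Subgroup.zpowers_le.2 haP)) (hRc ▸ hr.1) ⟨hzM, hzP⟩
  obtain ⟨hZc, -, hz1⟩ := zpowers_line hq hzo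
  obtain ⟨B, B₀, hB, haB⟩ := exists_exc_mem hG hM hr ha (by rw [← hao, pow_orderOf_eq_one])
  have huniq := hB.centralizer_uniq (X := R) (Subgroup.zpowers_le.2 haB) (line_ne_bot hr.1 hRc)
    fun hbot => hz1 (Subgroup.mem_bot.1 (hbot ▸ hzR))
  obtain ⟨L, hL, hNP⟩ := (eq_top_or_exists_le_coatom _).resolve_left
    (normalizer_ne_top hG (line_ne_bot hp hP) fun e => hM.1 (top_unique (e ▸ hPM)))
  obtain ⟨hpL, hconj⟩ := partner_sigma hG hM hp hpτ.2.1 hpτ.2.2.2.2 hPM hP hq hzM hzo hzP hL hNP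
  have hne : M ≠ L := fun e => hconj 1 (by rw [map_one, one_smul, e])
  have hCL : Subgroup.centralizer (P : Set G) ≤ L := (Subgroup.centralizer_le_normalizer _).trans hNP
  have haL : a ∈ L := hCL haP
  have hCaM : Subgroup.centralizer ({a} : Set G) ≤ M := (centralizer_zpowers_eq a).ge.trans huniq.1
  have hcontra : ∀ B' : Subgroup G, B' ≤ M → B' ≤ L → Cfsg.IsElementaryAbelian r B' → Nat.card B' = r ^ 2 → False := by
    intro B' hB'M hB'L hB'e hB'2
    obtain ⟨C₀, hC⟩ := exists_exc hG hM hr.1 hr.2.1 hB'M hB'e hB'2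
    exact hz1 (Subgroup.mem_bot.1 (hC.inf_eq_bot hL hne.symm hB'L ▸ ⟨hzM, hCL hzP⟩))
  by_cases hrσ : r ∈ Cfsg.sigma L
  · obtain ⟨T, haT, hTL⟩ := exists_sylow_ge_sigma hrσ (Subgroup.zpowers_le.2 haL) hRp
    by_cases hWc : IsCyclic ↥((T : Subgroup G) ⊓ Subgroup.centralizer ({a} : Set G))
    · obtain ⟨-, hTc⟩ := cyclic_of_cyclic_centralizer hr.1 T.2 (haT (Subgroup.mem_zpowers a)) hao hWc
      exact hB.maxElem.not_isCyclic (isCyclic_of_sylow T hTc hB.maxElem.isPGroup)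
    · obtain ⟨B', hB', hB'e, hB'2⟩ := exists_elem_sq hG hr.1 (T.2.to_le inf_le_left) hWc
      exact hcontra B' (hB'.trans (inf_le_right.trans hCaM)) (hB'.trans (inf_le_left.trans hTL)) hB'e hB'2
  by_cases hrL : Cfsg.PRankLE r 1 L
  · obtain ⟨b, hb, hbo⟩ := exists_order_of_dvd hp (hP ▸ dvd_rfl : p ∣ Nat.card P)
    have hbR : b ∈ Subgroup.centralizer (R : Set G) := fun x hx => by
      obtain ⟨i, rfl⟩ := Subgroup.mem_zpowers_iff.1 hx
      exact ((show Commute b a from haP b hb).zpow_right i).eq.symm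
    exact hr.2.1 (partner_sigma hG hL hr.1 hrσ hrL (Subgroup.zpowers_le.2 haL) hRc hp
      (le_sigmaCore_of_isPGroup hG hL hp hpL (Subgroup.le_normalizer.trans hNP) (isPGroup_line hp hP) hb) hbo hbR hM
      (normalizer_le_of_uniq hG hM huniq)).1
  · obtain ⟨B', C₀, hB', haB'⟩ := exists_exc_mem hG hL
      (⟨hr.1, hrσ, prankLE_two_of_not_sigma hG hL hr.1 hrσ, hrL⟩ : r ∈ Cfsg.tau2 L) haL (by rw [← hao, pow_orderOf_eq_one])
    exact hcontra B' (fun x hx => hCaM (Subgroup.mem_centralizer_singleton_iff.2 (hB'.maxElem.comm hx haB')))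
      hB'.hAM hB'.hAe hB'.hA2

/-- No Sylow subgroup at a prime of `σ(M) ∩ σ(L)` meets the fixed points of a `τ₁`-line. -/
theorem no_common_sylow (hG : Cfsg.IsMinSimpleOddOrder G) (hM : IsCoatom M) (hL : IsCoatom L)
    (hconj : ∀ g : G, L ≠ MulAut.conj g • M) (hpτ : p ∈ Cfsg.tau1 M) (hpσ : p ∈ Cfsg.sigma L) {P : Subgroup G}
    (hPM : P ≤ M) (hPL : P ≤ L) (hP : Nat.card P = p) (hq : q.Prime) (hqM : q ∈ Cfsg.sigma M)
    (hqL : q ∈ Cfsg.sigma L) {z : G} (hzM : z ∈ M) (hzL : z ∈ L) (hzo : orderOf z = q)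
    (hzP : z ∈ Subgroup.centralizer (P : Set G)) (hCz : Subgroup.centralizer ({z} : Set G) ≤ M) : False := by
  classical
  have hp := hpτ.1
  haveI := Fact.mk hp
  haveI := Fact.mk hq
  have hqp : q ≠ p := fun e => hpτ.2.1 (e ▸ hqM)
  have hqβ : q ∉ Cfsg.beta L := fun hβ => by
    obtain ⟨g, hg⟩ := conj_of_alpha hG hM hL hqM hqL (Or.inr hβ.1)
    exact hconj g hg
  obtain ⟨hZc, hZp, hz1⟩ := zpowers_line hq hzo
  set Z := Subgroup.zpowers z with hZ
  obtain ⟨T₀, hT₀M, hT₀L⟩ : ∃ T : Sylow q G, (T : Subgroup G) ≤ M ∧ (T : Subgroup G) ≤ L := by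
    obtain ⟨T, hzT, hTL⟩ := exists_sylow_ge_sigma hqL (Subgroup.zpowers_le.2 hzL) hZp
    by_cases hWc : IsCyclic ↥((T : Subgroup G) ⊓ Subgroup.centralizer ({z} : Set G))
    · exact ⟨T, (cyclic_of_cyclic_centralizer hq T.2 (hzT (Subgroup.mem_zpowers z)) hzo hWc).1.trans hCz, hTL⟩
    · obtain ⟨T', -, hTL', hTM', -, -⟩ := exists_common_sylow hG hL hM hqL hqM (T.2.to_le inf_le_left)
        (inf_le_left.trans hTL) (inf_le_right.trans hCz) hWc
      exact ⟨T', hTM', hTL'⟩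
  set K := Cfsg.sigmaCore M ⊓ L with hK
  have hKs : Group.IsSolvable K :=
    haveI := isSolvable_of_ne_top hG hL.1; isSolvable_of_le inf_le_right inferInstance
  have hcop : (Nat.card P).Coprime (Nat.card K) := Nat.coprime_of_dvd fun t ht h1 h2 => by
    rw [hP] at h1
    exact hpτ.2.1 ((Nat.prime_dvd_prime_iff_eq ht hp).1 h1 ▸
      isPi_piCoreOf _ M t ht (h2.trans (Subgroup.card_dvd_of_le inf_le_left)))
  have hPZ : P ≤ Subgroup.centralizer (Z : Set G) := Subgroup.le_centralizer_iff.1 (Subgroup.zpowers_le.2 hzP)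
  obtain ⟨S, hZS, hPS⟩ := exists_invariant_sylow_ge (p := q)
    (le_normalizer_inf_of_le (hPM.trans (le_normalizer_piCoreOf _ M)) (hPL.trans Subgroup.le_normalizer))
    hcop (Or.inr hKs) (le_inf (le_sigmaCore_of_isPGroup hG hM hq hqM (Subgroup.zpowers_le.2 hzM) hZp)
      (Subgroup.zpowers_le.2 hzL)) hZp (hPZ.trans (Subgroup.centralizer_le_normalizer _))
  obtain ⟨T, hST⟩ := (S.2.map K.subtype).exists_le_sylow
  obtain ⟨k, -, hk⟩ := exists_conj_le_sylow S T₀.2 (le_inf (le_sigmaCore_of_isPGroup hG hM hq hqM hT₀M T₀.2) hT₀L)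
  have hTS : (T : Subgroup G) = S.toSubgroup.map (Subgroup.subtype _) := by
    refine (Subgroup.eq_of_le_of_card_ge hST ?_).symm
    rw [T.card_eq_multiplicity, ← T₀.card_eq_multiplicity, ← card_conj_smul k (T₀ : Subgroup G)]
    exact Subgroup.card_le_of_le hk
  have hTM : (T : Subgroup G) ≤ M :=
    hTS ▸ (Subgroup.map_subtype_le _).trans (inf_le_left.trans (piCoreOf_le _ M))
  have hTL : (T : Subgroup G) ≤ L := hTS ▸ (Subgroup.map_subtype_le _).trans inf_le_right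
  have hPL' : P ≤ ⁅L, L⁆ := le_derived_of_sigma hG hL hpσ (isPGroup_line hp hP) hPL
  have hPT : P ≤ Subgroup.centralizer ((T : Subgroup G) : Set G) :=
    centralizes_of_le_derived hG hL hp hq hqp hqβ (isPGroup_line hp hP) hPL' T.2 hTL (hTS ▸ hPS)
  have hTc : IsCyclic (T : Subgroup G) :=
    common_sylow_cyclic hG hM hL hconj hpτ.2.2.2.2 hpτ.2.2.2.1 hpσ hqM hqL hqp hqβ hPM hPL hP T hTM hTL hPT
  set N := Subgroup.normalizer ((T : Subgroup G) : Set G) with hN
  set C := Subgroup.centralizer ((T : Subgroup G) : Set G) with hC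
  have hNM : N ≤ M := sylow_normalizer_le' hqM T hTM
  have hNL : N ≤ L := sylow_normalizer_le' hqL T hTL
  have hT1 : (T : Subgroup G) ≠ ⊥ := fun e => hz1 (Subgroup.mem_bot.1 (by
    rw [← e, hTS]; exact hZS (Subgroup.mem_zpowers z)))
  refine not_normalizer_le_centralizer hG T hT1 fun n hn => ?_
  have hCN : C ≤ N := Subgroup.centralizer_le_normalizer _
  obtain ⟨c, hc, hce⟩ := line_conj hG hp (prankLE_mono (hCN.trans hNM) hpτ.2.2.2.2) hPT hP
    (P' := MulAut.conj n • P) (fun x hx t ht => by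
      rw [mem_conj_smul_iff] at hx
      have ht' : n⁻¹ * t * n ∈ (T : Subgroup G) := by simpa using conj_mem_of_le_normalizer (inv_mem hn) t ht
      calc t * x = n * ((n⁻¹ * t * n) * (n⁻¹ * x * n)) * n⁻¹ := by group
        _ = n * ((n⁻¹ * x * n) * (n⁻¹ * t * n)) * n⁻¹ := by rw [hPT hx _ ht']
        _ = _ := by group)
    (by rw [card_conj_smul, hP])
  rw [← mul_smul, ← map_mul] at hce
  have hcn : c * n ∈ Subgroup.centralizer (P : Set G) := fun x hx => by
    have hm : c * n ∈ Subgroup.normalizer (P : Set G) := mem_normalizer_iff_conj_smul.2 hce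
    have h2 : ⁅c * n, x⁆ ∈ P ⊓ ⁅M, M⁆ :=
      ⟨by rw [commutatorElement_def]; exact P.mul_mem (conj_mem_of_le_normalizer hm x hx) (P.inv_mem hx),
        Subgroup.commutator_mem_commutator (hNM (mul_mem (hCN hc) hn)) (hPM hx)⟩
    rw [eq_bot_of_disjoint (π := {p}) (ρ := {r | r ≠ p})
      (((isPi_singleton_iff hp).2 (isPGroup_line hp hP)).mono inf_le_left)
      (fun r hr hd e => hpτ.2.2.2.1 (e ▸ hd.trans (Subgroup.card_dvd_of_le inf_le_right)))
      (Set.disjoint_singleton_left.2 fun h => h rfl), Subgroup.mem_bot] at h2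
    exact (commutatorElement_eq_one_iff_mul_comm.1 h2).symm
  suffices h : c * n ∈ C by
    have h2 := C.mul_mem (C.inv_mem hc) h
    rwa [inv_mul_cancel_left] at h2
  refine mem_of_primary fun s hs _ y hy hyk => ?_
  obtain ⟨k', hk'⟩ := hyk
  haveI := Fact.mk hs
  have hyN : y ∈ N := Subgroup.zpowers_le.2 (mul_mem (hCN hc) hn) hy
  have hyP : y ∈ Subgroup.centralizer (P : Set G) := Subgroup.zpowers_le.2 hcn hy
  have hYp : IsPGroup s (Subgroup.zpowers y) := isPGroup_zpowers hk'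
  have hYN : Subgroup.zpowers y ≤ N := Subgroup.zpowers_le.2 hyN
  haveI : IsMulCommutative (T : Subgroup G) := haveI := hTc; IsCyclic.isMulCommutative
  by_cases hsq : s = q
  · subst hsq
    have h1 : IsPGroup s ↥(Subgroup.zpowers y ⊔ (T : Subgroup G)) :=
      IsPGroup.to_sup_of_normal_right' hYp T.2 hYN
    have hyT : y ∈ (T : Subgroup G) :=
      (T.is_maximal' h1 le_sup_right).le (Subgroup.mem_sup_left (Subgroup.mem_zpowers y))
    exact fun t ht => congrArg Subtype.val (mul_comm' (⟨t, ht⟩ : (T : Subgroup G)) ⟨y, hyT⟩)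
  by_contra hyC
  have hsσ : s ∉ Cfsg.sigma L := fun hs' => hyC (centralizes_of_le_derived hG hL hs hq (Ne.symm hsq) hqβ hYp
    (le_derived_of_sigma hG hL hs' hYp (hYN.trans hNL)) T.2 hTL hYN (Subgroup.mem_zpowers y))
  have hsr : Cfsg.PRankLE s 1 L := by
    by_contra hnr
    obtain ⟨A, A₀, hA, -⟩ := exists_exc_mem hG hL
      (⟨hs, hsσ, prankLE_two_of_not_sigma hG hL hs hsσ, hnr⟩ : s ∈ Cfsg.tau2 L) (one_mem L) (one_pow s)
    obtain ⟨g, hg⟩ := conj_of_normal_sylow hM hL hqM T (hA.sylow_normal hqL T hTL)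
    exact hconj g hg
  have hd : s ∣ orderOf y := by
    obtain ⟨i, -, hi⟩ := (Nat.dvd_prime_pow hs).1 (orderOf_dvd_of_pow_eq_one hk')
    rcases Nat.eq_zero_or_pos i with rfl | hi0
    · exact absurd (orderOf_eq_one_iff.1 (show orderOf y = 1 by rw [hi, pow_zero])) fun e => hyC (e ▸ one_mem _)
    · exact hi ▸ dvd_pow_self s hi0.ne'
  set h := y ^ (orderOf y / s) with hh
  have hHc : Nat.card (Subgroup.zpowers h) = s := by rw [Nat.card_zpowers, pow_quot_order hs hd]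
  have hHy : Subgroup.zpowers h ≤ Subgroup.zpowers y :=
    Subgroup.zpowers_le.2 ((Subgroup.zpowers y).pow_mem (Subgroup.mem_zpowers y) _)
  by_cases hhT : Subgroup.zpowers h ≤ C
  · obtain ⟨SS, hSS⟩ := (hYp.comap_of_injective L.subtype L.subtype_injective :
      IsPGroup s ((Subgroup.zpowers y).subgroupOf L)).exists_le_sylow
    have hySS : Subgroup.zpowers y ≤ (SS : Subgroup L).map L.subtype :=
      (Subgroup.map_subgroupOf_eq_of_le (hYN.trans hNL)).ge.trans (Subgroup.map_mono hSS)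
    have hprime := fixed_line_le_centralizer hG hL hs hsσ
      (hHc ▸ Subgroup.card_dvd_of_le ((hHy.trans hYN).trans hNL)) (Subgroup.map_subtype_le _)
      (cyclic_of_prankLE_one hG hs hsr (SS.2.map L.subtype) (Subgroup.map_subtype_le _)) ⟨SS, rfl⟩
      (hHy.trans hySS) hHc
    exact hyC (Subgroup.le_centralizer_iff.1
      ((le_inf (le_sigmaCore_of_isPGroup hG hL hq hqL hTL T.2) (Subgroup.le_centralizer_iff.1 hhT)).trans hprime)
      (hySS (Subgroup.mem_zpowers y)))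
  exact frobenius_contra hG hL hpσ hq hqp hqβ hpτ.2.2.2.2 hpτ.2.2.2.1 hPL hP T.2 hTc hTL hPT
    (fun Q hQ _ => isCyclic_of_sylow T hTc hQ) hs hsq hHc ((hHy.trans hYN).trans hNL) hsσ hsr
    (hHy.trans (Subgroup.zpowers_le.2 hyP)) (hHy.trans hYN) hhT hNM

/-- The partner of a `τ₁`-line: its fixed primes are `τ₁` or `τ₃` there. -/
theorem partner_kappa (hG : Cfsg.IsMinSimpleOddOrder G) (hM : IsCoatom M) (hpτ : p ∈ Cfsg.tau1 M)
    {P : Subgroup G} (hPM : P ≤ M) (hP : Nat.card P = p) (hq : q.Prime) {z : G} (hzM : z ∈ Cfsg.sigmaCore M)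
    (hzo : orderOf z = q) (hzP : z ∈ Subgroup.centralizer (P : Set G)) (hL : IsCoatom L)
    (hNP : Subgroup.normalizer (P : Set G) ≤ L) :
    z ∈ L ∧ q ∉ Cfsg.sigma L ∧ (q ∈ Cfsg.tau1 L ∨ q ∈ Cfsg.tau3 L) := by
  classical
  have hp := hpτ.1
  haveI := Fact.mk hq
  obtain ⟨hpσ, hconj⟩ := partner_sigma hG hM hp hpτ.2.1 hpτ.2.2.2.2 hPM hP hq hzM hzo hzP hL hNP
  obtain ⟨hZc, hZp, hz1⟩ := zpowers_line hq hzo
  have hzL : z ∈ L := hNP (Subgroup.centralizer_le_normalizer _ hzP)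
  have hPL : P ≤ L := Subgroup.le_normalizer.trans hNP
  have hqM : q ∈ Cfsg.sigma M := isPi_piCoreOf _ M q hq (hzo ▸ Subgroup.orderOf_dvd_natCard _ hzM)
  obtain ⟨a, ha, hao⟩ := exists_order_of_dvd hp (hP ▸ dvd_rfl : p ∣ Nat.card P)
  obtain ⟨hu, hu'⟩ := uniq_of_fixed hG hM hpτ (hPM ha) hao hq hZc (Subgroup.zpowers_le.2 hzM) (fun x hx => by
    obtain ⟨i, rfl⟩ := Subgroup.mem_zpowers_iff.1 hx
    exact ((show Commute a z from hzP a ha).zpow_right i).eq.symm)
  rw [centralizer_zpowers_eq] at hu hu'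
  have hqσ : q ∉ Cfsg.sigma L := fun hqL =>
    no_common_sylow hG hM hL hconj hpτ hpσ hPM hPL hP hq hqM hqL (piCoreOf_le _ M hzM) hzL hzo hzP hu
  refine ⟨hzL, hqσ, ?_⟩
  rcases tau_cases hG hL hq hqσ (hzo ▸ Subgroup.orderOf_dvd_natCard L hzL) with h13 | h2
  · exact h13
  · have hle := (centralizer_le_of_tau2 hG hL h2 hzL hzo (line_ne_bot hp hP)
      (le_sigmaCore_of_isPGroup hG hL hp hpσ hPL (isPGroup_line hp hP)) hzP).1
    exact absurd (hu' L hL hle) fun e => hconj 1 (by rw [map_one, one_smul, e])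

end CfsgLib.OddLocal
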