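import Cfsg.Agent.Lib.OddLocal.PartnerBasics
import Cfsg.Agent.Lib.OddLocal.SigmaIntersections

/-!
BG 13.6: fixed points of `τ₁`-elements on `M_σ` have `M` as the only maximal overgroup of the centralizer.
-/

set_option autoImplicit false
set_option linter.style.haveILetI false
set_option linter.unusedSectionVars false

open scoped commutatorElement
open scoped Pointwise

namespace CfsgLib.OddLocal

open CfsgLib.Coprime
open CfsgLib.BG.FixedLine (conj_mem_of_le_normalizer mem_normalizer_of_conj)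

universe u

variable {G : Type u} [Group G] [Finite G] {p q : ℕ} {N : Subgroup G}

theorem conj_le_conj {c : G} {A B : Subgroup G} : MulAut.conj c • A ≤ MulAut.conj c • B ↔ A ≤ B :=
  Subgroup.pointwise_smul_le_pointwise_smul_iff

theorem conj_centralizer (c : G) (A : Subgroup G) :
    Subgroup.centralizer ((MulAut.conj c • A : Subgroup G) : Set G) =
      MulAut.conj c • Subgroup.centralizer (A : Set G) := by
  ext x
  rw [mem_conj_smul_iff]
  refine ⟨fun h a ha => ?_, fun h a ha => ?_⟩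
  · have h1 : (c * a * c⁻¹) * x = x * (c * a * c⁻¹) := h _ ⟨a, ha, rfl⟩
    calc a * (c⁻¹ * x * c) = c⁻¹ * ((c * a * c⁻¹) * x) * c := by group
      _ = c⁻¹ * (x * (c * a * c⁻¹)) * c := by rw [h1]
      _ = _ := by group
  · rw [SetLike.mem_coe, mem_conj_smul_iff] at ha
    have h1 := h _ ha
    calc a * x = c * ((c⁻¹ * a * c) * (c⁻¹ * x * c)) * c⁻¹ := by group
      _ = c * ((c⁻¹ * x * c) * (c⁻¹ * a * c)) * c⁻¹ := by rw [h1]
      _ = _ := by group

/-- Uniqueness of the centralizer descends along conjugation inside `N`. -/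
theorem uniq_of_conj {c : G} (hc : c ∈ N) {P : Subgroup G}
    (h : Subgroup.centralizer ((MulAut.conj c • P : Subgroup G) : Set G) ≤ N ∧
      ∀ L : Subgroup G, IsCoatom L →
        Subgroup.centralizer ((MulAut.conj c • P : Subgroup G) : Set G) ≤ L → L = N) :
    Subgroup.centralizer (P : Set G) ≤ N ∧
      ∀ L : Subgroup G, IsCoatom L → Subgroup.centralizer (P : Set G) ≤ L → L = N := by
  rw [conj_centralizer] at h
  refine ⟨?_, fun L hL hle => ?_⟩
  · rw [← conj_le_conj (c := c), smul_eq_self hc]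
    exact h.1
  · have h1 := h.2 (MulAut.conj c • L) (((MulAut.conj c).mapSubgroup).isCoatom_iff _ |>.2 hL) (conj_le_conj.2 hle)
    rw [← smul_eq_self hc] at h1
    exact smul_left_cancel _ h1

/-- Derived elements of order prime to `p` centralize an invariant `p`-subgroup. -/
theorem derived_centralizes (hG : Cfsg.IsMinSimpleOddOrder G) (hN : IsCoatom N) (hp : p.Prime)
    (hpβ : p ∉ Cfsg.beta N) {D S : Subgroup G} (hD : D ≤ ⁅N, N⁆) (hS : IsPGroup p S) (hSN : S ≤ N)
    (hDS : D ≤ Subgroup.normalizer (S : Set G)) (hDp : ¬ p ∣ Nat.card D) :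
    D ≤ Subgroup.centralizer (S : Set G) := fun x hx => mem_of_primary fun r hr hrd y hy hyk => by
  obtain ⟨k, hk⟩ := hyk
  have hyD : y ∈ D := Subgroup.zpowers_le.2 hx hy
  have hrp : r ≠ p := fun e => hDp (e ▸ hrd.trans (Subgroup.orderOf_dvd_natCard D hx))
  exact centralizes_of_le_derived hG hN hr hp hrp.symm hpβ (isPGroup_zpowers hk)
    ((Subgroup.zpowers_le.2 hyD).trans hD) hS hSN ((Subgroup.zpowers_le.2 hyD).trans hDS)
    (Subgroup.mem_zpowers y)

theorem uniq_of_fixed_aux (hG : Cfsg.IsMinSimpleOddOrder G) (hN : IsCoatom N) (hq : q ∈ Cfsg.tau1 N) {z : G}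
    (hzN : z ∈ N) (hzo : orderOf z = q) (hp : p.Prime) {P : Subgroup G} (hP : Nat.card P = p)
    (hPN : P ≤ Cfsg.sigmaCore N) (hzP : z ∈ Subgroup.centralizer (P : Set G)) :
    (Subgroup.centralizer (P : Set G) ≤ N ∧
      ∀ L : Subgroup G, IsCoatom L → Subgroup.centralizer (P : Set G) ≤ L → L = N) ∧
    ((∀ s ∈ Cfsg.tau2 N, ∀ a ∈ N, orderOf a = s → Commute a z → False) →
      ∀ T : Sylow p G, (T : Subgroup G) ≤ N → Cfsg.InUniqueMaximal (T : Subgroup G)) := by
  classical
  haveI := Fact.mk hp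
  haveI := Fact.mk hq.1
  have hpσ : p ∈ Cfsg.sigma N := isPi_piCoreOf _ N p hp (hP ▸ Subgroup.card_dvd_of_le hPN)
  by_cases hpβ : p ∈ Cfsg.beta N
  · obtain ⟨h1, h2⟩ := sigma_line_uniq hG hN hpσ (hPN.trans (piCoreOf_le _ N)) hP (Or.inl hpβ)
    exact ⟨h1, fun _ => h2⟩
  set Z := Subgroup.zpowers z with hZ
  have hZc : Nat.card Z = q := by rw [hZ, Nat.card_zpowers, hzo]
  obtain ⟨F, hF, hZF⟩ := exists_compl_ge hG hN (Subgroup.zpowers_le.2 hzN) fun r hr hd => by
    rw [hZc] at hd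
    exact (Nat.prime_dvd_prime_iff_eq hr hq.1).1 hd ▸ hq.2.1
  set K := Cfsg.sigmaCore N with hK
  have hFK : F ≤ Subgroup.normalizer (K : Set G) := hF.1.trans (le_normalizer_piCoreOf _ N)
  have hcopF : (Nat.card F).Coprime (Nat.card K) := Nat.coprime_of_dvd fun r hr h1 h2 =>
    not_sigma_of_dvd_compl hG hN hF hr h1 (isPi_piCoreOf _ N r hr h2)
  obtain ⟨S, -, hSK, hFS⟩ := exists_invariant_sylow_of_sigma hG hN hpσ (K := K) (A := F) (X := ⊥)
    (piCoreOf_le _ N) (fun U h1 h2 => le_sigmaCore_of_isPGroup hG hN hp hpσ h1 h2) hFK hcopF bot_le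
    IsPGroup.of_bot (fun a _ => mem_normalizer_of_conj fun x hx => by
      rw [Subgroup.mem_bot.1 hx, mul_one, mul_inv_cancel]; exact one_mem _)
  haveI : Group.IsSolvable N := isSolvable_of_ne_top hG hN.1
  have hKs : Group.IsSolvable K := isSolvable_of_le (piCoreOf_le _ N) inferInstance
  have hcopZ : (Nat.card Z).Coprime (Nat.card K) := hcopF.coprime_dvd_left (Subgroup.card_dvd_of_le hZF)
  obtain ⟨Q, hPQ, hZQ⟩ := exists_invariant_sylow_ge (p := p) (hZF.trans hFK) hcopZ (Or.inr hKs) hPN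
    (isPGroup_line hp hP) ((Subgroup.zpowers_le.2 hzP).trans (Subgroup.centralizer_le_normalizer _))
  obtain ⟨c, hcZ, hce⟩ := invariant_sylow_conj (hZF.trans hFK) hcopZ (Or.inr hKs) Q (S.subtype hSK) hZQ
    (by rw [Sylow.coe_subtype, Subgroup.map_subgroupOf_eq_of_le hSK]; exact hZF.trans hFS)
  set P' := MulAut.conj (c : G) • P with hP'
  have hP'c : Nat.card P' = p := by rw [hP', card_conj_smul, hP]
  have hcN : (c : G) ∈ N := piCoreOf_le _ N c.2
  have hP'S : P' ≤ (S : Subgroup G) := by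
    have h1 := map_subtype_conj_smul_sylow c Q
    rw [hce, Sylow.coe_subtype, Subgroup.map_subgroupOf_eq_of_le hSK] at h1
    rw [h1]
    exact Subgroup.map_mono hPQ
  have hP'N : P' ≤ K := hP'S.trans hSK
  have hP'Z : P' ≤ K ⊓ Subgroup.centralizer (Z : Set G) := le_inf hP'N (Subgroup.le_centralizer_iff.1 (by
    rw [hP', conj_centralizer]
    intro y hy
    rw [mem_conj_smul_iff]
    have hy' : (c : G)⁻¹ * y * c = y := by rw [mul_assoc, hcZ y hy, inv_mul_cancel_left]
    rw [hy']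
    exact (Subgroup.zpowers_le.2 hzP) hy))
  have hSN : (S : Subgroup G) ≤ N := hSK.trans (piCoreOf_le _ N)
  set D := ⁅F, F⁆ with hD
  have hDF : D ≤ F := Subgroup.commutator_le_self F
  have hDS : D ≤ Subgroup.centralizer ((S : Subgroup G) : Set G) :=
    derived_centralizes hG hN hp hpβ (Subgroup.commutator_mono hF.1 hF.1) S.2 hSN (hDF.trans hFS)
      fun hd => not_sigma_of_dvd_compl hG hN hF hp (hd.trans (Subgroup.card_dvd_of_le hDF)) hpσ
  have hDP : D ≤ Subgroup.centralizer (P' : Set G) :=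
    hDS.trans (Subgroup.centralizer_le (SetLike.coe_subset_coe.2 hP'S))
  have line : ∀ R : Subgroup G, R ≤ F → R ≤ Subgroup.centralizer (Z : Set G) → (Nat.card R).Prime →
      R ≤ Subgroup.centralizer (P' : Set G) := fun R hRF hRZ hR =>
    Subgroup.le_centralizer_iff.1 ((hP'Z.trans (tau_one_centralizer hG hN hF hq hZF hZc (le_inf hRF hRZ) hR)).trans
      inf_le_right)
  by_cases hτ : ∃ s, s ∈ Cfsg.tau2 N
  · obtain ⟨s, hs⟩ := hτ
    haveI := Fact.mk hs.1
    obtain ⟨B, B₀, hBF, hB⟩ := exists_elem_compl hG hN hF hs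
    have hFB := hB.compl_le_normalizer hF hBF
    haveI := hB.hAe.1
    have hsq : s ≠ q := fun e => hs.2.2.2 (e ▸ hq.2.2.2.2)
    have hcopB : (Nat.card Z).Coprime (Nat.card B) := by
      rw [hZc, hB.hA2]
      exact ((Nat.coprime_primes hq.1 hs.1).2 hsq.symm).pow_right 2
    haveI : Group.IsSolvable B := haveI := hB.maxElem.isPGroup.isNilpotent; inferInstance
    have hsup := commutator_sup_centralizer (hZF.trans hFB) hcopB (Or.inr inferInstance)
    have hcomm : ⁅B, Z⁆ ≤ D := Subgroup.commutator_mono hBF hZF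
    refine ⟨uniq_of_conj hcN ?_, fun hfix T hTN => False.elim ?_⟩
    · have hBP : B ≤ Subgroup.centralizer (P' : Set G) := by
        rw [← hsup]
        refine sup_le (hcomm.trans hDP) fun b hb => ?_
        by_cases hb1 : b = 1
        · rw [hb1]; exact one_mem _
        have hbo : orderOf b = s := orderOf_eq_prime (hB.hAe.2 b hb.1) hb1
        exact line (Subgroup.zpowers b) (Subgroup.zpowers_le.2 (hBF hb.1)) (Subgroup.zpowers_le.2 hb.2)
          (by rw [Nat.card_zpowers, hbo]; exact hs.1) (Subgroup.mem_zpowers b)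
      have huniq : ∀ L : Subgroup G, IsCoatom L → Subgroup.centralizer (P' : Set G) ≤ L → L = N := by
        intro L hL hle
        by_contra hne
        have hP'L : P' ≤ L := fun x hx => hle (fun y hy => by
          haveI : IsCyclic P' := isCyclic_of_prime_card hP'c
          haveI : IsMulCommutative P' := IsCyclic.isMulCommutative
          exact congrArg Subtype.val (mul_comm' (⟨y, hy⟩ : P') ⟨x, hx⟩))
        exact line_ne_bot hp hP'c (le_bot_iff.1 (hB.inf_eq_bot hL hne (hBP.trans hle) ▸ le_inf hP'N hP'L))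
      obtain ⟨L, hL, hle⟩ := (eq_top_or_exists_le_coatom _).resolve_left
        (centralizer_ne_top hG (line_ne_bot hp hP'c))
      exact ⟨huniq L hL hle ▸ hle, huniq⟩
    · have hC : B ⊓ Subgroup.centralizer (Z : Set G) = ⊥ := by
        rw [Subgroup.eq_bot_iff_forall]
        intro b hb
        by_contra hb1
        exact hfix s hs b (hB.hAM hb.1) (orderOf_eq_prime (hB.hAe.2 b hb.1) hb1)
          (hb.2 z (Subgroup.mem_zpowers z)).symm
      rw [hC, sup_bot_eq] at hsup
      exact line_ne_bot hp hP'c (le_bot_iff.1 (hB.sigmaCore_inf_centralizer ▸ le_inf hP'N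
        (Subgroup.le_centralizer_iff.1 ((hsup.ge.trans hcomm).trans hDP))))
  push Not at hτ
  haveI : Group.IsSolvable F := isSolvable_of_le hF.1 inferInstance
  obtain ⟨F₁, hF₁, hZF₁⟩ := exists_hallOf_ge (π := Cfsg.tau1 N) hZF
    (isPi_zpowers fun r hr hd => by rw [hzo] at hd; exact (Nat.prime_dvd_prime_iff_eq hr hq.1).1 hd ▸ hq)
  have hF₁c : IsCyclic F₁ := tau1_cyclic hG hN (hF₁.1.trans hF.1) hF₁.2.1
  have hF₁Z : F₁ ≤ Subgroup.centralizer (Z : Set G) := fun x hx y hy =>
    haveI := hF₁c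
    haveI : IsMulCommutative F₁ := IsCyclic.isMulCommutative
    congrArg Subtype.val (mul_comm' (⟨y, hZF₁ hy⟩ : F₁) ⟨x, hx⟩)
  have hF₁P : F₁ ≤ Subgroup.centralizer (P' : Set G) := fun x hx => mem_of_primary fun r hr hrd y hy hyk => by
    obtain ⟨k, hk⟩ := hyk
    haveI := Fact.mk hr
    have hrF : r ∣ Nat.card F₁ := hrd.trans (Subgroup.orderOf_dvd_natCard F₁ hx)
    have hrτ : r ∈ Cfsg.tau1 N := hF₁.2.1 r hr hrF
    by_cases hy1 : y = 1
    · rw [hy1]; exact one_mem _
    have hyF : y ∈ F₁ := Subgroup.zpowers_le.2 hx hy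
    have hd : r ∣ orderOf y := by
      obtain ⟨i, -, hi⟩ := (Nat.dvd_prime_pow hr).1 (orderOf_dvd_of_pow_eq_one hk)
      rcases Nat.eq_zero_or_pos i with rfl | hi0
      · exact absurd (orderOf_eq_one_iff.1 (by rw [hi, pow_zero])) hy1
      · exact hi ▸ dvd_pow_self r hi0.ne'
    set h := y ^ (orderOf y / r) with hh
    have hHc : Nat.card (Subgroup.zpowers h) = r := by rw [Nat.card_zpowers, pow_quot_order hr hd]
    have hHy : Subgroup.zpowers h ≤ Subgroup.zpowers y :=
      Subgroup.zpowers_le.2 ((Subgroup.zpowers y).pow_mem (Subgroup.mem_zpowers y) _)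
    have hyF₁ : Subgroup.zpowers y ≤ F₁ := Subgroup.zpowers_le.2 hyF
    have hyN : Subgroup.zpowers y ≤ N := (hyF₁.trans hF₁.1).trans hF.1
    have hHP := line (Subgroup.zpowers h) ((hHy.trans hyF₁).trans hF₁.1) ((hHy.trans hyF₁).trans hF₁Z)
      (hHc ▸ hr)
    obtain ⟨SS, hSS⟩ := ((isPGroup_zpowers hk).comap_of_injective N.subtype N.subtype_injective :
      IsPGroup r ((Subgroup.zpowers y).subgroupOf N)).exists_le_sylow
    have hySS : Subgroup.zpowers y ≤ (SS : Subgroup N).map N.subtype :=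
      (Subgroup.map_subgroupOf_eq_of_le hyN).ge.trans (Subgroup.map_mono hSS)
    have hprime := fixed_line_le_centralizer hG hN hr hrτ.2.1 hrτ.2.2.1 (Subgroup.map_subtype_le _)
      (cyclic_of_prankLE_one hG hr hrτ.2.2.2.2 (SS.2.map N.subtype) (Subgroup.map_subtype_le _)) ⟨SS, rfl⟩
      (hHy.trans hySS) hHc
    exact Subgroup.le_centralizer_iff.1 ((le_inf hP'N (Subgroup.le_centralizer_iff.1 hHP)).trans hprime)
      (hySS (Subgroup.mem_zpowers y))
  have hFP : F ≤ Subgroup.centralizer (P' : Set G) := by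
    refine inf_eq_left.1 (Subgroup.eq_of_le_of_card_ge (inf_le_left : F ⊓ _ ≤ F) (Nat.le_of_dvd Nat.card_pos
      ((Nat.dvd_iff_prime_pow_dvd_dvd _ _).2 fun r k hr hk => ?_)))
    haveI := Fact.mk hr
    rcases Nat.eq_zero_or_pos k with rfl | hk0
    · exact one_dvd _
    have hrF : r ∣ Nat.card F := (dvd_pow_self r hk0.ne').trans hk
    have hrσ := not_sigma_of_dvd_compl hG hN hF hr hrF
    rcases tau_cases hG hN hr hrσ (hrF.trans (Subgroup.card_dvd_of_le hF.1)) with (h1 | h3) | h2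
    · refine dvd_trans ?_ (Subgroup.card_dvd_of_le (le_inf hF₁.1 hF₁P))
      have h := hF₁.2.2 r hr h1
      rw [← Subgroup.relIndex_bot_left, ← Subgroup.relIndex_mul_relIndex ⊥ F₁ F bot_le hF₁.1,
        Subgroup.relIndex_bot_left] at hk
      exact (Nat.Coprime.dvd_of_dvd_mul_right ((hr.coprime_iff_not_dvd.2 h).pow_left k) hk)
    · obtain ⟨T⟩ : Nonempty (Sylow r F) := inferInstance
      have hTD : (T : Subgroup F).map F.subtype ≤ D := tau3_le_derived hG hN hF (Subgroup.map_subtype_le _)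
        fun t ht hd => ((isPi_singleton_iff hr).2 (T.2.map _) t ht hd : t = r) ▸ h3
      refine dvd_trans ?_ (Subgroup.card_dvd_of_le (le_inf (Subgroup.map_subtype_le _) (hTD.trans hDP)))
      rw [Subgroup.card_subtype, T.card_eq_multiplicity]
      exact pow_dvd_pow r ((hr.pow_dvd_iff_le_factorization Nat.card_pos.ne').1 hk)
    · exact absurd h2 (hτ r)
  have hder : P' ≤ ⁅K, K⁆ :=
    (le_inf hP'N (Subgroup.le_centralizer_iff.1 hFP)).trans (centralizer_compl_le_derived hG hN hF)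
  obtain ⟨h1, h2⟩ := sigma_line_uniq hG hN hpσ (hP'N.trans (piCoreOf_le _ N)) hP'c (Or.inr hder)
  exact ⟨uniq_of_conj hcN h1, fun _ => h2⟩

/-- BG 13.6. -/
theorem uniq_of_fixed (hG : Cfsg.IsMinSimpleOddOrder G) (hN : IsCoatom N) (hq : q ∈ Cfsg.tau1 N) {z : G}
    (hzN : z ∈ N) (hzo : orderOf z = q) (hp : p.Prime) {P : Subgroup G} (hP : Nat.card P = p)
    (hPN : P ≤ Cfsg.sigmaCore N) (hzP : z ∈ Subgroup.centralizer (P : Set G)) :
    Subgroup.centralizer (P : Set G) ≤ N ∧
      ∀ L : Subgroup G, IsCoatom L → Subgroup.centralizer (P : Set G) ≤ L → L = N :=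
  (uniq_of_fixed_aux hG hN hq hzN hzo hp hP hPN hzP).1

end CfsgLib.OddLocal
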