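import Cfsg.Agent.Lib.OddLocal.TauTwoLines
import Cfsg.Agent.Lib.OddLocal.SigmaSubgroups
import Cfsg.Agent.Lib.OddLocal.SigmaLines

/-!
BG 13.3: cyclic Sylow subgroups of a `σ`-complement act in a prime manner on `M_σ`.
-/

set_option autoImplicit false
set_option linter.style.haveILetI false
set_option linter.unusedSectionVars false

open scoped commutatorElement
open scoped Pointwise

namespace CfsgLib.OddLocal

open CfsgLib.Coprime
open CfsgLib.BG.FixedLine (conj_mem_of_le_normalizer mem_normalizer_of_conj)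

universe u

variable {G : Type u} [Group G] [Finite G] {p q : ℕ} {M L E : Subgroup G}

/-- `σ` is invariant under conjugation. -/
theorem sigma_of_conj {g : G} (hp : p ∈ Cfsg.sigma (MulAut.conj g • M)) : p ∈ Cfsg.sigma M := by
  classical
  haveI := Fact.mk hp.1
  by_contra hnot
  obtain ⟨P⟩ : Nonempty (Sylow p ↥(MulAut.conj g • M)) := inferInstance
  obtain ⟨S, hS⟩ := exists_sylow_map_eq hp P
  have hSM : (S : Subgroup G) ≤ MulAut.conj g • M := hS.le.trans (Subgroup.map_subtype_le _)
  have hNS := sylow_normalizer_le hp P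
  rw [← hS] at hNS
  set T : Sylow p G := g⁻¹ • S with hT
  have hTe : (T : Subgroup G) = MulAut.conj g⁻¹ • (S : Subgroup G) := by rw [hT, Sylow.coe_subgroup_smul]
  have hTM : (T : Subgroup G) ≤ M := fun x hx => by
    rw [hTe, mem_conj_smul_iff, inv_inv] at hx
    have := hSM hx
    rw [mem_conj_smul_iff] at this
    simpa [mul_assoc] using this
  have hpM : p ∣ Nat.card M := by
    refine hp.2.1.trans ?_
    rw [card_conj_smul]
  obtain ⟨n, hn, hnM⟩ := exists_normalizer_not_mem hpM hnot (T.subtype hTM)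
  rw [Sylow.coe_subtype, Subgroup.map_subgroupOf_eq_of_le hTM, hTe] at hn
  have h1 := conj_normalizer (g := g) hn
  rw [← mul_smul, ← map_mul, mul_inv_cancel, map_one, one_smul] at h1
  have h2 := hNS h1
  rw [mem_conj_smul_iff] at h2
  exact hnM (by simpa [mul_assoc] using h2)

/-- A cyclic Sylow subgroup of a complement is centralized by the fixed points of its line. -/
theorem fixed_line_le_centralizer (hG : Cfsg.IsMinSimpleOddOrder G) (hM : IsCoatom M) (hp : p.Prime)
    (hpσ : p ∉ Cfsg.sigma M) (hpM : p ∣ Nat.card M) {S X : Subgroup G} (hSM : S ≤ M) (hScyc : IsCyclic S)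
    (hS : ∃ P : Sylow p M, (P : Subgroup M).map M.subtype = S) (hXS : X ≤ S) (hXc : Nat.card X = p) :
    Cfsg.sigmaCore M ⊓ Subgroup.centralizer (X : Set G) ≤ Subgroup.centralizer (S : Set G) := by
  classical
  haveI := Fact.mk hp
  obtain ⟨P, hP⟩ := hS
  have hSp : IsPGroup p S := hP ▸ P.2.map _
  obtain ⟨n, hn, hnM⟩ := exists_normalizer_not_mem hpM hpσ P
  rw [hP] at hn
  have hX1 : X ≠ ⊥ := fun e => hp.ne_one (by rw [← hXc, e, Subgroup.card_bot])
  have hXp : ∀ x ∈ X, x ^ p = 1 := fun x hx => by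
    have := pow_card_eq_one' (x := (⟨x, hx⟩ : X))
    rw [hXc] at this
    simpa using congrArg Subtype.val this
  have hnX : n ∈ Subgroup.normalizer (X : Set G) := mem_normalizer_of_conj fun x hx =>
    mem_line_of_cyclic hp hScyc hXS hXc (conj_mem_of_le_normalizer hn x (hXS hx))
      (by rw [conj_pow, hXp x hx, mul_one, mul_inv_cancel])
  by_cases hSX : S = X
  · rw [hSX]; exact inf_le_right
  have hScomm : S ≤ Subgroup.centralizer (X : Set G) := fun s hs x hx => by
    obtain ⟨c, hc⟩ := hScyc.exists_generator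
    obtain ⟨i, hi⟩ := Subgroup.mem_zpowers_iff.1 (hc ⟨x, hXS hx⟩)
    obtain ⟨j, hj⟩ := Subgroup.mem_zpowers_iff.1 (hc ⟨s, hs⟩)
    have := congrArg Subtype.val ((Commute.zpow_zpow_self c i j).eq)
    rw [hi, hj] at this
    exact this
  obtain ⟨L, hL, hNL⟩ := (eq_top_or_exists_le_coatom _).resolve_left
    (normalizer_ne_top hG hX1 fun e => hM.1 (top_unique (e.ge.trans (hXS.trans hSM))))
  have hLM : L ≠ M := fun e => hnM (e ▸ hNL hnX)
  have hSL : S ≤ L := hScomm.trans ((Subgroup.centralizer_le_normalizer _).trans hNL)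
  set C := Cfsg.sigmaCore M ⊓ Subgroup.centralizer (X : Set G) with hC
  have hCL : C ≤ L := inf_le_right.trans ((Subgroup.centralizer_le_normalizer _).trans hNL)
  have hCM : C ≤ M := inf_le_left.trans (piCoreOf_le _ M)
  have hCσ : ∀ r : ℕ, r.Prime → r ∣ Nat.card C → r ∈ Cfsg.sigma M := fun r hr hd =>
    isPi_piCoreOf _ M r hr (hd.trans (Subgroup.card_dvd_of_le inf_le_left))
  have hSC : S ≤ Subgroup.normalizer (C : Set G) :=
    le_normalizer_inf_of_le (hSM.trans (le_normalizer_piCoreOf _ M))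
      (le_normalizer_centralizer (hScomm.trans (Subgroup.centralizer_le_normalizer _)))
  haveI : Group.IsSolvable C := isSolvable_of_le hCM (isSolvable_of_ne_top hG hM.1)
  -- `S` centralizes each invariant Sylow subgroup of `C`
  have key : ∀ r : ℕ, r.Prime → ∀ R : Subgroup G, IsPGroup r R → R ≤ C → R ≠ ⊥ →
      S ≤ Subgroup.normalizer (R : Set G) → R ≤ Subgroup.centralizer (S : Set G) := by
    intro r hr R hRr hRC hR1 hSR
    haveI := Fact.mk hr
    obtain ⟨z, hz, -, hzo⟩ := exists_central_order hr hRr hR1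
    have hrσ : r ∈ Cfsg.sigma M := hCσ r hr (hzo ▸ Subgroup.orderOf_dvd_natCard C (hRC hz))
    have hrp : r ≠ p := fun e => hpσ (e ▸ hrσ)
    have hRL : R ≤ L := hRC.trans hCL
    by_cases hpL : p ∈ Cfsg.sigma L
    · have hrβ : r ∉ Cfsg.beta L := fun hβ => by
        obtain ⟨g, hg⟩ := conj_of_alpha hG hM hL hrσ (beta_subset_sigma hG hL hβ) (Or.inr hβ.1)
        exact hpσ (sigma_of_conj (hg ▸ hpL))
      exact Subgroup.le_centralizer_iff.1 (centralizes_of_le_derived hG hL hp hr hrp hrβ hSp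
        (le_derived_of_sigma hG hL hpL hSp hSL) hRr hRL hSR)
    -- `p ∈ τ₂(L)`
    obtain ⟨Q, hQ⟩ := (hSp.comap_of_injective L.subtype L.subtype_injective :
      IsPGroup p (S.subgroupOf L)).exists_le_sylow
    set Q' := (Q : Subgroup L).map L.subtype with hQ'
    have hSQ : S ≤ Q' := (Subgroup.map_subgroupOf_eq_of_le hSL).ge.trans (Subgroup.map_mono hQ)
    have hpLd : p ∣ Nat.card L := hXc ▸ Subgroup.card_dvd_of_le (hXS.trans hSL)
    have hQnc : ¬ IsCyclic Q' := by
      intro hc
      obtain ⟨n', hn', hn'L⟩ := exists_normalizer_not_mem hpLd hpL Q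
      exact hn'L (hNL (mem_normalizer_of_conj fun x hx => mem_line_of_cyclic hp hc (hXS.trans hSQ) hXc
        (conj_mem_of_le_normalizer hn' x (hSQ (hXS hx))) (by rw [conj_pow, hXp x hx, mul_one, mul_inv_cancel])))
    obtain ⟨B, hBQ, hBe, hB2⟩ := exists_elem_sq hG hp (Q.2.map L.subtype) hQnc
    obtain ⟨B₀, hB⟩ := exists_exc hG hL hp hpL (hBQ.trans (Subgroup.map_subtype_le _)) hBe hB2
    by_cases hab : ∀ T : Sylow p G, IsMulCommutative (T : Subgroup G)
    swap
    · -- a nonabelian Sylow subgroup is impossible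
      exfalso
      push Not at hab
      obtain ⟨T, hT⟩ := hab
      have hna : ∀ T' : Sylow p G, ¬ IsMulCommutative (T' : Subgroup G) := fun T' hT' => hT (by
        obtain ⟨g, hg⟩ := MulAction.exists_smul_eq G T' T
        haveI := hT'
        rw [← hg, Sylow.coe_subgroup_smul]
        exact Subgroup.map_isMulCommutative _ _)
      have hXB : X ≤ B := fun x hx => (hB.le_sylow_mem Q hBQ (hSQ (hXS hx))).1 (hXp x hx)
      by_cases hXB₀ : X = B₀
      swap
      · exact (hB.other_lines hna hXB hXc hXB₀).2 ((Subgroup.centralizer_le_normalizer _).trans hNL)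
      -- `X` is the exceptional line: it is not the line of a cyclic group of order `p ^ 2`
      obtain ⟨n₂, hnQ, hn₂L⟩ := exists_normalizer_not_mem hpLd hpL Q
      obtain ⟨T₂, hQT⟩ := (Q.2.map L.subtype).exists_le_sylow
      obtain ⟨D, hD⟩ := hB.maxElem.centralizer_shape hG T₂ (hBQ.trans hQT) (hna T₂)
      have hQC : Q' ≤ Subgroup.centralizer (B : Set G) :=
        Subgroup.le_centralizer_iff.1 (hB.le_centralizer_sylow Q hBQ)
      obtain ⟨k, hk⟩ := hSp.exists_card_eq
      obtain ⟨c, hc⟩ := hScyc.exists_ofOrder_eq_natCard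
      have hco : orderOf (c : G) = p ^ k := by rw [Subgroup.orderOf_coe, hc, hk]
      have hk2 : 2 ≤ k := by
        by_contra hlt
        refine hSX (Subgroup.eq_of_le_of_card_ge hXS ?_).symm
        rw [hk, hXc]
        exact (Nat.pow_le_pow_right hp.pos (by omega : k ≤ 1)).trans (pow_one p).le
      set w := (c : G) ^ p ^ (k - 2) with hw
      have hwo : orderOf w = p ^ 2 := by
        rw [hw, orderOf_pow_of_dvd (pow_ne_zero _ hp.ne_zero) (hco ▸ pow_dvd_pow p (by omega)), hco,
          Nat.pow_div (by omega) hp.pos]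
        congr 1; omega
      have hwS : w ∈ S := S.pow_mem c.2 _
      have hwp : orderOf (w ^ p) = p := by
        rw [orderOf_pow_of_dvd hp.ne_zero (hwo ▸ dvd_pow_self p two_ne_zero), hwo, sq, Nat.mul_div_cancel _ hp.pos]
      have hwX : w ^ p ∈ X := mem_line_of_cyclic hp hScyc hXS hXc (S.pow_mem hwS p)
        (orderOf_dvd_iff_pow_eq_one.1 hwp.dvd)
      have hXgen : X = Subgroup.zpowers (w ^ p) := (Subgroup.eq_of_le_of_card_ge (Subgroup.zpowers_le.2 hwX)
        (by rw [hXc, Nat.card_zpowers, hwp])).symm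
      obtain ⟨hwD, hDc⟩ := hD w ⟨hQT (hSQ hwS), hQC (hSQ hwS)⟩
      have hn' : n₂ * w * n₂⁻¹ ∈ Q' := conj_mem_of_le_normalizer hnQ w (hSQ hwS)
      obtain ⟨hnwD, -⟩ := hD _ ⟨hQT hn', hQC hn'⟩
      rw [conj_pow] at hnwD
      have hmem : n₂ * w ^ p * n₂⁻¹ ∈ X := mem_line_of_cyclic hp hDc (hXgen ▸ Subgroup.zpowers_le.2 hwD) hXc hnwD
        (by rw [conj_pow, hXp _ hwX, mul_one, mul_inv_cancel])
      refine hn₂L (hNL (mem_normalizer_of_conj fun x hx => ?_))
      rw [hXgen] at hx
      obtain ⟨i, rfl⟩ := Subgroup.mem_zpowers_iff.1 hx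
      rw [← conj_zpow]
      exact X.zpow_mem hmem i
    · -- abelian Sylow subgroups
      have hrL : r ∉ Cfsg.sigma L := fun hrL => by
        obtain ⟨T₀⟩ : Nonempty (Sylow r L) := inferInstance
        obtain ⟨T, hT⟩ := exists_sylow_map_eq hrL T₀
        have hTL : (T : Subgroup G) ≤ L := hT.le.trans (Subgroup.map_subtype_le _)
        have hLT := hB.sylow_normal hrL T hTL
        obtain ⟨U₀⟩ : Nonempty (Sylow r M) := inferInstance
        obtain ⟨U, hU⟩ := exists_sylow_map_eq hrσ U₀
        have hNU := sylow_normalizer_le hrσ U₀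
        rw [← hU] at hNU
        obtain ⟨g, hg⟩ := MulAction.exists_smul_eq G T U
        have hle : MulAut.conj g • L ≤ M := fun y hy => hNU (by
          rw [mem_conj_smul_iff] at hy
          have h1 := conj_normalizer (g := g) (hLT hy)
          rw [← Sylow.coe_subgroup_smul, hg, show g * (g⁻¹ * y * g) * g⁻¹ = y by group] at h1
          exact h1)
        have hgL : IsCoatom (MulAut.conj g • L) := ((MulAut.conj g).mapSubgroup).isCoatom_iff _ |>.2 hL
        have he : MulAut.conj g • L = M := ((hgL.le_iff).1 hle).resolve_left hM.1 |>.symm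
        have hnc : ¬ IsCyclic S := fun hc => by
          have hcB : MulAut.conj g • B ≤ MulAut.conj g • L := Subgroup.map_mono hB.hAM
          rw [he] at hcB
          obtain ⟨x, hx, hxS⟩ := exists_conj_le_sylow P (hB.maxElem.isPGroup.map _) hcB
          rw [hP] at hxS
          haveI := hc
          haveI : IsCyclic ↥(MulAut.conj x • MulAut.conj g • B : Subgroup G) :=
            isCyclic_of_injective (Subgroup.inclusion hxS) (Subgroup.inclusion_injective hxS)
          exact ((hB.maxElem.conj g).conj x).not_isCyclic inferInstance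
        exact hnc hScyc
      obtain ⟨F, hF⟩ := exists_compl hG hL
      -- `R` and `S` lie in a complement of `L_σ`, where the Sylow `p`-subgroup is normal
      have hSR' : R ⊓ S = ⊥ := eq_bot_of_disjoint (π := {r}) (ρ := {p})
        (fun s hs hd => (isPi_singleton_iff hr).2 hRr s hs (hd.trans (Subgroup.card_dvd_of_le inf_le_left)))
        (fun s hs hd => (isPi_singleton_iff hp).2 hSp s hs (hd.trans (Subgroup.card_dvd_of_le inf_le_right)))
        (Set.disjoint_singleton.2 hrp)
      obtain ⟨m, hm, hmF⟩ := exists_conj_le_compl hG hL hF (K := R ⊔ S) (sup_le hRL hSL) fun s hs hd => by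
        have h1 := hd.trans ⟨_, (card_sup_mul_card_inf (K := R) (S := S) hSR).symm⟩
        rcases hs.dvd_mul.1 h1 with h3 | h3
        · exact ((isPi_singleton_iff hr).2 hRr s hs h3 : s = r) ▸ hrL
        · exact ((isPi_singleton_iff hp).2 hSp s hs h3 : s = p) ▸ hpL
      have hpτ : p ∈ Cfsg.tau2 L := mem_tau2_of_elem hG hL hB.maxElem hB.hAM hpL
      obtain ⟨B', B'₀, hB'F, hB'⟩ := exists_elem_compl hG hL hF hpτ
      obtain ⟨T, -, -, -, hFT, hTall⟩ := hB'.sylow_normal_compl hF hB'F hpτ hab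
      intro x hx s hs
      have hxF : m * x * m⁻¹ ∈ F := hmF (conj_mem_conj_smul (Subgroup.mem_sup_left hx))
      have hsT : m * s * m⁻¹ ∈ (T : Subgroup G) := by
        refine hTall _ (hmF (conj_mem_conj_smul (Subgroup.mem_sup_right hs))) ?_
        obtain ⟨i, hi⟩ := hSp ⟨s, hs⟩
        exact ⟨i, by rw [conj_pow, show s ^ p ^ i = 1 from congrArg Subtype.val hi, mul_one, mul_inv_cancel]⟩
      have h1 : m * (s * x * s⁻¹ * x⁻¹) * m⁻¹ ∈ (T : Subgroup G) := by
        rw [show m * (s * x * s⁻¹ * x⁻¹) * m⁻¹ =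
          (m * s * m⁻¹) * ((m * x * m⁻¹) * (m * s * m⁻¹)⁻¹ * (m * x * m⁻¹)⁻¹) by group]
        exact (T : Subgroup G).mul_mem hsT (conj_mem_of_le_normalizer (hFT hxF) _ ((T : Subgroup G).inv_mem hsT))
      have h2 : m * (s * x * s⁻¹ * x⁻¹) * m⁻¹ ∈ MulAut.conj m • R := conj_mem_conj_smul
        (R.mul_mem (conj_mem_of_le_normalizer (hSR hs) x hx) (R.inv_mem hx))
      have h3 : (MulAut.conj m • R) ⊓ (T : Subgroup G) = ⊥ := eq_bot_of_disjoint (π := {r}) (ρ := {p})
        (fun s hs hd => (isPi_singleton_iff hr).2 (hRr.map _) s hs (hd.trans (Subgroup.card_dvd_of_le inf_le_left)))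
        (fun s hs hd => (isPi_singleton_iff hp).2 T.2 s hs (hd.trans (Subgroup.card_dvd_of_le inf_le_right)))
        (Set.disjoint_singleton.2 hrp)
      have h4 := h3.le (Subgroup.mem_inf.2 ⟨h2, h1⟩)
      rw [Subgroup.mem_bot, mul_inv_eq_one, mul_eq_left, mul_inv_eq_one, mul_inv_eq_iff_eq_mul] at h4
      exact h4
  refine inf_eq_left.1 (Subgroup.eq_of_le_of_card_ge (inf_le_left :
    C ⊓ Subgroup.centralizer (S : Set G) ≤ C) (Nat.le_of_dvd Nat.card_pos ?_))
  refine (Nat.dvd_iff_prime_pow_dvd_dvd _ _).2 fun r k hr hk => ?_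
  rcases Nat.eq_zero_or_pos k with rfl | hk0
  · simp
  haveI := Fact.mk hr
  obtain ⟨R₀, hR₀⟩ := exists_invariant_sylow (p := r) hSC (Nat.coprime_of_dvd fun s hs h1 h2 =>
    hpσ (((isPi_singleton_iff hp).2 hSp s hs h1 : s = p) ▸ hCσ s hs h2)) (Or.inr inferInstance)
  have hRC : (R₀ : Subgroup C).map C.subtype ≤ C := Subgroup.map_subtype_le _
  refine dvd_trans ?_ (Subgroup.card_dvd_of_le (le_inf hRC (key r hr _ (R₀.2.map _) hRC ?_ hR₀)))
  · rw [Subgroup.card_subtype, R₀.card_eq_multiplicity]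
    exact Nat.pow_dvd_pow r ((hr.pow_dvd_iff_le_factorization Nat.card_pos.ne').1 hk)
  · exact fun e => R₀.ne_bot_of_dvd_card ((dvd_pow_self r hk0.ne').trans hk)
      ((Subgroup.map_eq_bot_iff_of_injective _ C.subtype_injective).1 e)

end CfsgLib.OddLocal
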