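import Mathlib
import Cfsg.Prelude.Def_OddOrderLocal
import Cfsg.Agent.Lib.Fusion.DStar

/-!
The Puig series.
-/

set_option autoImplicit false

namespace CfsgLib.OddLocal

open Cfsg

variable {G : Type*} [Group G]

theorem puigStep_antitone {X Y : Subgroup G} (h : X ≤ Y) : puigStep Y ≤ puigStep X :=
  sSup_le_sSup fun _ hA => ⟨hA.1, h.trans hA.2⟩

theorem puigSeq_one : puigSeq G 1 = ⊤ := by
  refine eq_top_iff.mpr fun x _ => ?_
  have h : Subgroup.zpowers x ∈
      {A : Subgroup G | IsMulCommutative A ∧ puigSeq G 0 ≤ Subgroup.normalizer (A : Set G)} :=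
    ⟨inferInstance, bot_le⟩
  exact le_sSup h (Subgroup.mem_zpowers x)

theorem puigSeq_succ (n : ℕ) : puigSeq G (n + 1) = puigStep (puigSeq G n) := rfl

theorem puigSeq_even_mono : ∀ n, puigSeq G (2 * n) ≤ puigSeq G (2 * n + 2)
  | 0 => bot_le
  | n + 1 => by
    rw [show 2 * (n + 1) + 2 = 2 * n + 2 + 1 + 1 by ring, show 2 * (n + 1) = 2 * n + 1 + 1 by ring,
      puigSeq_succ (2 * n + 1), puigSeq_succ (2 * n + 2 + 1), puigSeq_succ (2 * n + 2)]
    exact puigStep_antitone (puigStep_antitone (puigSeq_even_mono n))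

theorem puigSeq_even_le_odd : ∀ k n m, n + m = k → puigSeq G (2 * n) ≤ puigSeq G (2 * m + 1) := by
  intro k
  induction k using Nat.strong_induction_on with
  | _ k ih =>
    intro n m hk
    rcases n with _ | n
    · exact bot_le
    rcases m with _ | m
    · rw [show 2 * 0 + 1 = 1 by rfl, puigSeq_one]
      exact le_top
    rw [show 2 * (n + 1) = 2 * n + 1 + 1 by ring, puigSeq_succ (2 * n + 1),
      puigSeq_succ (2 * (m + 1))]
    exact puigStep_antitone (ih (m + 1 + n) (by omega) (m + 1) n rfl)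

theorem puigSeq_odd_anti (m : ℕ) : puigSeq G (2 * m + 3) ≤ puigSeq G (2 * m + 1) := by
  rw [puigSeq_succ (2 * m + 2), puigSeq_succ (2 * m)]
  exact puigStep_antitone (puigSeq_even_mono m)

theorem puig_stabilizes [Finite G] : ∃ k : ℕ, ∀ n : ℕ, k ≤ n →
    puigSeq G (2 * n) = puigLower G ∧ puigSeq G (2 * n + 1) = puigSubgroup G := by
  obtain ⟨a, ha⟩ := WellFoundedGT.monotone_chain_condition'
    ⟨fun n => puigSeq G (2 * n), monotone_nat_of_le_succ fun n => puigSeq_even_mono n⟩
  have hconst : ∀ n, a ≤ n → puigSeq G (2 * n) = puigSeq G (2 * a) := by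
    intro n hn
    have hle : puigSeq G (2 * a) ≤ puigSeq G (2 * n) :=
      (monotone_nat_of_le_succ (f := fun n => puigSeq G (2 * n)) fun n => puigSeq_even_mono n) hn
    exact (hle.eq_of_not_lt (ha n hn)).symm
  have hlow : puigLower G = puigSeq G (2 * a) := by
    refine le_antisymm (iSup_le fun n => ?_) (le_iSup (fun n => puigSeq G (2 * n)) a)
    rcases le_total n a with h | h
    · exact (monotone_nat_of_le_succ (f := fun n => puigSeq G (2 * n)) fun n => puigSeq_even_mono n) h
    · exact (hconst n h).le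
  have hodd : ∀ n, a ≤ n → puigSeq G (2 * n + 1) = puigSeq G (2 * a + 1) := fun n hn => by
    rw [puigSeq_succ, puigSeq_succ, hconst n hn]
  have hup : puigSubgroup G = puigSeq G (2 * a + 1) := by
    refine le_antisymm (iInf_le (fun n => puigSeq G (2 * n + 1)) a) (le_iInf fun n => ?_)
    rcases le_total n a with h | h
    · exact (antitone_nat_of_succ_le (f := fun n => puigSeq G (2 * n + 1))
        fun n => puigSeq_odd_anti n) h
    · exact (hodd n h).ge
  exact ⟨a, fun n hn => ⟨(hconst n hn).trans hlow.symm, (hodd n hn).trans hup.symm⟩⟩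

theorem centralizer_puigStep_le [Finite G] {p : ℕ} [Fact p.Prime] (hG : IsPGroup p G)
    (X : Subgroup G) :
    Subgroup.centralizer (puigStep X : Set G) ≤ puigStep X := by
  haveI : Group.IsNilpotent (⊤ : Subgroup G) := (hG.to_subgroup ⊤).isNilpotent
  obtain ⟨N, -, hN, hNc, hC⟩ := CfsgLib.DStar.exists_self_centralizing (⊤ : Subgroup G)
  have hle : N ≤ puigStep X :=
    le_sSup ⟨⟨⟨fun a b => Subtype.ext (hNc a a.2 b b.2).eq⟩⟩, le_top.trans hN⟩
  intro z hz
  exact hle (hC (Subgroup.mem_inf.mpr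
    ⟨Subgroup.mem_top z, Subgroup.centralizer_le (SetLike.coe_subset_coe.mpr hle) hz⟩))

end CfsgLib.OddLocal
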