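import Mathlib
import Cfsg.Prelude.Def_OddOrderLocal
import Cfsg.Agent.Lib.OddLocal.Puig
import Cfsg.Agent.Lib.Quadratic.Stable
import Cfsg.Agent.Lib.ZJ.Core
import Cfsg.Agent.Lib.PSolvable.Constrained
import Cfsg.Agent.Lib.Fitting.Basic
import Cfsg.Agent.Lib.Layer.CharPSubnormal

/-!
Puig's theorem: for a linearly `p`-stable group with `C(O_p) ≤ O_p`, the Puig series of a Sylow
subgroup and of `O_p` interlock, and `Z(L(S))` is normal.
-/

set_option autoImplicit false
set_option linter.style.haveILetI false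

namespace CfsgLib.OddLocal.PuigCenter

open Cfsg
open scoped commutatorElement

universe u

variable {G : Type u} [Group G]

/-- The subgroup generated by the abelian subgroups of `S` normalized by `X`, inside `G`. -/
def stepIn (S X : Subgroup G) : Subgroup G :=
  sSup {A : Subgroup G | A ≤ S ∧ IsMulCommutative A ∧ X ≤ Subgroup.normalizer (A : Set G)}

/-- The Puig series of `S`, inside `G`. -/
def seqIn (S : Subgroup G) (n : ℕ) : Subgroup G := (Cfsg.puigSeq S n).map S.subtype

/-- `L_*(S)` inside `G`. -/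
def low (S : Subgroup G) : Subgroup G := (Cfsg.puigLower S).map S.subtype

/-- `L(S)` inside `G`. -/
def up (S : Subgroup G) : Subgroup G := (Cfsg.puigSubgroup S).map S.subtype

theorem stepIn_le (S X : Subgroup G) : stepIn S X ≤ S := sSup_le fun _ h => h.1

theorem le_stepIn {S X A : Subgroup G} (hA : A ≤ S) (hc : ∀ a ∈ A, ∀ b ∈ A, a * b = b * a)
    (hX : X ≤ Subgroup.normalizer (A : Set G)) : A ≤ stepIn S X :=
  le_sSup ⟨hA, ⟨⟨fun a b => Subtype.ext (hc a a.2 b b.2)⟩⟩, hX⟩

theorem stepIn_anti {S X Y : Subgroup G} (h : X ≤ Y) : stepIn S Y ≤ stepIn S X :=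
  sSup_le_sSup fun _ hA => ⟨hA.1, hA.2.1, h.trans hA.2.2⟩

theorem stepIn_mono {R S : Subgroup G} (h : R ≤ S) (X : Subgroup G) : stepIn R X ≤ stepIn S X :=
  sSup_le_sSup fun _ hA => ⟨hA.1.trans h, hA.2⟩

theorem map_puigStep (S : Subgroup G) (Y : Subgroup S) :
    (Cfsg.puigStep Y).map S.subtype = stepIn S (Y.map S.subtype) := by
  have hn : ∀ B : Subgroup S, Y ≤ Subgroup.normalizer (B : Set S) ↔
      Y.map S.subtype ≤ Subgroup.normalizer ((B.map S.subtype : Subgroup G) : Set G) := by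
    intro B
    constructor
    · rintro h _ ⟨y, hy, rfl⟩
      have hy' := Subgroup.mem_normalizer_iff.mp (h hy)
      rw [Subgroup.mem_normalizer_iff]
      intro z
      constructor
      · rintro ⟨b, hb, rfl⟩
        exact ⟨y * b * y⁻¹, (hy' b).mp hb, by simp⟩
      · rintro ⟨b, hb, hbe⟩
        refine ⟨y⁻¹ * b * y, (hy' _).mpr (by simpa [mul_assoc] using hb), ?_⟩
        simp only [Subgroup.subtype_apply, Subgroup.coe_mul, Subgroup.coe_inv] at hbe ⊢
        rw [hbe]
        group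
    · intro h y hy
      have hy' := Subgroup.mem_normalizer_iff.mp (h ⟨y, hy, rfl⟩)
      rw [Subgroup.mem_normalizer_iff]
      intro z
      constructor
      · intro hz
        obtain ⟨b, hb, hbe⟩ := (hy' (z : G)).mp ⟨z, hz, rfl⟩
        have : b = y * z * y⁻¹ := Subtype.ext (by simpa using hbe)
        rwa [← this]
      · intro hz
        obtain ⟨b, hb, hbe⟩ := (hy' (z : G)).mpr ⟨_, hz, by simp⟩
        rwa [← (Subtype.ext hbe : b = z)]
  apply le_antisymm
  · rw [Subgroup.map_le_iff_le_comap]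
    refine sSup_le fun B hB => ?_
    rw [← Subgroup.map_le_iff_le_comap]
    haveI := hB.1
    refine le_stepIn (Subgroup.map_subtype_le B) ?_ ((hn B).mp hB.2)
    rintro _ ⟨a, ha, rfl⟩ _ ⟨b, hb, rfl⟩
    exact congrArg (fun t : B => ((t : S) : G)) (mul_comm' (⟨a, ha⟩ : B) ⟨b, hb⟩)
  · refine sSup_le fun A hA => ?_
    have hAS : (A.subgroupOf S).map S.subtype = A := Subgroup.map_subgroupOf_eq_of_le hA.1
    rw [← hAS]
    refine Subgroup.map_mono (le_sSup ⟨?_, (hn _).mpr (by rw [hAS]; exact hA.2.2)⟩)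
    haveI := hA.2.1
    refine ⟨⟨fun a b => Subtype.ext (Subtype.ext ?_)⟩⟩
    simpa using congrArg Subtype.val (mul_comm' (⟨_, a.2⟩ : A) ⟨_, b.2⟩)

theorem seqIn_zero (S : Subgroup G) : seqIn S 0 = ⊥ := Subgroup.map_bot _

theorem seqIn_succ (S : Subgroup G) (n : ℕ) : seqIn S (n + 1) = stepIn S (seqIn S n) :=
  map_puigStep S _

theorem seqIn_le (S : Subgroup G) (n : ℕ) : seqIn S n ≤ S := Subgroup.map_subtype_le _

theorem up_le (S : Subgroup G) : up S ≤ S := Subgroup.map_subtype_le _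

theorem seqIn_one (S : Subgroup G) : seqIn S 1 = S := by
  rw [seqIn, CfsgLib.OddLocal.puigSeq_one, ← MonoidHom.range_eq_map, Subgroup.range_subtype]

theorem stabilizes [Finite G] (S : Subgroup G) : ∃ k : ℕ, ∀ n, k ≤ n →
    seqIn S (2 * n) = low S ∧ seqIn S (2 * n + 1) = up S := by
  obtain ⟨k, hk⟩ := CfsgLib.OddLocal.puig_stabilizes (G := S)
  exact ⟨k, fun n hn => ⟨congrArg (Subgroup.map S.subtype) (hk n hn).1,
    congrArg (Subgroup.map S.subtype) (hk n hn).2⟩⟩

theorem stepIn_low [Finite G] (S : Subgroup G) : stepIn S (low S) = up S := by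
  obtain ⟨k, hk⟩ := stabilizes S
  rw [← (hk k le_rfl).1, ← seqIn_succ]
  exact (hk k le_rfl).2

theorem stepIn_up [Finite G] (S : Subgroup G) : stepIn S (up S) = low S := by
  obtain ⟨k, hk⟩ := stabilizes S
  rw [← (hk k le_rfl).2, ← seqIn_succ]
  exact (hk (k + 1) (Nat.le_succ k)).1

theorem low_le_up [Finite G] (S : Subgroup G) : low S ≤ up S := by
  obtain ⟨k, hk⟩ := stabilizes S
  rw [← (hk k le_rfl).1, ← (hk k le_rfl).2]
  exact Subgroup.map_mono (CfsgLib.OddLocal.puigSeq_even_le_odd (k + k) k k rfl)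

theorem seqIn_even_le_low [Finite G] (S : Subgroup G) (i : ℕ) : seqIn S (2 * i) ≤ low S :=
  Subgroup.map_mono (le_iSup (fun n => Cfsg.puigSeq S (2 * n)) i)

theorem up_le_seqIn_odd [Finite G] (S : Subgroup G) (i : ℕ) : up S ≤ seqIn S (2 * i + 1) :=
  Subgroup.map_mono (iInf_le (fun n => Cfsg.puigSeq S (2 * n + 1)) i)

/-- Between `L(S)` and `S` the Puig subgroup does not change. -/
theorem up_eq_of_le [Finite G] {R S : Subgroup G} (hRS : R ≤ S) (hR : up S ≤ R) :
    up R = up S := by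
  have hind : ∀ i, seqIn R (2 * i) ≤ low S ∧ up S ≤ seqIn R (2 * i + 1) := by
    intro i
    induction i with
    | zero =>
      rw [seqIn_zero, seqIn_one]
      exact ⟨bot_le, hR⟩
    | succ i ih =>
      have h1 : seqIn R (2 * (i + 1)) ≤ low S := by
        rw [show 2 * (i + 1) = 2 * i + 1 + 1 by ring, seqIn_succ, ← stepIn_up S]
        exact (stepIn_anti ih.2).trans (stepIn_mono hRS _)
      refine ⟨h1, ?_⟩
      rw [seqIn_succ]
      refine le_trans ?_ (stepIn_anti h1)
      rw [← stepIn_low S]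
      exact sSup_le fun A hA => le_sSup ⟨(le_sSup hA).trans ((stepIn_low S).le.trans hR), hA.2⟩
  have hind' : ∀ i, seqIn S (2 * i) ≤ seqIn R (2 * i) ∧
      seqIn R (2 * i + 1) ≤ seqIn S (2 * i + 1) := by
    intro i
    induction i with
    | zero =>
      rw [seqIn_zero, seqIn_one, seqIn_one]
      exact ⟨bot_le, hRS⟩
    | succ i ih =>
      have h1 : seqIn S (2 * (i + 1)) ≤ seqIn R (2 * (i + 1)) := by
        rw [show 2 * (i + 1) = 2 * i + 1 + 1 by ring, seqIn_succ, seqIn_succ R]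
        refine le_trans ?_ (stepIn_anti ih.2)
        refine sSup_le fun A hA => le_sSup ⟨?_, hA.2⟩
        refine (le_sSup hA).trans ?_
        show stepIn S _ ≤ R
        rw [← seqIn_succ, show 2 * i + 1 + 1 = 2 * (i + 1) by ring]
        exact ((seqIn_even_le_low S _).trans (low_le_up S)).trans hR
      refine ⟨h1, ?_⟩
      rw [seqIn_succ, seqIn_succ S]
      exact (stepIn_anti h1).trans (stepIn_mono hRS _)
  obtain ⟨k, hk⟩ := stabilizes R
  obtain ⟨l, hl⟩ := stabilizes S
  refine le_antisymm ?_ ((hind k).2.trans (hk k le_rfl).2.le)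
  rw [← (hk (max k l) (le_max_left _ _)).2, ← (hl (max k l) (le_max_right _ _)).2]
  exact (hind' _).2

variable {H : Type u} [Group H]

theorem map_stepIn {S X : Subgroup G} (e : G ≃* H) :
    (stepIn S X).map e.toMonoidHom = stepIn (S.map e.toMonoidHom) (X.map e.toMonoidHom) := by
  have key : ∀ {G' H' : Type u} [Group G'] [Group H'] (e : G' ≃* H') (S X : Subgroup G'),
      (stepIn S X).map e.toMonoidHom ≤ stepIn (S.map e.toMonoidHom) (X.map e.toMonoidHom) := by
    intro G' H' _ _ e S X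
    rw [Subgroup.map_le_iff_le_comap]
    refine sSup_le fun A hA => ?_
    rw [← Subgroup.map_le_iff_le_comap]
    haveI := hA.2.1
    refine le_stepIn (Subgroup.map_mono hA.1) ?_ ?_
    · rintro _ ⟨a, ha, rfl⟩ _ ⟨b, hb, rfl⟩
      rw [← map_mul, ← map_mul]
      exact congrArg (fun t : A => e.toMonoidHom t) (mul_comm' (⟨a, ha⟩ : A) ⟨b, hb⟩)
    · exact (Subgroup.map_mono hA.2.2).trans (Subgroup.map_equiv_normalizer_eq A e).le
  refine le_antisymm (key e S X) ?_
  have h := key e.symm (S.map e.toMonoidHom) (X.map e.toMonoidHom)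
  simp only [Subgroup.map_map] at h
  have hcomp : e.symm.toMonoidHom.comp e.toMonoidHom = MonoidHom.id G := by
    ext x
    simp
  rw [hcomp, Subgroup.map_id, Subgroup.map_id] at h
  intro y hy
  exact ⟨e.symm y, h ⟨y, hy, rfl⟩, e.apply_symm_apply y⟩

theorem map_seqIn_conj {R : Subgroup G} {a : G} (ha : a ∈ Subgroup.normalizer (R : Set G)) (n : ℕ) :
    (seqIn R n).map (MulAut.conj a).toMonoidHom = seqIn R n := by
  induction n with
  | zero => rw [seqIn_zero, Subgroup.map_bot]
  | succ n ih =>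
    rw [seqIn_succ, map_stepIn, ih]
    congr 1
    exact Subgroup.mem_normalizer_iff_map_conj_eq.mp ha

theorem normal_seqIn {T : Subgroup G} [T.Normal] (n : ℕ) : (seqIn T n).Normal := by
  refine Subgroup.normalizer_eq_top_iff.1 ((Subgroup.eq_top_iff' _).2 fun g => ?_)
  rw [Subgroup.mem_normalizer_iff_map_conj_eq]
  exact map_seqIn_conj (by rw [Subgroup.normalizer_eq_top T]; exact Subgroup.mem_top g) n

theorem center_up_eq (S : Subgroup G) :
    ((Subgroup.center ↥(Cfsg.puigSubgroup ↥S)).map (Cfsg.puigSubgroup ↥S).subtype).map S.subtype =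
      up S ⊓ Subgroup.centralizer (up S : Set G) := by
  ext v
  constructor
  · rintro ⟨_, ⟨z, hz, rfl⟩, rfl⟩
    refine ⟨⟨z, z.2, rfl⟩, ?_⟩
    rintro _ ⟨q, hq, rfl⟩
    exact congrArg (fun t : ↥(Cfsg.puigSubgroup ↥S) => ((t : ↥S) : G))
      (Subgroup.mem_center_iff.1 hz ⟨q, hq⟩)
  · rintro ⟨⟨w, hw, rfl⟩, h⟩
    exact ⟨w, ⟨⟨w, hw⟩, Subgroup.mem_center_iff.2 fun q => Subtype.ext (Subtype.ext
      (h _ ⟨q, q.2, rfl⟩)), rfl⟩, rfl⟩

theorem stepIn_top (Y : Subgroup G) : stepIn ⊤ Y = Cfsg.puigStep Y :=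
  le_antisymm (sSup_le_sSup fun _ hA => hA.2) (sSup_le_sSup fun _ hA => ⟨le_top, hA⟩)

theorem map_puigSeq (e : G ≃* H) (n : ℕ) :
    (Cfsg.puigSeq G n).map e.toMonoidHom = Cfsg.puigSeq H n := by
  induction n with
  | zero => exact Subgroup.map_bot _
  | succ n ih =>
    rw [CfsgLib.OddLocal.puigSeq_succ, CfsgLib.OddLocal.puigSeq_succ, ← stepIn_top, map_stepIn, ih,
      Subgroup.map_top_of_surjective _ e.surjective, stepIn_top]

/-- The Puig series commutes with homomorphisms injective on `S`. -/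
theorem map_seqIn_of_injOn (S : Subgroup G) (f : G →* H)
    (hf : ∀ x ∈ S, f x = 1 → x = 1) (n : ℕ) :
    (seqIn S n).map f = seqIn (S.map f) n := by
  let e : ↥S ≃* ↥(S.map f) := MulEquiv.ofBijective (f.subgroupMap S)
    ⟨(injective_iff_map_eq_one _).mpr fun x hx => Subtype.ext (hf x x.2
      (congrArg Subtype.val hx)), MonoidHom.subgroupMap_surjective _ _⟩
  rw [seqIn, seqIn, ← map_puigSeq e n, Subgroup.map_map, Subgroup.map_map]
  rfl

theorem map_up_of_injOn [Finite G] [Finite H] (S : Subgroup G) (f : G →* H)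
    (hf : ∀ x ∈ S, f x = 1 → x = 1) : (up S).map f = up (S.map f) := by
  obtain ⟨k, hk⟩ := stabilizes S
  obtain ⟨l, hl⟩ := stabilizes (S.map f)
  rw [← (hk (max k l) (le_max_left _ _)).2, ← (hl (max k l) (le_max_right _ _)).2]
  exact map_seqIn_of_injOn S f hf _

variable [Finite G] {p : ℕ} [Fact p.Prime]

theorem centralizer_stepIn_le {S : Subgroup G} (hS : IsPGroup p S) (Y : Subgroup S) :
    S ⊓ Subgroup.centralizer ((Cfsg.puigStep Y).map S.subtype : Set G) ≤
      (Cfsg.puigStep Y).map S.subtype := by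
  intro x hx
  refine ⟨⟨x, hx.1⟩, CfsgLib.OddLocal.centralizer_puigStep_le hS Y (fun y hy => ?_), rfl⟩
  exact Subtype.ext (hx.2 _ ⟨y, hy, rfl⟩)

theorem centralizer_seqIn_le {S : Subgroup G} (hS : IsPGroup p S) (n : ℕ) :
    S ⊓ Subgroup.centralizer (seqIn S (n + 1) : Set G) ≤ seqIn S (n + 1) :=
  centralizer_stepIn_le hS _

theorem centralizer_low_le {S : Subgroup G} (hS : IsPGroup p S) :
    S ⊓ Subgroup.centralizer (low S : Set G) ≤ low S := by
  obtain ⟨k, hk⟩ := stabilizes S
  rw [← (hk (k + 1) (Nat.le_succ k)).1]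
  exact centralizer_seqIn_le hS _

/-- An abelian `p`-subgroup normalized by a self-centralizing normal subgroup of `O_p` lies in
`O_p`. -/
theorem le_pCore_of_normalized (hst : CfsgLib.Quadratic.SectionsStable p G)
    (hc : Subgroup.centralizer (Cfsg.pCore p G : Set G) ≤ Cfsg.pCore p G)
    {X : Subgroup G} [hXn : X.Normal] (hXQ : X ≤ Cfsg.pCore p G)
    (hX : Cfsg.pCore p G ⊓ Subgroup.centralizer (X : Set G) ≤ X)
    {A : Subgroup G} (hA : ∀ a ∈ A, ∀ b ∈ A, a * b = b * a)
    (hXA : X ≤ Subgroup.normalizer (A : Set G)) : A ≤ Cfsg.pCore p G := by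
  have hXp : IsPGroup p X := (CfsgLib.Fitting.pCore_isPGroup p).to_le hXQ
  set C := Subgroup.centralizer (X : Set G) with hC
  haveI hCn : C.Normal := by rw [hC]; infer_instance
  have hCX : C ≤ X := by
    have h1 := CfsgLib.PSolvable.centralizer_pCore_le_of_normal hc C
    have h2 : ∀ q : C, q ∈ Cfsg.pCore p C → (q : G) ∈ X := fun q hq =>
      hX ⟨CfsgLib.PSolvable.map_pCore_le C ⟨q, hq, rfl⟩, q.2⟩
    have h3 : Cfsg.pCore p C = ⊤ := eq_top_iff.mpr fun y _ => h1 fun q hq =>
      Subtype.ext (y.2 (q : G) (h2 q hq))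
    exact fun y hy => h2 ⟨y, hy⟩ (h3 ▸ Subgroup.mem_top _)
  intro a ha
  have hq := CfsgLib.ZJ.quadratic_of_normalizes hA hXA ha
  have hmem : a ∈ CfsgLib.ZJ.opMod p X :=
    CfsgLib.Quadratic.isPStableOn_isPGroup_of_sectionsStable hst X hXp a hq
  refine CfsgLib.Fitting.le_pCore (CfsgLib.ZJ.opMod_normal p X) ?_ hmem
  rintro ⟨d, hd⟩
  obtain ⟨k, hk⟩ := CfsgLib.ZJ.exists_pow_mem_centralizer X hd
  obtain ⟨j, hj⟩ := hXp ⟨_, hCX hk⟩
  refine ⟨k + j, Subtype.ext ?_⟩
  show d ^ p ^ (k + j) = 1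
  rw [pow_add, pow_mul]
  exact congrArg Subtype.val hj

/-- The two Puig series interlock. -/
theorem interlock (hst : CfsgLib.Quadratic.SectionsStable p G)
    (hc : Subgroup.centralizer (Cfsg.pCore p G : Set G) ≤ Cfsg.pCore p G) (S : Sylow p G) (i : ℕ) :
    seqIn (S : Subgroup G) (2 * i) ≤ seqIn (Cfsg.pCore p G) (2 * i) ∧
      seqIn (Cfsg.pCore p G) (2 * i + 1) ≤ seqIn (S : Subgroup G) (2 * i + 1) := by
  haveI := CfsgLib.Fitting.pCore_normal (G := G) p
  set T := Cfsg.pCore p G with hT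
  have hTS : T ≤ (S : Subgroup G) := fun y hy => CfsgLib.Fitting.mem_pCore_iff_forall_sylow.mp hy S
  induction i with
  | zero =>
    rw [seqIn_zero, seqIn_one, seqIn_one]
    exact ⟨bot_le, hTS⟩
  | succ i ih =>
    have h1 : seqIn (S : Subgroup G) (2 * (i + 1)) ≤ seqIn T (2 * (i + 1)) := by
      rw [show 2 * (i + 1) = 2 * i + 1 + 1 by ring, seqIn_succ, seqIn_succ T]
      refine sSup_le fun A hA => ?_
      haveI := hA.2.1
      haveI := normal_seqIn (T := T) (2 * i + 1)
      have hXA := ih.2.trans hA.2.2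
      have hAc : ∀ a ∈ A, ∀ b ∈ A, a * b = b * a := fun a ha b hb =>
        congrArg Subtype.val (mul_comm' (⟨a, ha⟩ : A) ⟨b, hb⟩)
      refine le_stepIn ?_ hAc hXA
      exact le_pCore_of_normalized hst hc (seqIn_le T _)
        (centralizer_seqIn_le (CfsgLib.Fitting.pCore_isPGroup p) (2 * i)) hAc hXA
    refine ⟨h1, ?_⟩
    rw [seqIn_succ, seqIn_succ (S : Subgroup G)]
    exact (stepIn_anti h1).trans (stepIn_mono hTS _)

theorem containments (hst : CfsgLib.Quadratic.SectionsStable p G)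
    (hc : Subgroup.centralizer (Cfsg.pCore p G : Set G) ≤ Cfsg.pCore p G) (S : Sylow p G) :
    low (S : Subgroup G) ≤ low (Cfsg.pCore p G) ∧ up (Cfsg.pCore p G) ≤ up (S : Subgroup G) := by
  obtain ⟨k, hk⟩ := stabilizes (S : Subgroup G)
  obtain ⟨l, hl⟩ := stabilizes (Cfsg.pCore p G)
  rw [← (hk (max k l) (le_max_left _ _)).1, ← (hk (max k l) (le_max_left _ _)).2,
    ← (hl (max k l) (le_max_right _ _)).1, ← (hl (max k l) (le_max_right _ _)).2]
  exact interlock hst hc S _

/-- `Z(L(S))` is normal. -/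
theorem center_normal (hst : CfsgLib.Quadratic.SectionsStable p G)
    (hc : Subgroup.centralizer (Cfsg.pCore p G : Set G) ≤ Cfsg.pCore p G) (S : Sylow p G) :
    (up (S : Subgroup G) ⊓ Subgroup.centralizer (up (S : Subgroup G) : Set G)).Normal := by
  haveI := CfsgLib.Fitting.pCore_normal (G := G) p
  set T := Cfsg.pCore p G with hT
  have hTS : T ≤ (S : Subgroup G) := fun y hy => CfsgLib.Fitting.mem_pCore_iff_forall_sylow.mp hy S
  obtain ⟨hlow, hup⟩ := containments hst hc S
  set Z := up (S : Subgroup G) ⊓ Subgroup.centralizer (up (S : Subgroup G) : Set G) with hZ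
  set Y := up T ⊓ Subgroup.centralizer (up T : Set G) with hY
  haveI hUTn : (up T).Normal := by
    obtain ⟨l, hl⟩ := stabilizes T
    rw [← (hl l le_rfl).2]
    exact normal_seqIn _
  haveI hYn : Y.Normal := by rw [hY]; infer_instance
  have hZY : Z ≤ Y := by
    intro z hz
    refine ⟨?_, fun q hq => hz.2 q (hup hq)⟩
    have hzc : z ∈ Subgroup.centralizer (low T : Set G) := fun q hq =>
      hz.2 q (hup (low_le_up T hq))
    refine low_le_up T (centralizer_low_le (CfsgLib.Fitting.pCore_isPGroup p) ⟨?_, hzc⟩)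
    haveI hLn : (low T).Normal := by
      obtain ⟨l, hl⟩ := stabilizes T
      rw [← (hl l le_rfl).1]
      exact normal_seqIn _
    refine le_pCore_of_normalized (X := low T) (A := Subgroup.zpowers z) hst hc
      (Subgroup.map_subtype_le _) (centralizer_low_le (CfsgLib.Fitting.pCore_isPGroup p)) ?_ ?_
      (Subgroup.mem_zpowers z)
    · exact fun a ha b hb => congrArg Subtype.val
        (mul_comm' (⟨a, ha⟩ : Subgroup.zpowers z) ⟨b, hb⟩)
    · refine le_trans ?_ (Subgroup.centralizer_le_normalizer _)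
      rw [Subgroup.le_centralizer_iff]
      exact Subgroup.zpowers_le.mpr hzc
  have hYc : ∀ a ∈ Y, ∀ b ∈ Y, a * b = b * a := fun a ha b hb => hb.2 a ha.1
  have hYp : IsPGroup p Y :=
    ((CfsgLib.Fitting.pCore_isPGroup p).to_le (up_le T)).to_le inf_le_left
  have hYlow : Y ≤ low (S : Subgroup G) := by
    rw [← stepIn_up]
    exact le_stepIn ((inf_le_left.trans (up_le T)).trans hTS) hYc Subgroup.le_normalizer_of_normal
  -- `L(S)` lies in the preimage of `O_p(G / C(Y))`
  haveI hDn := CfsgLib.ZJ.opMod_normal p Y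
  set D := CfsgLib.ZJ.opMod p Y with hD
  have hLD : up (S : Subgroup G) ≤ D := by
    rw [← stepIn_low]
    refine sSup_le fun A hA => fun a ha => ?_
    haveI := hA.2.1
    exact CfsgLib.Quadratic.isPStableOn_isPGroup_of_sectionsStable hst Y hYp a
      (CfsgLib.ZJ.quadratic_of_normalizes
        (fun x hx y hy => congrArg Subtype.val (mul_comm' (⟨x, hx⟩ : A) ⟨y, hy⟩))
        (hYlow.trans hA.2.2) ha)
  set R : Subgroup G := (S : Subgroup G) ⊓ D with hR
  have hupR : up R = up (S : Subgroup G) := up_eq_of_le inf_le_left (le_inf (up_le _) hLD)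
  have hNR : Subgroup.normalizer (R : Set G) ≤ Subgroup.normalizer (Z : Set G) := by
    intro a ha
    rw [Subgroup.mem_normalizer_iff_map_conj_eq]
    show Z.map (MulAut.conj a).toMonoidHom = Z
    have h1 : (up (S : Subgroup G)).map (MulAut.conj a).toMonoidHom = up (S : Subgroup G) := by
      obtain ⟨k, hk⟩ := stabilizes R
      rw [← hupR, ← (hk k le_rfl).2]
      exact map_seqIn_conj ha _
    have h2 : (Subgroup.centralizer (up (S : Subgroup G) : Set G)).map
        (MulAut.conj a).toMonoidHom = Subgroup.centralizer (up (S : Subgroup G) : Set G) := by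
      refine Subgroup.mem_normalizer_iff_map_conj_eq.mp ?_
      have h3 := Subgroup.mem_normalizer_iff.mp
        (Subgroup.mem_normalizer_iff_map_conj_eq.mpr h1 : a ∈ Subgroup.normalizer
          (up (S : Subgroup G) : Set G))
      rw [Subgroup.mem_normalizer_iff]
      intro x
      constructor
      · intro hx q hq
        have h5 : a⁻¹ * q * a ∈ up (S : Subgroup G) := (h3 _).mpr (by simpa [mul_assoc] using hq)
        have h4 : a⁻¹ * q * a * x = x * (a⁻¹ * q * a) := hx _ h5
        calc q * (a * x * a⁻¹) = a * (a⁻¹ * q * a * x) * a⁻¹ := by group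
          _ = a * (x * (a⁻¹ * q * a)) * a⁻¹ := by rw [h4]
          _ = a * x * a⁻¹ * q := by group
      · intro hx q hq
        have h4 : a * q * a⁻¹ * (a * x * a⁻¹) = a * x * a⁻¹ * (a * q * a⁻¹) := hx _ ((h3 q).mp hq)
        calc q * x = a⁻¹ * (a * q * a⁻¹ * (a * x * a⁻¹)) * a := by group
          _ = a⁻¹ * (a * x * a⁻¹ * (a * q * a⁻¹)) * a := by rw [h4]
          _ = x * q := by group
    rw [hZ, Subgroup.map_inf _ _ _ (MulAut.conj a).injective, h1, h2]
  let R' : Sylow p D := (S.isPGroup'.comap_of_injective D.subtype D.subtype_injective).toSylow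
    (CfsgLib.CharCore.not_dvd_relIndex_of_isSubnormal hDn.isSubnormal S)
  have htop := Sylow.normalizer_sup_eq_top R'
  have hRX : (R' : Subgroup D).map D.subtype = R := by
    show ((S : Subgroup G).comap D.subtype).map D.subtype = R
    rw [Subgroup.map_comap_eq, Subgroup.range_subtype, hR, inf_comm]
  rw [hRX] at htop
  have hDle : D ≤ Subgroup.centralizer (Y : Set G) ⊔ R := by
    intro x hx
    let S' : Sylow p (G ⧸ Subgroup.centralizer (Y : Set G)) :=
      S.mapSurjective (QuotientGroup.mk'_surjective _)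
    have h2 : (QuotientGroup.mk' _ x) ∈ (S' : Subgroup (G ⧸ Subgroup.centralizer (Y : Set G))) :=
      CfsgLib.Fitting.mem_pCore_iff_forall_sylow.mp hx S'
    obtain ⟨y, hy, hyx⟩ := h2
    have hk : y⁻¹ * x ∈ Subgroup.centralizer (Y : Set G) := QuotientGroup.eq.mp hyx
    have hyD : y ∈ D := by
      have := mul_mem hx (inv_mem (CfsgLib.ZJ.centralizer_le_opMod p Y hk))
      simpa using this
    have h3 : x = y * (y⁻¹ * x) := by group
    rw [h3, sup_comm]
    exact Subgroup.mul_mem_sup ⟨hy, hyD⟩ hk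
  refine Subgroup.normalizer_eq_top_iff.1 (top_le_iff.mp ?_)
  rw [← htop]
  refine sup_le hNR (hDle.trans (sup_le ?_ (Subgroup.le_normalizer.trans hNR)))
  refine le_trans ?_ (Subgroup.centralizer_le_normalizer _)
  exact Subgroup.centralizer_le hZY

end CfsgLib.OddLocal.PuigCenter
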