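import Cfsg.Agent.Lib.OddLocal.SigmaSupport

/-!
BG 14.5: the cosets `x R(x)` are disjoint.
-/

set_option autoImplicit false
set_option linter.style.haveILetI false
set_option linter.unusedSectionVars false

open scoped commutatorElement
open scoped Pointwise

namespace CfsgLib.OddLocal

open CfsgLib.Coprime
open CfsgLib.BG.FixedLine (conj_mem_of_le_normalizer mem_normalizer_of_conj)

universe u

variable {G : Type u} [Group G] [Finite G] {p q : ℕ} {M N L : Subgroup G} {x y : G}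

/-- The decomposition of an element in a `π`-part and a `π'`-part is unique. -/
theorem eq_of_commute_decomp (π : Set ℕ) {a b c d : G} (hab : Commute a b) (hcd : Commute c d)
    (he : a * b = c * d) (ha : ∀ r : ℕ, r.Prime → r ∣ orderOf a → r ∈ π)
    (hb : ∀ r : ℕ, r.Prime → r ∣ orderOf b → r ∉ π) (hc : ∀ r : ℕ, r.Prime → r ∣ orderOf c → r ∈ π)
    (hd : ∀ r : ℕ, r.Prime → r ∣ orderOf d → r ∉ π) : a = c ∧ b = d := by
  have hco : (orderOf a * orderOf c).Coprime (orderOf b * orderOf d) := Nat.coprime_of_dvd fun r hr h1 h2 => by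
    have h1' : r ∈ π := (hr.dvd_mul.1 h1).elim (ha r hr) (hc r hr)
    exact (hr.dvd_mul.1 h2).elim (fun h => hb r hr h h1') (fun h => hd r hr h h1')
  obtain ⟨n, hn1, hn2⟩ := Nat.chineseRemainder hco 1 0
  have hone : ∀ {u : G}, orderOf u ∣ orderOf a * orderOf c → u ^ n = u := fun {u} hu => by
    have := (pow_eq_pow_iff_modEq (x := u)).2 (hn1.of_dvd hu)
    rwa [pow_one] at this
  have hzero : ∀ {u : G}, orderOf u ∣ orderOf b * orderOf d → u ^ n = 1 := fun {u} hu => by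
    have := (pow_eq_pow_iff_modEq (x := u)).2 (hn2.of_dvd hu)
    rwa [pow_zero] at this
  have h := congrArg (· ^ n) he
  simp only [hab.mul_pow, hcd.mul_pow] at h
  rw [hone (dvd_mul_right _ _), hone (dvd_mul_left _ _), hzero (dvd_mul_right _ _), hzero (dvd_mul_left _ _),
    mul_one, mul_one] at h
  subst h
  exact ⟨rfl, mul_left_cancel he⟩

theorem supportR_eq (h : Support M N x) :
    Cfsg.supportR M x = Cfsg.sigmaCore N ⊓ Subgroup.centralizer ({x} : Set G) := by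
  have hex : ¬ Subgroup.centralizer ({x} : Set G) ≤ M ∧
      ∃! L : Subgroup G, IsCoatom L ∧ Subgroup.centralizer ({x} : Set G) ≤ L :=
    ⟨h.hxM, N, ⟨h.hN, h.hle⟩, fun L hL => h.uniq L hL.1 hL.2⟩
  rw [Cfsg.supportR, dif_pos hex,
    h.uniq _ (Classical.choose_spec hex.2.exists).1 (Classical.choose_spec hex.2.exists).2, h.fittingHall_eq]

theorem supportR_eq_bot (hM : Subgroup.centralizer ({x} : Set G) ≤ M) : Cfsg.supportR M x = ⊥ := by
  rw [Cfsg.supportR, dif_neg fun h => h.1 hM]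

theorem support_cases (hG : Cfsg.IsMinSimpleOddOrder G) (hM : IsCoatom M) (hx : x ∈ Cfsg.sigmaCore M) (hx1 : x ≠ 1)
    {r : G} (hr : r ∈ Cfsg.supportR M x) :
    Commute x r ∧ (r = 1 ∨ ∃ N : Subgroup G, Support M N x ∧ r ∈ Cfsg.sigmaCore N) := by
  by_cases hxM : Subgroup.centralizer ({x} : Set G) ≤ M
  · rw [supportR_eq_bot hxM, Subgroup.mem_bot] at hr
    exact ⟨hr ▸ Commute.one_right x, Or.inl hr⟩
  · obtain ⟨N, h⟩ := exists_support hG hM hx hx1 hxM
    rw [supportR_eq h] at hr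
    exact ⟨commute_of_mem_centralizer_singleton hr.2, Or.inr ⟨N, h, hr.1⟩⟩

theorem sigma_of_orderOf (hx : x ∈ Cfsg.sigmaCore M) {r : ℕ} (hr : r.Prime) (hd : r ∣ orderOf x) :
    r ∈ Cfsg.sigma M :=
  isPi_piCoreOf _ M r hr (hd.trans (Subgroup.orderOf_dvd_natCard _ hx))

theorem not_sigma_of_not_conj (hG : Cfsg.IsMinSimpleOddOrder G) (hM : IsCoatom M) (hN : IsCoatom N)
    (hne : ∀ g : G, N ≠ MulAut.conj g • M) {r : ℕ} (hr : r ∈ Cfsg.sigma N) : r ∉ Cfsg.sigma M := fun h => by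
  obtain ⟨g, hg⟩ := sigma_disjoint hG hM hN h hr
  exact hne g hg

/-- The `σ(M)`-part of an element of `x R(x)` is `x`. -/
theorem support_not_sigma (hG : Cfsg.IsMinSimpleOddOrder G) (hM : IsCoatom M) (hx : x ∈ Cfsg.sigmaCore M)
    (hx1 : x ≠ 1) {r : G} (hr : r ∈ Cfsg.supportR M x) {t : ℕ} (ht : t.Prime) (hd : t ∣ orderOf r) :
    t ∉ Cfsg.sigma M := by
  obtain ⟨-, rfl | ⟨N, h, hrN⟩⟩ := support_cases hG hM hx hx1 hr
  · rw [orderOf_one] at hd
    exact absurd (Nat.dvd_one.1 hd) ht.ne_one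
  · exact not_sigma_of_not_conj hG hM h.hN h.not_conj (sigma_of_orderOf hrN ht hd)

/-- BG 14.5. -/
theorem cosets_disjoint (hG : Cfsg.IsMinSimpleOddOrder G) (hM : IsCoatom M) (hN : IsCoatom N)
    (hx : x ∈ Cfsg.sigmaCore M) (hy : y ∈ Cfsg.sigmaCore N) (hx1 : x ≠ 1) (hy1 : y ≠ 1) (hxy : x ≠ y)
    {r s : G} (hr : r ∈ Cfsg.supportR M x) (hs : s ∈ Cfsg.supportR N y) : x * r ≠ y * s := by
  intro he
  obtain ⟨hxr, hR⟩ := support_cases hG hM hx hx1 hr
  obtain ⟨hys, hS⟩ := support_cases hG hN hy hy1 hs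
  have hxσ : ∀ t : ℕ, t.Prime → t ∣ orderOf x → t ∈ Cfsg.sigma M := fun t ht hd => sigma_of_orderOf hx ht hd
  have hrσ : ∀ t : ℕ, t.Prime → t ∣ orderOf r → t ∉ Cfsg.sigma M :=
    fun t ht hd => support_not_sigma hG hM hx hx1 hr ht hd
  by_cases hMN : ∃ g : G, N = MulAut.conj g • M
  · obtain ⟨g, rfl⟩ := hMN
    exact hxy (eq_of_commute_decomp (Cfsg.sigma M) hxr hys he hxσ hrσ
      (fun t ht hd => sigma_conj_iff.1 (sigma_of_orderOf hy ht hd))
      (fun t ht hd h => support_not_sigma hG hN hy hy1 hs ht hd (sigma_conj_iff.2 h))).1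
  push Not at hMN
  have hyσ : ∀ t : ℕ, t.Prime → t ∣ orderOf y → t ∉ Cfsg.sigma M :=
    fun t ht hd => not_sigma_of_not_conj hG hM hN hMN (sigma_of_orderOf hy ht hd)
  rcases hS with rfl | ⟨L, k, hsL⟩
  · exact hx1 (eq_of_commute_decomp (Cfsg.sigma M) hxr (Commute.one_left y)
      (by rw [he, mul_one, one_mul]) hxσ hrσ
      (fun t ht hd => absurd (Nat.dvd_one.1 (by rwa [orderOf_one] at hd)) ht.ne_one) hyσ).1
  by_cases hLM : ∃ g : G, L = MulAut.conj g • M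
  · obtain ⟨g, rfl⟩ := hLM
    obtain ⟨rfl, rfl⟩ := eq_of_commute_decomp (Cfsg.sigma M) hxr hys.symm (by rw [he, hys.eq]) hxσ hrσ
      (fun t ht hd => sigma_conj_iff.1 (sigma_of_orderOf hsL ht hd)) hyσ
    rcases hR with hr1 | ⟨L', h, hrL⟩
    · exact hy1 hr1
    obtain ⟨a, ha, hae⟩ := (exists_conj_eq hG hM hx hx1 (g := g) (piCoreOf_le _ _ hsL)).2 h
    have hyL : r ∈ MulAut.conj a • M := hae ▸ k.hxN
    rw [mem_conj_smul_iff] at hyL
    have h1 : a⁻¹ * r * a ∈ Cfsg.sigmaCore L' ⊓ M :=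
      ⟨(Cfsg.sigmaCore L').mul_mem ((Cfsg.sigmaCore L').mul_mem ((Cfsg.sigmaCore L').inv_mem ha.1) hrL) ha.1, hyL⟩
    rw [h.inf_eq, Subgroup.mem_bot] at h1
    exact hy1 (conj_eq_one_iff.1 (show a⁻¹ * r * a⁻¹⁻¹ = 1 by rw [inv_inv]; exact h1))
  · push Not at hLM
    exact hx1 (eq_of_commute_decomp (Cfsg.sigma M) hxr (Commute.one_left (y * s)) (by rw [he, one_mul]) hxσ hrσ
      (fun t ht hd => absurd (Nat.dvd_one.1 (by rwa [orderOf_one] at hd)) ht.ne_one)
      (fun t ht hd => by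
        rcases ht.dvd_mul.1 (hd.trans (hys.orderOf_mul_dvd_mul_orderOf)) with h | h
        · exact hyσ t ht h
        · exact not_sigma_of_not_conj hG hM k.hN hLM (sigma_of_orderOf hsL ht h))).1

end CfsgLib.OddLocal
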