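import Cfsg.Agent.Lib.OddLocal.SigmaDisjoint
import Cfsg.Agent.Lib.OddLocal.SigmaDichotomy
import Cfsg.Agent.Lib.OddLocal.FittingHallCore
import Cfsg.Agent.S1404
import Cfsg.Agent.S1424

/-!
BG 14.4: elements of `M_σ` whose centralizers are not in `M`.
-/

set_option autoImplicit false
set_option linter.style.haveILetI false
set_option linter.unusedSectionVars false

open scoped commutatorElement
open scoped Pointwise

namespace CfsgLib.OddLocal

open CfsgLib.Coprime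
open CfsgLib.BG.FixedLine (conj_mem_of_le_normalizer mem_normalizer_of_conj)

universe u

variable {G : Type u} [Group G] [Finite G] {p q r : ℕ} {M N E : Subgroup G} {x : G}

theorem centralizer_le_zpowers {x z : G} (hz : z ∈ Subgroup.zpowers x) :
    Subgroup.centralizer ({x} : Set G) ≤ Subgroup.centralizer ({z} : Set G) := fun w hw =>
  mem_centralizer_singleton_of_commute (commute_zpowers (commute_of_mem_centralizer_singleton hw) hz
    (Subgroup.mem_zpowers w))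

theorem sigma_conj_iff {g : G} : q ∈ Cfsg.sigma (MulAut.conj g • M) ↔ q ∈ Cfsg.sigma M := by
  refine ⟨sigma_of_conj, fun h => sigma_of_conj (g := g⁻¹) ?_⟩
  rwa [← mul_smul, ← map_mul, inv_mul_cancel, map_one, one_smul]

theorem isCoatom_conj (hM : IsCoatom M) (g : G) : IsCoatom (MulAut.conj g • M) :=
  ((MulAut.conj g).mapSubgroup).isCoatom_iff _ |>.2 hM

theorem conj_smul_self_iff (hG : Cfsg.IsMinSimpleOddOrder G) (hM : IsCoatom M) {g : G} :
    MulAut.conj g • M = M ↔ g ∈ M :=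
  ⟨mem_of_conj_eq hG hM (coatom_ne_bot hG hM),
    fun h => conj_smul_eq_self_of_mem_normalizer (Subgroup.le_normalizer h)⟩

/-- Fusion of an element of prime order in `σ(M)`. -/
theorem exists_centralizer_conj (hG : Cfsg.IsMinSimpleOddOrder G) (hM : IsCoatom M) (hq : q.Prime)
    (hσ : q ∈ Cfsg.sigma M) {z g : G} (hz : z ∈ M) (hzo : orderOf z = q) (hg : z ∈ MulAut.conj g • M) :
    ∃ c ∈ Subgroup.centralizer ({z} : Set G), MulAut.conj g • M = MulAut.conj c • M := by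
  haveI := Fact.mk hq
  obtain ⟨hZc, hZp, -⟩ := zpowers_line hq hzo
  obtain ⟨m, hm, c, hc, hmc⟩ := (Cfsg.Agent.S1404.result hG M hM q hσ (Subgroup.zpowers z) hZp
    (line_ne_bot hq hZc) (Subgroup.zpowers_le.2 hz)).1 g⁻¹ (by
      rw [MonoidHom.map_zpowers]
      refine Subgroup.zpowers_le.2 ?_
      rw [mem_conj_smul_iff] at hg
      simpa using hg)
  rw [centralizer_zpowers_eq] at hc
  refine ⟨c⁻¹, inv_mem hc, ?_⟩
  rw [show g = c⁻¹ * m⁻¹ by rw [← mul_inv_rev, ← hmc, inv_inv], map_mul, mul_smul,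
    (conj_smul_self_iff hG hM).2 (inv_mem hm)]

theorem decomp_centralizer (hE : Cfsg.IsComplIn E (Cfsg.sigmaCore N) N) (hx : x ∈ E) {w : G} (hwN : w ∈ N)
    (hw : Commute x w) :
    ∃ a ∈ E, ∃ k ∈ Cfsg.sigmaCore N, w = a * k ∧ Commute x a ∧ Commute x k := by
  obtain ⟨a, ha, k, hk, rfl⟩ := hE.2.2.2 w hwN
  have hK := le_normalizer_piCoreOf (Cfsg.sigma N) N
  have h1 : k * x * k⁻¹ = a⁻¹ * x * a :=
    calc k * x * k⁻¹ = a⁻¹ * (a * k * x) * k⁻¹ := by group
      _ = a⁻¹ * (x * (a * k)) * k⁻¹ := by rw [hw.eq]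
      _ = _ := by group
  have h2 : ⁅k, x⁆ ∈ E ⊓ Cfsg.sigmaCore N := ⟨by
    rw [commutatorElement_def, h1]
    exact E.mul_mem (E.mul_mem (E.mul_mem (E.inv_mem ha) hx) ha) (E.inv_mem hx), by
    rw [show ⁅k, x⁆ = k * (x * k⁻¹ * x⁻¹) by rw [commutatorElement_def]; group]
    exact (Cfsg.sigmaCore N).mul_mem hk
      (conj_mem_of_le_normalizer (hK (hE.1 hx)) _ ((Cfsg.sigmaCore N).inv_mem hk))⟩
  rw [hE.2.2.1, Subgroup.mem_bot] at h2
  have hkx : Commute k x := commutatorElement_eq_one_iff_mul_comm.1 h2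
  refine ⟨a, ha, k, hk, rfl, ?_, hkx.symm⟩
  have := hw.mul_right hkx.symm.inv_right
  rwa [mul_inv_cancel_right] at this

/-- The unique maximal subgroup over a centralizer outside `M`, with its properties. -/
structure Support (M N : Subgroup G) (x : G) : Prop where
  hG : Cfsg.IsMinSimpleOddOrder G
  hM : IsCoatom M
  hN : IsCoatom N
  hx : x ∈ Cfsg.sigmaCore M
  hx1 : x ≠ 1
  hxM : ¬ Subgroup.centralizer ({x} : Set G) ≤ M
  hle : Subgroup.centralizer ({x} : Set G) ≤ N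
  uniq : ∀ L : Subgroup G, IsCoatom L → Subgroup.centralizer ({x} : Set G) ≤ L → L = N
  tau2 : ∀ r : ℕ, r.Prime → r ∣ orderOf x → r ∈ Cfsg.tau2 N
  compl : Cfsg.IsComplIn (M ⊓ N) (Cfsg.sigmaCore N) N
  fixed : Cfsg.sigmaCore N ⊓ Subgroup.centralizer ({x} : Set G) ≠ ⊥
  inf_eq : Cfsg.sigmaCore N ⊓ M = ⊥
  nil : Group.IsNilpotent (Cfsg.sigmaCore N)
  plane : ∃ (q : ℕ) (A A₀ : Subgroup G), q ∣ orderOf x ∧ q ∈ Cfsg.sigma M ∧ A ≤ M ⊓ N ∧ Exc q N A A₀ ∧
    Subgroup.normalizer (A : Set G) ≤ M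

/-- BG 14.4 (a), (b). -/
theorem exists_support (hG : Cfsg.IsMinSimpleOddOrder G) (hM : IsCoatom M) (hx : x ∈ Cfsg.sigmaCore M)
    (hx1 : x ≠ 1) (hxM : ¬ Subgroup.centralizer ({x} : Set G) ≤ M) : ∃ N : Subgroup G, Support M N x := by
  classical
  obtain ⟨p, z, hp, hz, hzo⟩ := exists_prime_power_elem hx1
  haveI := Fact.mk hp
  have hzK : z ∈ Cfsg.sigmaCore M := Subgroup.zpowers_le.2 hx hz
  have hzM : z ∈ M := piCoreOf_le _ M hzK
  have hpM : p ∈ Cfsg.sigma M := sigma_of_mem_core hp hzK hzo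
  have hxz : Subgroup.centralizer ({x} : Set G) ≤ Subgroup.centralizer ({z} : Set G) := centralizer_le_zpowers hz
  have hzM' : ¬ Subgroup.centralizer ({z} : Set G) ≤ M := fun h => hxM (hxz.trans h)
  obtain ⟨hZc, hZp, -⟩ := zpowers_line hp hzo
  obtain ⟨N, hN, hNN⟩ := (eq_top_or_exists_le_coatom _).resolve_left
    (normalizer_ne_top hG (line_ne_bot hp hZc) fun e => hM.1 (top_unique (e.ge.trans (Subgroup.zpowers_le.2 hzM))))
  have hCN : Subgroup.centralizer ({z} : Set G) ≤ N := by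
    rw [← centralizer_zpowers_eq]; exact (Subgroup.centralizer_le_normalizer _).trans hNN
  have hne : N ≠ M := fun e => hzM' (e ▸ hCN)
  have hzN : z ∈ N := hNN (Subgroup.le_normalizer (Subgroup.mem_zpowers z))
  have hZMN : Subgroup.zpowers z ≤ M ⊓ N := Subgroup.zpowers_le.2 ⟨hzM, hzN⟩
  obtain ⟨S, hS⟩ := (hZp.comap_of_injective (M ⊓ N).subtype (M ⊓ N).subtype_injective :
    IsPGroup p ((Subgroup.zpowers z).subgroupOf (M ⊓ N))).exists_le_sylow
  have hZS : Subgroup.zpowers z ≤ (S : Subgroup ↥(M ⊓ N)).map (M ⊓ N).subtype :=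
    (Subgroup.map_subgroupOf_eq_of_le hZMN).ge.trans (Subgroup.map_mono hS)
  obtain ⟨hconj, -, hidx⟩ := Cfsg.Agent.S1424.result hG M hM p hpM (Subgroup.zpowers z) hZp (line_ne_bot hp hZc)
    (Subgroup.zpowers_le.2 hzM) N hN hne hNN S hZS
  have hpN : p ∉ Cfsg.sigma N := fun h => by
    obtain ⟨g, hg⟩ := sigma_disjoint hG hM hN hpM h
    exact hconj g hg
  have hp2 : p ∈ Cfsg.tau2 N :=
    (sigma_or_tau2_of_normalizer_le hG hN hp (Subgroup.zpowers_le.2 hzN) hZc hNN).resolve_left hpN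
  set S' := (S : Subgroup ↥(M ⊓ N)).map (M ⊓ N).subtype with hS'
  have hS'N : S' ≤ N := (Subgroup.map_subtype_le _).trans inf_le_right
  have hS'M : S' ≤ M := (Subgroup.map_subtype_le _).trans inf_le_left
  set SN : Sylow p N := ((S.2.map (M ⊓ N).subtype).of_equiv (Subgroup.subgroupOfEquivOfLe hS'N).symm).toSylow hidx
    with hSNdef
  have hSN : (SN : Subgroup N).map N.subtype = S' := Subgroup.map_subgroupOf_eq_of_le hS'N
  obtain ⟨B₁, C₁, hB₁, -⟩ := exists_exc_mem hG hN hp2 hzN (by rw [← hzo, pow_orderOf_eq_one])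
  obtain ⟨A, A₀, hAS, hA⟩ := hB₁.exists_in_sylow SN
  have hzA : z ∈ A := hA.maxElem.mem_of_commutes (fun b hb => sylow_comm_of_not_sigma hG hN hp hpN
    (Subgroup.map_subtype_le _) (SN.2.map N.subtype) b (hAS hb) z (hSN.symm ▸ hZS (Subgroup.mem_zpowers z)))
    (by rw [← hzo, pow_orderOf_eq_one])
  have hAM : A ≤ M := (hAS.trans hSN.le).trans hS'M
  have hNA : Subgroup.normalizer (A : Set G) ≤ M :=
    normalizer_le_of_noncyclic hG hM hpM hA.maxElem.isPGroup hAM hA.maxElem.not_isCyclic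
  obtain ⟨E, hE, hAE⟩ := exists_compl_ge hG hN hA.hAM fun t ht hd => by
    rw [hA.hA2] at hd
    exact (Nat.prime_dvd_prime_iff_eq ht hp).1 (ht.dvd_of_dvd_pow hd) ▸ hpN
  have hEM : E ≤ M := (hA.inf_normalizer_eq hE hAE).ge.trans (inf_le_right.trans hNA)
  have hbot : Cfsg.sigmaCore N ⊓ M = ⊥ := hA.inf_eq_bot hM hne.symm hAM
  have hEeq : M ⊓ N = E := by
    refine le_antisymm (fun w hw => ?_) (le_inf hEM hE.1)
    obtain ⟨a, ha, k, hk, rfl⟩ := hE.2.2.2 w hw.2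
    have hkM : k ∈ M := by
      have := M.mul_mem (M.inv_mem (hEM ha)) hw.1
      rwa [inv_mul_cancel_left] at this
    rw [Subgroup.mem_bot.1 (hbot ▸ ⟨hk, hkM⟩ : k ∈ (⊥ : Subgroup G)), mul_one]
    exact ha
  have hfix : ∀ v ∈ E, Subgroup.centralizer ({v} : Set G) ≤ N → ¬ Subgroup.centralizer ({v} : Set G) ≤ M →
      Cfsg.sigmaCore N ⊓ Subgroup.centralizer ({v} : Set G) ≠ ⊥ := fun v hv hvN hvM e => by
    refine hvM fun w hw => ?_
    obtain ⟨a, ha, k, hk, rfl, -, hvk⟩ :=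
      decomp_centralizer hE hv (hvN hw) (commute_of_mem_centralizer_singleton hw)
    rw [Subgroup.mem_bot.1 (e ▸ ⟨hk, mem_centralizer_singleton_of_commute hvk⟩ : k ∈ (⊥ : Subgroup G)), mul_one]
    exact hEM ha
  have hzE : z ∈ E := hAE hzA
  have hxE : x ∈ E := hEeq ▸ ⟨piCoreOf_le _ M hx, hCN (mem_centralizer_singleton_of_commute
    (commute_zpowers (Commute.refl x) hz (Subgroup.mem_zpowers x)))⟩
  have hxN : Subgroup.centralizer ({x} : Set G) ≤ N := hxz.trans hCN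
  have hfx := hfix x hxE hxN hxM
  obtain ⟨y, hy, hy1⟩ := (Subgroup.ne_bot_iff_exists_ne_one).1 hfx |>.elim
    fun y h => (⟨(y : G), y.2, fun e => h (Subtype.ext e)⟩ :
      ∃ y, y ∈ Cfsg.sigmaCore N ⊓ Subgroup.centralizer ({x} : Set G) ∧ y ≠ 1)
  rcases sigma_dichotomy hG hN hy.1 hy1 (hE.1 hxE)
    (commute_of_mem_centralizer_singleton hy.2) hx1 (fun t ht hd => not_sigma_of_dvd_compl hG hN hE ht
      (hd.trans (Subgroup.orderOf_dvd_natCard E hxE))) with ⟨hκ, -⟩ | ⟨h2, -, -, huniq⟩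
  · exact absurd (kappa_prankLE (hκ p hp (hzo ▸ orderOf_dvd_of_mem_zpowers hz))) hp2.2.2.2
  · exact ⟨N, hG, hM, hN, hx, hx1, hxM, hxN, huniq, h2, hEeq.symm ▸ hE, hfx, hbot, hA.sigmaCore_nilpotent,
      p, A, A₀, hzo ▸ orderOf_dvd_of_mem_zpowers hz, hpM, le_inf hAM hA.hAM, hA, hNA⟩

namespace Support

theorem not_conj (h : Support M N x) (g : G) : N ≠ MulAut.conj g • M := fun e => by
  obtain ⟨q, A, A₀, -, hqM, -, hA, -⟩ := h.plane
  exact hA.hσ (e ▸ sigma_conj_iff.2 hqM)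

theorem hxN (h : Support M N x) : x ∈ N := h.hle (mem_centralizer_singleton_of_commute (Commute.refl x))

theorem hxE (h : Support M N x) : x ∈ M ⊓ N := ⟨piCoreOf_le _ M h.hx, h.hxN⟩

theorem fittingHall_eq (h : Support M N x) : Cfsg.fittingHallOf N = Cfsg.sigmaCore N :=
  fittingHallOf_eq_sigmaCore h.hG h.hN h.nil

theorem le_normalizer (h : Support M N x) :
    Subgroup.centralizer ({x} : Set G) ≤
      Subgroup.normalizer ((Cfsg.sigmaCore N ⊓ Subgroup.centralizer ({x} : Set G) : Subgroup G) : Set G) :=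
  le_normalizer_inf_of_le (h.hle.trans (le_normalizer_piCoreOf _ N)) Subgroup.le_normalizer

theorem centralizer_compl (h : Support M N x) :
    Cfsg.IsComplIn (M ⊓ Subgroup.centralizer ({x} : Set G))
      (Cfsg.sigmaCore N ⊓ Subgroup.centralizer ({x} : Set G)) (Subgroup.centralizer ({x} : Set G)) := by
  refine ⟨inf_le_right, inf_le_right, le_bot_iff.1 (h.inf_eq ▸ le_inf (inf_le_right.trans inf_le_left)
    (inf_le_left.trans inf_le_left)), fun w hw => ?_⟩
  obtain ⟨a, ha, k, hk, he, hxa, hxk⟩ :=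
    decomp_centralizer h.compl h.hxE (h.hle hw) (commute_of_mem_centralizer_singleton hw)
  exact ⟨a, ⟨ha.1, mem_centralizer_singleton_of_commute hxa⟩, k, ⟨hk, mem_centralizer_singleton_of_commute hxk⟩, he⟩

theorem conj_unique (h : Support M N x) {a b : G} (ha : a ∈ Cfsg.sigmaCore N) (hb : b ∈ Cfsg.sigmaCore N)
    (he : MulAut.conj a • M = MulAut.conj b • M) : a = b := by
  have h1 : b⁻¹ * a ∈ Cfsg.sigmaCore N ⊓ M := ⟨(Cfsg.sigmaCore N).mul_mem ((Cfsg.sigmaCore N).inv_mem hb) ha,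
    (conj_smul_self_iff h.hG h.hM).1 (by
      rw [map_mul, mul_smul, he, ← mul_smul, ← map_mul, inv_mul_cancel, map_one, one_smul])⟩
  rw [h.inf_eq, Subgroup.mem_bot, inv_mul_eq_one] at h1
  exact h1.symm

theorem commute_of_mem_conj (h : Support M N x) {k v : G} (hk : k ∈ Cfsg.sigmaCore N) (hv : v ∈ M ⊓ N)
    (hkv : v ∈ MulAut.conj k • M) : Commute v k := by
  rw [mem_conj_smul_iff] at hkv
  have hkN : k ∈ N := piCoreOf_le _ N hk
  have h1 : v⁻¹ * (k⁻¹ * v * k) ∈ Cfsg.sigmaCore N ⊓ M := ⟨by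
    rw [show v⁻¹ * (k⁻¹ * v * k) = (v⁻¹ * k⁻¹ * v⁻¹⁻¹) * k by group]
    exact (Cfsg.sigmaCore N).mul_mem (conj_mem_of_le_normalizer (le_normalizer_piCoreOf _ N (N.inv_mem hv.2)) _
      ((Cfsg.sigmaCore N).inv_mem hk)) hk, M.mul_mem (M.inv_mem hv.1) hkv⟩
  rw [h.inf_eq, Subgroup.mem_bot, inv_mul_eq_one] at h1
  show v * k = k * v
  calc v * k = k * (k⁻¹ * v * k) := by group
    _ = k * v := by rw [← h1]

end Support

/-- BG 14.4 (a): transitivity on the conjugates of `M` containing `x`. -/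
theorem exists_conj_eq (hG : Cfsg.IsMinSimpleOddOrder G) (hM : IsCoatom M) (hx : x ∈ Cfsg.sigmaCore M)
    (hx1 : x ≠ 1) {g : G} (hg : x ∈ MulAut.conj g • M) :
    (Subgroup.centralizer ({x} : Set G) ≤ M → MulAut.conj g • M = M) ∧
      ∀ {N : Subgroup G}, Support M N x →
        ∃ k ∈ Cfsg.sigmaCore N ⊓ Subgroup.centralizer ({x} : Set G), MulAut.conj g • M = MulAut.conj k • M := by
  obtain ⟨p, z, hp, hz, hzo⟩ := exists_prime_power_elem hx1
  have hzK : z ∈ Cfsg.sigmaCore M := Subgroup.zpowers_le.2 hx hz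
  obtain ⟨c, hc, hce⟩ := exists_centralizer_conj hG hM hp (sigma_of_mem_core hp hzK hzo) (piCoreOf_le _ M hzK) hzo
    (Subgroup.zpowers_le.2 hg hz)
  by_cases hzM : Subgroup.centralizer ({z} : Set G) ≤ M
  · have heq : MulAut.conj g • M = M := hce.trans ((conj_smul_self_iff hG hM).2 (hzM hc))
    refine ⟨fun _ => heq, fun {N} h => absurd ((centralizer_le_zpowers hz).trans hzM) h.hxM⟩
  obtain ⟨N₀, h₀⟩ := exists_support hG hM hzK (zpowers_line hp hzo).2.2 hzM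
  have hzE := h₀.hxE
  obtain ⟨a, ha, k, hk, hak, -, hzk⟩ :=
    decomp_centralizer h₀.compl hzE (h₀.hle hc) (commute_of_mem_centralizer_singleton hc)
  -- write `c = k' a`
  have hkN : a * k * a⁻¹ ∈ Cfsg.sigmaCore N₀ :=
    conj_mem_of_le_normalizer (le_normalizer_piCoreOf _ N₀ ha.2) k hk
  have hce' : MulAut.conj g • M = MulAut.conj (a * k * a⁻¹) • M := by
    rw [hce, show c = a * k * a⁻¹ * a by rw [hak]; group, map_mul, mul_smul,
      (conj_smul_self_iff hG hM).2 ha.1]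
  have hxN₀ : x ∈ N₀ := h₀.hle (centralizer_le_zpowers hz (mem_centralizer_singleton_of_commute (Commute.refl x)))
  have hkx : Commute x (a * k * a⁻¹) :=
    h₀.commute_of_mem_conj hkN ⟨piCoreOf_le _ M hx, hxN₀⟩ (hce' ▸ hg)
  refine ⟨fun hxM => hce'.trans ((conj_smul_self_iff hG hM).2 (hxM (mem_centralizer_singleton_of_commute hkx))),
    fun {N} h => ⟨a * k * a⁻¹, ⟨?_, mem_centralizer_singleton_of_commute hkx⟩, hce'⟩⟩
  rw [← h.uniq N₀ h₀.hN ((centralizer_le_zpowers hz).trans h₀.hle)]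
  exact hkN

end CfsgLib.OddLocal
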