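import Cfsg.Agent.Lib.OddLocal.SupportTypeP
import Cfsg.Agent.Lib.OddLocal.TildeCount
import Cfsg.Agent.Lib.FrobCompl.Fpf

/-!
BG 16, Theorem II (e): a support of type P makes the supported subgroup a Frobenius group with
kernel `M_F`.
-/

set_option autoImplicit false
set_option linter.style.haveILetI false
set_option linter.unusedSectionVars false

open scoped Pointwise

namespace CfsgLib.OddLocal

open CfsgLib.Coprime

universe u

variable {G : Type u} [Group G] [Finite G] {M N : Subgroup G} {x : G}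

theorem frobenius_of_kappa_support (hG : Cfsg.IsMinSimpleOddOrder G) (hM : IsCoatom M) (hx : x ∈ Cfsg.sigmaCore M)
    (hx1 : x ≠ 1) (hxM : ¬ Subgroup.centralizer ({x} : Set G) ≤ M) (hN : IsCoatom N)
    (hxN : Subgroup.centralizer ({x} : Set G) ≤ N) (hkN : (Cfsg.kappa N).Nonempty) :
    Cfsg.kappa M = ∅ ∧ ∃ E : Subgroup G, Cfsg.IsComplIn E (Cfsg.sigmaCore M) M ∧ E ≠ ⊥ ∧ IsCyclic E ∧
      ∀ e ∈ E, e ≠ 1 → Cfsg.sigmaCore M ⊓ Subgroup.centralizer ({e} : Set G) = ⊥ := by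
  obtain ⟨N₀, hs⟩ := exists_support hG hM hx hx1 hxM
  obtain rfl := hs.uniq N hN hxN
  obtain ⟨K, hK⟩ := exists_hall_kappa hG hN
  obtain ⟨U, hKU⟩ := exists_decomposition hG hN hK
  have hK1 : K ≠ ⊥ := fun e => by
    obtain ⟨l, hl⟩ := hkN
    refine hK.2.2 l hl.1 hl ?_
    rw [e, Subgroup.relIndex_bot_left]
    exact hl.2.1
  obtain ⟨Ns, Es, Us, h⟩ := exists_partner (kappaData_of_decomposition hG hN hKU hK1)
  have hxσ : x ∉ Cfsg.sigmaCore N := fun hmem => hx1 (Subgroup.mem_bot.1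
    (hs.inf_eq ▸ ⟨hmem, CfsgLib.OddLocal.piCoreOf_le _ M hx⟩ : x ∈ (⊥ : Subgroup G)))
  have hxU : x ∈ U ⊔ Cfsg.sigmaCore N := mem_UM_of_primes hG hN hKU hs.hxN fun l hl hd hκ =>
    (hs.tau2 l hl hd).2.2.2 (kappa_prankLE hκ)
  have hU : U ≠ ⊥ := fun e => hxσ (by rwa [e, bot_sup_eq] at hxU)
  haveI := isSolvable_of_ne_top hG hN.1
  obtain ⟨n, hn, hnU⟩ := exists_conj_le_hallOf h.data.hallU (Subgroup.zpowers_le.2 hs.hxN) fun l hl hd => by
    rw [Nat.card_zpowers] at hd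
    exact ⟨hl, fun hκ => (hs.tau2 l hl hd).2.2.2 (kappa_prankLE hκ), (hs.tau2 l hl hd).2.1⟩
  have hx' : n * x * n⁻¹ ∈ U := hnU (mem_sigmaCore_conj_iff.2 (Subgroup.mem_zpowers x))
  have hCx' : Subgroup.centralizer ({n * x * n⁻¹} : Set G) ≤ N := by
    rw [CfsgLib.OddLocal.conj_centralizer_elem]
    exact (CfsgLib.OddLocal.conj_le_conj.2 hxN).trans ((conj_smul_self_iff hG hN).2 hn).le
  obtain ⟨q, hq, hqx⟩ := Nat.exists_prime_and_dvd fun e : orderOf x = 1 => hx1 (orderOf_eq_one_iff.1 e)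
  have hqx' : q ∣ orderOf (n * x * n⁻¹) := by
    rw [show orderOf (n * x * n⁻¹) = orderOf x from
      orderOf_injective (MulAut.conj n).toMonoidHom (MulAut.conj n).injective x]
    exact hqx
  have hqM : q ∈ Cfsg.sigma M := isPi_piCoreOf _ M q hq (hqx.trans (Subgroup.orderOf_dvd_natCard _ hx))
  obtain ⟨H, E, hH, hqH, hκH, hτH, hE, hE1, hEc, hfree⟩ := h.exists_frobenius_partner hU hx' hq hqx' hCx'
  obtain ⟨g, rfl⟩ := sigma_disjoint hG hH hM hqH hqM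
  have hσc := sigmaCore_conj hG hH g
  have hκM : Cfsg.kappa (MulAut.conj g • H) = ∅ := Set.eq_empty_iff_forall_notMem.2 fun l hl => by
    obtain ⟨E₂, hE₂⟩ := exists_compl hG hM
    obtain ⟨b, hb, hbo, y, hy, hy1, hby⟩ := exists_line_of_kappa hG hM hE₂ hl
    have hbH : g⁻¹ * b * g ∈ H := mem_conj_smul_iff.1 (hE₂.1 hb)
    rw [hσc, mem_conj_smul_iff] at hy
    have hlσ : l ∉ Cfsg.sigma H := fun hs' => hl.2.2.1 (sigma_conj_iff.2 hs')
    have hr : Cfsg.PRankLE l 1 H := by_contra fun hn' =>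
      hτH l ⟨hl.1, hlσ, prankLE_two_of_not_sigma hG hH hl.1 hlσ, hn'⟩
    have := mem_kappa_of_line hG hH hl.1 hlσ hr hbH (by
      rw [← hbo, show g⁻¹ * b * g = MulAut.conj g⁻¹ b by simp [MulAut.conj_apply]]
      exact orderOf_injective (MulAut.conj g⁻¹).toMonoidHom (MulAut.conj g⁻¹).injective b) hy
      (fun e => hy1 (conj_eq_one_iff.1 (show g⁻¹ * y * g⁻¹⁻¹ = 1 by rwa [inv_inv]))) (by
        show _ = _
        calc g⁻¹ * b * g * (g⁻¹ * y * g) = g⁻¹ * (b * y) * g := by group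
          _ = g⁻¹ * (y * b) * g := by rw [hby.eq]
          _ = _ := by group)
    rw [hκH] at this
    exact this
  have hEM : MulAut.conj g • E ≤ MulAut.conj g • H := CfsgLib.OddLocal.conj_le_conj.2 hE.1
  have hEc' : Cfsg.IsComplIn (MulAut.conj g • E) (Cfsg.sigmaCore (MulAut.conj g • H)) (MulAut.conj g • H) := by
    refine ⟨hEM, CfsgLib.OddLocal.piCoreOf_le _ _, ?_, fun w hw => ?_⟩
    · rw [hσc, ← Subgroup.smul_inf, hE.2.2.1, Subgroup.smul_bot]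
    · obtain ⟨a, ha, k, hk, he⟩ := hE.2.2.2 _ (mem_conj_smul_iff.1 hw)
      refine ⟨g * a * g⁻¹, mem_sigmaCore_conj_iff.2 ha, g * k * g⁻¹, hσc.ge (mem_sigmaCore_conj_iff.2 hk), ?_⟩
      calc w = g * (g⁻¹ * w * g) * g⁻¹ := by group
        _ = _ := by rw [he]; group
  have hfree' : ∀ e ∈ MulAut.conj g • E, e ≠ 1 →
      Cfsg.sigmaCore (MulAut.conj g • H) ⊓ Subgroup.centralizer ({e} : Set G) = ⊥ := fun e he he1 => by
    rw [mem_conj_smul_iff] at he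
    rw [hσc, show e = g * (g⁻¹ * e * g) * g⁻¹ by group, CfsgLib.OddLocal.conj_centralizer_elem,
      ← Subgroup.smul_inf, hfree _ he fun e' => he1 (conj_eq_one_iff.1
        (show g⁻¹ * e * g⁻¹⁻¹ = 1 by rwa [inv_inv])), Subgroup.smul_bot]
  have hE1' : MulAut.conj g • E ≠ ⊥ := fun e => hE1 (by
    have := congrArg (fun X : Subgroup G => MulAut.conj g⁻¹ • X) e
    simpa [← mul_smul, ← map_mul] using this)
  haveI := hEc
  exact ⟨hκM, MulAut.conj g • E, hEc', fun e => hE1 (by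
      have h1 := congrArg (MulAut.conj g⁻¹ • ·) e
      simpa [← mul_smul, ← map_mul] using h1),
    isCyclic_of_surjective _ (Subgroup.equivSMul (MulAut.conj g) E).surjective, hfree'⟩

/-- The kernel of a free complement of `M_σ`. -/
theorem frobeniusKernel_of_free (hG : Cfsg.IsMinSimpleOddOrder G) (hM : IsCoatom M) {E : Subgroup G}
    (hE : Cfsg.IsComplIn E (Cfsg.sigmaCore M) M) (hE1 : E ≠ ⊥) {W : Subgroup ↥M} [W.Normal]
    (hW : W.map M.subtype = Cfsg.sigmaCore M)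
    (hfree : ∀ e ∈ E, e ≠ 1 → Cfsg.sigmaCore M ⊓ Subgroup.centralizer ({e} : Set G) = ⊥) :
    Cfsg.IsFrobeniusComplement (E.subgroupOf M) ∧ Cfsg.frobeniusKernel (E.subgroupOf M) = (W : Set ↥M) := by
  have hF := isFrobeniusComplement_of_fpf hE (le_normalizer_piCoreOf _ M) hE1 (sigmaCore_ne_bot hG hM) hfree
  refine ⟨hF, CfsgLib.FrobCompl.frobeniusKernel_eq_of_complement hF
    (Subgroup.isComplement'_of_disjoint_and_mul_eq_univ (disjoint_iff.2 ?_) (Set.eq_univ_of_forall fun v => ?_))⟩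
  · refine (Subgroup.eq_bot_iff_forall _).2 fun v hv => Subtype.ext ?_
    have h1 : (v : G) ∈ E ⊓ Cfsg.sigmaCore M := ⟨hv.2, hW ▸ Subgroup.mem_map_of_mem _ hv.1⟩
    rwa [hE.2.2.1, Subgroup.mem_bot] at h1
  · obtain ⟨a, ha, b, hb, he⟩ := hE.2.2.2 (v⁻¹ : M) (v⁻¹ : M).2
    obtain ⟨b', hb', rfl⟩ := hW.ge hb
    refine ⟨b'⁻¹, inv_mem hb', ⟨a, hE.1 ha⟩⁻¹, inv_mem ha, Subtype.ext ?_⟩
    show (b' : G)⁻¹ * a⁻¹ = v
    rw [← mul_inv_rev, show a * (b' : G) = ((v⁻¹ : M) : G) from he.symm]; simp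

end CfsgLib.OddLocal
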