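import Cfsg.Agent.Lib.OddLocal.TauTwo
import Cfsg.Agent.Lib.OddLocal.MaxElemShape

/-!
BG 12.7: a nonabelian Sylow subgroup at a prime of `τ₂(M)`.
-/

set_option autoImplicit false
set_option linter.style.haveILetI false
set_option linter.unusedSectionVars false

open scoped commutatorElement
open scoped Pointwise

namespace CfsgLib.OddLocal

open CfsgLib.Coprime
open CfsgLib.BG.FixedLine (conj_mem_of_le_normalizer mem_normalizer_of_conj)

universe u

variable {G : Type u} [Group G] [Finite G] {p q : ℕ} {M A A₀ E : Subgroup G}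

namespace Exc

/-- The data coming from a nonabelian Sylow subgroup of `G`. -/
theorem nonabelian_data (h : Exc p M A A₀) [Fact p.Prime] (hS : ∀ S : Sylow p G, ¬ IsMulCommutative (S : Subgroup G)) :
    ∃ (P : Sylow p M) (S : Sylow p G) (n : G), A ≤ (P : Subgroup M).map M.subtype ∧
      (P : Subgroup M).map M.subtype ≤ (S : Subgroup G) ∧ n ∈ (S : Subgroup G) ∧
      n ∈ Subgroup.normalizer (((P : Subgroup M).map M.subtype : Subgroup G) : Set G) ∧
      n ∈ Subgroup.normalizer (A : Set G) ∧ n ∉ M ∧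
      ∀ x ∈ (S : Subgroup G), x ∈ M → x ∈ (P : Subgroup M).map M.subtype := by
  classical
  obtain ⟨P, hAP⟩ := h.exists_sylow
  set P' := (P : Subgroup M).map M.subtype with hP'
  obtain ⟨S, hPS⟩ := (P.2.map M.subtype).exists_le_sylow
  have hmeet : ∀ x ∈ (S : Subgroup G), x ∈ M → x ∈ P' := fun x hx hxM => by
    have hR : IsPGroup p (((S : Subgroup G) ⊓ M).subgroupOf M) :=
      (S.2.to_le inf_le_left).comap_of_injective M.subtype M.subtype_injective
    have h3 := P.is_maximal' hR fun s hs => ⟨hPS ⟨s, hs, rfl⟩, s.2⟩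
    rw [hP', ← h3]
    exact ⟨⟨x, hxM⟩, ⟨hx, hxM⟩, rfl⟩
  have hne : ¬ (S : Subgroup G) ≤ P' := fun hle => hS S ⟨⟨fun x y => Subtype.ext
    (h.sylow_comm P hAP _ (hle x.2) _ (hle y.2))⟩⟩
  obtain ⟨n, hnS, hnN, hnP⟩ := exists_mem_normalizer_not_mem S.2 hPS hne
  exact ⟨P, S, n, hAP, hPS, hnS, hnN, h.normalizer_le_normalizer P hAP hnN, fun hm => hnP (hmeet n hnS hm), hmeet⟩

/-- The central line `Z`, and the conjugates of `A₀`. -/
theorem nonabelian_lines (h : Exc p M A A₀) [Fact p.Prime] (hS : ∀ S : Sylow p G, ¬ IsMulCommutative (S : Subgroup G)) :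
    ∃ (S : Sylow p G) (Z : Subgroup G), Z ≤ A ∧ A ≤ (S : Subgroup G) ∧ Nat.card Z = p ∧ Z ≠ A₀ ∧
      (S : Subgroup G) ≤ Subgroup.centralizer (Z : Set G) ∧ ¬ (S : Subgroup G) ≤ M ∧
      Subgroup.normalizer ((S : Subgroup G) : Set G) ≤ Subgroup.normalizer (Z : Set G) ∧
      Cfsg.sigmaCore M ⊓ Subgroup.centralizer (Z : Set G) = ⊥ ∧
      ∀ X : Subgroup G, X ≤ A → Nat.card X = p → X ≠ Z → X ≠ A₀ →
        ∃ s ∈ Subgroup.normalizer (A : Set G), s ∉ M ∧ MulAut.conj s • A₀ = X := by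
  classical
  obtain ⟨P, S, n, hAP, hPS, hnS, hnP, hnA, hnM, hmeet⟩ := h.nonabelian_data hS
  set P' := (P : Subgroup M).map M.subtype with hP'
  have hA := h.maxElem
  have hAS : A ≤ (S : Subgroup G) := hAP.trans hPS
  set Z := A ⊓ Subgroup.centralizer ((S : Subgroup G) : Set G) with hZdef
  have hcen : ∀ z ∈ (S : Subgroup G), z ∈ Subgroup.centralizer ((S : Subgroup G) : Set G) → z ^ p = 1 → z ∈ A :=
    fun z hz hzC hzp => hA.mem_of_commutes (fun a ha => hzC a (hAS ha)) hzp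
  obtain ⟨z, hzS, hzC, hzo⟩ := exists_central_order h.hp S.2 fun e => hA.ne_bot (le_bot_iff.1 (hAS.trans e.le))
  have hzZ : z ∈ Z := ⟨hcen z hzS hzC (hzo ▸ pow_orderOf_eq_one z), hzC⟩
  have hnC : n ∉ Subgroup.centralizer (A : Set G) := fun hc => hnM (h.centralizer_le hc)
  have hZc : Nat.card Z = p := by
    obtain ⟨k, hk2, hk⟩ := (Nat.dvd_prime_pow h.hp).1 (h.hA2 ▸ Subgroup.card_dvd_of_le (inf_le_left : Z ≤ A))
    interval_cases k
    · have hz1 : z ∈ (⊥ : Subgroup G) := (Subgroup.card_eq_one.1 (hk.trans (pow_zero p))).le hzZ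
      rw [Subgroup.mem_bot] at hz1
      rw [hz1, orderOf_one] at hzo
      exact absurd hzo.symm h.hp.ne_one
    · exact hk.trans (pow_one p)
    · exact absurd ((Subgroup.le_centralizer_iff.1
        (inf_eq_left.1 (Subgroup.eq_of_le_of_card_ge (inf_le_left : Z ≤ A) (by rw [h.hA2, hk])))) hnS) hnC
  have hZS : (S : Subgroup G) ≤ Subgroup.centralizer (Z : Set G) := fun s hs w hw => (hw.2 s hs).symm
  have hZ1 : Z ≠ ⊥ := fun e => h.hp.ne_one (by rw [← hZc, e, Subgroup.card_bot])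
  have hnZc : ∀ w ∈ Z, n * w = w * n := fun w hw => hw.2 n hnS
  have hnZ : MulAut.conj n • Z = Z := conj_smul_eq_self_of_mem_normalizer
    (Subgroup.centralizer_le_normalizer _ (hZS hnS))
  have hZA₀ : Z ≠ A₀ := fun e => hnM (h.hN (e ▸ mem_normalizer_iff_conj_smul.2 hnZ))
  have hNZ : Subgroup.normalizer ((S : Subgroup G) : Set G) ≤ Subgroup.normalizer (Z : Set G) := fun g hg =>
    mem_normalizer_of_conj fun w hw => by
      have h1 : g * w * g⁻¹ ∈ Subgroup.centralizer ((S : Subgroup G) : Set G) :=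
        conj_mem_of_le_normalizer ((le_normalizer_centralizer (A := Subgroup.normalizer ((S : Subgroup G) : Set G))
          (H := (S : Subgroup G)) le_rfl) hg) w hw.2
      exact ⟨hcen _ (conj_mem_of_le_normalizer hg w (hAS hw.1)) h1
        (by rw [conj_pow, h.hAe.2 w hw.1, mul_one, mul_inv_cancel]), h1⟩
  have hfix : Cfsg.sigmaCore M ⊓ Subgroup.centralizer (Z : Set G) = ⊥ :=
    h.central_fpf (Subgroup.map_subtype_le _) hnP hnM hAP (fun a ha w hw => hA.comm hw.1 ha) hnZ hZ1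
  refine ⟨S, Z, inf_le_left, hAS, hZc, hZA₀, hZS, fun hle => hnM (hle hnS), hNZ, hfix, fun X hX hXc hXZ hX₀ => ?_⟩
  obtain ⟨a, ha, ha1, hA₀⟩ := h.exists_gen
  haveI := S.2.isNilpotent
  -- `⁅A, n⁆ ≤ Z`
  set Y := ⁅A, Subgroup.zpowers n⁆ with hY
  have hnle : Subgroup.zpowers n ≤ Subgroup.normalizer (A : Set G) := Subgroup.zpowers_le.2 hnA
  have hYA : Y ≤ A := commutator_le_left_of_le_normalizer hnle
  have hYlt : Y < A := commutator_lt_of_isNilpotent hAS (Subgroup.zpowers_le.2 hnS) hnle hA.ne_bot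
  have hYC : Y ≤ Subgroup.centralizer ({n} : Set G) := by
    obtain ⟨k, hk2, hk⟩ := (Nat.dvd_prime_pow h.hp).1 (h.hA2 ▸ Subgroup.card_dvd_of_le hYA)
    interval_cases k
    · rw [Subgroup.card_eq_one.1 (hk.trans (pow_zero p))]; exact bot_le
    · have h1 := centralizes_line h.hp (S.2.to_le (Subgroup.zpowers_le.2 hnS)) (hk.trans (pow_one p))
        (le_normalizer_commutator hnle Subgroup.le_normalizer)
      intro y hy
      exact Subgroup.mem_centralizer_singleton_iff.2 ((h1 (Subgroup.mem_zpowers n)) y hy)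
    · exact absurd (Subgroup.eq_of_le_of_card_ge hYA (by rw [h.hA2, hk])) hYlt.ne
  have hCnZ : A ⊓ Subgroup.centralizer ({n} : Set G) = Z := by
    refine (Subgroup.eq_of_le_of_card_ge (le_inf inf_le_left fun w hw =>
      Subgroup.mem_centralizer_singleton_iff.2 (hnZc w hw).symm) ?_).symm
    obtain ⟨k, hk2, hk⟩ := (Nat.dvd_prime_pow h.hp).1 (h.hA2 ▸
      Subgroup.card_dvd_of_le (inf_le_left : A ⊓ Subgroup.centralizer ({n} : Set G) ≤ A))
    rw [hk, hZc]
    refine (Nat.pow_le_pow_right h.hp.pos (?_ : k ≤ 1)).trans (pow_one p).le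
    by_contra hk1
    refine hnC fun b hb => ?_
    have hb' : b ∈ A ⊓ Subgroup.centralizer ({n} : Set G) :=
      (Subgroup.eq_of_le_of_card_ge inf_le_left (by rw [h.hA2, hk]; exact Nat.pow_le_pow_right h.hp.pos (by omega))).ge hb
    exact Subgroup.mem_centralizer_singleton_iff.1 hb'.2
  set c := ⁅n, a⁆ with hc
  have hcZ : c ∈ Z := by
    have h1 : ⁅a, n⁆ ∈ Y := Subgroup.commutator_mem_commutator (h.hA₀ ha) (Subgroup.mem_zpowers n)
    have h2 : ⁅a, n⁆ ∈ Z := hCnZ.le ⟨hYA h1, hYC h1⟩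
    rw [hc, ← commutatorElement_inv]
    exact Z.inv_mem h2
  have hA₀n : ¬ n ∈ Subgroup.normalizer (A₀ : Set G) := fun hm => hnM (h.hN hm)
  have hc1 : c ≠ 1 := fun e => hA₀n (Subgroup.centralizer_le_normalizer _ fun y hy => by
    rw [SetLike.mem_coe, hA₀] at hy
    obtain ⟨i, rfl⟩ := Subgroup.mem_zpowers_iff.1 hy
    exact ((show Commute n a from commutatorElement_eq_one_iff_mul_comm.1 e).zpow_right i).eq.symm)
  have hZgen : Z = Subgroup.zpowers c := (Subgroup.eq_of_le_of_card_ge (Subgroup.zpowers_le.2 hcZ) (by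
    rw [hZc, Nat.card_zpowers, orderOf_eq_prime (h.hAe.2 c hcZ.1) hc1])).symm
  have hiter : ∀ j : ℕ, n ^ j * a * (n ^ j)⁻¹ = c ^ j * a := by
    intro j
    induction j with
    | zero => simp
    | succ j ih =>
      have hg1 : n * a * n⁻¹ = c * a := by rw [hc, commutatorElement_def]; group
      have hgcj : n * c ^ j * n⁻¹ = c ^ j := by
        rw [((show Commute n c from hnZc c hcZ).pow_right j).eq]; group
      calc n ^ (j + 1) * a * (n ^ (j + 1))⁻¹ = n * (n ^ j * a * (n ^ j)⁻¹) * n⁻¹ := by rw [pow_succ']; group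
        _ = (n * c ^ j * n⁻¹) * (n * a * n⁻¹) := by rw [ih]; group
        _ = c ^ (j + 1) * a := by rw [hgcj, hg1, pow_succ]; group
  have hsup : Z ⊔ A₀ = A := by
    refine Subgroup.eq_of_le_of_card_ge (sup_le inf_le_left h.hA₀) ?_
    obtain ⟨k, hk2, hk⟩ := (Nat.dvd_prime_pow h.hp).1 (h.hA2 ▸ Subgroup.card_dvd_of_le (sup_le (inf_le_left : Z ≤ A) h.hA₀))
    rw [h.hA2, hk]
    refine Nat.pow_le_pow_right h.hp.pos ?_
    by_contra hlt
    have hle : Nat.card ↥(Z ⊔ A₀) ≤ p := by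
      rw [hk]; exact (Nat.pow_le_pow_right h.hp.pos (by omega : k ≤ 1)).trans (pow_one p).le
    exact hZA₀ ((Subgroup.eq_of_le_of_card_ge (le_sup_left : Z ≤ Z ⊔ A₀) (hle.trans hZc.ge)).trans
      (Subgroup.eq_of_le_of_card_ge (le_sup_right : A₀ ≤ Z ⊔ A₀) (hle.trans h.hA₀c.ge)).symm)
  obtain ⟨x, hx, hXx, -⟩ := CfsgLib.BG.PLengthHall.exists_gen_of_prime (R₀ := X) (hXc.symm ▸ h.hp)
  have hx1 : x ≠ 1 := fun e => h.hp.ne_one (by
    rw [← hXc, hXx, e, Subgroup.zpowers_one_eq_bot, Subgroup.card_bot])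
  have hxA := hX hx
  rw [← hsup, ← SetLike.mem_coe, Subgroup.coe_mul_of_right_le_normalizer_left Z A₀
    (h.hA₀.trans fun w hw => Subgroup.centralizer_le_normalizer _ fun v hv => hA.comm hv.1 hw), Set.mem_mul] at hxA
  obtain ⟨u, hu, v, hv, he⟩ := hxA
  rw [SetLike.mem_coe, hA₀, mem_zpowers_iff_mem_range_orderOf] at hv
  obtain ⟨i, -, rfl⟩ := Finset.mem_image.1 hv
  have hap : orderOf a = p := orderOf_eq_prime (h.hAe.2 a (h.hA₀ ha)) ha1
  have hpi : ¬ p ∣ i := by
    rintro ⟨t, rfl⟩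
    rw [pow_mul, h.hAe.2 a (h.hA₀ ha), one_pow, mul_one] at he
    refine hXZ (Subgroup.eq_of_le_of_card_ge ?_ (by rw [hZc, hXc]))
    rw [hXx, ← he]; exact Subgroup.zpowers_le.2 hu
  obtain ⟨j, hj⟩ : ∃ j : ℕ, (c ^ j) ^ i = u := by
    rw [SetLike.mem_coe, hZgen, mem_zpowers_iff_mem_range_orderOf] at hu
    obtain ⟨l, -, rfl⟩ := Finset.mem_image.1 hu
    have hco : orderOf c = p := orderOf_eq_prime (h.hAe.2 c hcZ.1) hc1
    obtain ⟨i', hi'⟩ := exists_pow_eq_self_of_coprime (x := c) (n := i)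
      (by rw [hco]; exact (h.hp.coprime_iff_not_dvd.2 hpi).symm)
    refine ⟨i' * l, ?_⟩
    calc (c ^ (i' * l)) ^ i = ((c ^ i) ^ i') ^ l := by rw [← pow_mul, ← pow_mul, ← pow_mul]; ring_nf
      _ = c ^ l := by rw [hi']
  have hxeq : x = (n ^ j * a * (n ^ j)⁻¹) ^ i := by
    rw [hiter, (show Commute (c ^ j) a from hA.comm (A.pow_mem hcZ.1 j) (h.hA₀ ha)).mul_pow, hj, he]
  have hX' : MulAut.conj (n ^ j) • A₀ = X := by
    refine (Subgroup.eq_of_le_of_card_ge ?_ (by rw [card_conj_smul, h.hA₀c, hXc])).symm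
    rw [hXx, hxeq]
    exact Subgroup.zpowers_le.2 (Subgroup.pow_mem _ (conj_mem_conj_smul ha) i)
  refine ⟨n ^ j, pow_mem hnA j, fun hm => hX₀ ?_, hX'⟩
  have hC : n ^ j ∈ Subgroup.centralizer (A₀ : Set G) := fun y hy =>
    h.sylow_comm P hAP _ (hAP (h.hA₀ hy)) _ (hmeet _ (pow_mem hnS j) hm)
  rw [← hX', conj_smul_eq_self_of_mem_normalizer (Subgroup.centralizer_le_normalizer _ hC)]

theorem centralizer_sigmaCore (h : Exc p M A A₀) [Fact p.Prime]
    (hS : ∀ S : Sylow p G, ¬ IsMulCommutative (S : Subgroup G)) :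
    A ⊓ Subgroup.centralizer (Cfsg.sigmaCore M : Set G) = A₀ := by
  classical
  haveI := h.hAe.1
  obtain ⟨S, Z, hZA, -, hZc, hZA₀, -, -, -, hfix, horb⟩ := h.nonabelian_lines hS
  have hle : Cfsg.sigmaCore M ≤ Subgroup.centralizer (A₀ : Set G) := by
    refine le_of_centralizer_le h.maxElem.not_isCyclic (h.hAM.trans (le_normalizer_piCoreOf _ M)) ?_ fun g hg hg1 => ?_
    · rw [h.hA2]
      exact (h.hp.coprime_iff_not_dvd.2 fun hd => h.hσ (isPi_piCoreOf _ M p h.hp hd)).pow_left 2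
    have hgc : Nat.card (Subgroup.zpowers g) = p := by rw [Nat.card_zpowers, orderOf_eq_prime (h.hAe.2 g hg) hg1]
    have hCg : Subgroup.centralizer ({g} : Set G) = Subgroup.centralizer ((Subgroup.zpowers g : Subgroup G) : Set G) := by
      rw [Subgroup.zpowers_eq_closure, Subgroup.centralizer_closure]
    rw [hCg]
    by_cases hgA₀ : Subgroup.zpowers g = A₀
    · rw [hgA₀]; exact inf_le_right
    by_cases hgZ : Subgroup.zpowers g = Z
    · rw [hgZ, hfix]; exact bot_le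
    obtain ⟨s, hsA, hsM, hs⟩ := horb _ (Subgroup.zpowers_le.2 hg) hgc hgZ hgA₀
    rw [← hs, h.fpf_conj hsA hsM]; exact bot_le
  refine (Subgroup.eq_of_le_of_card_ge (le_inf h.hA₀ (Subgroup.le_centralizer_iff.1 hle)) ?_).symm
  obtain ⟨k, hk2, hk⟩ := (Nat.dvd_prime_pow h.hp).1 (h.hA2 ▸
    Subgroup.card_dvd_of_le (inf_le_left : A ⊓ Subgroup.centralizer (Cfsg.sigmaCore M : Set G) ≤ A))
  rw [hk, h.hA₀c]
  refine (Nat.pow_le_pow_right h.hp.pos (?_ : k ≤ 1)).trans (pow_one p).le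
  by_contra hk1
  refine sigmaCore_ne_bot h.hG h.hM (le_bot_iff.1 (h.sigmaCore_inf_centralizer ▸ le_inf le_rfl ?_))
  refine Subgroup.le_centralizer_iff.1 (inf_eq_left.1 (Subgroup.eq_of_le_of_card_ge inf_le_left ?_))
  rw [hk, h.hA2]
  exact Nat.pow_le_pow_right h.hp.pos (by omega)

theorem tau2_eq (h : Exc p M A A₀) [Fact p.Prime] (hS : ∀ S : Sylow p G, ¬ IsMulCommutative (S : Subgroup G))
    (hE : Cfsg.IsComplIn E (Cfsg.sigmaCore M) M) (hAE : A ≤ E) (hq : q ∈ Cfsg.tau2 M) : q = p := by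
  classical
  by_contra hqp
  haveI := Fact.mk hq.1
  obtain ⟨B₁, hB₁M, hB₁e, hB₁2⟩ := exists_elementary hq.2.2.2
  obtain ⟨m, hm, hmE⟩ := exists_conj_le_compl h.hG h.hM hE hB₁M fun r hr hd => by
    obtain ⟨j, hj⟩ := (isPGroup_of_elementary hB₁e).exists_card_eq
    rw [hj] at hd
    exact (Nat.prime_dvd_prime_iff_eq hr hq.1).1 (hr.dvd_of_dvd_pow hd) ▸ hq.2.1
  obtain ⟨j, hj⟩ := (isPGroup_of_elementary hB₁e).exists_card_eq
  haveI := hB₁e.1
  obtain ⟨B₂, hB₂⟩ := Sylow.exists_subgroup_card_pow_prime (G := B₁) q (n := 2) (hj ▸ pow_dvd_pow q (by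
    rw [hj] at hB₁2
    exact (Nat.pow_le_pow_iff_right hq.1.one_lt).1 hB₁2))
  set B₃ := B₂.map B₁.subtype with hB₃
  have hB₃e : Cfsg.IsElementaryAbelian q B₃ :=
    ⟨Subgroup.map_isMulCommutative B₂ _, fun a ha => hB₁e.2 a (Subgroup.map_subtype_le _ ha)⟩
  have hB₃c : Nat.card B₃ = q ^ 2 := by rw [hB₃, Subgroup.card_map_of_injective B₁.subtype_injective, hB₂]
  have hB₃max : MaxElem q B₃ := ⟨hq.1, hB₃e, hB₃c, elementary_maximal_of_not_sigma h.hG h.hM hq.2.1
    ((Subgroup.map_subtype_le _).trans hB₁M) hB₃e hB₃c⟩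
  set B := MulAut.conj m • B₃ with hB
  have hBmax := hB₃max.conj m
  have hBE : B ≤ E := (Subgroup.map_mono (Subgroup.map_subtype_le _)).trans hmE
  obtain ⟨B₀, hExB⟩ := exists_exc h.hG h.hM hq.1 hq.2.1 (hBE.trans hE.1) hBmax.elem hBmax.card
  have hBA : B ≤ Subgroup.centralizer (A : Set G) := by
    refine commute_of_disjoint (π := {q}) (ρ := {p}) (hBE.trans (h.compl_le_normalizer hE hAE))
      (hAE.trans (hExB.compl_le_normalizer hE hBE)) ((isPi_singleton_iff hq.1).2 hBmax.isPGroup)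
      ((isPi_singleton_iff h.hp).2 h.maxElem.isPGroup) (Set.disjoint_singleton.2 hqp)
  have hCAE : Subgroup.centralizer (A : Set G) ≤ E :=
    (le_inf h.centralizer_le (Subgroup.centralizer_le_normalizer _)).trans (h.inf_normalizer_eq hE hAE).le
  obtain ⟨S, Z, hZA, hAS, hZc, -, hSZ, hSM, hNS, -, -⟩ := h.nonabelian_lines hS
  obtain ⟨n, hnS, hnA, hnM⟩ : ∃ n ∈ (S : Subgroup G), n ∈ Subgroup.normalizer (A : Set G) ∧ n ∉ M := by
    have hR : IsPGroup p ↥((S : Subgroup G) ⊓ M) := S.2.to_le inf_le_left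
    obtain ⟨x, hxS, hxN, hxM⟩ := exists_mem_normalizer_not_mem S.2 (inf_le_left : (S : Subgroup G) ⊓ M ≤ S)
      (fun hle => hSM (hle.trans inf_le_right))
    obtain ⟨P, hP⟩ := (hR.comap_of_injective M.subtype M.subtype_injective :
      IsPGroup p (((S : Subgroup G) ⊓ M).subgroupOf M)).exists_le_sylow
    have hle : (S : Subgroup G) ⊓ M ≤ (P : Subgroup M).map M.subtype :=
      (Subgroup.map_subgroupOf_eq_of_le inf_le_right).ge.trans (Subgroup.map_mono hP)
    have hAP : A ≤ (P : Subgroup M).map M.subtype := (le_inf hAS h.hAM).trans hle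
    refine ⟨x, hxS, mem_normalizer_of_conj fun a ha => ?_, fun hm' => hxM ⟨hxS, hm'⟩⟩
    exact (h.le_sylow_mem P hAP (hle (conj_mem_of_le_normalizer hxN a ⟨hAS ha, h.hAM ha⟩))).1
      (by rw [conj_pow, h.hAe.2 a ha, mul_one, mul_inv_cancel])
  have hnB : n ∈ Subgroup.normalizer (B : Set G) := mem_normalizer_of_conj fun b hb => by
    have h1 : n * b * n⁻¹ ∈ Subgroup.centralizer (A : Set G) :=
      conj_mem_of_le_normalizer ((le_normalizer_centralizer (A := Subgroup.normalizer (A : Set G)) (H := A) le_rfl) hnA)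
        b (hBA hb)
    exact hExB.mem_of_compl hE hBE (hCAE h1) (by rw [conj_pow, hBmax.elem.2 b hb, mul_one, mul_inv_cancel])
  have hZ1 : Z ≠ ⊥ := fun e => h.hp.ne_one (by rw [← hZc, e, Subgroup.card_bot])
  obtain ⟨L, hL, hNL⟩ := (eq_top_or_exists_le_coatom _).resolve_left
    (normalizer_ne_top h.hG hZ1 fun e => h.hM.1 (top_unique (e.ge.trans (hZA.trans h.hAM))))
  have hSL : (S : Subgroup G) ≤ L := hSZ.trans ((Subgroup.centralizer_le_normalizer _).trans hNL)
  have hpσ : p ∈ Cfsg.sigma L := by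
    refine ⟨h.hp, ?_, S.subtype hSL, ?_⟩
    · exact (h.maxElem.dvd_card.trans (Subgroup.card_dvd_of_le (hAS.trans hSL)))
    · rw [Sylow.coe_subtype, Subgroup.map_subgroupOf_eq_of_le hSL]
      exact hNS.trans hNL
  have hBL : B ≤ L := hBA.trans (((Subgroup.centralizer_le (SetLike.coe_subset_coe.2 hZA)).trans
    (Subgroup.centralizer_le_normalizer _)).trans hNL)
  have hNd : Subgroup.zpowers n ≤ ⁅L, L⁆ := by
    rw [Subgroup.zpowers_le, ← CfsgLib.BG.map_commutator_subtype]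
    exact ⟨⟨n, hSL hnS⟩, sylow_le_commutator h.hG hL hpσ (S.subtype hSL).2 (show (⟨n, hSL hnS⟩ : L) ∈ _ from hnS), rfl⟩
  exact hnM (hExB.centralizer_le (centralizes_of_le_derived h.hG hL h.hp hq.1 hqp
    (hBmax.not_beta h.hG L) (S.2.to_le (Subgroup.zpowers_le.2 hnS)) hNd hBmax.isPGroup hBL
    (Subgroup.zpowers_le.2 hnB) (Subgroup.mem_zpowers n)))

theorem fitting_eq (h : Exc p M A A₀) [Fact p.Prime] (hS : ∀ S : Sylow p G, ¬ IsMulCommutative (S : Subgroup G))
    (hE : Cfsg.IsComplIn E (Cfsg.sigmaCore M) M) (hAE : A ≤ E) :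
    Cfsg.fittingOf M = Cfsg.sigmaCore M ⊔ A₀ := by
  classical
  have hC := h.centralizer_sigmaCore hS
  have hA₀C : A₀ ≤ Subgroup.centralizer (Cfsg.sigmaCore M : Set G) := hC.ge.trans inf_le_right
  have hA₀E : A₀ ≤ E := h.hA₀.trans hAE
  have hMA₀ : M ≤ Subgroup.normalizer (A₀ : Set G) := fun m hm => by
    obtain ⟨e, he, b, hb, rfl⟩ := hE.2.2.2 m hm
    refine mul_mem ?_ (Subgroup.centralizer_le_normalizer _ (Subgroup.le_centralizer_iff.1 hA₀C hb))
    rw [← hC]
    exact le_normalizer_inf_of_le (h.compl_le_normalizer hE hAE)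
      (le_normalizer_centralizer (hE.1.trans (le_normalizer_piCoreOf _ M))) he
  have hA₀p : IsPGroup p A₀ := h.maxElem.isPGroup.to_le h.hA₀
  refine le_antisymm (fittingOf_le_of fun q hq => ?_) (sup_le ?_ ?_)
  · by_cases hqσ : q ∈ Cfsg.sigma M
    · exact le_sup_of_le_left (piCoreOf_mono (Set.singleton_subset_iff.2 hqσ) M)
    haveI := Fact.mk hq
    set U := opOf q M with hU
    have hUM : U ≤ M := piCoreOf_le _ M
    have hMU : M ≤ Subgroup.normalizer (U : Set G) := le_normalizer_piCoreOf _ M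
    have hUq : IsPGroup q U := isPGroup_opOf hq M
    have hUC : U ≤ Subgroup.centralizer (Cfsg.sigmaCore M : Set G) :=
      commute_of_disjoint (hUM.trans (le_normalizer_piCoreOf _ M)) ((piCoreOf_le _ M).trans hMU)
        (isPi_piCoreOf _ M) (isPi_piCoreOf _ M) (Set.disjoint_singleton_left.2 hqσ)
    by_cases hU1 : U = ⊥
    · rw [hU1]; exact bot_le
    obtain ⟨P, hP⟩ := (hUq.comap_of_injective M.subtype M.subtype_injective :
      IsPGroup q (U.subgroupOf M)).exists_le_sylow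
    have hUP : U ≤ (P : Subgroup M).map M.subtype :=
      (Subgroup.map_subgroupOf_eq_of_le hUM).ge.trans (Subgroup.map_mono hP)
    have hqM : q ∣ Nat.card M := by
      obtain ⟨z, hz, -, hzo⟩ := exists_central_order hq hUq hU1
      exact hzo ▸ Subgroup.orderOf_dvd_natCard M (hUM hz)
    have hqp : q = p := by
      refine h.tau2_eq hS hE hAE ⟨hq, hqσ, ?_, fun hr => ?_⟩
      · by_contra hr
        exact hqσ (alpha_subset_sigma h.hG h.hM ⟨hq, hr⟩)
      · have hcyc : IsCyclic ((P : Subgroup M).map M.subtype) := by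
          by_contra hnc
          obtain ⟨B, hBP, hBe, hB2⟩ := exists_elem_sq h.hG hq (P.2.map M.subtype) hnc
          exact not_rankLE_one_of_elementary hBe hB2.ge le_rfl fun s hs => by
            by_cases hsq : s = q
            · subst hsq; exact prankLE_mono (hBP.trans (Subgroup.map_subtype_le _)) hr
            refine prankLE_of_not_dvd hs fun hd => hsq ?_
            rw [hB2] at hd
            exact (Nat.prime_dvd_prime_iff_eq hs hq).1 (hs.dvd_of_dvd_pow hd)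
        obtain ⟨z, hz, -, hzo⟩ := exists_central_order hq hUq hU1
        obtain ⟨n, hn, hnM⟩ := exists_normalizer_not_mem hqM hqσ P
        have hZc : Nat.card (Subgroup.zpowers z) = q := by rw [Nat.card_zpowers, hzo]
        have hzP : Subgroup.zpowers z ≤ (P : Subgroup M).map M.subtype := Subgroup.zpowers_le.2 (hUP hz)
        have hzq : ∀ x ∈ Subgroup.zpowers z, x ^ q = 1 := fun x hx => by
          have := pow_card_eq_one' (x := (⟨x, hx⟩ : Subgroup.zpowers z))
          rw [hZc] at this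
          simpa using congrArg Subtype.val this
        have hNz : Subgroup.normalizer ((Subgroup.zpowers z : Subgroup G) : Set G) = M :=
          normalizer_eq_of_isCoatom h.hG h.hM (Subgroup.zpowers_le.2 (hUM hz))
            (fun e => hq.ne_one (by rw [← hZc, e, Subgroup.card_bot]))
            fun g hg => mem_normalizer_of_conj fun x hx => mem_line_of_cyclic hq hcyc hzP hZc
              (hUP (conj_mem_of_le_normalizer (hMU hg) x (Subgroup.zpowers_le.2 hz hx)))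
              (by rw [conj_pow, hzq x hx, mul_one, mul_inv_cancel])
        refine hnM (hNz.le (mem_normalizer_of_conj fun x hx => mem_line_of_cyclic hq hcyc hzP hZc
          (conj_mem_of_le_normalizer hn x (hzP hx)) (by rw [conj_pow, hzq x hx, mul_one, mul_inv_cancel])))
    obtain rfl : p = q := hqp.symm
    -- `U ≤ A₀`
    obtain ⟨Q, S, n, hAQ, hQS, hnS, hnQ, hnA, hnM, -⟩ := h.nonabelian_data hS
    have hUQ : U ≤ (Q : Subgroup M).map M.subtype := by
      haveI hn' : (U.subgroupOf M).Normal := (Subgroup.normal_subgroupOf_iff_le_normalizer hUM).2 hMU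
      have hle : U.subgroupOf M ≤ (Q : Subgroup M) := by
        obtain ⟨m, hm⟩ := MulAction.exists_smul_eq M P Q
        rw [← hm, Sylow.coe_subgroup_smul]
        intro x hx
        rw [mem_conj_smul_iff]
        exact hP (by have := hn'.conj_mem x hx m⁻¹; rwa [inv_inv] at this)
      exact (Subgroup.map_subgroupOf_eq_of_le hUM).ge.trans (Subgroup.map_mono hle)
    have hQC : (Q : Subgroup M).map M.subtype ≤ Subgroup.centralizer (A : Set G) :=
      Subgroup.le_centralizer_iff.1 (h.le_centralizer_sylow Q hAQ)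
    have hΩ : ∀ x ∈ U, x ^ p = 1 → x ∈ A₀ := fun x hx hxp =>
      hC.le ⟨(h.le_sylow_mem Q hAQ (hUQ hx)).1 hxp, hUC hx⟩
    obtain ⟨D, hD⟩ := h.maxElem.centralizer_shape h.hG S (hAQ.trans hQS) (hS S)
    refine le_sup_of_le_right fun y hy => hΩ y hy ?_
    by_contra hy1
    obtain ⟨k, hk⟩ := IsPGroup.iff_orderOf.mp hUq ⟨y, hy⟩
    rw [Subgroup.orderOf_mk] at hk
    have hk2 : 2 ≤ k := by
      by_contra hlt
      exact hy1 (orderOf_dvd_iff_pow_eq_one.1 (hk ▸ (pow_dvd_pow p (by omega : k ≤ 1)).trans (pow_one p).dvd))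
    set w := y ^ p ^ (k - 2) with hw
    have hwo : orderOf w = p ^ 2 := by
      rw [hw, orderOf_pow_of_dvd (pow_ne_zero _ h.hp.ne_zero) (hk ▸ pow_dvd_pow p (by omega)), hk,
        Nat.pow_div (by omega) h.hp.pos]
      congr 1; omega
    have hwU : w ∈ U := U.pow_mem hy _
    have hzo : orderOf (w ^ p) = p := by
      rw [orderOf_pow_of_dvd h.hp.ne_zero (hwo ▸ dvd_pow_self p two_ne_zero), hwo, sq, Nat.mul_div_cancel _ h.hp.pos]
    have hz : w ^ p ∈ A₀ := hΩ _ (U.pow_mem hwU p) (by rw [← pow_mul, ← sq, ← hwo, pow_orderOf_eq_one])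
    obtain ⟨hwD, hDc⟩ := hD w ⟨hQS (hUQ hwU), hQC (hUQ hwU)⟩
    have hzA₀ : A₀ = Subgroup.zpowers (w ^ p) := (Subgroup.eq_of_le_of_card_ge (Subgroup.zpowers_le.2 hz)
      (by rw [h.hA₀c, Nat.card_zpowers, hzo])).symm
    refine hnM (h.hN (mem_normalizer_of_conj fun x hx => ?_))
    have hnw : n * w * n⁻¹ ∈ (Q : Subgroup M).map M.subtype := conj_mem_of_le_normalizer hnQ w (hUQ hwU)
    obtain ⟨hw'D, -⟩ := hD _ ⟨hQS hnw, hQC hnw⟩
    rw [conj_pow] at hw'D
    have hmem : n * w ^ p * n⁻¹ ∈ A₀ := mem_line_of_cyclic h.hp hDc (hzA₀ ▸ Subgroup.zpowers_le.2 hwD) h.hA₀c hw'D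
      (by rw [conj_pow, ← pow_mul, ← sq, ← hwo, pow_orderOf_eq_one, mul_one, mul_inv_cancel])
    rw [hzA₀] at hx
    obtain ⟨i, rfl⟩ := Subgroup.mem_zpowers_iff.1 hx
    rw [← conj_zpow]
    exact A₀.zpow_mem hmem i
  · refine le_of_eq_of_le rfl ?_
    haveI hn : (Cfsg.piCore (Cfsg.sigma M) ↥M).Normal := by
      haveI := Cfsg.Agent.S1886.piCore_char (X := ↥M) (Cfsg.sigma M); infer_instance
    haveI : Group.IsNilpotent ↥(Subgroup.map M.subtype (Cfsg.piCore (Cfsg.sigma M) ↥M)) := h.sigmaCore_nilpotent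
    exact Subgroup.map_mono (CfsgLib.Fitting.le_fittingSubgroup hn (Group.nilpotent_of_mulEquiv
      ((Cfsg.piCore (Cfsg.sigma M) ↥M).equivMapOfInjective M.subtype M.subtype_injective).symm))
  · exact (le_piCoreOf (π := {p}) (h.hA₀.trans h.hAM) hMA₀ ((isPi_singleton_iff h.hp).2 hA₀p)).trans
      (opOf_le_fittingOf h.hp M)

/-- Lines other than `A₀`. -/
theorem other_lines (h : Exc p M A A₀) [Fact p.Prime] (hS : ∀ S : Sylow p G, ¬ IsMulCommutative (S : Subgroup G))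
    {X : Subgroup G} (hX : X ≤ A) (hXc : Nat.card X = p) (hne : X ≠ A₀) :
    Cfsg.sigmaCore M ⊓ Subgroup.centralizer (X : Set G) = ⊥ ∧ ¬ Subgroup.centralizer (X : Set G) ≤ M := by
  obtain ⟨S, Z, hZA, -, hZc, -, hSZ, hSM, -, hfix, horb⟩ := h.nonabelian_lines hS
  by_cases hXZ : X = Z
  · subst hXZ
    exact ⟨hfix, fun hle => hSM (hSZ.trans hle)⟩
  obtain ⟨s, hsA, hsM, rfl⟩ := horb X hX hXc hXZ hne
  refine ⟨h.fpf_conj hsA hsM, fun hle => ?_⟩
  have hA₀C : Cfsg.sigmaCore M ≤ Subgroup.centralizer (A₀ : Set G) :=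
    Subgroup.le_centralizer_iff.1 ((h.centralizer_sigmaCore hS).ge.trans inf_le_right)
  have hsub : Cfsg.sigmaCore M ≤ MulAut.conj s⁻¹ • M := fun x hx => by
    rw [mem_conj_smul_iff, inv_inv]
    refine hle fun y hy => ?_
    rw [SetLike.mem_coe, mem_conj_smul_iff] at hy
    have := hA₀C hx _ hy
    calc y * (s * x * s⁻¹) = s * ((s⁻¹ * y * s) * x) * s⁻¹ := by group
      _ = s * (x * (s⁻¹ * y * s)) * s⁻¹ := by rw [this]
      _ = _ := by group
  refine sigmaCore_ne_bot h.hG h.hM ?_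
  rw [← inf_eq_left.2 hsub]
  exact h.ti (fun hm => hsM (M.inv_mem_iff.1 hm))
    ((conj_smul_eq_self_of_mem_normalizer (inv_mem hsA)).ge.trans (Subgroup.map_mono h.hAM))

end Exc

end CfsgLib.OddLocal
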