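import Cfsg.Agent.Lib.OddLocal.P2Normalizer
import Cfsg.Agent.Lib.OddLocal.PrimeFitting
import Cfsg.Agent.Lib.BG.Basic
import Cfsg.Agent.S1419

/-!
BG 14.12: a support of type `P` makes the supported maximal subgroup a Frobenius group.
-/

set_option autoImplicit false
set_option linter.style.haveILetI false
set_option linter.unusedSectionVars false

open scoped commutatorElement
open scoped Pointwise

namespace CfsgLib.OddLocal

/-- A cyclic group has one subgroup of each order. -/
theorem le_of_card_dvd_cyclic {G : Type*} [Group G] [Finite G] {W A B : Subgroup G} (hW : IsCyclic W)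
    (hA : A ≤ W) (hB : B ≤ W) (hd : Nat.card A ∣ Nat.card B) : A ≤ B := fun x hx => by
  classical
  haveI := hW
  haveI := Fintype.ofFinite W
  set S := Finset.univ.filter fun a : W => a ^ Nat.card B = 1 with hS
  set T := Finset.univ.filter fun a : W => (a : G) ∈ B with hT
  have hTS : T ⊆ S := fun a ha => by
    rw [hT, Finset.mem_filter] at ha
    rw [hS, Finset.mem_filter]
    refine ⟨Finset.mem_univ _, Subtype.ext ?_⟩
    rw [SubmonoidClass.coe_pow, OneMemClass.coe_one]
    exact congrArg Subtype.val (pow_card_eq_one' (x := (⟨(a : G), ha.2⟩ : B)))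
  have hTc : T.card = Nat.card B := by
    rw [← Nat.card_congr (Subgroup.subgroupOfEquivOfLe hB).toEquiv, hT,
      Nat.card_eq_fintype_card, Fintype.card_subtype]
    congr 1
  have h1 : T = S := Finset.eq_of_subset_of_card_le hTS (by
    rw [hTc, hS]; exact IsCyclic.card_pow_eq_one_le Nat.card_pos)
  have hxp : x ^ Nat.card B = 1 := by
    obtain ⟨k, hk⟩ := hd
    rw [hk, pow_mul]
    have := congrArg Subtype.val (pow_card_eq_one' (x := (⟨x, hx⟩ : A)))
    simp only [SubmonoidClass.coe_pow, OneMemClass.coe_one] at this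
    rw [this, one_pow]
  have h2 : (⟨x, hA hx⟩ : W) ∈ S := Finset.mem_filter.2 ⟨Finset.mem_univ _, Subtype.ext (by simpa using hxp)⟩
  rw [← h1, hT, Finset.mem_filter] at h2
  exact h2.2

open CfsgLib.Coprime
open CfsgLib.BG.FixedLine (conj_mem_of_le_normalizer mem_normalizer_of_conj)

universe u

variable {G : Type u} [Group G] [Finite G] {p q r s t : ℕ} {N L H E U K Ns Es Us : Subgroup G}

/-- Primes of `κ(Ms)` divide the order of `K*`. -/
theorem Partner.exists_star_line (h : Partner N K E U Ns Es Us) (hr : r ∈ Cfsg.kappa Ns) :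
    ∃ z ∈ Cfsg.sigmaCore N ⊓ Subgroup.centralizer (K : Set G), orderOf z = r := by
  refine exists_order_of_dvd hr.1 ?_
  by_contra hnd
  refine h.pdata.hall.2.2 r hr.1 hr ?_
  have hrel := Subgroup.relIndex_mul_relIndex ⊥
    (Cfsg.sigmaCore N ⊓ Subgroup.centralizer (K : Set G)) Ns bot_le h.pdata.hKM
  simp only [Subgroup.relIndex_bot_left] at hrel
  exact (hr.1.dvd_mul.1 (hrel ▸ hr.2.1)).resolve_left hnd

theorem Partner.inf_centralizer_star (h : Partner N K E U Ns Es Us) {z : G}
    (hz : z ∈ Cfsg.sigmaCore N ⊓ Subgroup.centralizer (K : Set G)) (hz1 : z ≠ 1) :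
    Ns ⊓ Subgroup.centralizer ({z} : Set G) = K ⊔ (Cfsg.sigmaCore N ⊓ Subgroup.centralizer (K : Set G)) := by
  rw [h.pdata.inf_centralizer h.cyclic_star hz hz1, h.dual, sup_comm]

/-- In `Ms` the normalizer of `K` is its centralizer. -/
theorem Partner.inf_normalizer_le_centralizer (h : Partner N K E U Ns Es Us) :
    Ns ⊓ Subgroup.normalizer (K : Set G) ≤ Subgroup.centralizer (K : Set G) := fun n hn => by
  classical
  have hG := h.data.hG
  obtain ⟨r, b, hb, hr, hbo⟩ := h.pdata.exists_tau1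
  obtain ⟨hBc, -, hb1⟩ := zpowers_line hr.1 hbo
  set C := Ns ⊓ Subgroup.centralizer (K : Set G) with hC
  have hbC : b ∈ C := ⟨h.pdata.hKM hb, hb.2⟩
  have hnb : n * b * n⁻¹ ∈ C := ⟨Ns.mul_mem (Ns.mul_mem hn.1 hbC.1) (Ns.inv_mem hn.1),
    conj_mem_of_le_normalizer (le_normalizer_centralizer le_rfl hn.2) b hbC.2⟩
  obtain ⟨c, hc, hce⟩ := line_conj hG hr.1 (prankLE_mono inf_le_left hr.2.2.2.2 : Cfsg.PRankLE r 1 C)
    (Subgroup.zpowers_le.2 hnb) (by rw [Nat.card_zpowers, ← hbo]; exact
      (orderOf_injective (MulAut.conj n).toMonoidHom (MulAut.conj n).injective b))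
    (Subgroup.zpowers_le.2 hbC) hBc
  rw [← conj_smul_line] at hce
  have hcn : n⁻¹ * c ∈ Ns ⊓ Subgroup.normalizer ((Subgroup.zpowers b : Subgroup G) : Set G) :=
    ⟨Ns.mul_mem (Ns.inv_mem hn.1) hc.1, mem_normalizer_iff_conj_smul.2 (by
      rw [map_mul, mul_smul, hce, ← mul_smul, ← map_mul, inv_mul_cancel, map_one, one_smul])⟩
  rw [h.pdata.inf_normalizer_line hb (hbo ▸ hr.1), h.dual] at hcn
  have hle : (Cfsg.sigmaCore N ⊓ Subgroup.centralizer (K : Set G)) ⊔ K ≤ Subgroup.centralizer (K : Set G) :=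
    sup_le inf_le_right (haveI := h.cyclic_K; haveI : IsMulCommutative K := IsCyclic.isMulCommutative
      Subgroup.le_centralizer K)
  have := (Subgroup.centralizer (K : Set G)).mul_mem hc.2 ((Subgroup.centralizer (K : Set G)).inv_mem (hle hcn))
  rwa [show c * (n⁻¹ * c)⁻¹ = n by group] at this

/-- `Ms' ∩ Z = K`. -/
theorem Partner.derived_inf_Z (h : Partner N K E U Ns Es Us) :
    ⁅Ns, Ns⁆ ⊓ (K ⊔ (Cfsg.sigmaCore N ⊓ Subgroup.centralizer (K : Set G))) ≤ K := by
  have hG := h.data.hG
  obtain ⟨U', hU'⟩ := exists_decomposition hG h.pdata.hM h.pdata.hall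
  have hder := derived_eq hG h.pdata.hM hU' h.pdata.hK1
  intro w hw
  obtain ⟨k, hk, z, hz, rfl⟩ := h.data.mem_Z_iff.1 hw.2
  have hkD : k ∈ ⁅Ns, Ns⁆ := by
    rw [hder]; exact Subgroup.mem_sup_right (h.dual.ge hk).1
  have hzD : z ∈ ⁅Ns, Ns⁆ := by
    have := mul_mem (inv_mem hkD) hw.1
    rwa [inv_mul_cancel_left] at this
  rw [hder] at hzD
  rw [Subgroup.mem_bot.1 (UM_inf_K hG h.pdata.hM hU' ▸ ⟨hzD, hz⟩ : z ∈ (⊥ : Subgroup G)), mul_one]
  exact hk

/-- `Ms' ∩ C(K)` is nilpotent. -/
theorem Partner.derived_inf_centralizer_nilpotent (h : Partner N K E U Ns Es Us) :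
    Group.IsNilpotent ↥(⁅Ns, Ns⁆ ⊓ Subgroup.centralizer (K : Set G)) := by
  classical
  have hG := h.data.hG
  obtain ⟨t, z, ht, hz, hzo⟩ := h.data.exists_star_prime
  obtain ⟨hZc, -, hz1⟩ := zpowers_line ht hzo
  set W := ⁅Ns, Ns⁆ ⊓ Subgroup.centralizer (K : Set G) with hW
  set C := Ns ⊓ Subgroup.centralizer (K : Set G) with hC
  have hderle : ⁅Ns, Ns⁆ ≤ Ns := Subgroup.commutator_le.2 fun a ha b hb => by
    rw [commutatorElement_def]
    exact Ns.mul_mem (Ns.mul_mem (Ns.mul_mem ha hb) (Ns.inv_mem ha)) (Ns.inv_mem hb)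
  have hWC : W ≤ C := inf_le_inf_right _ hderle
  have hKC : K ≤ C := le_inf ((h.dual.ge.trans inf_le_left).trans (piCoreOf_le _ Ns))
    (haveI := h.cyclic_K; haveI : IsMulCommutative K := IsCyclic.isMulCommutative
      Subgroup.le_centralizer K)
  have hCW : C ≤ Subgroup.normalizer (W : Set G) :=
    le_normalizer_inf_of_le (inf_le_left.trans (fun a ha => le_normalizer_commutator Subgroup.le_normalizer
      Subgroup.le_normalizer ha)) (inf_le_right.trans Subgroup.le_normalizer)
  have hzC : z ∈ C := ⟨h.pdata.hKM hz, hz.2⟩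
  set z' : C := ⟨z, hzC⟩ with hz'
  set W' := W.subgroupOf C with hW'
  haveI hW'n : W'.Normal := (Subgroup.normal_subgroupOf_iff_le_normalizer hWC).2 hCW
  set K' := K.subgroupOf C with hK'
  haveI hK'n : K'.Normal := ⟨fun k hk c => by
    show (c : G) * k * (c : G)⁻¹ ∈ K
    have hck : Commute (c : G) k := (commute_of_mem_centralizer (show (k : G) ∈ K from hk) c.2.2).symm
    rwa [hck.eq, mul_inv_cancel_right]⟩
  set π := QuotientGroup.mk' K' with hπ
  have hzt : z' ^ t = 1 := Subtype.ext (by rw [SubmonoidClass.coe_pow, ← hzo]; exact pow_orderOf_eq_one z)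
  obtain ⟨U', hU'⟩ := exists_decomposition hG h.pdata.hM h.pdata.hall
  have hder := derived_eq hG h.pdata.hM hU' h.pdata.hK1
  have hcop : (Nat.card (Subgroup.zpowers z')).Coprime (Nat.card W') := by
    rw [Nat.card_zpowers, show orderOf z' = orderOf z from Subgroup.orderOf_mk z _, hzo,
      Nat.card_congr (Subgroup.subgroupOfEquivOfLe hWC).toEquiv]
    refine ht.coprime_iff_not_dvd.2 fun hd => ((hall_UM hG h.pdata.hM hU').2.1 t ht ?_).2
      (h.pdata.hall.2.1 t ht (hzo ▸ Subgroup.orderOf_dvd_natCard _ hz))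
    rw [← hder]
    exact hd.trans (Subgroup.card_dvd_of_le inf_le_left)
  have hfix := map_inf_centralizer (A := Subgroup.zpowers z') (K := W')
    (Subgroup.normalizer_eq_top (H := W') ▸ le_top) hcop (Or.inl inferInstance) π
  rw [centralizer_zpowers_eq, MonoidHom.map_zpowers, centralizer_zpowers_eq] at hfix
  have hbot : (W' ⊓ Subgroup.centralizer ({z'} : Set C)).map π = ⊥ := by
    rw [Subgroup.map_eq_bot_iff, QuotientGroup.ker_mk']
    intro w hw
    refine h.derived_inf_Z ⟨(show (w : G) ∈ W from hw.1).1, ?_⟩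
    rw [← h.inf_centralizer_star hz hz1]
    exact ⟨w.2.1, mem_centralizer_singleton_of_commute
      (congrArg Subtype.val (commute_of_mem_centralizer_singleton hw.2).eq)⟩
  haveI : (W'.map π).Normal := Subgroup.Normal.map inferInstance π (QuotientGroup.mk'_surjective _)
  haveI hn : Group.IsNilpotent (W'.map π) := isNilpotent_of_fpf_elem ht
    (show π z' ^ t = 1 by rw [← map_pow, hzt, map_one])
    ((Subgroup.normalizer_eq_top (H := W'.map π)).ge (Subgroup.mem_top _)) (hfix.symm.trans hbot)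
  haveI : Group.IsNilpotent W' := Subgroup.isNilpotent_of_ker_le_center (π.subgroupMap W') (fun w hw => by
    refine Subgroup.mem_center_iff.2 fun v => Subtype.ext (Subtype.ext ?_)
    have hwK : ((w : C) : G) ∈ K := by
      have h1 : π (w : C) = 1 := congrArg Subtype.val (MonoidHom.mem_ker.1 hw)
      have h2 : (w : C) ∈ π.ker := MonoidHom.mem_ker.2 h1
      rw [hπ, QuotientGroup.ker_mk'] at h2
      exact h2
    exact (commute_of_mem_centralizer hwK (v : C).2.2).eq.symm)
  exact Group.nilpotent_of_mulEquiv (Subgroup.subgroupOfEquivOfLe hWC)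

set_option maxHeartbeats 1000000 in
/-- A commutative normal Sylow subgroup of rank at most two cannot meet `K`. -/
theorem Partner.normal_sylow_false (h : Partner N K E U Ns Es Us) {y : G} (hy : y ∈ K) (hs : s.Prime)
    (hyo : orderOf y = s) (T : Sylow s Ns) (hTn : (T : Subgroup Ns).Normal)
    (hTL : (T : Subgroup Ns).map Ns.subtype ≤ L) (hrL : Cfsg.PRankLE s 2 L)
    (hTc : IsMulCommutative ↥((T : Subgroup Ns).map Ns.subtype)) : False := by
  classical
  have hG := h.data.hG
  haveI := Fact.mk hs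
  haveI := hTn
  haveI := hTc
  set T' := (T : Subgroup Ns).map Ns.subtype with hT'
  have hT'p : IsPGroup s T' := T.2.map _
  have hT'M : T' ≤ Ns := Subgroup.map_subtype_le _
  have hNT : Ns ≤ Subgroup.normalizer (T' : Set G) := fun n hn => mem_normalizer_of_conj fun v hv => by
    obtain ⟨a, ha, rfl⟩ := hv
    exact ⟨⟨n, hn⟩ * a * ⟨n, hn⟩⁻¹, hTn.conj_mem a ha _, rfl⟩
  have hmem : ∀ {v : G}, v ∈ Ns → ∀ k, v ^ s ^ k = 1 → v ∈ T' := fun {v} hv k hk => by
    have hp : IsPGroup s (Subgroup.zpowers (⟨v, hv⟩ : Ns)) :=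
      isPGroup_zpowers (k := k) (Subtype.ext (by simpa using hk))
    obtain ⟨T₁, hT₁⟩ := hp.exists_le_sylow
    haveI := Sylow.unique_of_normal T inferInstance
    exact ⟨⟨v, hv⟩, (Subsingleton.elim T₁ T) ▸ hT₁ (Subgroup.mem_zpowers _), rfl⟩
  have hβ : s ∉ Cfsg.beta Ns := fun hb => hb.1.2 fun A hA hAe => by
    have hAT : A.map Ns.subtype ≤ T' := by
      rintro _ ⟨a, ha, rfl⟩
      exact hmem a.2 1 (by rw [pow_one]; exact congrArg Subtype.val (hAe a ha))
    haveI := hA
    haveI := Subgroup.map_isMulCommutative A Ns.subtype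
    have h1 := prankLE_mono hTL hrL ((A.map Ns.subtype).subgroupOf T') inferInstance (fun a ha => Subtype.ext (by
      obtain ⟨b, hb, hbe⟩ := (show (a : G) ∈ A.map Ns.subtype from ha)
      rw [SubmonoidClass.coe_pow, ← hbe, ← map_pow, hAe b hb, map_one]; rfl))
    rwa [Nat.card_congr (Subgroup.subgroupOfEquivOfLe hAT).toEquiv,
      Subgroup.card_map_of_injective Ns.subtype_injective] at h1
  set D := ⁅Ns, Ns⁆ with hD
  have hDN : D ≤ Ns := Subgroup.commutator_le.2 fun a ha b hb => by
    rw [commutatorElement_def]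
    exact Ns.mul_mem (Ns.mul_mem (Ns.mul_mem ha hb) (Ns.inv_mem ha)) (Ns.inv_mem hb)
  have hcent : ∀ w ∈ D, ∀ v ∈ T', Commute w v := fun w hw v hv => by
    have : w ∈ Subgroup.centralizer (T' : Set G) := mem_of_primary fun l hl _ u hu ⟨k, hk⟩ => by
      have huD : u ∈ D := Subgroup.zpowers_le.2 hw hu
      by_cases hls : l = s
      · subst hls
        exact Subgroup.le_centralizer T' (hmem (hDN huD) k hk)
      · exact centralizes_of_le_derived hG h.pdata.hM hl hs (Ne.symm hls) hβ (isPGroup_zpowers hk)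
          (Subgroup.zpowers_le.2 huD) hT'p hT'M (Subgroup.zpowers_le.2 (hNT (hDN huD))) (Subgroup.mem_zpowers u)
    exact (commute_of_mem_centralizer hv this).symm
  obtain ⟨U', hU'⟩ := exists_decomposition hG h.pdata.hM h.pdata.hall
  have hy2 : y ∈ ⁅D, D⁆ := star_le_second_derived hG h.pdata.hM hU' h.pdata.hK1 (h.dual.ge hy)
  rw [← CfsgLib.BG.map_commutator_subtype] at hy2
  obtain ⟨y', hy', hye⟩ := hy2
  have hyo' : orderOf y' = s := by rw [← hyo, ← hye]; exact (Subgroup.orderOf_coe y').symm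
  obtain ⟨P, hP⟩ := (zpowers_line hs hyo').2.1.exists_le_sylow
  have hPT : ∀ v ∈ (P : Subgroup D), (v : G) ∈ T' := fun v hv => by
    obtain ⟨k, hk⟩ := P.2 ⟨v, hv⟩
    exact hmem (hDN v.2) k (by simpa using congrArg Subtype.val (congrArg Subtype.val hk))
  have hPc : Subgroup.normalizer ((P : Subgroup D) : Set D) ≤ Subgroup.centralizer ((P : Subgroup D) : Set D) :=
    fun w _ => Subgroup.mem_centralizer_iff.2 fun v hv => Subtype.ext (hcent w w.2 v (hPT v hv)).eq.symm
  haveI : IsMulCommutative (P : Subgroup D) :=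
    ⟨⟨fun a b => Subtype.ext (hPc (Subgroup.le_normalizer b.2) a a.2)⟩⟩
  set f := MonoidHom.transferSylow P hPc with hf
  have hker : y' ∈ f.ker := by
    have hle : commutator D ≤ f.ker := by
      rw [commutator_def]
      refine Subgroup.commutator_le.2 fun a _ b _ => MonoidHom.mem_ker.2 ?_
      rw [map_commutatorElement, commutatorElement_eq_one_iff_mul_comm]
      exact mul_comm' _ _
    exact hle hy'
  have hdis := MonoidHom.ker_transferSylow_disjoint P hPc P P.2
  have h1 : y' ∈ (⊥ : Subgroup D) := hdis.le_bot ⟨hker, hP (Subgroup.mem_zpowers y')⟩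
  exact (zpowers_line hs hyo').2.2 (Subgroup.mem_bot.1 h1)

set_option maxHeartbeats 2000000 in
/-- BG 14.12: the maximal subgroup `H` over the normalizer of a Sylow subgroup of `U`. -/
theorem Partner.exists_frobenius_partner (h : Partner N K E U Ns Es Us) (hU : U ≠ ⊥) {x : G} (hx : x ∈ U)
    (hq : q.Prime) (hqx : q ∣ orderOf x) (hCx : Subgroup.centralizer ({x} : Set G) ≤ N) :
    ∃ H E' : Subgroup G, IsCoatom H ∧ q ∈ Cfsg.sigma H ∧ Cfsg.kappa H = ∅ ∧ (∀ p : ℕ, p ∉ Cfsg.tau2 H) ∧
      Cfsg.IsComplIn E' (Cfsg.sigmaCore H) H ∧ E' ≠ ⊥ ∧ IsCyclic E' ∧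
      ∀ e ∈ E', e ≠ 1 → Cfsg.sigmaCore H ⊓ Subgroup.centralizer ({e} : Set G) = ⊥ := by
  classical
  have hd := h.data
  have hG := hd.hG
  haveI := Fact.mk hq
  have hqU : q ∣ Nat.card U := hqx.trans (Subgroup.orderOf_dvd_natCard U hx)
  obtain ⟨R⟩ : Nonempty (Sylow q U) := inferInstance
  set R' := (R : Subgroup U).map U.subtype with hR'
  have hR1 : R' ≠ ⊥ := fun e => by
    have hc := R.card_eq_multiplicity
    rw [← Subgroup.card_map_of_injective (f := U.subtype) U.subtype_injective (K := (R : Subgroup U)), ← hR', e,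
      Subgroup.card_bot] at hc
    exact (Nat.one_lt_pow (hq.factorization_pos_of_dvd Nat.card_pos.ne' hqU).ne' hq.one_lt).ne hc
  obtain ⟨H, hH, hNR⟩ := (eq_top_or_exists_le_coatom _).resolve_left
    (normalizer_ne_top hG hR1 fun e => hd.hM.1 (top_unique (e.ge.trans
      ((Subgroup.map_subtype_le _).trans hd.hallU.1))))
  obtain ⟨hκ, hUσ, hNH, -, hKF, hEc⟩ := h.sylow_normalizer hU R hqU hH hNR
  set E' := H ⊓ Ns with hE'
  have hqσ : q ∈ Cfsg.sigma H := isPi_piCoreOf _ H q hq (hqU.trans (Subgroup.card_dvd_of_le hUσ))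
  have hE'H : E' ≤ H := inf_le_left
  have hE'N : E' ≤ Ns := inf_le_right
  obtain ⟨s, y, hs, hy, hyo⟩ := hd.exists_line
  haveI := Fact.mk hs
  obtain ⟨hYc, hYp, hy1⟩ := zpowers_line hs hyo
  have hKs : Nat.card K = s :=
    ((Nat.prime_dvd_prime_iff_eq hs (h.prime_K hU)).1 (hyo ▸ Subgroup.orderOf_dvd_natCard K hy)).symm
  have hKy : Subgroup.zpowers y = K :=
    Subgroup.eq_of_le_of_card_ge (Subgroup.zpowers_le.2 hy) (by rw [hKs, hYc])
  have hCK : Subgroup.centralizer ({y} : Set G) = Subgroup.centralizer (K : Set G) := by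
    rw [← hKy, centralizer_zpowers_eq]
  have hyF : y ∈ Cfsg.fittingOf E' := hKF hy
  have hyE : y ∈ E' := fittingOf_le _ hyF
  have hyσ : y ∈ Cfsg.sigmaCore Ns := (h.dual.ge hy).1
  have hsNs : s ∈ Cfsg.sigma Ns := sigma_of_mem_core hs hyσ hyo
  have hsN : s ∈ Cfsg.kappa N := hd.hall.2.1 s hs (hyo ▸ Subgroup.orderOf_dvd_natCard K hy)
  have hsH : s ∉ Cfsg.sigma H := not_sigma_of_dvd_compl hG hH hEc hs (hyo ▸ Subgroup.orderOf_dvd_natCard E' hyE)
  have hfix : Cfsg.sigmaCore H ⊓ Subgroup.centralizer ({y} : Set G) = ⊥ := (Subgroup.eq_bot_iff_forall _).2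
    fun w hw => by
    by_contra hw1
    rcases sigma_dichotomy hG hH hw.1 hw1 (hE'H hyE) (commute_of_mem_centralizer_singleton hw.2) hy1
      (fun l hl hld => by rw [hyo] at hld; exact (Nat.prime_dvd_prime_iff_eq hl hs).1 hld ▸ hsH)
      with ⟨hκ', -⟩ | ⟨-, -, hyc, -⟩
    · have := hκ' s hs (hyo ▸ dvd_rfl)
      rw [hκ] at this
      exact this
    · exact hsH ((h.pdata.star_uniq hs (h.dual.ge hy) hyo).2 H hH hyc ▸ hsNs)
  obtain ⟨x₀, hx₀, hx₀1⟩ : ∃ v ∈ Cfsg.sigmaCore H, v ≠ 1 := by
    obtain ⟨v, hv⟩ := (Subgroup.ne_bot_iff_exists_ne_one).1 (sigmaCore_ne_bot hG hH)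
    exact ⟨v, v.2, fun e => hv (Subtype.ext e)⟩
  set W := ⁅Ns, Ns⁆ ⊓ Subgroup.centralizer (K : Set G) with hW
  have hWn : Group.IsNilpotent W := h.derived_inf_centralizer_nilpotent
  obtain ⟨U', hU'⟩ := exists_decomposition hG h.pdata.hM h.pdata.hall
  have hmemW : ∀ {v : G}, v ∈ Ns → Commute y v → (∀ l : ℕ, l.Prime → l ∣ orderOf v → l ∉ Cfsg.kappa Ns) →
      v ∈ W := fun {v} hv hyv hl => by
    refine ⟨?_, hCK ▸ mem_centralizer_singleton_of_commute hyv⟩
    rw [derived_eq hG h.pdata.hM hU' h.pdata.hK1]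
    exact mem_UM_of_primes hG h.pdata.hM hU' hv hl
  -- `E` centralizes `K` unless `s ∈ τ₂(H)`
  have hEy : s ∉ Cfsg.tau2 H → ∀ e ∈ E', Commute y e := fun hs2 e he => by
    have hr1 : Cfsg.PRankLE s 1 H := by_contra fun hn =>
      hs2 ⟨hs, hsH, prankLE_two_of_not_sigma hG hH hs hsH, hn⟩
    have hcyc : IsCyclic ↥(opOf s E') :=
      cyclic_of_prankLE_one hG hs hr1 (isPGroup_opOf hs E') ((piCoreOf_le _ E').trans hE'H)
    have hyP : y ∈ opOf s E' := mem_opOf_of_mem_fittingOf hs hyF (k := 1) (by rw [pow_one, ← hyo, pow_orderOf_eq_one])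
    have heN : e ∈ Subgroup.normalizer (K : Set G) := mem_normalizer_of_conj fun v hv => by
      rw [← hKy] at hv ⊢
      refine mem_line_of_cyclic hs hcyc (Subgroup.zpowers_le.2 hyP) hYc
        (conj_mem_of_le_normalizer (le_normalizer_piCoreOf _ E' he) v (Subgroup.zpowers_le.2 hyP hv)) ?_
      rw [conj_pow, pow_eq_one_of_line hs hYc hv, mul_one, mul_inv_cancel]
    exact commute_of_mem_centralizer hy (h.inf_normalizer_le_centralizer ⟨hE'N he, heN⟩)
  -- a normal Sylow subgroup of `Ns`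
  obtain ⟨q₀, T, hq₀, -, hq₀d, hTn⟩ := h.symm.exists_normal_sylow
  obtain rfl : q₀ = s := by
    rw [h.dual, hKs] at hq₀d
    exact (Nat.prime_dvd_prime_iff_eq hq₀ hs).1 hq₀d
  haveI := hTn
  set T' := (T : Subgroup Ns).map Ns.subtype with hT'
  have hTmem : ∀ {v : G}, v ∈ Ns → ∀ k, v ^ q₀ ^ k = 1 → v ∈ T' := fun {v} hv k hk => by
    have hp : IsPGroup q₀ (Subgroup.zpowers (⟨v, hv⟩ : Ns)) :=
      isPGroup_zpowers (k := k) (Subtype.ext (by simpa using hk))
    obtain ⟨T₁, hT₁⟩ := hp.exists_le_sylow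
    haveI := Sylow.unique_of_normal T inferInstance
    exact ⟨⟨v, hv⟩, (Subsingleton.elim T₁ T) ▸ hT₁ (Subgroup.mem_zpowers _), rfl⟩
  have hTfalse : T' ≤ E' → False := fun hle =>
    h.normal_sylow_false hy hs hyo T hTn (hle.trans hE'H) (prankLE_two_of_not_sigma hG hH hs hsH)
      ⟨⟨fun a b => Subtype.ext (sylow_comm_of_not_sigma hG hH hs hsH (hle.trans hE'H) (T.2.map _) a a.2 b b.2)⟩⟩
  -- `τ₂(H) = ∅`
  have hτ2 : ∀ p : ℕ, p ∉ Cfsg.tau2 H := by
    have step : ∀ p : ℕ, p ∈ Cfsg.tau2 H → (p ≠ q₀ → q₀ ∉ Cfsg.tau2 H) → False := by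
      intro p hp2 hps'
      have hp := hp2.1
      haveI := Fact.mk hp
      have hpH := hp2.2.1
      obtain ⟨B, B₀, hBE, hB⟩ := exists_elem_compl hG hH hEc hp2
      haveI : IsMulCommutative B := hB.hAe.1
      by_cases hab : ∀ S : Sylow p G, ¬ IsMulCommutative (S : Subgroup G)
      · -- nonabelian Sylow subgroups
        obtain ⟨-, ⟨hlc, -⟩, -⟩ := Cfsg.Agent.S1419.result hG H hH E' hEc p hp2 hab B ⟨hBE, hB.hAe, hB.hA2⟩
        obtain ⟨l, hl, hlo⟩ := exists_order_of_dvd hp (dvd_of_eq hlc.symm)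
        have hlN : l ∈ N := hCx (mem_centralizer_singleton_of_commute
          (commute_of_mem_centralizer (hUσ hx) hl.2))
        have hlE : l ∈ U ⊔ K := hNH ▸ ⟨hlN, hB.hAM hl.1⟩
        have hpq : p = q₀ := by
          have hdvd := hlo ▸ Subgroup.orderOf_dvd_natCard (U ⊔ K) hlE
          rw [card_sup_of_coprime (hd.hKE.trans hd.normalU) (Nat.coprime_of_dvd fun t ht h1 h2 =>
            (hd.hallU.2.1 t ht h1).2.1 (hd.hall.2.1 t ht h2)), hKs] at hdvd
          exact (hp.dvd_mul.1 hdvd).elim (fun h1 => absurd (isPi_piCoreOf _ H p hp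
            (h1.trans (Subgroup.card_dvd_of_le hUσ))) hpH) (Nat.prime_dvd_prime_iff_eq hp hs).1
        subst hpq
        haveI := isSolvable_of_ne_top hG hd.hM.1
        haveI : Group.IsSolvable E := isSolvable_of_le hd.hE.1 inferInstance
        obtain ⟨m, hm, hmK⟩ := exists_conj_le_hallOf (π := Cfsg.kappa N) (X := E) (H := K)
          ⟨hd.hKE, hd.hall.2.1, fun t ht hπ htd => hd.hall.2.2 t ht hπ (htd.trans (by
            rw [← Subgroup.relIndex_mul_relIndex K E N hd.hKE hd.hE.1]; exact dvd_mul_right _ _))⟩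
          (Subgroup.zpowers_le.2 (hd.sup_eq.le hlE)) fun t ht htd => by
            rw [Nat.card_zpowers, hlo] at htd
            exact (Nat.prime_dvd_prime_iff_eq ht hp).1 htd ▸ hsN
        have hml : m * l * m⁻¹ ∈ K := hmK (mem_sigmaCore_conj_iff.2 (Subgroup.mem_zpowers l))
        have hmH : m ∈ H := (Subgroup.mem_inf.1 (hNH.ge (hd.sup_eq.ge hm))).2
        have hyml : y ∈ Subgroup.zpowers (m * l * m⁻¹) := by
          rw [Subgroup.eq_of_le_of_card_ge (Subgroup.zpowers_le.2 hml) (by
            rw [hKs, Nat.card_zpowers, ← hlo]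
            exact (orderOf_injective (MulAut.conj m).toMonoidHom (MulAut.conj m).injective l).ge)]
          exact hy
        have hc : Commute (m * l * m⁻¹) x₀ := by
          have h1 := commute_of_mem_centralizer (conj_mem_of_le_normalizer
            (le_normalizer_piCoreOf _ H (inv_mem hmH)) x₀ hx₀) hl.2
          rw [inv_inv] at h1
          calc m * l * m⁻¹ * x₀ = m * (l * (m⁻¹ * x₀ * m)) * m⁻¹ := by group
            _ = m * (m⁻¹ * x₀ * m * l) * m⁻¹ := by rw [h1.eq]
            _ = _ := by group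
        exact hx₀1 (Subgroup.mem_bot.1 (hfix ▸ ⟨hx₀, mem_centralizer_singleton_of_commute
          (commute_zpowers hc hyml (Subgroup.mem_zpowers x₀))⟩))
      · push Not at hab
        obtain ⟨S₀, hS₀⟩ := hab
        obtain ⟨S, hBS⟩ := hB.maxElem.isPGroup.exists_le_sylow
        have hScomm : ∀ a ∈ (S : Subgroup G), ∀ b ∈ (S : Subgroup G), Commute a b := by
          obtain ⟨g, hg⟩ := MulAction.exists_smul_eq G S₀ S
          intro a ha b hb
          rw [← hg, Sylow.coe_subgroup_smul] at ha hb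
          obtain ⟨a', ha', rfl⟩ := ha
          obtain ⟨b', hb', rfl⟩ := hb
          haveI := hS₀
          have hab' : Commute a' b' :=
            congrArg Subtype.val (mul_comm' (⟨a', ha'⟩ : (S₀ : Subgroup G)) ⟨b', hb'⟩)
          exact hab'.map (MulAut.conj g).toMonoidHom
        obtain ⟨-, ⟨hCB, hNB, -⟩, -⟩ := Cfsg.Agent.S1418.result hG H hH E' hEc p hp2 B ⟨hBE, hB.hAe, hB.hA2⟩
        have hCBE : Subgroup.centralizer (B : Set G) ≤ E' := hCB.trans hNB.le
        have hSE : (S : Subgroup G) ≤ E' := fun a ha =>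
          hCBE (Subgroup.mem_centralizer_iff.2 fun b hb => hScomm b (hBS hb) a ha)
        by_cases hps : p = q₀
        · subst hps
          refine hTfalse ?_
          have hST : (S : Subgroup G) ≤ T' := fun a ha => by
            obtain ⟨k, hk⟩ := S.2 ⟨a, ha⟩
            exact hTmem (hE'N (hSE ha)) k (by simpa using congrArg Subtype.val hk)
          exact (S.3 (T.2.map _) hST).le.trans hSE
        have hEc' := hEy (hps' hps)
        have hScK : (S : Subgroup G) ≤ W := fun a ha => hmemW (hE'N (hSE ha)) (hEc' a (hSE ha))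
          fun l hl hld hlκ => by
            obtain ⟨k, hk⟩ := S.2 ⟨a, ha⟩
            have := prime_dvd_of_primary hl hp (y := a) (k := k) (by simpa using congrArg Subtype.val hk) hld
            subst this
            exact hB.maxElem.not_isCyclic (cyclic_of_prankLE_one hG hp (kappa_prankLE hlκ) hB.maxElem.isPGroup
              (hBE.trans hE'N))
        obtain ⟨t, z, ht, hz, hzo⟩ := hd.exists_star_prime
        haveI := Fact.mk ht
        obtain ⟨hZc, -, hz1⟩ := zpowers_line ht hzo
        have htκ : t ∈ Cfsg.kappa Ns := h.pdata.hall.2.1 t ht (hzo ▸ Subgroup.orderOf_dvd_natCard _ hz)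
        have hpt : p ≠ t := fun e => by
          subst e
          exact hB.maxElem.not_isCyclic (cyclic_of_prankLE_one hG hp (kappa_prankLE htκ) hB.maxElem.isPGroup
            (hBE.trans hE'N))
        have hzNs : z ∈ Ns := h.pdata.hKM hz
        have hzW : z ∈ Subgroup.normalizer (W : Set G) :=
          le_normalizer_inf_of_le
            (inf_le_left.trans (fun a ha => le_normalizer_commutator Subgroup.le_normalizer Subgroup.le_normalizer ha))
            (inf_le_right.trans Subgroup.le_normalizer) (⟨hzNs, hz.2⟩ : z ∈ Ns ⊓ Subgroup.centralizer (K : Set G))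
        have hzB : z ∈ Subgroup.normalizer (B : Set G) := mem_normalizer_of_conj fun b hb => by
          have hbW : z * b * z⁻¹ ∈ W := conj_mem_of_le_normalizer hzW b (hScK (hBS hb))
          have hbp : (z * b * z⁻¹) ^ p = 1 := by rw [conj_pow, hB.hAe.2 b hb, mul_one, mul_inv_cancel]
          haveI := hWn
          haveI := CfsgLib.Splitting.sylow_normal_of_isNilpotent hWn (S.subtype hScK)
          obtain ⟨S₁, hS₁⟩ := (isPGroup_zpowers (k := 1) (Subtype.ext (by simpa using hbp)) :
            IsPGroup p (Subgroup.zpowers (⟨_, hbW⟩ : W))).exists_le_sylow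
          haveI := Sylow.unique_of_normal (S.subtype hScK) inferInstance
          have hbS : z * b * z⁻¹ ∈ (S : Subgroup G) :=
            ((Subsingleton.elim S₁ (S.subtype hScK)) ▸ hS₁ (Subgroup.mem_zpowers _) :
              (⟨_, hbW⟩ : W) ∈ ((S.subtype hScK : Sylow p W) : Subgroup W))
          exact hB.mem_of_compl hEc hBE (hSE hbS) hbp
        have hzT : z ∈ Subgroup.normalizer (T' : Set G) := mem_normalizer_of_conj fun v hv => by
          obtain ⟨a, ha, rfl⟩ := hv
          exact ⟨⟨z, hzNs⟩ * a * ⟨z, hzNs⟩⁻¹, hTn.conj_mem a ha _, rfl⟩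
        have hBT : B ≤ Subgroup.normalizer (T' : Set G) := fun b hb => mem_normalizer_of_conj fun v hv => by
          obtain ⟨a, ha, rfl⟩ := hv
          exact ⟨⟨b, hE'N (hBE hb)⟩ * a * ⟨b, hE'N (hBE hb)⟩⁻¹, hTn.conj_mem a ha _, rfl⟩
        have hfpf : ∀ e ∈ Subgroup.zpowers z, e ≠ 1 → ∀ b ∈ B, e * b = b * e → b = 1 := fun e he he1 b hb hc => by
          by_contra hb1
          have hbo : orderOf b = p := orderOf_eq_prime (hB.hAe.2 b hb) hb1
          have hez : z ∈ Subgroup.zpowers e := by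
            rw [← line_eq_zpowers ht hZc he (orderOf_eq_prime (pow_eq_one_of_line ht hZc he) he1)]
            exact Subgroup.mem_zpowers z
          have hbZ : b ∈ ⁅Ns, Ns⁆ ⊓ (K ⊔ (Cfsg.sigmaCore N ⊓ Subgroup.centralizer (K : Set G))) := by
            refine ⟨(hScK (hBS hb)).1, ?_⟩
            rw [← h.inf_centralizer_star hz hz1]
            exact ⟨hE'N (hBE hb), mem_centralizer_singleton_of_commute
              (commute_zpowers (show Commute e b from hc) hez (Subgroup.mem_zpowers b))⟩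
          have := hbo ▸ Subgroup.orderOf_dvd_natCard K (h.derived_inf_Z hbZ)
          rw [hKs] at this
          exact hps ((Nat.prime_dvd_prime_iff_eq hp hs).1 this)
        have hBz : B ⊓ Subgroup.zpowers z = ⊥ := inf_eq_bot_of_coprime_card (by
          rw [hB.hA2, hZc]; exact ((Nat.coprime_primes hp ht).2 hpt).pow_left 2)
        have hTq : ∀ l : ℕ, l.Prime → l ∣ Nat.card T' → l = q₀ := fun l hl hld => by
          obtain ⟨n, hn⟩ := (T.2.map Ns.subtype).exists_card_eq
          rw [hn] at hld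
          exact (Nat.prime_dvd_prime_iff_eq hl hs).1 (hl.dvd_of_dvd_pow hld)
        have hcop : (Nat.card T').Coprime (Nat.card ↥(B ⊔ Subgroup.zpowers z)) :=
          Nat.coprime_of_dvd fun l hl h1 h2 => by
            rw [card_sup_of_coprime (Subgroup.zpowers_le.2 hzB) (by
              rw [hB.hA2, hZc]; exact ((Nat.coprime_primes hp ht).2 hpt).pow_left 2), hB.hA2, hZc] at h2
            have := hTq l hl h1
            subst this
            rcases hl.dvd_mul.1 h2 with h3 | h3
            · exact hps ((Nat.prime_dvd_prime_iff_eq hl hp).1 (hl.dvd_of_dvd_pow h3)).symm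
            · exact htκ.2.2.1 ((Nat.prime_dvd_prime_iff_eq hl ht).1 h3 ▸ hsNs)
        have key := Cfsg.Agent.S1545.result B (Subgroup.zpowers z) T' hB.maxElem.ne_bot (line_ne_bot ht hZc) hBz
          (fun e he b hb => conj_mem_of_le_normalizer (Subgroup.zpowers_le.2 hzB he) b hb) hfpf
          (fun a ha v hv => conj_mem_of_le_normalizer (sup_le hBT (Subgroup.zpowers_le.2 hzT) ha) v hv)
          (inf_eq_bot_of_coprime_card hcop) (haveI := (T.2.map Ns.subtype).isNilpotent; inferInstance) hcop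
        have hfixT : T' ⊓ Subgroup.centralizer ((B ⊔ Subgroup.zpowers z : Subgroup G) : Set G) =
            T' ⊓ Subgroup.centralizer ((Subgroup.zpowers z : Subgroup G) : Set G) := by
          refine le_antisymm (inf_le_inf_left _ (Subgroup.centralizer_le (SetLike.coe_subset_coe.2 le_sup_right)))
            fun w hw => ⟨hw.1, ?_⟩
          have hwz := hw.2
          rw [centralizer_zpowers_eq] at hwz
          have hwZ : w ∈ K ⊔ (Cfsg.sigmaCore N ⊓ Subgroup.centralizer (K : Set G)) := by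
            rw [← h.inf_centralizer_star hz hz1]
            exact ⟨(Subgroup.map_subtype_le _) hw.1, hwz⟩
          have hwK : w ∈ K := hd.mem_K hwZ fun l hl hld =>
            hTq l hl (hld.trans (Subgroup.orderOf_dvd_natCard T' hw.1)) ▸ hsN.2.2.1
          rw [← hKy] at hwK
          refine Subgroup.le_centralizer_iff.1 (sup_le (fun b hb => ?_) (Subgroup.zpowers_le.2 ?_))
            (Subgroup.mem_zpowers w)
          · rw [centralizer_zpowers_eq]
            exact mem_centralizer_singleton_of_commute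
              (commute_zpowers (hEc' b (hBE hb)) hwK (Subgroup.mem_zpowers b))
          · rw [centralizer_zpowers_eq]
            exact mem_centralizer_singleton_of_commute (commute_of_mem_centralizer_singleton hwz).symm
        rw [hfixT] at key
        have hTB : T' ≤ Subgroup.centralizer (B : Set G) := inf_eq_left.1 (Subgroup.eq_of_le_of_card_ge inf_le_left
          (Nat.eq_of_mul_eq_mul_left (pow_pos Nat.card_pos _) key).le)
        exact hTfalse (hTB.trans hCBE)
    intro p hp2
    exact step p hp2 fun _ hs2 => step q₀ hs2 fun hne => absurd rfl hne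
  have hEc' := hEy (hτ2 q₀)
  have hrank : ∀ {p : ℕ}, p.Prime → p ∣ Nat.card E' → Cfsg.PRankLE p 1 H := fun {p} hp hpd => by_contra fun hn =>
    have hσ := not_sigma_of_dvd_compl hG hH hEc hp hpd
    hτ2 p ⟨hp, hσ, prankLE_two_of_not_sigma hG hH hp hσ, hn⟩
  have hcyc : ∀ {p : ℕ} {P : Subgroup G}, p.Prime → IsPGroup p P → P ≤ E' → IsCyclic P := fun {p P} hp hP hPE => by
    by_cases hP1 : P = ⊥
    · rw [hP1]; infer_instance
    obtain ⟨z, hz, -, hzo⟩ := exists_central_order hp hP hP1
    exact cyclic_of_prankLE_one hG hp (hrank hp (hzo ▸ Subgroup.orderOf_dvd_natCard E' (hPE hz))) hP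
      (hPE.trans hE'H)
  have hfree : ∀ e ∈ E', e ≠ 1 → Cfsg.sigmaCore H ⊓ Subgroup.centralizer ({e} : Set G) = ⊥ := fun e he he1 =>
    (Subgroup.eq_bot_iff_forall _).2 fun w hw => by_contra fun hw1 => by
      rcases sigma_dichotomy hG hH hw.1 hw1 (hE'H he) (commute_of_mem_centralizer_singleton hw.2) he1
        (fun l hl hld => not_sigma_of_dvd_compl hG hH hEc hl (hld.trans (Subgroup.orderOf_dvd_natCard E' he)))
        with ⟨hκ', -⟩ | ⟨h2, -⟩
      · obtain ⟨l, hl, hld⟩ := Nat.exists_prime_and_dvd fun e' : orderOf e = 1 => he1 (orderOf_eq_one_iff.1 e')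
        have := hκ' l hl hld
        rw [hκ] at this
        exact this
      · obtain ⟨l, hl, hld⟩ := Nat.exists_prime_and_dvd fun e' : orderOf e = 1 => he1 (orderOf_eq_one_iff.1 e')
        exact hτ2 l (h2 l hl hld)
  haveI : IsZGroup E' := ⟨fun p hp P => by
    haveI := hcyc hp (P.2.map E'.subtype) (Subgroup.map_subtype_le (P : Subgroup E'))
    exact isCyclic_of_surjective _
      (Subgroup.equivMapOfInjective (P : Subgroup E') E'.subtype E'.subtype_injective).symm.surjective⟩
  -- `E ∩ W` is central in `E`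
  have hEN : E' ≤ Subgroup.normalizer (W : Set G) := (le_inf hE'N fun e he => hCK ▸
    mem_centralizer_singleton_of_commute (hEc' e he)).trans (le_normalizer_inf_of_le
      (inf_le_left.trans (fun a ha => le_normalizer_commutator Subgroup.le_normalizer Subgroup.le_normalizer ha))
      (inf_le_right.trans Subgroup.le_normalizer))
  set D := E' ⊓ W with hD
  haveI hDn : Group.IsNilpotent D :=
    haveI := hWn
    Group.nilpotent_of_mulEquiv (_h := Subgroup.isNilpotent _) (Subgroup.subgroupOfEquivOfLe (inf_le_right : D ≤ W))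
  have hDcyc : IsCyclic D := by
    haveI : IsZGroup D := IsZGroup.of_injective (f := Subgroup.inclusion (inf_le_left : D ≤ E'))
      (Subgroup.inclusion_injective _)
    infer_instance
  have hED : E' ≤ Subgroup.normalizer (D : Set G) := le_normalizer_inf_of_le Subgroup.le_normalizer hEN
  have hcommD : ∀ e ∈ E', ∀ v ∈ D, Commute e v := by
    intro e he v hv
    suffices ∀ r : ℕ, r.Prime → ∀ a ∈ E', (∃ k, a ^ r ^ k = 1) → ∀ p : ℕ, p.Prime → ∀ b ∈ D,
        (∃ k, b ^ p ^ k = 1) → Commute a b by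
      have h1 : e ∈ Subgroup.centralizer (D : Set G) := mem_of_primary fun r hr _ a ha hak =>
        Subgroup.mem_centralizer_iff.2 fun w hw => by
          have h2 : w ∈ Subgroup.centralizer ({a} : Set G) := mem_of_primary fun p hp _ b hb hbk =>
            mem_centralizer_singleton_of_commute
              (this r hr a (Subgroup.zpowers_le.2 he ha) hak p hp b (Subgroup.zpowers_le.2 hw hb) hbk)
          exact (commute_of_mem_centralizer_singleton h2).eq.symm
      exact (commute_of_mem_centralizer hv h1).symm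
    intro r hr a ha ⟨i, hi⟩ p hp b hb ⟨j, hj⟩
    haveI := Fact.mk hr
    haveI := Fact.mk hp
    by_cases hb1 : b = 1
    · rw [hb1]; exact Commute.one_right a
    have hbD : ∀ c ∈ E', ∀ w ∈ Subgroup.zpowers b, c * w * c⁻¹ ∈ D := fun c hc w hw =>
      conj_mem_of_le_normalizer (hED hc) w (Subgroup.zpowers_le.2 hb hw)
    by_cases hrp : r = p
    · subst hrp
      -- the `r`-part of `D` with `a` is a cyclic group
      obtain ⟨P, hP⟩ : ∃ P : Sylow r D, (⟨b, hb⟩ : D) ∈ (P : Subgroup D) := by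
        obtain ⟨P, hP⟩ := (isPGroup_zpowers (k := j) (Subtype.ext (by simpa using hj)) :
          IsPGroup r (Subgroup.zpowers (⟨b, hb⟩ : D))).exists_le_sylow
        exact ⟨P, hP (Subgroup.mem_zpowers _)⟩
      haveI := CfsgLib.Splitting.sylow_normal_of_isNilpotent hDn P
      haveI := Sylow.characteristic_of_normal P inferInstance
      have hEP : E' ≤ Subgroup.normalizer (((P : Subgroup D).map D.subtype : Subgroup G) : Set G) :=
        CfsgLib.PSolvable.le_normalizer_map_of_characteristic hED _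
      have hA : IsPGroup r ↥(Subgroup.zpowers a ⊔ (P : Subgroup D).map D.subtype) :=
        (isPGroup_zpowers hi).to_sup_of_normal_right' (P.2.map _) ((Subgroup.zpowers_le.2 ha).trans hEP)
      haveI := hcyc hr hA (sup_le (Subgroup.zpowers_le.2 ha) ((Subgroup.map_subtype_le _).trans inf_le_left))
      haveI : IsMulCommutative ↥(Subgroup.zpowers a ⊔ (P : Subgroup D).map D.subtype) := IsCyclic.isMulCommutative
      exact congrArg Subtype.val (mul_comm'
        (⟨a, Subgroup.mem_sup_left (Subgroup.mem_zpowers a)⟩ : ↥(Subgroup.zpowers a ⊔ (P : Subgroup D).map D.subtype))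
        ⟨b, Subgroup.mem_sup_right ⟨_, hP, rfl⟩⟩)
    by_cases ha1 : a = 1
    · rw [ha1]; exact Commute.one_left b
    by_cases hrκ : r ∈ Cfsg.kappa Ns
    swap
    · have haD : a ∈ D := ⟨ha, hmemW (hE'N ha) (hEc' a ha) fun l hl hld => by
        rwa [prime_dvd_of_primary hl hr hi hld]⟩
      haveI := hDcyc
      haveI : IsMulCommutative D := IsCyclic.isMulCommutative
      exact congrArg Subtype.val (mul_comm' (⟨a, haD⟩ : D) ⟨b, hb⟩)
    obtain ⟨c, hc, hco⟩ := exists_line_pow hp hj hb1
    have hcD : c ∈ D := Subgroup.zpowers_le.2 hb hc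
    obtain ⟨hCc, -, hc1⟩ := zpowers_line hp hco
    by_cases hps : p = q₀
    · -- `y` spans the line of the `s`-part
      subst hps
      by_contra hne
      set A := Subgroup.zpowers a
      set V := Subgroup.zpowers b
      haveI : IsMulCommutative V := IsCyclic.isMulCommutative
      have hAV : A ≤ Subgroup.normalizer (V : Set G) := Subgroup.zpowers_le.2 (mem_normalizer_of_conj fun w hw => by
        haveI := hDcyc
        haveI : IsMulCommutative D := IsCyclic.isMulCommutative
        have hsub := hbD a ha w hw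
        have hle : Subgroup.zpowers (a * w * a⁻¹) ≤ V := by
          refine le_of_card_dvd_cyclic hDcyc (Subgroup.zpowers_le.2 hsub) (Subgroup.zpowers_le.2 hb) ?_
          rw [Nat.card_zpowers, Nat.card_zpowers,
            show orderOf (a * w * a⁻¹) = orderOf w from orderOf_injective (MulAut.conj a).toMonoidHom
              (MulAut.conj a).injective w]
          exact orderOf_dvd_of_mem_zpowers hw
        exact hle (Subgroup.mem_zpowers _))
      have hcop : (Nat.card A).Coprime (Nat.card V) := Nat.coprime_of_dvd fun l hl h1 h2 => by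
        rw [Nat.card_zpowers] at h1 h2
        exact hrp ((prime_dvd_of_primary hl hr hi h1).symm.trans (prime_dvd_of_primary hl hp hj h2))
      have hsup := commutator_sup_centralizer hAV hcop (Or.inl inferInstance)
      have hinf := centralizer_inf_commutator_eq_bot hAV hcop
      have hV1 : ⁅V, A⁆ ≠ ⊥ := fun e => hne (by
        rw [e, bot_sup_eq] at hsup
        have := (hsup.ge (Subgroup.mem_zpowers b)).2
        exact commute_of_mem_centralizer (Subgroup.mem_zpowers a) this)
      have hVle : ⁅V, A⁆ ≤ V := commutator_le_left_of_le_normalizer hAV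
      obtain ⟨w, hw, -, hwo⟩ := exists_central_order hp ((isPGroup_zpowers hj).to_le hVle) hV1
      have hyV : y ∈ V := by
        have hyD : y ∈ D := ⟨hyE, hmemW (hE'N hyE) (Commute.refl y) fun l hl hld => by
          rw [hyo] at hld
          exact (Nat.prime_dvd_prime_iff_eq hl hs).1 hld ▸ fun e => e.2.2.1 hsNs⟩
        refine le_of_card_dvd_cyclic hDcyc (Subgroup.zpowers_le.2 hyD) (Subgroup.zpowers_le.2 hb) ?_
          (Subgroup.mem_zpowers y)
        rw [hYc, Nat.card_zpowers]
        exact hco ▸ orderOf_dvd_of_mem_zpowers hc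
      have hwY : w ∈ Subgroup.zpowers y := mem_line_of_cyclic hs inferInstance (Subgroup.zpowers_le.2 hyV) hYc
        (hVle hw) (by rw [← hwo, pow_orderOf_eq_one])
      have hwC : w ∈ V ⊓ Subgroup.centralizer (A : Set G) := ⟨hVle hw, by
        rw [centralizer_zpowers_eq]
        exact mem_centralizer_singleton_of_commute (commute_zpowers (hEc' a ha) hwY (Subgroup.mem_zpowers a)).symm⟩
      exact (zpowers_line hp hwo).2.2 (Subgroup.mem_bot.1 (hinf ▸ ⟨hwC, hw⟩))
    -- other primes of `D` contradict the Frobenius action on `H_σ`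
    exfalso
    obtain ⟨a₀, ha₀, ha₀o⟩ := exists_line_pow hr hi ha1
    obtain ⟨hAc, -, ha₀1⟩ := zpowers_line hr ha₀o
    have ha₀E : a₀ ∈ E' := Subgroup.zpowers_le.2 ha ha₀
    have hcE : c ∈ E' := hcD.1
    obtain ⟨z, hz, hzo⟩ := h.exists_star_line hrκ
    obtain ⟨hZc, -, hz1⟩ := zpowers_line hr hzo
    set C := Ns ⊓ Subgroup.centralizer (K : Set G) with hC
    have ha₀C : a₀ ∈ C := ⟨hE'N ha₀E, hCK ▸ mem_centralizer_singleton_of_commute (hEc' a₀ ha₀E)⟩
    obtain ⟨g, hg, hge⟩ := line_conj hG hr (prankLE_mono inf_le_left (kappa_prankLE hrκ) : Cfsg.PRankLE r 1 C)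
      (Subgroup.zpowers_le.2 ha₀C) hAc (Subgroup.zpowers_le.2 (⟨h.pdata.hKM hz, hz.2⟩ : z ∈ C)) hZc
    have hzA : g * z * g⁻¹ ∈ Subgroup.zpowers a₀ := hge ▸ mem_sigmaCore_conj_iff.2 (Subgroup.mem_zpowers z)
    have hncomm : ¬ Commute a₀ c := fun hac => by
      have hgc : Commute (g * z * g⁻¹) c := commute_zpowers hac hzA (Subgroup.mem_zpowers c)
      have hc' : Commute z (g⁻¹ * c * g) := by
        show _ = _
        calc z * (g⁻¹ * c * g) = g⁻¹ * (g * z * g⁻¹ * c) * g := by group
          _ = g⁻¹ * (c * (g * z * g⁻¹)) * g := by rw [hgc.eq]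
          _ = _ := by group
      have hc'W : g⁻¹ * c * g ∈ W := by
        have := conj_mem_of_le_normalizer ((le_normalizer_inf_of_le
          (inf_le_left.trans (fun a ha => le_normalizer_commutator Subgroup.le_normalizer Subgroup.le_normalizer ha))
          (inf_le_right.trans Subgroup.le_normalizer)) (inv_mem hg)) c hcD.2
        rwa [inv_inv] at this
      have hcK : g⁻¹ * c * g ∈ K := h.derived_inf_Z ⟨hc'W.1, by
        rw [← h.inf_centralizer_star hz hz1]
        exact ⟨Ns.mul_mem (Ns.mul_mem (Ns.inv_mem hg.1) (hE'N hcE)) hg.1, mem_centralizer_singleton_of_commute hc'⟩⟩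
      have := Subgroup.orderOf_dvd_natCard K hcK
      rw [hKs, show g⁻¹ * c * g = MulAut.conj g⁻¹ c by simp [MulAut.conj_apply],
        show orderOf (MulAut.conj g⁻¹ c) = orderOf c from
          orderOf_injective (MulAut.conj g⁻¹).toMonoidHom (MulAut.conj g⁻¹).injective c, hco] at this
      exact hps ((Nat.prime_dvd_prime_iff_eq hp hs).1 this)
    set V := Subgroup.zpowers c
    have hAV : Subgroup.zpowers a₀ ≤ Subgroup.normalizer (V : Set G) :=
      Subgroup.zpowers_le.2 (mem_normalizer_of_conj fun w hw => mem_line_of_cyclic hp hDcyc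
        (Subgroup.zpowers_le.2 hcD) hCc
        (conj_mem_of_le_normalizer (hED ha₀E) w (Subgroup.zpowers_le.2 hcD hw))
        (by rw [conj_pow, pow_eq_one_of_line hp hCc hw, mul_one, mul_inv_cancel]))
    have hfpf : V ⊓ Subgroup.centralizer ((Subgroup.zpowers a₀ : Subgroup G) : Set G) = ⊥ :=
      (Subgroup.eq_bot_iff_forall _).2 fun w hw => by_contra fun hw1 => hncomm (by
        have hwz : c ∈ Subgroup.zpowers w := by
          rw [← line_eq_zpowers hp hCc hw.1 (orderOf_eq_prime (pow_eq_one_of_line hp hCc hw.1) hw1)]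
          exact Subgroup.mem_zpowers c
        exact commute_zpowers (commute_of_mem_centralizer (Subgroup.mem_zpowers a₀) hw.2)
          (Subgroup.mem_zpowers a₀) hwz)
    haveI := isSolvable_of_ne_top hG hH.1
    have hle := frobenius_kernel_centralizes (line_ne_bot hp hCc) hr hAc hAV hfpf
      (isSolvable_of_le (piCoreOf_le _ H) inferInstance)
      ((sup_le (Subgroup.zpowers_le.2 (hE'H hcE)) (Subgroup.zpowers_le.2 (hE'H ha₀E))).trans
        (le_normalizer_piCoreOf _ H))
      (Nat.coprime_of_dvd fun l hl h1 h2 => not_sigma_of_dvd_compl hG hH hEc hl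
        (h2.trans (Subgroup.card_dvd_of_le (sup_le (Subgroup.zpowers_le.2 hcE) (Subgroup.zpowers_le.2 ha₀E))))
        (isPi_piCoreOf _ H l hl h1))
      (by rw [centralizer_zpowers_eq]; exact hfree a₀ ha₀E ha₀1)
    exact hx₀1 (Subgroup.mem_bot.1 (hfree c hcE hc1 ▸ ⟨hx₀, mem_centralizer_singleton_of_commute
      (commute_of_mem_centralizer (Subgroup.mem_zpowers c) (hle hx₀))⟩))
  haveI : Group.IsNilpotent E' := by
    refine Subgroup.isNilpotent_of_ker_le_center (Abelianization.of (G := E')) ?_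
    rw [Abelianization.ker_of]
    intro c hc
    refine Subgroup.mem_center_iff.2 fun e => Subtype.ext (hcommD e e.2 c ⟨c.2, ?_, ?_⟩).eq
    · have h1 : (c : G) ∈ ⁅E', E'⁆ := by
        rw [← CfsgLib.BG.map_commutator_subtype]; exact Subgroup.mem_map_of_mem _ hc
      exact Subgroup.commutator_mono hE'N hE'N h1
    · exact hCK ▸ mem_centralizer_singleton_of_commute (hEc' c c.2)
  exact ⟨H, E', hH, hqσ, hκ, hτ2, hEc, fun e => hy1 (Subgroup.mem_bot.1 (e ▸ hyE)), inferInstance, hfree⟩

/-- A complement acting without fixed points is a Frobenius complement. -/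
theorem isFrobeniusComplement_of_fpf {M N E : Subgroup G} (hE : Cfsg.IsComplIn E N M)
    (hMN : M ≤ Subgroup.normalizer (N : Set G)) (hE1 : E ≠ ⊥) (hN1 : N ≠ ⊥)
    (hfpf : ∀ e ∈ E, e ≠ 1 → N ⊓ Subgroup.centralizer ({e} : Set G) = ⊥) :
    Cfsg.IsFrobeniusComplement (E.subgroupOf M) := by
  refine ⟨fun e => hE1 ((Subgroup.map_subgroupOf_eq_of_le hE.1).symm.trans (by rw [e, Subgroup.map_bot])),
    fun e => hN1 ?_, fun g hg => (Subgroup.eq_bot_iff_forall _).2 fun w hw => ?_⟩
  · have hME : M ≤ E := fun m hm => (e.ge (Subgroup.mem_top (⟨m, hm⟩ : M)) : (⟨m, hm⟩ : M) ∈ E.subgroupOf M)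
    exact le_bot_iff.1 (hE.2.2.1 ▸ le_inf (hE.2.1.trans hME) le_rfl)
  obtain ⟨hw1, hw2⟩ := Subgroup.mem_inf.1 hw
  rw [mem_conj_smul_iff, Subgroup.mem_subgroupOf] at hw2
  have hw2' : (g : G)⁻¹ * (w : G) * g ∈ E := by simpa using hw2
  obtain ⟨a, ha, k, hk, hgak⟩ := hE.2.2.2 g g.2
  have hk1 : k ≠ 1 := fun e => hg (Subgroup.mem_subgroupOf.2 (by rw [hgak, e, mul_one]; exact ha))
  have hu : a⁻¹ * (w : G) * a ∈ E := E.mul_mem (E.mul_mem (E.inv_mem ha) hw1) ha
  set u := a⁻¹ * (w : G) * a with hudef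
  have hc : ⁅k⁻¹, u⁆ ∈ E ⊓ N := ⟨by
    rw [commutatorElement_def, inv_inv, hudef]
    refine E.mul_mem ?_ (E.inv_mem hu)
    rw [hgak] at hw2'
    simpa [mul_assoc] using hw2', by
    rw [show ⁅k⁻¹, u⁆ = k⁻¹ * (u * k * u⁻¹) by rw [commutatorElement_def]; group]
    exact N.mul_mem (N.inv_mem hk) (conj_mem_of_le_normalizer (hMN (hE.1 hu)) k hk)⟩
  rw [hE.2.2.1, Subgroup.mem_bot] at hc
  have hcomm : Commute k⁻¹ u := commutatorElement_eq_one_iff_mul_comm.1 hc
  by_contra hw'
  have hu1 : u ≠ 1 := fun e => hw' (Subtype.ext (conj_eq_one_iff.1 (show a⁻¹ * (w : G) * a⁻¹⁻¹ = 1 by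
    rw [inv_inv]; exact e)))
  exact hk1 (inv_eq_one.1 (Subgroup.mem_bot.1 (hfpf u hu hu1 ▸
    ⟨N.inv_mem hk, mem_centralizer_singleton_of_commute hcomm.symm⟩)))

end CfsgLib.OddLocal
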