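import Cfsg.Agent.Lib.OddLocal.Partition
import Cfsg.Agent.Lib.OddLocal.SupportPrimes
import Cfsg.Agent.Lib.OddLocal.KappaUM

/-!
BG 16, Theorem II: the sets `A(M)` and `A₀(M)` are tamely embedded.
-/

set_option autoImplicit false
set_option linter.style.haveILetI false
set_option linter.unusedSectionVars false

open scoped Pointwise

namespace CfsgLib.OddLocal

open CfsgLib.Coprime
open CfsgLib.BG.FixedLine (conj_mem_of_le_normalizer mem_normalizer_of_conj)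

universe u

variable {G : Type u} [Group G] [Finite G] {M N K E U : Subgroup G} {x y t g : G}

theorem orderOf_conj' (g x : G) : orderOf (g * x * g⁻¹) = orderOf x :=
  orderOf_injective (MulAut.conj g).toMonoidHom (MulAut.conj g).injective x

/-- `(A(M) ∖ 1) ∪ {M-conjugates of Ẑ}`. -/
def tameSet (M K U : Subgroup G) : Set G :=
  (Cfsg.sigmaA M U \ {1}) ∪ {a | ∃ m ∈ M, ∃ z ∈ zHat M K, a = m * z * m⁻¹}

theorem zHat_ne_bot {z : G} (hz : z ∈ zHat M K) : K ≠ ⊥ := fun e => by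
  subst e
  obtain ⟨h1, -, h3⟩ := mem_zHat.1 hz
  rw [bot_sup_eq] at h1
  exact h3 h1

theorem KappaData.hat_fusion (h : KappaData M K E U) {m z : G} (hm : m ∈ M) (hz : z ∈ zHat M K)
    (hg : g * (m * z * m⁻¹) * g⁻¹ ∈ M) : g ∈ M := by
  by_contra hgM
  refine h.hat_not_mem_conj (g := (g * m)⁻¹) (fun e => hgM ?_) (mem_zHat.1 hz).1 (mem_zHat.1 hz).2.1 ?_
  · have := M.mul_mem (inv_mem_iff.1 e) (M.inv_mem hm)
    rwa [mul_inv_cancel_right] at this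
  · rw [mem_conj_smul_iff, inv_inv]
    rwa [show g * m * z * (g * m)⁻¹ = g * (m * z * m⁻¹) * g⁻¹ by group]

theorem hat_fusion (hG : Cfsg.IsMinSimpleOddOrder G) (hM : IsCoatom M) (hKU : Cfsg.IsSigmaDecomposition M K U)
    {m z : G} (hm : m ∈ M) (hz : z ∈ zHat M K) (hg : g * (m * z * m⁻¹) * g⁻¹ ∈ M) : g ∈ M :=
  (kappaData_of_decomposition hG hM hKU (zHat_ne_bot hz)).hat_fusion hm hz hg

theorem tameSet_subset (hKU : Cfsg.IsSigmaDecomposition M K U) : tameSet M K U ⊆ (M : Set G) := by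
  rintro x (⟨⟨⟨hx, -⟩, -⟩, -⟩ | ⟨m, hm, z, hz, rfl⟩)
  · exact hx
  · refine M.mul_mem (M.mul_mem hm ?_) (M.inv_mem hm)
    exact sup_le hKU.hall.1 (inf_le_left.trans (piCoreOf_le _ M)) (mem_zHat.1 hz).1

/-- The part outside `σ(M)` of an element of `A(M)` has its centralizer in `M` only. -/
theorem sigmaA_part (hG : Cfsg.IsMinSimpleOddOrder G) (hM : IsCoatom M) (hKU : Cfsg.IsSigmaDecomposition M K U)
    (hx : x ∈ Cfsg.sigmaA M U) {b : G} (hb : b ∈ Subgroup.zpowers x) (hb1 : b ≠ 1)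
    (hbσ : ∀ r : ℕ, r.Prime → r ∣ orderOf b → r ∉ Cfsg.sigma M) :
    (∀ r : ℕ, r.Prime → r ∣ orderOf b → r ∈ Cfsg.tau2 M) ∧ Subgroup.centralizer ({b} : Set G) ≤ M ∧
      ∀ L : Subgroup G, IsCoatom L → Subgroup.centralizer ({b} : Set G) ≤ L → L = M := by
  obtain ⟨⟨hxM, y, hy, hy1, hxy⟩, hxU⟩ := hx
  have hby : Commute b y := commute_zpowers hxy hb (Subgroup.mem_zpowers y)
  rcases sigma_dichotomy hG hM hy hy1 (Subgroup.zpowers_le.2 hxM hb) hby hb1 hbσ with ⟨hκ, -⟩ | ⟨h2, -, h3⟩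
  · obtain ⟨r, hr, hd⟩ := Nat.exists_prime_and_dvd fun e => hb1 (orderOf_eq_one_iff.1 e)
    exact absurd (hκ r hr hd) ((hall_UM hG hM hKU).2.1 r hr
      (hd.trans (Subgroup.orderOf_dvd_natCard (U ⊔ Cfsg.sigmaCore M : Subgroup G)
        (Subgroup.zpowers_le.2 hxU hb)))).2
  · exact ⟨h2, h3⟩

theorem sigmaA_cases (hG : Cfsg.IsMinSimpleOddOrder G) (hM : IsCoatom M) (hKU : Cfsg.IsSigmaDecomposition M K U)
    (hx : x ∈ Cfsg.sigmaA M U) :
    x ∈ Cfsg.sigmaCore M ∨ ∃ b ∈ Subgroup.zpowers x, b ≠ 1 ∧ (∀ r : ℕ, r.Prime → r ∣ orderOf b → r ∉ Cfsg.sigma M) := by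
  obtain ⟨a, b, -, hb, he, -, ha, hbσ⟩ := exists_sigma_part (Cfsg.sigma M) x
  by_cases hb1 : b = 1
  · left
    subst hb1
    rw [mul_one] at he
    subst he
    exact mem_sigmaCore_of_primary hG hM hx.1.1 ha
  · exact Or.inr ⟨b, hb, hb1, hbσ⟩

theorem tameSet_fusion (hG : Cfsg.IsMinSimpleOddOrder G) (hM : IsCoatom M)
    (hKU : Cfsg.IsSigmaDecomposition M K U) (hx : x ∈ tameSet M K U) (hgx : g * x * g⁻¹ ∈ tameSet M K U) :
    ∃ m ∈ M, m * x * m⁻¹ = g * x * g⁻¹ := by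
  rcases hx with ⟨hxA, hx1⟩ | ⟨m, hm, z, hz, rfl⟩
  swap
  · exact ⟨g, hat_fusion hG hM hKU hm hz (tameSet_subset hKU hgx), rfl⟩
  rcases hgx with ⟨htA, -⟩ | ⟨m, hm, z, hz, he⟩
  swap
  · refine ⟨g, inv_mem_iff.1 (hat_fusion hG hM hKU hm hz ?_), rfl⟩
    rw [← he, show g⁻¹ * (g * x * g⁻¹) * g⁻¹⁻¹ = x by group]
    exact hxA.1.1
  rcases sigmaA_cases hG hM hKU hxA with hxσ | ⟨b, hb, hb1, hbσ⟩
  · have ht : g * x * g⁻¹ ∈ Cfsg.sigmaCore M := mem_sigmaCore_of_primary hG hM htA.1.1 fun r hr hd => by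
      rw [orderOf_conj'] at hd
      exact sigma_of_orderOf hxσ hr hd
    have hxg : x ∈ MulAut.conj g⁻¹ • M := by
      rw [mem_conj_smul_iff, inv_inv]; exact piCoreOf_le _ M ht
    obtain ⟨h1, h2⟩ := exists_conj_eq hG hM hxσ hx1 hxg
    by_cases hC : Subgroup.centralizer ({x} : Set G) ≤ M
    · exact ⟨g, inv_mem_iff.1 ((conj_smul_self_iff hG hM).1 (h1 hC)), rfl⟩
    obtain ⟨N, hN⟩ := exists_support hG hM hxσ hx1 hC
    obtain ⟨k, hk, he⟩ := h2 hN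
    have hm : k⁻¹ * g⁻¹ ∈ M := (conj_smul_self_iff hG hM).1 (by
      rw [map_mul, mul_smul, he, ← mul_smul, ← map_mul, inv_mul_cancel, map_one, one_smul])
    refine ⟨(k⁻¹ * g⁻¹)⁻¹, M.inv_mem hm, ?_⟩
    have hkx : Commute k x := (commute_of_mem_centralizer_singleton hk.2).symm
    calc (k⁻¹ * g⁻¹)⁻¹ * x * (k⁻¹ * g⁻¹)⁻¹⁻¹ = g * (k * x * k⁻¹) * g⁻¹ := by group
      _ = _ := by rw [hkx.eq, mul_inv_cancel_right]
  · obtain ⟨-, hC, hu⟩ := sigmaA_part hG hM hKU hxA hb hb1 hbσ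
    have hb' : g * b * g⁻¹ ∈ Subgroup.zpowers (g * x * g⁻¹) := by
      obtain ⟨i, rfl⟩ := Subgroup.mem_zpowers_iff.1 hb
      exact ⟨i, by simp only [conj_zpow]⟩
    obtain ⟨-, hC', hu'⟩ := sigmaA_part hG hM hKU htA hb' (fun e => hb1 (conj_eq_one_iff.1 e))
      (fun r hr hd => hbσ r hr (by rwa [orderOf_conj'] at hd))
    refine ⟨g, (conj_smul_self_iff hG hM).1 (hu' _ (isCoatom_conj hM g) fun w hw => ?_), rfl⟩
    rw [mem_conj_smul_iff]
    refine hC (mem_centralizer_singleton_of_commute ?_)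
    have := (commute_of_mem_centralizer_singleton hw).eq
    show b * (g⁻¹ * w * g) = g⁻¹ * w * g * b
    calc b * (g⁻¹ * w * g) = g⁻¹ * ((g * b * g⁻¹) * w) * g := by group
      _ = g⁻¹ * (w * (g * b * g⁻¹)) * g := by rw [this]
      _ = _ := by group

/-- Centralizers leaving `M` come from `M_σ`. -/
theorem tameSet_escape (hG : Cfsg.IsMinSimpleOddOrder G) (hM : IsCoatom M)
    (hKU : Cfsg.IsSigmaDecomposition M K U) (hx : x ∈ tameSet M K U)
    (hC : ¬ Subgroup.centralizer ({x} : Set G) ≤ M) :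
    x ∈ Cfsg.sigmaCore M ∧ x ≠ 1 ∧ ∃ N : Subgroup G, Support M N x := by
  rcases hx with ⟨hxA, hx1⟩ | ⟨m, hm, z, hz, rfl⟩
  · rcases sigmaA_cases hG hM hKU hxA with hxσ | ⟨b, hb, hb1, hbσ⟩
    · exact ⟨hxσ, hx1, exists_support hG hM hxσ hx1 hC⟩
    · exact absurd ((centralizer_le_zpowers hb).trans (sigmaA_part hG hM hKU hxA hb hb1 hbσ).2.1) hC
  · refine absurd (fun c hc => hat_fusion hG hM hKU hm hz ?_) hC
    rw [← (commute_of_mem_centralizer_singleton hc).eq, mul_inv_cancel_right]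
    exact tameSet_subset hKU (Or.inr ⟨m, hm, z, hz, rfl⟩)

theorem tameSet_coprime (hG : Cfsg.IsMinSimpleOddOrder G) (hM : IsCoatom M)
    (hKU : Cfsg.IsSigmaDecomposition M K U) (h : Support M N x) (hy : y ∈ tameSet M K U) :
    (Nat.card (Cfsg.sigmaCore N)).Coprime (Nat.card ↥(M ⊓ Subgroup.centralizer ({y} : Set G))) := by
  refine Nat.coprime_of_dvd fun r hr h1 h2 => ?_
  have hrN : r ∈ Cfsg.sigma N := isPi_piCoreOf _ N r hr h1
  have hrM : r ∣ Nat.card M := h2.trans (Subgroup.card_dvd_of_le inf_le_left)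
  have hκ := h.kappa_eq_empty hrN hrM
  have hτ := h.tau2_eq_empty hrN hrM
  rcases hy with ⟨hyA, hy1⟩ | ⟨m, -, z, hz, -⟩
  swap
  · obtain ⟨l, hl, hd⟩ := Nat.exists_prime_and_dvd fun e : Nat.card K = 1 =>
      zHat_ne_bot hz (Subgroup.card_eq_one.1 e)
    have := hKU.hall.2.1 l hl hd
    rw [hκ] at this
    exact this
  rcases sigmaA_cases hG hM hKU hyA with hyσ | ⟨b, hb, hb1, hbσ⟩
  · obtain ⟨w, hw, hwo⟩ := exists_order_of_dvd hr h2
    have hw1 : w ≠ 1 := fun e => hr.ne_one (by rw [← hwo, e, orderOf_one])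
    rcases sigma_dichotomy hG hM hyσ hy1 hw.1 (commute_of_mem_centralizer_singleton hw.2).symm hw1
      (fun l hl hd => by
        rw [hwo] at hd
        exact (Nat.prime_dvd_prime_iff_eq hl hr).1 hd ▸ h.not_sigma_left hrN) with ⟨h', -⟩ | ⟨h', -⟩ <;>
      [have := hκ ▸ h' r hr (dvd_of_eq hwo.symm); have := hτ ▸ h' r hr (dvd_of_eq hwo.symm)] <;>
      exact this
  · obtain ⟨l, hl, hd⟩ := Nat.exists_prime_and_dvd fun e => hb1 (orderOf_eq_one_iff.1 e)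
    have := (sigmaA_part hG hM hKU hyA hb hb1 hbσ).1 l hl hd
    rw [hτ] at this
    exact this

end CfsgLib.OddLocal
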