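import Cfsg.Agent.Lib.OddLocal.TauOneCommon
import Cfsg.Agent.S1424

/-!
BG 13.4: the fixed points of a `τ₁`-element on `M_σ` are centralized by the elements commuting with it.
-/

set_option autoImplicit false
set_option linter.style.haveILetI false
set_option linter.unusedSectionVars false

open scoped commutatorElement
open scoped Pointwise

namespace CfsgLib.OddLocal

open CfsgLib.Coprime
open CfsgLib.BG.FixedLine (conj_mem_of_le_normalizer mem_normalizer_of_conj)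

universe u

variable {G : Type u} [Group G] [Finite G] {p q : ℕ} {M L E : Subgroup G}

/-- The data of a counterexample at the prime `q`. -/
structure TauOneBad (p q r : ℕ) (M L P R Y : Subgroup G) : Prop where
  hG : Cfsg.IsMinSimpleOddOrder G
  hM : IsCoatom M
  hp : p ∈ Cfsg.tau1 M
  hPM : P ≤ M
  hP : Nat.card P = p
  hr : r.Prime
  hrp : r ≠ p
  hR : Nat.card R = r
  hRP : R ≤ Subgroup.centralizer (P : Set G)
  hq : q ∈ Cfsg.sigma M
  hrq : r ≠ q
  hY : IsPGroup q Y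
  hYC : Y ≤ Cfsg.sigmaCore M ⊓ Subgroup.centralizer (P : Set G)
  hYmax : ∀ Q : Subgroup G, IsPGroup q Q → Y ≤ Q → Q ≤ Cfsg.sigmaCore M ⊓ Subgroup.centralizer (P : Set G) → Q = Y
  hYconj : ∀ Q : Subgroup G, IsPGroup q Q → Q ≤ Cfsg.sigmaCore M ⊓ Subgroup.centralizer (P : Set G) →
    ∃ c : G, MulAut.conj c • Q ≤ Y
  hRY : R ≤ Subgroup.normalizer (Y : Set G)
  hne : ¬ R ≤ Subgroup.centralizer (Y : Set G)
  hL : IsCoatom L
  hNP : Subgroup.normalizer (P : Set G) ≤ L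
  hLM : L ≠ M

namespace TauOneBad

variable {r : ℕ} {P R Y : Subgroup G}

theorem hqp (h : TauOneBad p q r M L P R Y) : q ≠ p := fun e => h.hp.2.1 (e ▸ h.hq)

theorem hYM (h : TauOneBad p q r M L P R Y) : Y ≤ M := (h.hYC.trans inf_le_left).trans (piCoreOf_le _ M)

theorem hPY (h : TauOneBad p q r M L P R Y) : P ≤ Subgroup.centralizer (Y : Set G) :=
  Subgroup.le_centralizer_iff.1 (h.hYC.trans inf_le_right)

theorem hPL (h : TauOneBad p q r M L P R Y) : P ≤ L := Subgroup.le_normalizer.trans h.hNP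

theorem hCL (h : TauOneBad p q r M L P R Y) : Subgroup.centralizer (P : Set G) ≤ L :=
  (Subgroup.centralizer_le_normalizer _).trans h.hNP

theorem hYL (h : TauOneBad p q r M L P R Y) : Y ≤ L := (h.hYC.trans inf_le_right).trans h.hCL

theorem hRL (h : TauOneBad p q r M L P R Y) : R ≤ L := h.hRP.trans h.hCL

theorem hp2 (h : TauOneBad p q r M L P R Y) : p ∈ Cfsg.sigma L ∨ p ∈ Cfsg.tau2 L :=
  sigma_or_tau2_of_normalizer_le h.hG h.hL h.hp.1 h.hPL h.hP h.hNP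

theorem not_conj (h : TauOneBad p q r M L P R Y) (g : G) : L ≠ MulAut.conj g • M := fun e => by
  rcases h.hp2 with hσ | hτ
  · exact h.hp.2.1 (sigma_of_conj (e ▸ hσ))
  · obtain ⟨A, A₀, hA, -⟩ := exists_exc_mem h.hG h.hL hτ (one_mem L) (one_pow p)
    exact not_le_conj h.hG h.hp.2.2.2.2 hA.maxElem g (e ▸ hA.hAM)

theorem not_beta (h : TauOneBad p q r M L P R Y) : q ∉ Cfsg.beta L := fun hβ => by
  obtain ⟨g, hg⟩ := conj_of_alpha h.hG h.hM h.hL h.hq (beta_subset_sigma h.hG h.hL hβ) (Or.inr hβ.1)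
  exact h.not_conj g hg

theorem not_le_derived (h : TauOneBad p q r M L P R Y) : ¬ R ≤ ⁅L, L⁆ := fun hle =>
  h.hne (centralizes_of_le_derived h.hG h.hL h.hr h.hq.1 h.hrq.symm h.not_beta (isPGroup_line h.hr h.hR) hle h.hY
    h.hYL h.hRY)

theorem not_sigma (h : TauOneBad p q r M L P R Y) : r ∉ Cfsg.sigma L := fun hσ =>
  haveI := Fact.mk h.hr
  h.not_le_derived (le_derived_of_sigma h.hG h.hL hσ (isPGroup_line h.hr h.hR) h.hRL)

theorem prankLE (h : TauOneBad p q r M L P R Y) : Cfsg.PRankLE r 1 L := by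
  classical
  by_contra hnr
  haveI := Fact.mk h.hq.1
  haveI := Fact.mk h.hr
  have hτ : r ∈ Cfsg.tau2 L := ⟨h.hr, h.not_sigma, prankLE_two_of_not_sigma h.hG h.hL h.hr h.not_sigma, hnr⟩
  obtain ⟨F, hF⟩ := exists_compl h.hG h.hL
  obtain ⟨A, A₀, hAF, hA⟩ := exists_elem_compl h.hG h.hL hF hτ
  by_cases hqσ : q ∈ Cfsg.sigma L
  · obtain ⟨T, -, hTL⟩ := exists_sylow_ge_sigma hqσ h.hYL h.hY
    obtain ⟨g, hg⟩ := conj_of_normal_sylow h.hM h.hL h.hq T (hA.sylow_normal hqσ T hTL)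
    exact h.not_conj g hg
  · obtain ⟨m, hm, hmF⟩ := exists_conj_le_compl h.hG h.hL hF (sup_le h.hYL h.hRL) fun t ht hd htσ => by
      refine ht.coprime_iff_not_dvd.1 ?_ hd
      refine (CfsgLib.PPrimeAbelian.coprime_card_sup h.hRY ?_ ?_).symm
      · obtain ⟨i, hi⟩ := h.hY.exists_card_eq
        exact hi ▸ ((Nat.coprime_primes h.hq.1 ht).2 fun e => hqσ (e ▸ htσ)).pow_left i
      · exact h.hR ▸ (Nat.coprime_primes h.hr ht).2 fun e => h.not_sigma (e ▸ htσ)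
    refine h.hne fun a ha y hy => ?_
    have ha' : m * a * m⁻¹ ∈ F := hmF ⟨a, Subgroup.mem_sup_right ha, rfl⟩
    have hy' : m * y * m⁻¹ ∈ F := hmF ⟨y, Subgroup.mem_sup_left hy, rfl⟩
    have haA : m * a * m⁻¹ ∈ A := hA.mem_of_compl hF hAF ha'
      (by rw [conj_pow, pow_eq_one_of_line h.hr h.hR ha, mul_one, mul_inv_cancel])
    have h1 : ⁅a, y⁆ ∈ Y ⊓ MulAut.conj m⁻¹ • A := by
      refine ⟨?_, ?_⟩
      · rw [commutatorElement_def]
        exact Y.mul_mem (conj_mem_of_le_normalizer (h.hRY ha) y hy) (Y.inv_mem hy)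
      · show ⁅a, y⁆ ∈ MulAut.conj m⁻¹ • A
        rw [mem_conj_smul_iff, inv_inv, commutatorElement_def,
          show m * (a * y * a⁻¹ * y⁻¹) * m⁻¹ =
            (m * a * m⁻¹) * ((m * y * m⁻¹) * (m * a * m⁻¹)⁻¹ * (m * y * m⁻¹)⁻¹) by group]
        exact A.mul_mem haA (conj_mem_of_le_normalizer (hA.compl_le_normalizer hF hAF hy') _ (A.inv_mem haA))
    rw [eq_bot_of_disjoint (π := {q}) (ρ := {r})
      (((isPi_singleton_iff h.hq.1).2 h.hY).mono inf_le_left)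
      (((isPi_singleton_iff h.hr).2 (hA.maxElem.conj m⁻¹).isPGroup).mono inf_le_right)
      (Set.disjoint_singleton.2 h.hrq.symm), Subgroup.mem_bot] at h1
    exact (commutatorElement_eq_one_iff_mul_comm.1 h1).symm

theorem cyclic_centralized (h : TauOneBad p q r M L P R Y) (hYc : IsCyclic Y) :
    ∀ Q : Subgroup G, IsPGroup q Q → P ≤ Subgroup.centralizer (Q : Set G) → IsCyclic Q := fun Q hQ hPQ => by
  refine cyclic_of_centralized h.hG h.hM h.hq h.hp.1 h.hp.2.2.2.2 h.hPM h.hP (fun W hW hWq => ?_) hQ hPQ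
  obtain ⟨c, hc⟩ := h.hYconj W hWq (le_inf
    (le_sigmaCore_of_isPGroup h.hG h.hM h.hq.1 h.hq (hW.trans inf_le_left) hWq) (hW.trans inf_le_right))
  exact isCyclic_of_conj c (isCyclic_of_le hc hYc)

theorem eq_of_centralized (h : TauOneBad p q r M L P R Y) [Fact q.Prime] (T : Sylow q G) (hYT : Y ≤ (T : Subgroup G))
    (hTM : (T : Subgroup G) ≤ M) (hPT : P ≤ Subgroup.centralizer ((T : Subgroup G) : Set G)) :
    (T : Subgroup G) = Y :=
  h.hYmax _ T.2 hYT (le_inf (le_sigmaCore_of_isPGroup h.hG h.hM h.hq.1 h.hq hTM T.2)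
    (Subgroup.le_centralizer_iff.1 hPT))

/-- A `P`-invariant Sylow subgroup of `G` in `M` above `Y`, centralized by `P` when cyclic. -/
theorem exists_cyclic_sylow (h : TauOneBad p q r M L P R Y) [Fact q.Prime] (hY1 : Y ≠ ⊥)
    (hc : ∀ T : Sylow q G, IsCyclic (T : Subgroup G)) :
    ∃ T : Sylow q G, Y ≤ (T : Subgroup G) ∧ (T : Subgroup G) ≤ M ∧
      P ≤ Subgroup.centralizer ((T : Subgroup G) : Set G) := by
  have hq := h.hq.1
  have hPc : (Nat.card P).Coprime q := h.hP ▸ (Nat.coprime_primes h.hp.1 hq).2 h.hqp.symm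
  obtain ⟨T, hYT, hTK, hPT⟩ := exists_invariant_sylow_of_sigma h.hG h.hM h.hq (K := Cfsg.sigmaCore M) (A := P)
    (X := Y) (piCoreOf_le _ M) (fun U hU1 hU2 => le_sigmaCore_of_isPGroup h.hG h.hM hq h.hq hU1 hU2)
    (h.hPM.trans (le_normalizer_piCoreOf _ M))
    (Nat.coprime_of_dvd fun t ht h1 h2 => by
      rw [h.hP] at h1
      exact h.hp.2.1 ((Nat.prime_dvd_prime_iff_eq ht h.hp.1).1 h1 ▸ isPi_piCoreOf _ M t ht h2))
    (h.hYC.trans inf_le_left) h.hY (h.hPY.trans (Subgroup.centralizer_le_normalizer _))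
  refine ⟨T, hYT, hTK.trans (piCoreOf_le _ M), by_contra fun hne => hY1 ?_⟩
  obtain ⟨hfix, -⟩ := fpf_of_cyclic hq T.2 (hc T) hPT hPc hne
  exact le_bot_iff.1 (hfix ▸ le_inf hYT (h.hYC.trans inf_le_right))

theorem false_of_sigma (h : TauOneBad p q r M L P R Y) (hqσ : q ∈ Cfsg.sigma L) : False := by
  classical
  haveI := Fact.mk h.hq.1
  haveI := Fact.mk h.hp.1
  have hq := h.hq.1
  have hG := h.hG
  have hY1 : Y ≠ ⊥ := fun e => h.hne fun a _ y hy => by
    rw [e] at hy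
    rw [Subgroup.mem_bot.1 hy, one_mul, mul_one]
  obtain hpσ | hpτ := h.hp2
  swap
  · obtain ⟨A, A₀, hA, -⟩ := exists_exc_mem hG h.hL hpτ (one_mem L) (one_pow p)
    obtain ⟨S, -, -, hAS, -⟩ := hA.maxElem.exists_sylow_ge hG h.hL hA.hAM hq hqσ h.hqp (bot_le (a := L))
      IsPGroup.of_bot (fun a _ => mem_normalizer_of_conj fun x hx => by
        rw [Subgroup.mem_bot.1 hx, mul_one, mul_inv_cancel]; exact one_mem _)
    exact not_normalizes_sylow hG h.hp.2.2.2.2 h.hq hA.maxElem S hAS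
  have hPL' : P ≤ ⁅L, L⁆ := le_derived_of_sigma hG h.hL hpσ (isPGroup_line h.hp.1 h.hP) h.hPL
  have hex : ∃ T : Sylow q G, (T : Subgroup G) ≤ M ∧ (T : Subgroup G) ≤ L := by
    by_cases hYc : IsCyclic Y
    swap
    · obtain ⟨T, -, hTL, hTM, -, -⟩ := exists_common_sylow hG h.hL h.hM hqσ h.hq h.hY h.hYL h.hYM hYc
      exact ⟨T, hTM, hTL⟩
    by_cases hpβ : p ∈ Cfsg.beta L
    swap
    · obtain ⟨T₀, -, -, hT₀⟩ := exists_sylow_centralized hG h.hL h.hp.1 hpβ hqσ h.not_beta h.hqp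
        (isPGroup_line h.hp.1 h.hP) hPL' (bot_le (a := L)) IsPGroup.of_bot
        (fun a _ y hy => by rw [Subgroup.mem_bot.1 hy, one_mul, mul_one])
      obtain ⟨T, -, hTM, hPT⟩ := h.exists_cyclic_sylow hY1 fun T =>
        isCyclic_of_sylow T₀ (h.cyclic_centralized hYc _ T₀.2 hT₀) T.2
      exact ⟨T, hTM, (Subgroup.le_centralizer_iff.1 hPT).trans h.hCL⟩
    obtain ⟨hfpf, -⟩ := fpf_of_cyclic hq h.hY hYc h.hRY (h.hR ▸ (Nat.coprime_primes h.hr hq).2 h.hrq) h.hne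
    set K := sigmaPrimeCore q L with hK
    obtain ⟨S, hPS, hSK, hJS⟩ := exists_invariant_sylow_of_sigma hG h.hL hpσ (K := K) (A := Y ⊔ R) (X := P)
      (sigmaPrimeCore_le L) (fun U' h1 h2 => le_sigmaPrimeCore hG h.hL hq h.not_beta hpσ h.hqp.symm h1 h2)
      ((sup_le h.hYL h.hRL).trans (le_normalizer_sigmaPrimeCore L))
      (coprime_sigmaPrimeCore hq L fun t ht hd => by
        by_contra hn
        push Not at hn
        refine ht.coprime_iff_not_dvd.1 ?_ hd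
        refine (CfsgLib.PPrimeAbelian.coprime_card_sup h.hRY ?_ ?_).symm
        · obtain ⟨i, hi⟩ := h.hY.exists_card_eq
          exact hi ▸ ((Nat.coprime_primes hq ht).2 (Ne.symm hn.1)).pow_left i
        · exact h.hR ▸ (Nat.coprime_primes h.hr ht).2 fun e => h.not_sigma (e ▸ hn.2))
      (le_sigmaPrimeCore hG h.hL hq h.not_beta hpσ h.hqp.symm h.hPL (isPGroup_line h.hp.1 h.hP))
      (isPGroup_line h.hp.1 h.hP)
      ((sup_le (h.hYC.trans inf_le_right) h.hRP).trans (Subgroup.centralizer_le_normalizer _))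
    have hSL : (S : Subgroup G) ≤ L := hSK.trans (sigmaPrimeCore_le L)
    have hYc' : (Nat.card Y).Coprime p := by
      obtain ⟨i, hi⟩ := h.hY.exists_card_eq
      exact hi ▸ ((Nat.coprime_primes hq h.hp.1).2 h.hqp).pow_left i
    have hYS := centralizes_invariant hG h.hL hpβ h.hP S.2 hSL hPS h.hr h.hR h.hRL h.not_sigma h.prankLE h.hRP
      hYc' h.hRY hfpf (le_sup_left.trans hJS) (le_sup_right.trans hJS) (h.hYC.trans inf_le_right)
    obtain ⟨z, hzY, -, hzo⟩ := exists_central_order hq h.hY hY1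
    have hz1 : z ≠ 1 := fun e => hq.ne_one (by rw [← hzo, e, orderOf_one])
    obtain ⟨L₅, hL₅, hCL₅⟩ := (eq_top_or_exists_le_coatom _).resolve_left (centralizer_singleton_ne_top hG hz1)
    have hSz : (S : Subgroup G) ≤ Subgroup.centralizer ({z} : Set G) := fun s hs =>
      Subgroup.mem_centralizer_singleton_iff.2 (hYS hzY s hs)
    have huniq := (sigma_line_uniq hG h.hL hpσ h.hPL h.hP (Or.inl hpβ)).2 S hSL
    have hzL : Subgroup.centralizer ({z} : Set G) ≤ L := uniq_eq huniq hL₅ (hSz.trans hCL₅) h.hL hSL ▸ hCL₅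
    obtain ⟨T, hYT, hTM⟩ := exists_sylow_ge_sigma h.hq h.hYM h.hY
    set W := (T : Subgroup G) ⊓ Subgroup.centralizer ({z} : Set G) with hW
    by_cases hWc : IsCyclic W
    swap
    · obtain ⟨T', -, hTL', hTM', -, -⟩ := exists_common_sylow hG h.hL h.hM hqσ h.hq (T.2.to_le inf_le_left)
        (inf_le_right.trans hzL) (inf_le_left.trans hTM) hWc
      exact ⟨T', hTM', hTL'⟩
    refine ⟨T, hTM, fun t ht => hzL ?_⟩
    obtain ⟨z₀, hz₀T, hz₀C, hz₀o⟩ := exists_central_order hq T.2 fun e => hY1 (le_bot_iff.1 (e ▸ hYT))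
    have hz₀W : z₀ ∈ W := ⟨hz₀T, Subgroup.mem_centralizer_singleton_iff.2 (hz₀C z (hYT hzY)).symm⟩
    have hzz : z ∈ Subgroup.zpowers z₀ := mem_line_of_cyclic hq hWc (Subgroup.zpowers_le.2 hz₀W)
      (by rw [Nat.card_zpowers, hz₀o]) ⟨hYT hzY, Subgroup.mem_centralizer_singleton_iff.2 rfl⟩
      (by rw [← hzo, pow_orderOf_eq_one])
    obtain ⟨i, rfl⟩ := Subgroup.mem_zpowers_iff.1 hzz
    exact Subgroup.mem_centralizer_singleton_iff.2 ((show Commute t z₀ from hz₀C t ht).zpow_right i).eq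
  obtain ⟨T₀, hT₀M, hT₀L⟩ := hex
  set K := Cfsg.sigmaCore M ⊓ L with hK
  have hKs : Group.IsSolvable K := haveI := isSolvable_of_ne_top hG h.hL.1; isSolvable_of_le inf_le_right inferInstance
  have hcop : (Nat.card P).Coprime (Nat.card K) := Nat.coprime_of_dvd fun t ht h1 h2 => by
    rw [h.hP] at h1
    exact h.hp.2.1 ((Nat.prime_dvd_prime_iff_eq ht h.hp.1).1 h1 ▸
      isPi_piCoreOf _ M t ht (h2.trans (Subgroup.card_dvd_of_le inf_le_left)))
  obtain ⟨S, hYS, hPS⟩ := exists_invariant_sylow_ge (p := q)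
    (le_normalizer_inf_of_le (h.hPM.trans (le_normalizer_piCoreOf _ M)) (h.hPL.trans Subgroup.le_normalizer))
    hcop (Or.inr hKs) (le_inf (h.hYC.trans inf_le_left) h.hYL) h.hY (h.hPY.trans (Subgroup.centralizer_le_normalizer _))
  obtain ⟨T, hST⟩ := (S.2.map K.subtype).exists_le_sylow
  obtain ⟨k, -, hk⟩ := exists_conj_le_sylow S T₀.2 (le_inf (le_sigmaCore_of_isPGroup hG h.hM hq h.hq hT₀M T₀.2) hT₀L)
  have hTS : (T : Subgroup G) = S.toSubgroup.map (Subgroup.subtype _) := by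
    refine (Subgroup.eq_of_le_of_card_ge hST ?_).symm
    rw [T.card_eq_multiplicity, ← T₀.card_eq_multiplicity, ← card_conj_smul k (T₀ : Subgroup G)]
    exact Subgroup.card_le_of_le hk
  have hTM : (T : Subgroup G) ≤ M := hTS ▸ (Subgroup.map_subtype_le _).trans (inf_le_left.trans (piCoreOf_le _ M))
  have hTL : (T : Subgroup G) ≤ L := hTS ▸ (Subgroup.map_subtype_le _).trans inf_le_right
  have hPT : P ≤ Subgroup.centralizer ((T : Subgroup G) : Set G) :=
    centralizes_of_le_derived hG h.hL h.hp.1 hq h.hqp h.not_beta (isPGroup_line h.hp.1 h.hP) hPL' T.2 hTL (hTS ▸ hPS)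
  have hTY : (T : Subgroup G) = Y := h.eq_of_centralized T (hTS ▸ hYS) hTM hPT
  have hYc : IsCyclic Y := hTY ▸ common_sylow_cyclic hG h.hM h.hL h.not_conj h.hp.2.2.2.2 h.hp.2.2.2.1 hpσ h.hq
    hqσ h.hqp h.not_beta h.hPM h.hPL h.hP T hTM hTL hPT
  exact frobenius_contra hG h.hL hpσ hq h.hqp h.not_beta h.hp.2.2.2.2 h.hp.2.2.2.1 h.hPL h.hP h.hY hYc h.hYL h.hPY
    (h.cyclic_centralized hYc) h.hr h.hrq h.hR h.hRL h.not_sigma h.prankLE h.hRP h.hRY h.hne
    (hTY ▸ sylow_normalizer_le' h.hq T hTM)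

theorem false_of_tau3 (h : TauOneBad p q r M L P R Y) (hqσ : q ∉ Cfsg.sigma L) (hqd : q ∣ Nat.card ↥⁅L, L⁆)
    (hqr : Cfsg.PRankLE q 1 L) : False := by
  classical
  haveI := Fact.mk h.hq.1
  haveI := Fact.mk h.hp.1
  have hq := h.hq.1
  have hG := h.hG
  have hY1 : Y ≠ ⊥ := fun e => h.hne fun a _ y hy => by
    rw [e] at hy
    rw [Subgroup.mem_bot.1 hy, one_mul, mul_one]
  obtain ⟨z, hzY, -, hzo⟩ := exists_central_order hq h.hY hY1
  have hYc : IsCyclic Y := cyclic_of_prankLE_one hG hq hqr h.hY h.hYL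
  have hzq : z ^ q = 1 := by rw [← hzo, pow_orderOf_eq_one]
  set Z := Subgroup.zpowers z with hZ
  have hZc : Nat.card Z = q := by rw [hZ, Nat.card_zpowers, hzo]
  have hZM : Z ≤ M := Subgroup.zpowers_le.2 (h.hYM hzY)
  have hZ1 : Z ≠ ⊥ := line_ne_bot hq hZc
  have hZCP : Z ≤ Subgroup.centralizer (P : Set G) := Subgroup.zpowers_le.2 (h.hYC hzY).2
  obtain ⟨L₄, hL₄, hNL₄⟩ := (eq_top_or_exists_le_coatom _).resolve_left
    (normalizer_ne_top hG hZ1 fun e => h.hM.1 (top_unique (e ▸ hZM)))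
  have hCL₄ : Subgroup.centralizer ({z} : Set G) ≤ L₄ := by
    rw [← centralizer_zpowers_eq]
    exact (Subgroup.centralizer_le_normalizer _).trans hNL₄
  have hPL₄ : P ≤ L₄ :=
    ((Subgroup.le_centralizer_iff.1 hZCP).trans (Subgroup.centralizer_le_normalizer _)).trans hNL₄
  rcases h.hp2 with hpσ | hpτ
  swap
  · obtain ⟨A, hA, hAL, hzA⟩ := exists_elem_centralized hG h.hL hpτ hq h.hqp hqσ hqr hqd (h.hYL hzY) hzo
    have hAL₄ : A ≤ L₄ := fun a ha => hCL₄ (Subgroup.mem_centralizer_singleton_iff.2 (hzA a ha))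
    have hne : L₄ ≠ M := fun e => not_le_conj hG h.hp.2.2.2.2 hA 1 (by rwa [map_one, one_smul, ← e])
    have hp2 : p ∈ Cfsg.sigma L₄ ∨ p ∈ Cfsg.tau2 L₄ :=
      or_iff_not_imp_left.2 fun hn => mem_tau2_of_elem hG hL₄ hA hAL₄ hn
    rcases sigma_or_tau2_of_normalizer_le hG hL₄ hq (Subgroup.le_normalizer.trans hNL₄) hZc hNL₄ with h4 | h4
    · obtain ⟨S, -, -, hAS, -⟩ := hA.exists_sylow_ge hG hL₄ hAL₄ hq h4 h.hqp (bot_le (a := L₄))
        IsPGroup.of_bot (fun a _ => mem_normalizer_of_conj fun x hx => by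
          rw [Subgroup.mem_bot.1 hx, mul_one, mul_inv_cancel]; exact one_mem _)
      exact not_normalizes_sylow hG h.hp.2.2.2.2 h.hq hA S hAS
    · exact not_tau2_of_centralizer_le hG h.hM hL₄ hne h.hq h.hp.2.2.2.2 h.hp.1 h.hqp h.hPM hPL₄ h.hP hp2
        (h.hYM hzY) hzo hCL₄ h4
  have hqc := h.cyclic_centralized hYc
  have contra : ∀ U : Subgroup G, Cfsg.PRankLE p 1 U → ¬ p ∣ Nat.card ↥⁅U, U⁆ →
      Subgroup.normalizer (Y : Set G) ≤ U → False := fun U h1 h2 h3 =>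
    frobenius_contra hG h.hL hpσ hq h.hqp h.not_beta h1 h2 h.hPL h.hP h.hY hYc h.hYL h.hPY
      hqc h.hr h.hrq h.hR h.hRL h.not_sigma h.prankLE h.hRP h.hRY h.hne h3
  by_cases hNM : Subgroup.normalizer (Y : Set G) ≤ M
  · exact contra M h.hp.2.2.2.2 h.hp.2.2.2.1 hNM
  have hNY : Subgroup.normalizer (Y : Set G) ≤ L₄ := fun n hn => hNL₄ (mem_normalizer_of_conj fun y hy =>
    mem_line_of_cyclic hq hYc (Subgroup.zpowers_le.2 hzY) hZc
      (conj_mem_of_le_normalizer hn y (Subgroup.zpowers_le.2 hzY hy))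
      (by rw [conj_pow, pow_eq_one_of_line hq hZc hy, mul_one, mul_inv_cancel]))
  have hne : L₄ ≠ M := fun e => hNM (e ▸ hNY)
  by_cases hU : Cfsg.PRankLE p 1 L₄ ∧ ¬ p ∣ Nat.card ↥⁅L₄, L₄⁆
  · exact contra L₄ hU.1 hU.2 hNY
  push Not at hU
  rcases sigma_or_tau2_of_normalizer_le hG hL₄ hq (Subgroup.le_normalizer.trans hNL₄) hZc hNL₄ with h4 | h4
  · by_cases hτ : p ∉ Cfsg.sigma L₄ ∧ ¬ Cfsg.PRankLE p 1 L₄
    · obtain ⟨A, A₀, hA, -⟩ := exists_exc_mem hG hL₄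
        (⟨h.hp.1, hτ.1, prankLE_two_of_not_sigma hG hL₄ h.hp.1 hτ.1, hτ.2⟩ : p ∈ Cfsg.tau2 L₄) (one_mem L₄)
        (one_pow p)
      obtain ⟨S, -, -, hAS, -⟩ := hA.maxElem.exists_sylow_ge hG hL₄ hA.hAM hq h4 h.hqp (bot_le (a := L₄))
        IsPGroup.of_bot (fun a _ => mem_normalizer_of_conj fun x hx => by
          rw [Subgroup.mem_bot.1 hx, mul_one, mul_inv_cancel]; exact one_mem _)
      exact not_normalizes_sylow hG h.hp.2.2.2.2 h.hq hA.maxElem S hAS
    have hPL₄' : P ≤ ⁅L₄, L₄⁆ := by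
      by_cases hσ : p ∈ Cfsg.sigma L₄
      · exact le_derived_of_sigma hG hL₄ hσ (isPGroup_line h.hp.1 h.hP) hPL₄
      · have hr1 : Cfsg.PRankLE p 1 L₄ := by_contra fun hh => hτ ⟨hσ, hh⟩
        exact le_of_normal_line hG h.hp.1 hr1 (Subgroup.commutator_le_self L₄)
          (le_normalizer_commutator Subgroup.le_normalizer Subgroup.le_normalizer) (hU hr1) hPL₄ h.hP
    have hpβ : p ∉ Cfsg.beta L₄ := fun hβ => by
      obtain ⟨g, hg⟩ := conj_of_alpha hG h.hL hL₄ hpσ (beta_subset_sigma hG hL₄ hβ) (Or.inr hβ.1)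
      exact hqσ (sigma_of_conj (hg ▸ h4))
    have hqβ : q ∉ Cfsg.beta L₄ := fun hβ => by
      obtain ⟨g, hg⟩ := conj_of_alpha hG h.hM hL₄ h.hq h4 (Or.inr hβ.1)
      obtain ⟨S, hS⟩ := ((isPGroup_line hq hZc).comap_of_injective (M ⊓ L₄).subtype (M ⊓ L₄).subtype_injective :
        IsPGroup q (Z.subgroupOf (M ⊓ L₄))).exists_le_sylow
      exact (Cfsg.Agent.S1424.result hG M h.hM q h.hq Z (isPGroup_line hq hZc) hZ1 hZM L₄ hL₄ hne hNL₄ S
        ((Subgroup.map_subgroupOf_eq_of_le (le_inf hZM (Subgroup.le_normalizer.trans hNL₄))).ge.trans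
          (Subgroup.map_mono hS))).1 g hg
    obtain ⟨T₀, -, -, hT₀⟩ := exists_sylow_centralized hG hL₄ h.hp.1 hpβ h4 hqβ h.hqp
      (isPGroup_line h.hp.1 h.hP) hPL₄' (bot_le (a := L₄)) IsPGroup.of_bot
      (fun a _ y hy => by rw [Subgroup.mem_bot.1 hy, one_mul, mul_one])
    obtain ⟨T, hYT, hTM, hPT⟩ := h.exists_cyclic_sylow hY1 fun T => isCyclic_of_sylow T₀ (hqc _ T₀.2 hT₀) T.2
    exact hNM (h.eq_of_centralized T hYT hTM hPT ▸ sylow_normalizer_le' h.hq T hTM)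
  · by_cases hp2 : p ∈ Cfsg.sigma L₄ ∨ p ∈ Cfsg.tau2 L₄
    · exact not_tau2_of_centralizer_le hG h.hM hL₄ hne h.hq h.hp.2.2.2.2 h.hp.1 h.hqp h.hPM hPL₄ h.hP hp2
        (h.hYM hzY) hzo hCL₄ h4
    push Not at hp2
    have hr1 : Cfsg.PRankLE p 1 L₄ := by_contra fun hn =>
      hp2.2 ⟨h.hp.1, hp2.1, prankLE_two_of_not_sigma hG hL₄ h.hp.1 hp2.1, hn⟩
    obtain ⟨a, ha, hao⟩ := exists_order_of_dvd h.hp.1 (h.hP ▸ dvd_rfl : p ∣ Nat.card P)
    obtain ⟨B, hB, -, haB⟩ := exists_elem_centralized hG hL₄ h4 h.hp.1 h.hqp.symm hp2.1 hr1 (hU hr1) (hPL₄ ha) hao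
    refine hB.not_isCyclic (hqc B hB.isPGroup ?_)
    have hPa : P = Subgroup.zpowers a := (Subgroup.eq_of_le_of_card_ge (Subgroup.zpowers_le.2 ha)
      (by rw [h.hP, Nat.card_zpowers, hao])).symm
    rw [hPa]
    exact Subgroup.zpowers_le.2 haB

theorem false_all (h : TauOneBad p q r M L P R Y) : False := by
  classical
  haveI := Fact.mk h.hq.1
  haveI := Fact.mk h.hp.1
  have hq := h.hq.1
  by_cases hqσ : q ∈ Cfsg.sigma L
  · exact h.false_of_sigma hqσ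
  have hY1 : Y ≠ ⊥ := fun e => h.hne fun a _ y hy => by
    rw [e] at hy
    rw [Subgroup.mem_bot.1 hy, one_mul, mul_one]
  obtain ⟨z, hzY, -, hzo⟩ := exists_central_order hq h.hY hY1
  have hqL : q ∣ Nat.card L := hzo ▸ Subgroup.orderOf_dvd_natCard L (h.hYL hzY)
  rcases tau_cases h.hG h.hL hq hqσ hqL with (h1 | h3) | h2
  · refine h.hne fun a ha y hy => ?_
    have h2 : ⁅a, y⁆ ∈ Y ⊓ ⁅L, L⁆ :=
      ⟨by rw [commutatorElement_def]; exact Y.mul_mem (conj_mem_of_le_normalizer (h.hRY ha) y hy) (Y.inv_mem hy),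
        Subgroup.commutator_mem_commutator (h.hRL ha) (h.hYL hy)⟩
    rw [eq_bot_of_disjoint (π := {q}) (ρ := {t | t ≠ q})
      (((isPi_singleton_iff hq).2 h.hY).mono inf_le_left)
      (fun t ht hd e => h1.2.2.2.1 (e ▸ hd.trans (Subgroup.card_dvd_of_le inf_le_right)))
      (Set.disjoint_singleton_left.2 fun h => h rfl), Subgroup.mem_bot] at h2
    exact (commutatorElement_eq_one_iff_mul_comm.1 h2).symm
  · exact h.false_of_tau3 hqσ h3.2.2.1 h3.2.2.2
  · rcases h.hp2 with hpσ | hpτ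
    swap
    · exact tau2_tau2_false h.hG h.hL hpτ h2 h.hqp h.hp.2.2.2.2 h.hq
    refine not_tau2_of_centralizer_le h.hG h.hM h.hL h.hLM h.hq h.hp.2.2.2.2 h.hp.1 h.hqp h.hPM h.hPL h.hP h.hp2
      (h.hYM hzY) hzo ?_ h2
    have hz1 : z ≠ 1 := fun e => hq.ne_one (by rw [← hzo, e, orderOf_one])
    obtain ⟨L₅, hL₅, hCL₅⟩ := (eq_top_or_exists_le_coatom _).resolve_left (centralizer_singleton_ne_top h.hG hz1)
    obtain ⟨B, B₀, hB, hzB⟩ := exists_exc_mem h.hG h.hL h2 (h.hYL hzY) (by rw [← hzo, pow_orderOf_eq_one])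
    by_contra hn
    have hne : L₅ ≠ L := fun e => hn (e ▸ hCL₅)
    have hPL₅ : P ≤ L₅ := fun x hx => hCL₅ (Subgroup.mem_centralizer_singleton_iff.2 (h.hPY hx z hzY).symm)
    have hB5 : B ≤ L₅ := fun b hb => hCL₅ (Subgroup.mem_centralizer_singleton_iff.2 (hB.maxElem.comm hb hzB))
    exact line_ne_bot h.hp.1 h.hP (le_bot_iff.1 (hB.inf_eq_bot hL₅ hne hB5 ▸
      le_inf (le_sigmaCore_of_isPGroup h.hG h.hL h.hp.1 hpσ h.hPL (isPGroup_line h.hp.1 h.hP)) hPL₅))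

end TauOneBad

/-- BG 13.4. -/
theorem tau_one_centralizer (hG : Cfsg.IsMinSimpleOddOrder G) (hM : IsCoatom M)
    (hE : Cfsg.IsComplIn E (Cfsg.sigmaCore M) M) (hp : p ∈ Cfsg.tau1 M) {P R : Subgroup G} (hPE : P ≤ E)
    (hP : Nat.card P = p) (hRE : R ≤ E ⊓ Subgroup.centralizer (P : Set G)) (hR : (Nat.card R).Prime) :
    Cfsg.sigmaCore M ⊓ Subgroup.centralizer (P : Set G) ≤
      Cfsg.sigmaCore M ⊓ Subgroup.centralizer (R : Set G) := by
  classical
  haveI := Fact.mk hp.1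
  set r := Nat.card R with hr'
  haveI := Fact.mk hR
  have hPM : P ≤ M := hPE.trans hE.1
  have hRM : R ≤ M := (hRE.trans inf_le_left).trans hE.1
  have hRP : R ≤ Subgroup.centralizer (P : Set G) := hRE.trans inf_le_right
  have hP1 : P ≠ ⊥ := line_ne_bot hp.1 hP
  obtain ⟨SM, hSM⟩ := ((isPGroup_line hp.1 hP).comap_of_injective M.subtype M.subtype_injective :
    IsPGroup p (P.subgroupOf M)).exists_le_sylow
  set S₀ := (SM : Subgroup M).map M.subtype with hS₀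
  have hPS : P ≤ S₀ := (Subgroup.map_subgroupOf_eq_of_le hPM).ge.trans (Subgroup.map_mono hSM)
  by_cases hrp : r = p
  · have hRq : IsPGroup p R := isPGroup_line hp.1 (hr' ▸ hrp)
    have hPN : R ≤ Subgroup.normalizer (P : Set G) := hRP.trans (Subgroup.centralizer_le_normalizer _)
    have hc : IsCyclic ↥(R ⊔ P) := cyclic_of_prankLE_one hG hp.1 hp.2.2.2.2
      (IsPGroup.to_sup_of_normal_right' hRq (isPGroup_line hp.1 hP) hPN) (sup_le hRM hPM)
    have hle : R ≤ P := fun x hx => mem_line_of_cyclic hp.1 hc le_sup_right hP (Subgroup.mem_sup_left hx)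
      (pow_eq_one_of_line hp.1 (hr' ▸ hrp) hx)
    exact inf_le_inf_left _ (Subgroup.centralizer_le hle)
  obtain ⟨n, hn, hnM⟩ := exists_normalizer_not_mem hp.2.2.1 hp.2.1 SM
  obtain ⟨L, hL, hNP⟩ := (eq_top_or_exists_le_coatom _).resolve_left
    (normalizer_ne_top hG hP1 fun e => hM.1 (top_unique (e ▸ hPM)))
  have hLM : L ≠ M := fun e => hnM (e ▸ hNP (mem_normalizer_of_conj fun y hy => mem_line_of_cyclic hp.1
    (cyclic_of_prankLE_one hG hp.1 hp.2.2.2.2 (SM.2.map M.subtype) (Subgroup.map_subtype_le _)) hPS hP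
    (conj_mem_of_le_normalizer hn y (hPS hy))
    (by rw [conj_pow, pow_eq_one_of_line hp.1 hP hy, mul_one, mul_inv_cancel])))
  set C := Cfsg.sigmaCore M ⊓ Subgroup.centralizer (P : Set G) with hC
  have hrσ : r ∉ Cfsg.sigma M :=
    not_sigma_of_dvd_compl hG hM hE hR (Subgroup.card_dvd_of_le (hRE.trans inf_le_left))
  have hRC : R ≤ Subgroup.normalizer (C : Set G) := le_normalizer_inf_of_le (hRM.trans (le_normalizer_piCoreOf _ M))
    (hRP.trans Subgroup.le_normalizer)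
  have hcop : (Nat.card R).Coprime (Nat.card C) := by
    rw [← hr', hR.coprime_iff_not_dvd]
    exact fun hd => hrσ (isPi_piCoreOf _ M r hR (hd.trans (Subgroup.card_dvd_of_le inf_le_left)))
  haveI : Group.IsSolvable M := isSolvable_of_ne_top hG hM.1
  have hCs : Group.IsSolvable C := isSolvable_of_le (inf_le_left.trans (piCoreOf_le _ M)) inferInstance
  refine le_inf inf_le_left ?_
  have key : ∀ q : ℕ, q.Prime → q ^ (Nat.card C).factorization q ∣
      Nat.card ↥(C ⊓ Subgroup.centralizer (R : Set G)) := by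
    intro q hq
    haveI := Fact.mk hq
    obtain ⟨S, hS⟩ := exists_invariant_sylow hRC hcop (Or.inr hCs) q
    set Y := (S : Subgroup C).map C.subtype with hY
    have hYC : Y ≤ C := Subgroup.map_subtype_le _
    have hYc : Nat.card Y = q ^ (Nat.card C).factorization q := by
      rw [hY, Subgroup.card_subtype, S.card_eq_multiplicity]
    rw [← hYc]
    refine Subgroup.card_dvd_of_le (le_inf hYC (Subgroup.le_centralizer_iff.1 (by_contra fun hne => ?_)))
    have hY1 : Y ≠ ⊥ := fun e => hne fun a _ y hy => by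
      rw [e] at hy
      rw [Subgroup.mem_bot.1 hy, one_mul, mul_one]
    obtain ⟨z, hzY, -, hzo⟩ := exists_central_order hq (S.2.map C.subtype) hY1
    have hqσ : q ∈ Cfsg.sigma M := isPi_piCoreOf _ M q hq
      (hzo ▸ Subgroup.orderOf_dvd_natCard (Cfsg.sigmaCore M) (hYC hzY).1)
    refine TauOneBad.false_all (p := p) (q := q) (r := r) (M := M) (L := L) (P := P) (R := R) (Y := Y)
      ⟨hG, hM, hp, hPM, hP, hR, hrp, hr'.symm, hRP, hqσ, fun e => hrσ (e ▸ hqσ), S.2.map _, hYC,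
        fun Q hQ hYQ hQC => ?_, fun Q hQ hQC => ?_, hS, hne, hL, hNP, hLM⟩
    · have h2 := S.3 (hQ.comap_of_injective C.subtype C.subtype_injective) fun y hy => hYQ ⟨y, hy, rfl⟩
      exact le_antisymm (fun y hy => ⟨⟨y, hQC hy⟩, h2 ▸ hy, rfl⟩) hYQ
    · obtain ⟨c, -, hc⟩ := exists_conj_le_sylow S hQ hQC
      exact ⟨c, hc⟩
  refine inf_eq_left.1 (Subgroup.eq_of_le_of_card_ge (inf_le_left : C ⊓ Subgroup.centralizer (R : Set G) ≤ C) ?_)
  refine Nat.le_of_dvd Nat.card_pos ((Nat.dvd_iff_prime_pow_dvd_dvd _ _).2 fun q k hq hk => ?_)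
  exact (pow_dvd_pow q ((hq.pow_dvd_iff_le_factorization Nat.card_pos.ne').1 hk)).trans (key q hq)

end CfsgLib.OddLocal
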