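import Cfsg.Agent.Lib.OddLocal.TauOneFrobenius
import Cfsg.Agent.Lib.OddLocal.FrobeniusType
import Cfsg.Agent.Lib.OddLocal.NonabelianUniq

/-!
A Sylow subgroup common to two maximal subgroups and centralized by a `τ₁`-element is cyclic.
-/

set_option autoImplicit false
set_option linter.style.haveILetI false
set_option linter.unusedSectionVars false

open scoped commutatorElement
open scoped Pointwise

namespace CfsgLib.OddLocal

open CfsgLib.Coprime
open CfsgLib.BG.FixedLine (conj_mem_of_le_normalizer mem_normalizer_of_conj)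

universe u

variable {G : Type u} [Group G] [Finite G] {p q : ℕ} {M L : Subgroup G}

/-- An abelian Sylow subgroup equals its commutator with a complement in its normalizer. -/
theorem exists_compl_commutator (hG : Cfsg.IsMinSimpleOddOrder G) [Fact q.Prime] (T : Sylow q G)
    (hab : ∀ x ∈ (T : Subgroup G), ∀ y ∈ (T : Subgroup G), x * y = y * x) :
    ∃ H : Subgroup G, H ≤ Subgroup.normalizer ((T : Subgroup G) : Set G) ∧ (Nat.card H).Coprime q ∧
      (T : Subgroup G) ⊓ Subgroup.centralizer (H : Set G) = ⊥ := by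
  classical
  set N := Subgroup.normalizer ((T : Subgroup G) : Set G) with hN
  have hTN : (T : Subgroup G) ≤ N := Subgroup.le_normalizer
  haveI : ((T.subtype hTN : Sylow q N) : Subgroup N).Normal := by
    rw [Sylow.coe_subtype]
    exact (Subgroup.normal_subgroupOf_iff_le_normalizer hTN).2 le_rfl
  obtain ⟨H₀, hH₀⟩ := Subgroup.exists_right_complement'_of_coprime (T.subtype hTN).card_coprime_index
  set H := H₀.map N.subtype with hH
  have hHN : H ≤ N := Subgroup.map_subtype_le _
  have hcH : (Nat.card H).Coprime q := by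
    rw [hH, Subgroup.card_subtype, ← hH₀.symm.index_eq_card]
    exact ((Fact.out : q.Prime).coprime_iff_not_dvd.2 (T.subtype hTN).not_dvd_index).symm
  refine ⟨H, hHN, hcH, ?_⟩
  have hcop : (Nat.card H).Coprime (Nat.card (T : Subgroup G)) :=
    (CfsgLib.PSolvable.coprime_card_of_isPGroup T.2 hcH).symm
  haveI : IsMulCommutative (T : Subgroup G) := ⟨⟨fun a b => Subtype.ext (hab a a.2 b b.2)⟩⟩
  haveI : Group.IsSolvable (T : Subgroup G) := haveI := T.2.isNilpotent; inferInstance
  set D := ⁅(T : Subgroup G), H⁆ with hD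
  set C := (T : Subgroup G) ⊓ Subgroup.centralizer (H : Set G) with hC
  have hDT : D ≤ (T : Subgroup G) := commutator_le_left_of_le_normalizer hHN
  have hDC : D ⊔ C = (T : Subgroup G) := commutator_sup_centralizer hHN hcop (Or.inr inferInstance)
  have hHD : H ≤ Subgroup.normalizer (D : Set G) := le_normalizer_commutator hHN Subgroup.le_normalizer
  have hTD : (T : Subgroup G) ≤ Subgroup.normalizer (D : Set G) := fun t ht =>
    Subgroup.centralizer_le_normalizer _ fun d hd => hab d (hDT hd) t ht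
  set J := D ⊔ H with hJ
  have hTJ : (T : Subgroup G) ≤ Subgroup.normalizer (J : Set G) := fun t ht => mem_normalizer_of_conj fun x hx => by
    have hle : J ≤ J.comap (MulAut.conj t).toMonoidHom := by
      refine sup_le (fun d hd => Subgroup.mem_sup_left (conj_mem_of_le_normalizer (hTD ht) d hd)) fun h hh => ?_
      show t * h * t⁻¹ ∈ J
      rw [show t * h * t⁻¹ = ⁅t, h⁆ * h by rw [commutatorElement_def]; group]
      exact mul_mem (Subgroup.mem_sup_left (Subgroup.commutator_mem_commutator ht hh)) (Subgroup.mem_sup_right hh)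
    exact hle hx
  have hdec : ∀ g ∈ N, ∃ j ∈ J, ∃ c ∈ C, g = j * c := by
    intro g hg
    have h1 : (⊤ : Subgroup N) ≤ (J ⊔ C).subgroupOf N := by
      rw [← hH₀.sup_eq_top]
      refine sup_le (fun x hx => ?_) fun x hx => ?_
      · have : (x : G) ∈ (T : Subgroup G) := by rwa [Sylow.coe_subtype] at hx
        rw [← hDC] at this
        exact (sup_le_sup_right le_sup_left C) this
      · exact Subgroup.mem_sup_left (Subgroup.mem_sup_right ⟨x, hx, rfl⟩)
    have h2 : g ∈ J ⊔ C := h1 (Subgroup.mem_top ⟨g, hg⟩)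
    rw [← SetLike.mem_coe, Subgroup.coe_mul_of_right_le_normalizer_left J C (inf_le_left.trans hTJ)] at h2
    obtain ⟨j, hj, c, hc, rfl⟩ := h2
    exact ⟨j, hj, c, hc, rfl⟩
  have hCJ : ∀ c ∈ C, ∀ j ∈ J, Commute c j := by
    intro c hc j hj
    have hle : J ≤ Subgroup.centralizer ({c} : Set G) := sup_le
      (fun d hd => Subgroup.mem_centralizer_singleton_iff.2 (hab d (hDT hd) c hc.1))
      (fun h hh => Subgroup.mem_centralizer_singleton_iff.2 (hc.2 h hh))
    exact (Subgroup.mem_centralizer_singleton_iff.1 (hle hj)).symm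
  have hN' : ⁅N, N⁆ ≤ J := by
    refine Subgroup.commutator_le.2 fun a ha b hb => ?_
    obtain ⟨j, hj, c, hc, rfl⟩ := hdec a ha
    obtain ⟨j', hj', c', hc', rfl⟩ := hdec b hb
    have e1 := hCJ c hc j hj
    have e2 := hCJ c' hc' j' hj'
    have e3 := hCJ c hc j' hj'
    have e4 := hCJ c' hc' j hj
    have e5 : Commute c c' := hab c hc.1 c' hc'.1
    have e : (j * c) * (j' * c') = (j * j') * (c * c') := by
      simp only [← mul_assoc]; rw [mul_assoc j c j', e3.eq, ← mul_assoc]
    have e' : (j' * c') * (j * c) = (j' * j) * (c * c') := by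
      simp only [← mul_assoc]; rw [mul_assoc j' c' j, e4.eq, ← mul_assoc, mul_assoc (j' * j) c' c, ← e5.eq, ← mul_assoc]
    have : ⁅j * c, j' * c'⁆ = ⁅j, j'⁆ := by
      rw [show ⁅j * c, j' * c'⁆ = ((j * c) * (j' * c')) * ((j' * c') * (j * c))⁻¹ by
        rw [commutatorElement_def]; group, e, e', commutatorElement_def]
      group
    rw [this]
    exact (Subgroup.commutator_le_self J) (Subgroup.commutator_mem_commutator hj hj')
  have hTle : (T : Subgroup G) ≤ D := by
    intro t ht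
    have h2 := hN' (sylow_le_derived_normalizer hG T ht)
    rw [hJ, sup_comm, ← SetLike.mem_coe, Subgroup.coe_mul_of_left_le_normalizer_right H D hHD] at h2
    obtain ⟨h, hh, d, hd, he⟩ := h2
    have h3 : h ∈ H ⊓ (T : Subgroup G) := ⟨hh, by
      have he' : h * d = t := he
      rw [eq_mul_inv_of_mul_eq he']
      exact (T : Subgroup G).mul_mem ht ((T : Subgroup G).inv_mem (hDT hd))⟩
    rw [inf_eq_bot_of_coprime_card hcop, Subgroup.mem_bot] at h3
    subst h3
    have he' : (1 : G) * d = t := he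
    rwa [← he', one_mul]
  rw [eq_bot_iff, ← centralizer_inf_commutator_eq_bot hHN hcop]
  exact le_inf le_rfl (inf_le_left.trans hTle)

theorem common_sylow_cyclic (hG : Cfsg.IsMinSimpleOddOrder G) (hM : IsCoatom M) (hL : IsCoatom L)
    (hconj : ∀ g : G, L ≠ MulAut.conj g • M) (hr : Cfsg.PRankLE p 1 M) (hM' : ¬ p ∣ Nat.card ↥⁅M, M⁆)
    (hpσ : p ∈ Cfsg.sigma L) [Fact q.Prime] (hqM : q ∈ Cfsg.sigma M) (hqL : q ∈ Cfsg.sigma L)
    (hqp : q ≠ p) (hqβ : q ∉ Cfsg.beta L) {P : Subgroup G} (hPM : P ≤ M) (hPL : P ≤ L) (hP : Nat.card P = p)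
    (T : Sylow q G) (hTM : (T : Subgroup G) ≤ M) (hTL : (T : Subgroup G) ≤ L)
    (hPT : P ≤ Subgroup.centralizer ((T : Subgroup G) : Set G)) : IsCyclic (T : Subgroup G) := by
  classical
  by_contra hnc
  have hq : q.Prime := Fact.out
  have hp : p.Prime := hpσ.1
  haveI := Fact.mk hp
  have hne : L ≠ M := fun e => hconj 1 (by rw [map_one, one_smul, e])
  have hab : ∀ x ∈ (T : Subgroup G), ∀ y ∈ (T : Subgroup G), x * y = y * x := by
    by_contra h
    exact hne (uniq_eq (inUniqueMaximal_of_nonabelian hG T.2 fun hc => h fun x hx y hy =>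
      haveI := hc
      congrArg Subtype.val (mul_comm' (⟨x, hx⟩ : (T : Subgroup G)) ⟨y, hy⟩)) hL hTL hM hTM)
  have hNM := sylow_normalizer_le' hqM T hTM
  have hNL := sylow_normalizer_le' hqL T hTL
  set N := Subgroup.normalizer ((T : Subgroup G) : Set G) with hN
  have hTL' : (T : Subgroup G) ≤ ⁅L, L⁆ := le_derived_of_sigma hG hL hqL T.2 hTL
  have hpβ : p ∈ Cfsg.beta L := by
    by_contra hpβ
    refine beta_of_sylow hG hL hpσ hpβ hq hqp hqβ hM' hPL hP T.2 hTL' hPT fun Q hQ hTQ _ => ?_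
    rw [T.is_maximal' hQ hTQ]
    exact hNM
  set K := sigmaPrimeCore q L with hK
  have hPK : P ≤ K := le_sigmaPrimeCore hG hL hq hqβ hpσ hqp.symm hPL (isPGroup_line hp hP)
  have hTP : (T : Subgroup G) ≤ Subgroup.centralizer (P : Set G) := Subgroup.le_centralizer_iff.1 hPT
  have hcopT : (Nat.card (T : Subgroup G)).Coprime (Nat.card K) := coprime_sigmaPrimeCore hq L fun r hr hd =>
    Or.inl ((isPi_singleton_iff hq).2 T.2 r hr hd)
  obtain ⟨S, hPS, hSK, hTS⟩ := exists_invariant_sylow_of_sigma hG hL hpσ (K := K) (A := (T : Subgroup G)) (X := P)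
    (sigmaPrimeCore_le L) (fun U' h1 h2 => le_sigmaPrimeCore hG hL hq hqβ hpσ hqp.symm h1 h2)
    (hTL.trans (le_normalizer_sigmaPrimeCore L)) hcopT hPK (isPGroup_line hp hP)
    (hTP.trans (Subgroup.centralizer_le_normalizer _))
  -- the elements of order dividing `q`
  haveI : IsMulCommutative (T : Subgroup G) := ⟨⟨fun a b => Subtype.ext (hab a a.2 b b.2)⟩⟩
  let B : Subgroup G :=
    { carrier := {x | x ∈ (T : Subgroup G) ∧ x ^ q = 1}
      one_mem' := ⟨one_mem _, one_pow _⟩
      mul_mem' := fun {a b} ha hb => ⟨(T : Subgroup G).mul_mem ha.1 hb.1, by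
        rw [(show Commute a b from hab a ha.1 b hb.1).mul_pow, ha.2, hb.2, one_mul]⟩
      inv_mem' := fun {a} ha => ⟨(T : Subgroup G).inv_mem ha.1, by rw [inv_pow, ha.2, inv_one]⟩ }
  have hBT : B ≤ (T : Subgroup G) := fun x hx => hx.1
  haveI hBc : IsMulCommutative B := ⟨⟨fun a b => Subtype.ext (hab a (hBT a.2) b (hBT b.2))⟩⟩
  have hNB : ∀ g ∈ N, ∀ x ∈ B, g * x * g⁻¹ ∈ B := fun g hg x hx =>
    ⟨conj_mem_of_le_normalizer hg x hx.1, by rw [conj_pow, hx.2, mul_one, mul_inv_cancel]⟩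
  have hBnc : ¬ IsCyclic B := fun h => by
    obtain ⟨B₂, hB₂T, hB₂e, hB₂c⟩ := exists_elem_sq hG hq T.2 hnc
    exact not_isCyclic_of_exponent hB₂e.2 hq.pos (hB₂c ▸ (by rw [sq]; exact lt_mul_of_one_lt_left hq.pos hq.one_lt))
      (isCyclic_of_le (fun x hx => (⟨hB₂T hx, hB₂e.2 x hx⟩ : x ∈ B)) h)
  set W := B ⊓ Subgroup.centralizer ((S : Subgroup G) : Set G) with hW
  have hWB : ¬ B ≤ W := fun h => by
    have hSM : (S : Subgroup G) ≤ M := ((Subgroup.le_centralizer_iff.1 (h.trans inf_le_right)).trans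
      (Subgroup.centralizer_le_normalizer _)).trans
      (normalizer_le_of_noncyclic hG hM hqM (T.2.to_le hBT) (hBT.trans hTM) hBnc)
    obtain ⟨D, hDL, hDe, hD3⟩ := exists_elementary hpβ.1.2
    haveI := isCyclic_of_sylow S (cyclic_of_prankLE_one hG hp hr S.2 hSM) (isPGroup_of_elementary hDe)
    refine not_isCyclic_of_exponent hDe.2 hp.pos (lt_of_lt_of_le ?_ hD3) inferInstance
    calc p = p ^ 1 := (pow_one p).symm
      _ < p ^ (2 + 1) := Nat.pow_lt_pow_right hp.one_lt (by norm_num)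
  have hWinv : ∀ g ∈ N, (∀ b ∈ B, g * b * g⁻¹ * b⁻¹ ∈ W) → ∀ w ∈ W, g * w * g⁻¹ ∈ W := fun g _ h w hw => by
    simpa using W.mul_mem (h w hw.1) hw
  let N₁ : Subgroup G :=
    { carrier := {g | g ∈ N ∧ ∀ b ∈ B, g * b * g⁻¹ * b⁻¹ ∈ W}
      one_mem' := ⟨one_mem _, fun b _ => by simp⟩
      mul_mem' := fun {g h} hg hh => ⟨mul_mem hg.1 hh.1, fun b hb => by
        have h1 := W.mul_mem (hWinv g hg.1 hg.2 _ (hh.2 b hb)) (hg.2 b hb)
        rwa [show g * (h * b * h⁻¹ * b⁻¹) * g⁻¹ * (g * b * g⁻¹ * b⁻¹) = g * h * b * (g * h)⁻¹ * b⁻¹ by group] at h1⟩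
      inv_mem' := fun {g} hg => ⟨inv_mem hg.1, fun b hb => by
        have h0 := hg.2 _ (hNB _ (inv_mem hg.1) b hb)
        rw [inv_inv, show g * (g⁻¹ * b * g) * g⁻¹ * (g⁻¹ * b * g)⁻¹ = b * (g⁻¹ * b⁻¹ * g) by group] at h0
        have h1 := W.inv_mem h0
        rw [inv_inv]
        rwa [show (b * (g⁻¹ * b⁻¹ * g))⁻¹ = g⁻¹ * b * g * b⁻¹ by group] at h1⟩ }
  have hTN₁ : ∀ g ∈ N, g ∈ Subgroup.centralizer ((T : Subgroup G) : Set G) → g ∈ N₁ := fun g hg hc =>
    ⟨hg, fun b hb => by
      rw [← (hc b (hBT hb)), mul_inv_cancel_right, mul_inv_cancel]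
      exact one_mem _⟩
  -- the primary elements centralizing `P`
  have key : ∀ s : ℕ, s.Prime → ∀ g ∈ N, g ∈ Subgroup.centralizer (P : Set G) →
      (∃ k : ℕ, g ^ s ^ k = 1) → g ∈ N₁ := by
    intro s hs g hg hgP hgk
    obtain ⟨k, hk⟩ := hgk
    haveI := Fact.mk hs
    have hZ : IsPGroup s (Subgroup.zpowers g) := isPGroup_zpowers hk
    have hgL : g ∈ L := hNL hg
    by_cases hsq : s = q
    · subst hsq
      have h1 : IsPGroup s ↥(Subgroup.zpowers g ⊔ (T : Subgroup G)) :=
        IsPGroup.to_sup_of_normal_right' hZ T.2 (Subgroup.zpowers_le.2 hg)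
      have hgT : g ∈ (T : Subgroup G) :=
        (T.is_maximal' h1 le_sup_right).le (Subgroup.mem_sup_left (Subgroup.mem_zpowers g))
      exact hTN₁ g hg fun t ht => hab t ht g hgT
    by_cases hsσ : s ∈ Cfsg.sigma L
    · exact hTN₁ g hg (centralizes_of_le_derived hG hL hs hq (Ne.symm hsq) hqβ hZ
        (le_derived_of_sigma hG hL hsσ hZ (Subgroup.zpowers_le.2 hgL)) T.2 hTL (Subgroup.zpowers_le.2 hg)
        (Subgroup.mem_zpowers g))
    by_cases hg1 : g = 1
    · subst hg1; exact one_mem N₁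
    have hd : s ∣ orderOf g := by
      obtain ⟨i, -, hi⟩ := (Nat.dvd_prime_pow hs).1 (orderOf_dvd_of_pow_eq_one hk)
      rcases Nat.eq_zero_or_pos i with rfl | hi0
      · exact absurd (orderOf_eq_one_iff.1 (by rw [hi, pow_zero])) hg1
      · exact hi ▸ dvd_pow_self s hi0.ne'
    have hsr : Cfsg.PRankLE s 1 L := by
      by_contra hnr
      have hτ : s ∈ Cfsg.tau2 L := ⟨hs, hsσ, prankLE_two_of_not_sigma hG hL hs hsσ, hnr⟩
      obtain ⟨A, A₀, hA, -⟩ := exists_exc_mem hG hL hτ (one_mem L) (one_pow s)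
      obtain ⟨x, hx⟩ := conj_of_normal_sylow hM hL hqM T (hA.sylow_normal hqL T hTL)
      exact hconj x hx
    set h := g ^ (orderOf g / s) with hh
    have hho : orderOf h = s := pow_quot_order hs hd
    set H := Subgroup.zpowers h with hH
    have hHc : Nat.card H = s := by rw [hH, Nat.card_zpowers, hho]
    have hhg : H ≤ Subgroup.zpowers g := Subgroup.zpowers_le.2 ((Subgroup.zpowers g).pow_mem (Subgroup.mem_zpowers g) _)
    have hHN : H ≤ N := hhg.trans (Subgroup.zpowers_le.2 hg)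
    have hHP : H ≤ Subgroup.centralizer (P : Set G) := hhg.trans (Subgroup.zpowers_le.2 hgP)
    obtain ⟨SS, hSS⟩ := (hZ.comap_of_injective L.subtype L.subtype_injective :
      IsPGroup s ((Subgroup.zpowers g).subgroupOf L)).exists_le_sylow
    have hgSS : Subgroup.zpowers g ≤ (SS : Subgroup L).map L.subtype :=
      (Subgroup.map_subgroupOf_eq_of_le (Subgroup.zpowers_le.2 hgL)).ge.trans (Subgroup.map_mono hSS)
    have hprime := fixed_line_le_centralizer hG hL hs hsσ
      (hHc ▸ Subgroup.card_dvd_of_le (hHN.trans hNL)) (Subgroup.map_subtype_le _)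
      (cyclic_of_prankLE_one hG hs hsr (SS.2.map L.subtype) (Subgroup.map_subtype_le _)) ⟨SS, rfl⟩
      (hhg.trans hgSS) hHc
    have hHB : H ≤ Subgroup.normalizer (B : Set G) := fun x hx => mem_normalizer_of_conj (hNB x (hHN hx))
    set D := ⁅B, H⁆ with hD
    have hDB : D ≤ B := commutator_le_left_of_le_normalizer hHB
    have hsc : (Nat.card H).Coprime (Nat.card B) := by
      obtain ⟨i, hi⟩ := (T.2.to_le hBT).exists_card_eq
      rw [hHc, hi]
      exact ((Nat.coprime_primes hs hq).2 hsq).pow_right i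
    haveI : Group.IsSolvable B := haveI := (T.2.to_le hBT).isNilpotent; inferInstance
    have hsup : D ⊔ (B ⊓ Subgroup.centralizer (H : Set G)) = B :=
      commutator_sup_centralizer hHB hsc (Or.inr inferInstance)
    have hfpf : D ⊓ Subgroup.centralizer (H : Set G) = ⊥ := by
      rw [eq_bot_iff, ← centralizer_inf_commutator_eq_bot hHB hsc]
      exact le_inf (le_inf (inf_le_left.trans hDB) inf_le_right) inf_le_left
    have hgD : g ∈ Subgroup.normalizer (D : Set G) :=
      le_normalizer_commutator (A := Subgroup.zpowers g) (Subgroup.zpowers_le.2 (mem_normalizer_of_conj (hNB g hg)))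
        (Subgroup.zpowers_le.2 <| Subgroup.centralizer_le_normalizer _ fun x hx => by
          obtain ⟨i, rfl⟩ := Subgroup.mem_zpowers_iff.1 (hhg hx)
          exact ((Commute.refl g).zpow_left i).eq) (Subgroup.mem_zpowers g)
    have hTH : ∀ t : ℕ, t.Prime → t ∣ Nat.card ↥((T : Subgroup G) ⊔ H) → t = q ∨ t ∉ Cfsg.sigma L := by
      intro t ht hd
      by_contra hn
      push Not at hn
      refine ht.coprime_iff_not_dvd.1 ?_ hd
      refine (CfsgLib.PPrimeAbelian.coprime_card_sup hHN ?_ ?_).symm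
      · obtain ⟨i, hi⟩ := T.2.exists_card_eq
        exact hi ▸ ((Nat.coprime_primes hq ht).2 (Ne.symm hn.1)).pow_left i
      · exact hHc.symm ▸ (Nat.coprime_primes hs ht).2 fun e => hsσ (e ▸ hn.2)
    obtain ⟨S', hPS', hS'K, hJS'⟩ := exists_invariant_sylow_of_sigma hG hL hpσ (K := K)
      (A := (T : Subgroup G) ⊔ H) (X := P)
      (sigmaPrimeCore_le L) (fun U' h1 h2 => le_sigmaPrimeCore hG hL hq hqβ hpσ hqp.symm h1 h2)
      ((sup_le hTL (hHN.trans hNL)).trans (le_normalizer_sigmaPrimeCore L)) (coprime_sigmaPrimeCore hq L hTH)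
      hPK (isPGroup_line hp hP) ((sup_le hTP hHP).trans (Subgroup.centralizer_le_normalizer _))
    have hDp : (Nat.card D).Coprime p := by
      obtain ⟨i, hi⟩ := (T.2.to_le (hDB.trans hBT)).exists_card_eq
      exact hi ▸ ((Nat.coprime_primes hq hp).2 hqp).pow_left i
    have hHD : H ≤ Subgroup.normalizer (D : Set G) := le_normalizer_commutator hHB Subgroup.le_normalizer
    have hDS' : D ≤ Subgroup.centralizer ((S' : Subgroup G) : Set G) :=
      centralizes_invariant hG hL hpβ hP S'.2 (hS'K.trans (sigmaPrimeCore_le L)) hPS' hs hHc (hHN.trans hNL)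
        hsσ hsr hHP hDp hHD hfpf ((hDB.trans hBT).trans (le_sup_left.trans hJS')) (le_sup_right.trans hJS')
        ((hDB.trans hBT).trans hTP)
    haveI : Group.IsSolvable (T : Subgroup G) := haveI := T.2.isNilpotent; inferInstance
    obtain ⟨c, hcT, hce⟩ := invariant_sylow_conj (hTL.trans (le_normalizer_sigmaPrimeCore L)) hcopT
      (Or.inl inferInstance) (S'.subtype hS'K) (S.subtype hSK)
      (by rw [Sylow.coe_subtype, Subgroup.map_subgroupOf_eq_of_le hS'K]; exact le_sup_left.trans hJS')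
      (by rw [Sylow.coe_subtype, Subgroup.map_subgroupOf_eq_of_le hSK]; exact hTS)
    have hSc : (S : Subgroup G) = MulAut.conj (c : G) • (S' : Subgroup G) := by
      have h1 := map_subtype_conj_smul_sylow c (S'.subtype hS'K)
      rw [hce, Sylow.coe_subtype, Subgroup.map_subgroupOf_eq_of_le hSK, Sylow.coe_subtype,
        Subgroup.map_subgroupOf_eq_of_le hS'K] at h1
      exact h1
    have hDW : D ≤ W := le_inf hDB fun d hd y hy => by
      rw [SetLike.mem_coe, hSc, mem_conj_smul_iff] at hy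
      have h1 : ((c : G)⁻¹ * y * c) * d = d * ((c : G)⁻¹ * y * c) := hDS' hd _ hy
      have h2 : (c : G) * d * (c : G)⁻¹ = d := mul_inv_eq_iff_eq_mul.2 (hcT d (hBT (hDB hd))).symm
      calc y * d = (c : G) * (((c : G)⁻¹ * y * c) * d) * (c : G)⁻¹ := by
            nth_rewrite 1 [← h2]; group
        _ = (c : G) * (d * ((c : G)⁻¹ * y * c)) * (c : G)⁻¹ := by rw [h1]
        _ = ((c : G) * d * (c : G)⁻¹) * y := by group
        _ = d * y := by rw [h2]
    refine ⟨hg, fun b hb => ?_⟩
    rw [← hsup, ← SetLike.mem_coe, Subgroup.coe_mul_of_right_le_normalizer_left D _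
      ((inf_le_left.trans fun x hx => Subgroup.centralizer_le_normalizer _
        fun y hy => hab y (hBT (hDB hy)) x (hBT hx)))] at hb
    obtain ⟨d, hd, c', ⟨hc'B, hc'H⟩, rfl⟩ := hb
    have hgc : g * c' = c' * g :=
      hprime ⟨le_sigmaCore_of_isPGroup hG hL hq hqL hTL T.2 (hBT hc'B), hc'H⟩ g (hgSS (Subgroup.mem_zpowers g))
    refine hDW ?_
    show g * (d * c') * g⁻¹ * (d * c')⁻¹ ∈ D
    rw [show g * (d * c') * g⁻¹ * (d * c')⁻¹ = g * d * g⁻¹ * (g * c' * g⁻¹ * c'⁻¹) * d⁻¹ by group,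
      show g * c' * g⁻¹ * c'⁻¹ = 1 by rw [hgc, mul_inv_cancel_right, mul_inv_cancel], mul_one]
    exact D.mul_mem (conj_mem_of_le_normalizer hgD d hd) (D.inv_mem hd)
  have hall : N ≤ N₁ := by
    intro n hn
    have hPC : P ≤ Subgroup.centralizer ((T : Subgroup G) : Set G) := hPT
    set C := Subgroup.centralizer ((T : Subgroup G) : Set G) with hC
    have hCN : C ≤ N := Subgroup.centralizer_le_normalizer _
    have hnP : MulAut.conj n • P ≤ C := fun x hx t ht => by
      rw [mem_conj_smul_iff] at hx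
      have ht' : n⁻¹ * t * n ∈ (T : Subgroup G) := by simpa using conj_mem_of_le_normalizer (inv_mem hn) t ht
      calc t * x = n * ((n⁻¹ * t * n) * (n⁻¹ * x * n)) * n⁻¹ := by group
        _ = n * ((n⁻¹ * x * n) * (n⁻¹ * t * n)) * n⁻¹ := by rw [hPC hx _ ht']
        _ = _ := by group
    obtain ⟨c, hc, hce⟩ := line_conj hG hp (prankLE_mono (hCN.trans hNM) hr) hPC hP hnP
      (by rw [card_conj_smul, hP])
    rw [← mul_smul, ← map_mul] at hce
    have hcn : c * n ∈ Subgroup.centralizer (P : Set G) := fun x hx => by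
      have hm : c * n ∈ Subgroup.normalizer (P : Set G) := mem_normalizer_iff_conj_smul.2 hce
      have h2 : ⁅c * n, x⁆ ∈ P ⊓ ⁅M, M⁆ :=
        ⟨by rw [commutatorElement_def]; exact P.mul_mem (conj_mem_of_le_normalizer hm x hx) (P.inv_mem hx),
          Subgroup.commutator_mem_commutator (hNM (mul_mem (hCN hc) hn)) (hPM hx)⟩
      rw [eq_bot_of_disjoint (π := {p}) (ρ := {r | r ≠ p})
        (((isPi_singleton_iff hp).2 (isPGroup_line hp hP)).mono inf_le_left)
        (fun r hr hd e => hM' (e ▸ hd.trans (Subgroup.card_dvd_of_le inf_le_right)))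
        (Set.disjoint_singleton_left.2 fun h => h rfl), Subgroup.mem_bot] at h2
      exact (commutatorElement_eq_one_iff_mul_comm.1 h2).symm
    have h1 : c * n ∈ N₁ := mem_of_primary fun s hs _ y hy hyk => by
      obtain ⟨i, rfl⟩ := Subgroup.mem_zpowers_iff.1 hy
      exact key s hs _ (N.zpow_mem (mul_mem (hCN hc) hn) i) ((Subgroup.centralizer _).zpow_mem hcn i) hyk
    have h2 := N₁.mul_mem (N₁.inv_mem (hTN₁ c (hCN hc) hc)) h1
    rwa [inv_mul_cancel_left] at h2
  obtain ⟨H, hHN, hHc, hHbot⟩ := exists_compl_commutator hG T hab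
  have hHB : H ≤ Subgroup.normalizer (B : Set G) := fun x hx => mem_normalizer_of_conj (hNB x (hHN hx))
  haveI : Group.IsSolvable B := haveI := (T.2.to_le hBT).isNilpotent; inferInstance
  have hsup := commutator_sup_centralizer hHB (CfsgLib.PSolvable.coprime_card_of_isPGroup (T.2.to_le hBT) hHc).symm
    (Or.inr inferInstance)
  rw [show B ⊓ Subgroup.centralizer (H : Set G) = ⊥ from
    eq_bot_iff.2 (hHbot ▸ inf_le_inf_right _ hBT), sup_bot_eq] at hsup
  refine hWB (hsup.ge.trans (Subgroup.commutator_le.2 fun b hb h hh => ?_))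
  have h1 := W.inv_mem ((hall (hHN hh)).2 b hb)
  rwa [show (h * b * h⁻¹ * b⁻¹)⁻¹ = ⁅b, h⁆ by rw [commutatorElement_def]; group] at h1

end CfsgLib.OddLocal
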