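import Cfsg.Agent.Lib.OddLocal.TauOneLines
import Cfsg.Agent.Lib.OddLocal.TauTwoNonabelian
import Cfsg.Agent.Lib.OddLocal.FrobeniusType

/-!
Helpers for BG 13.4: primes of rank two and invariant Sylow subgroups.
-/

set_option autoImplicit false
set_option linter.style.haveILetI false
set_option linter.unusedSectionVars false

open scoped commutatorElement
open scoped Pointwise

namespace CfsgLib.OddLocal

open CfsgLib.Coprime
open CfsgLib.BG.FixedLine (conj_mem_of_le_normalizer mem_normalizer_of_conj)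

universe u

variable {G : Type u} [Group G] [Finite G] {p q : ℕ} {M L : Subgroup G}

theorem exists_exc_mem (hG : Cfsg.IsMinSimpleOddOrder G) (hL : IsCoatom L) (hq : q ∈ Cfsg.tau2 L) {z : G}
    (hz : z ∈ L) (hzq : z ^ q = 1) : ∃ B B₀ : Subgroup G, Exc q L B B₀ ∧ z ∈ B := by
  haveI := Fact.mk hq.1
  obtain ⟨F, hF⟩ := exists_compl hG hL
  obtain ⟨B₁, C₁, hB₁F, h₁⟩ := exists_elem_compl hG hL hF hq
  have hZ : IsPGroup q (Subgroup.zpowers z) := isPGroup_zpowers (k := 1) (by rw [pow_one, hzq])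
  obtain ⟨S, hS⟩ := (hZ.comap_of_injective L.subtype L.subtype_injective :
    IsPGroup q ((Subgroup.zpowers z).subgroupOf L)).exists_le_sylow
  have hzS : z ∈ (S : Subgroup L).map L.subtype := ⟨⟨z, hz⟩, hS (Subgroup.mem_zpowers z), rfl⟩
  obtain ⟨B, B₀, hBS, h⟩ := h₁.exists_in_sylow S
  exact ⟨B, B₀, h, h.maxElem.mem_of_commutes (fun b hb => sylow_comm_of_not_sigma hG hL hq.1 hq.2.1
    (Subgroup.map_subtype_le _) (S.2.map L.subtype) b (hBS hb) z hzS) hzq⟩

/-- An element of `F'` centralizes a normal elementary `A` of coprime order, as `F'` is abelian. -/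
theorem exists_elem_centralized (hG : Cfsg.IsMinSimpleOddOrder G) (hL : IsCoatom L) (hq : q ∈ Cfsg.tau2 L)
    {s : ℕ} (hs : s.Prime) (hsq : s ≠ q) (hsσ : s ∉ Cfsg.sigma L) (hsr : Cfsg.PRankLE s 1 L)
    (hsd : s ∣ Nat.card ↥⁅L, L⁆) {x : G} (hx : x ∈ L) (hxs : orderOf x = s) :
    ∃ B : Subgroup G, MaxElem q B ∧ B ≤ L ∧ x ∈ Subgroup.centralizer (B : Set G) := by
  haveI := Fact.mk hs
  obtain ⟨F, hF⟩ := exists_compl hG hL
  obtain ⟨B, B₀, hBF, h⟩ := exists_elem_compl hG hL hF hq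
  have hxp : IsPGroup s (Subgroup.zpowers x) := isPGroup_zpowers (k := 1) (by rw [pow_one, ← hxs, pow_orderOf_eq_one])
  obtain ⟨m, hm, hmF⟩ := exists_conj_le_compl hG hL hF (Subgroup.zpowers_le.2 hx) fun r hr hd =>
    ((isPi_singleton_iff hs).2 hxp r hr hd : r = s) ▸ hsσ
  have hx'F : m * x * m⁻¹ ∈ F := hmF ⟨x, Subgroup.mem_zpowers x, rfl⟩
  have hx'o : orderOf (m * x * m⁻¹) = s := by
    rw [show m * x * m⁻¹ = MulAut.conj m x from rfl, MulEquiv.orderOf_eq, hxs]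
  have hd : s ∣ Nat.card ↥⁅F, F⁆ := by
    rw [← CfsgLib.BG.map_commutator_subtype, Subgroup.card_subtype]
    exact (dvd_commutator_compl hG hL hF hs hsσ).1 hsd
  have hFn : F ≤ Subgroup.normalizer ((⁅F, F⁆ : Subgroup G) : Set G) :=
    le_normalizer_commutator Subgroup.le_normalizer Subgroup.le_normalizer
  have hx'D : m * x * m⁻¹ ∈ ⁅F, F⁆ := le_of_normal_line hG hs (prankLE_compl hF hsr)
    (Subgroup.commutator_le_self F) hFn hd (Subgroup.zpowers_le.2 hx'F) (by rw [Nat.card_zpowers, hx'o])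
    (Subgroup.mem_zpowers _)
  haveI := (Cfsg.Agent.S1420.result hG L hL F hF).2.1
  have hFB := h.compl_le_normalizer hF hBF
  have hcent : ∀ a ∈ B, a * (m * x * m⁻¹) = (m * x * m⁻¹) * a := by
    intro a ha
    set y := m * x * m⁻¹ with hy
    set c := ⁅a, y⁆ with hc
    have hcD : c ∈ ⁅F, F⁆ := Subgroup.commutator_mem_commutator (hBF ha) hx'F
    have hcB : c ∈ B := by
      rw [hc, commutatorElement_def, show a * y * a⁻¹ * y⁻¹ = a * (y * a⁻¹ * y⁻¹) by group]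
      exact mul_mem ha (conj_mem_of_le_normalizer (hFB hx'F) _ (inv_mem ha))
    have hcy : Commute c y := congrArg Subtype.val (mul_comm' (⟨c, hcD⟩ : ↥⁅F, F⁆) ⟨y, hx'D⟩)
    have he : a * y * a⁻¹ = c * y := by rw [hc, commutatorElement_def]; group
    have hcs : c ^ s = 1 := by
      have h1 : (c * y) ^ s = 1 := by
        rw [← he, conj_pow, ← hx'o, pow_orderOf_eq_one, mul_one, mul_inv_cancel]
      rwa [hcy.mul_pow, ← hx'o, pow_orderOf_eq_one, mul_one, hx'o] at h1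
    have hc1 : c = 1 := orderOf_eq_one_iff.1 (Nat.eq_one_of_dvd_coprimes ((Nat.coprime_primes hs hq.1).2 hsq)
      (orderOf_dvd_of_pow_eq_one hcs) (orderOf_dvd_of_pow_eq_one (h.hAe.2 c hcB)))
    exact commutatorElement_eq_one_iff_mul_comm.1 hc1
  refine ⟨MulAut.conj m⁻¹ • B, h.maxElem.conj _, (Subgroup.map_mono h.hAM).trans (smul_eq_self (inv_mem hm)).le,
    fun b hb => ?_⟩
  rw [SetLike.mem_coe, mem_conj_smul_iff, inv_inv] at hb
  have h1 := hcent _ hb
  calc b * x = m⁻¹ * ((m * b * m⁻¹) * (m * x * m⁻¹)) * m := by group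
    _ = m⁻¹ * ((m * x * m⁻¹) * (m * b * m⁻¹)) * m := by rw [h1]
    _ = _ := by group

/-- `τ₂(L)` meets `σ(M)` in no prime next to a `τ₂(L)`-prime of `p`-rank one in `M`. -/
theorem tau2_tau2_false (hG : Cfsg.IsMinSimpleOddOrder G) (hL : IsCoatom L) (hp : p ∈ Cfsg.tau2 L)
    (hq : q ∈ Cfsg.tau2 L) (hqp : q ≠ p) (hr : Cfsg.PRankLE p 1 M) (hqM : q ∈ Cfsg.sigma M) : False := by
  haveI := Fact.mk hp.1
  haveI := Fact.mk hq.1
  obtain ⟨F, hF⟩ := exists_compl hG hL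
  obtain ⟨A, A₀, hAF, hA⟩ := exists_elem_compl hG hL hF hp
  obtain ⟨B, B₀, hBF, hB⟩ := exists_elem_compl hG hL hF hq
  by_cases hab : ∀ S : Sylow q G, IsMulCommutative (S : Subgroup G)
  · obtain ⟨S, -, hSF, -, -, -⟩ := hB.sylow_normal_compl hF hBF hq hab
    exact not_normalizes_sylow hG hr hqM hA.maxElem S ((Subgroup.le_centralizer_iff.1
      (hA.sylow_centralizes hF hAF hq hp hqp S.2 hSF)).trans (Subgroup.centralizer_le_normalizer _))
  · push Not at hab
    obtain ⟨S, hS⟩ := hab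
    have hall : ∀ T : Sylow q G, ¬ IsMulCommutative (T : Subgroup G) := fun T hT => hS (by
      haveI := hT
      refine ⟨⟨fun a b => (Sylow.equiv S T).injective ?_⟩⟩
      rw [map_mul, map_mul]
      exact mul_comm' _ _)
    exact hqp (hB.tau2_eq hall hF hBF hp).symm

/-- The key exclusion of `τ₂`. -/
theorem not_tau2_of_centralizer_le (hG : Cfsg.IsMinSimpleOddOrder G) (hM : IsCoatom M) (hL : IsCoatom L)
    (hne : L ≠ M) (hqM : q ∈ Cfsg.sigma M) (hr : Cfsg.PRankLE p 1 M) (hp : p.Prime) (hqp : q ≠ p)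
    {P : Subgroup G} (hPM : P ≤ M) (hPL : P ≤ L) (hP : Nat.card P = p)
    (hp2 : p ∈ Cfsg.sigma L ∨ p ∈ Cfsg.tau2 L) {z : G} (hzM : z ∈ M) (hzo : orderOf z = q)
    (hz : Subgroup.centralizer ({z} : Set G) ≤ L) : q ∉ Cfsg.tau2 L := by
  intro hq
  rcases hp2 with hpσ | hpτ
  swap
  · exact tau2_tau2_false hG hL hpτ hq hqp hr hqM
  haveI := Fact.mk hq.1
  have hZ : IsPGroup q (Subgroup.zpowers z) :=
    isPGroup_zpowers (k := 1) (by rw [pow_one, ← hzo, pow_orderOf_eq_one])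
  obtain ⟨T, hzT, hTM⟩ := exists_sylow_ge_sigma hqM (Subgroup.zpowers_le.2 hzM) hZ
  have hzT' : z ∈ (T : Subgroup G) := hzT (Subgroup.mem_zpowers z)
  set W := (T : Subgroup G) ⊓ Subgroup.centralizer ({z} : Set G) with hW
  by_cases hWc : IsCyclic W
  · have hT1 : (T : Subgroup G) ≠ ⊥ := fun e => by
      rw [e, Subgroup.mem_bot] at hzT'
      exact hq.1.ne_one (by rw [← hzo, hzT', orderOf_one])
    obtain ⟨z₀, hz₀T, hz₀C, hz₀o⟩ := exists_central_order hq.1 T.2 hT1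
    have hz₀W : z₀ ∈ W := ⟨hz₀T, Subgroup.mem_centralizer_singleton_iff.2 (hz₀C z hzT').symm⟩
    have hzz : z ∈ Subgroup.zpowers z₀ := mem_line_of_cyclic hq.1 hWc (Subgroup.zpowers_le.2 hz₀W)
      (by rw [Nat.card_zpowers, hz₀o]) ⟨hzT', Subgroup.mem_centralizer_singleton_iff.2 rfl⟩
      (by rw [← hzo, pow_orderOf_eq_one])
    have hTC : (T : Subgroup G) ≤ Subgroup.centralizer ({z} : Set G) := fun t ht => by
      obtain ⟨i, rfl⟩ := Subgroup.mem_zpowers_iff.1 hzz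
      exact Subgroup.mem_centralizer_singleton_iff.2
        ((show Commute t z₀ from hz₀C t ht).zpow_right i).eq
    have hTc : IsCyclic (T : Subgroup G) := by rwa [hW, inf_eq_left.2 hTC] at hWc
    obtain ⟨B, B₀, hB, -⟩ := exists_exc_mem hG hL hq (one_mem L) (one_pow q)
    exact hB.maxElem.not_isCyclic (isCyclic_of_sylow T hTc hB.maxElem.isPGroup)
  · obtain ⟨B, hBW, hBe, hB2⟩ := exists_elem_sq hG hq.1 (T.2.to_le inf_le_left) hWc
    obtain ⟨B₀, hB⟩ := exists_exc hG hL hq.1 hq.2.1 (hBW.trans (inf_le_right.trans hz)) hBe hB2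
    have h1 := hB.inf_eq_bot hM hne.symm (hBW.trans (inf_le_left.trans hTM))
    exact line_ne_bot hp hP (le_bot_iff.1
      (h1 ▸ le_inf (le_sigmaCore_of_isPGroup hG hL hp hpσ hPL (isPGroup_line hp hP)) hPM))

/-- An invariant Sylow subgroup of `G` inside a subgroup containing the `q`-subgroups of `L`. -/
theorem exists_invariant_sylow_of_sigma (hG : Cfsg.IsMinSimpleOddOrder G) (hL : IsCoatom L) [Fact q.Prime]
    (hqσ : q ∈ Cfsg.sigma L) {A K X : Subgroup G} (hKL : K ≤ L)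
    (hK : ∀ U : Subgroup G, U ≤ L → IsPGroup q U → U ≤ K)
    (hAK : A ≤ Subgroup.normalizer (K : Set G)) (hcop : (Nat.card A).Coprime (Nat.card K))
    (hXK : X ≤ K) (hX : IsPGroup q X) (hAX : A ≤ Subgroup.normalizer (X : Set G)) :
    ∃ T : Sylow q G, X ≤ (T : Subgroup G) ∧ (T : Subgroup G) ≤ K ∧
      A ≤ Subgroup.normalizer ((T : Subgroup G) : Set G) := by
  haveI : Group.IsSolvable L := isSolvable_of_ne_top hG hL.1
  obtain ⟨S, hXS, hS⟩ := exists_invariant_sylow_ge (p := q) hAK hcop (Or.inr (isSolvable_of_le hKL inferInstance)) hXK hX hAX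
  obtain ⟨T, hST, hTL⟩ := exists_sylow_ge_sigma hqσ ((Subgroup.map_subtype_le _).trans hKL) (S.2.map K.subtype)
  have hTK := hK _ hTL T.2
  have heq : (T : Subgroup G) = (S : Subgroup K).map K.subtype := by
    refine le_antisymm ?_ hST
    have h1 : (S : Subgroup K) ≤ (T : Subgroup G).subgroupOf K := fun y hy => hST ⟨y, hy, rfl⟩
    have h2 := S.3 (T.2.comap_of_injective K.subtype K.subtype_injective) h1
    exact fun y hy => ⟨⟨y, hTK hy⟩, h2 ▸ hy, rfl⟩
  exact ⟨T, heq ▸ hXS, hTK, heq ▸ hS⟩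

/-- `q`-subgroups of `L` lie in `O_{p'}(L)` for `q ∈ σ(L)` and `p ∉ β(L)`. -/
theorem le_pPrimeCore_of_sigma (hG : Cfsg.IsMinSimpleOddOrder G) (hL : IsCoatom L) (hp : p.Prime)
    (hpβ : p ∉ Cfsg.beta L) (hqσ : q ∈ Cfsg.sigma L) (hqp : q ≠ p) {U : Subgroup G} (hUL : U ≤ L)
    (hU : IsPGroup q U) : U ≤ (Cfsg.pPrimeCore p L).map L.subtype := by
  haveI := Fact.mk hp
  haveI := CfsgLib.Transfer.pPrimeCore_normal p ↥L
  rw [← Subgroup.map_subgroupOf_eq_of_le hUL]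
  refine Subgroup.map_mono (le_of_coprime_index (Nat.coprime_of_dvd fun r hr h1 h2 => ?_))
  rw [Nat.card_congr (Subgroup.subgroupOfEquivOfLe hUL).toEquiv] at h1
  exact not_dvd_index_pPrimeCore hG hL hp hpβ hqσ.1 hqσ hqp
    (((isPi_singleton_iff hqσ.1).2 hU r hr h1 : r = q) ▸ h2)

/-- A `p`-subgroup of `L'` centralizes a Sylow `q`-subgroup of `G`. -/
theorem exists_sylow_centralized (hG : Cfsg.IsMinSimpleOddOrder G) (hL : IsCoatom L) [Fact q.Prime] (hp : p.Prime)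
    (hpβ : p ∉ Cfsg.beta L) (hqσ : q ∈ Cfsg.sigma L) (hqβ : q ∉ Cfsg.beta L) (hqp : q ≠ p) {P X : Subgroup G}
    (hP : IsPGroup p P) (hPL : P ≤ ⁅L, L⁆) (hXL : X ≤ L) (hX : IsPGroup q X)
    (hPX : P ≤ Subgroup.centralizer (X : Set G)) :
    ∃ T : Sylow q G, X ≤ (T : Subgroup G) ∧ (T : Subgroup G) ≤ L ∧
      P ≤ Subgroup.centralizer ((T : Subgroup G) : Set G) := by
  haveI := Fact.mk hp
  set K := (Cfsg.pPrimeCore p L).map L.subtype with hK
  have hPL' : P ≤ L := hPL.trans (Subgroup.commutator_le_self L)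
  obtain ⟨T, hXT, hTK, hT⟩ := exists_invariant_sylow_of_sigma hG hL hqσ (K := K) (Subgroup.map_subtype_le _)
    (fun U hUL hU => le_pPrimeCore_of_sigma hG hL hp hpβ hqσ hqp hUL hU)
    (hPL'.trans (CfsgLib.PSolvable.le_normalizer_map_of_characteristic Subgroup.le_normalizer _))
    (CfsgLib.PSolvable.coprime_card_of_isPGroup hP (by
      rw [hK, Subgroup.card_subtype]
      exact CfsgLib.Transfer.pPrimeCore_coprime p))
    (le_pPrimeCore_of_sigma hG hL hp hpβ hqσ hqp hXL hX) hX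
    (hPX.trans (Subgroup.centralizer_le_normalizer _))
  exact ⟨T, hXT, hTK.trans (Subgroup.map_subtype_le _),
    centralizes_of_le_derived hG hL hp Fact.out hqp hqβ hP hPL T.2 (hTK.trans (Subgroup.map_subtype_le _)) hT⟩

end CfsgLib.OddLocal
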