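import Cfsg.Agent.Lib.OddLocal.TauOneExc
import Cfsg.Agent.Lib.OddLocal.FpfCentralizes
import Cfsg.Agent.Lib.Spectrum.ThreePrimes

/-!
The contradiction in BG 13.4 from a fixed-point-free element acting on a `q`-group next to a prime of `σ(L)`.
-/

set_option autoImplicit false
set_option linter.style.haveILetI false
set_option linter.unusedSectionVars false

open scoped commutatorElement
open scoped Pointwise

namespace CfsgLib.OddLocal

open CfsgLib.Coprime
open CfsgLib.BG.FixedLine (conj_mem_of_le_normalizer mem_normalizer_of_conj)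

universe u

variable {G : Type u} [Group G] [Finite G] {p q : ℕ} {M L : Subgroup G}

theorem not_normalizer_le_centralizer (hG : Cfsg.IsMinSimpleOddOrder G) [Fact p.Prime] (T : Sylow p G)
    (hT : (T : Subgroup G) ≠ ⊥) :
    ¬ Subgroup.normalizer ((T : Subgroup G) : Set G) ≤ Subgroup.centralizer ((T : Subgroup G) : Set G) := by
  intro hle
  haveI := hG.2.1
  have hc := MonoidHom.ker_transferSylow_isComplement' T hle
  rcases ((inferInstance : (MonoidHom.transferSylow T hle).ker.Normal)).eq_bot_or_eq_top with h | h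
  · rw [h] at hc
    exact sylow_ne_top hG T (Subgroup.isComplement'_bot_left.1 hc)
  · rw [h] at hc
    exact hT (Subgroup.isComplement'_top_left.1 hc)

/-- Inside `L`: the `σ`-part of `O_{q'}`. -/
def sigmaPrimeCore (q : ℕ) (L : Subgroup G) : Subgroup G :=
  (Cfsg.pPrimeCore q L).map L.subtype ⊓ Cfsg.sigmaCore L

theorem sigmaPrimeCore_le (L : Subgroup G) : sigmaPrimeCore q L ≤ L :=
  inf_le_left.trans (Subgroup.map_subtype_le _)

theorem le_normalizer_sigmaPrimeCore (L : Subgroup G) :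
    L ≤ Subgroup.normalizer (sigmaPrimeCore q L : Set G) :=
  le_normalizer_inf_of_le (CfsgLib.PSolvable.le_normalizer_map_of_characteristic Subgroup.le_normalizer _)
    (le_normalizer_piCoreOf _ L)

theorem le_sigmaPrimeCore (hG : Cfsg.IsMinSimpleOddOrder G) (hL : IsCoatom L) (hq : q.Prime)
    (hqβ : q ∉ Cfsg.beta L) (hpσ : p ∈ Cfsg.sigma L) (hpq : p ≠ q) {U : Subgroup G} (hUL : U ≤ L)
    (hU : IsPGroup p U) : U ≤ sigmaPrimeCore q L :=
  le_inf (le_pPrimeCore_of_sigma hG hL hq hqβ hpσ hpq hUL hU) (le_sigmaCore_of_isPGroup hG hL hpσ.1 hpσ hUL hU)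

theorem coprime_sigmaPrimeCore (hq : q.Prime) (L : Subgroup G) {A : Subgroup G}
    (hA : ∀ r : ℕ, r.Prime → r ∣ Nat.card A → r = q ∨ r ∉ Cfsg.sigma L) :
    (Nat.card A).Coprime (Nat.card ↥(sigmaPrimeCore q L)) := by
  haveI := Fact.mk hq
  refine Nat.coprime_of_dvd fun r hr h1 h2 => ?_
  rcases hA r hr h1 with rfl | h
  · have h3 := h2.trans (Subgroup.card_dvd_of_le
      (inf_le_left : sigmaPrimeCore r L ≤ (Cfsg.pPrimeCore r L).map L.subtype))
    rw [Subgroup.card_subtype] at h3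
    exact (hr.coprime_iff_not_dvd.1 (CfsgLib.Transfer.pPrimeCore_coprime r).symm) h3
  · exact h (isPi_piCoreOf _ L r hr (h2.trans (Subgroup.card_dvd_of_le inf_le_right)))

/-- If `p ∉ β(L)`, the Sylow subgroup of `G` at `p` is centralized by `Y`, hence too small. -/
theorem beta_of_sylow (hG : Cfsg.IsMinSimpleOddOrder G) (hL : IsCoatom L) (hpσ : p ∈ Cfsg.sigma L)
    (hpβ : p ∉ Cfsg.beta L) (hq : q.Prime) (hqp : q ≠ p) (hqβ : q ∉ Cfsg.beta L) {U P Y : Subgroup G}
    (hU : ¬ p ∣ Nat.card ↥⁅U, U⁆) (hPL : P ≤ L) (hP : Nat.card P = p) (hY : IsPGroup q Y) (hYL : Y ≤ ⁅L, L⁆)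
    (hPY : P ≤ Subgroup.centralizer (Y : Set G))
    (hN : ∀ Q : Subgroup G, IsPGroup q Q → Y ≤ Q → P ≤ Subgroup.centralizer (Q : Set G) →
      Subgroup.normalizer (Q : Set G) ≤ U) : False := by
  classical
  have hp : p.Prime := hpσ.1
  haveI := Fact.mk hp
  haveI := Fact.mk hq
  have hYL' : Y ≤ L := hYL.trans (Subgroup.commutator_le_self L)
  set K := sigmaPrimeCore q L with hK
  obtain ⟨S, hPS, hSK, hYS⟩ := exists_invariant_sylow_of_sigma hG hL hpσ (K := K) (A := Y) (X := P)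
    (sigmaPrimeCore_le L) (fun U' h1 h2 => le_sigmaPrimeCore hG hL hq hqβ hpσ hqp.symm h1 h2)
    (hYL'.trans (le_normalizer_sigmaPrimeCore L))
    (coprime_sigmaPrimeCore hq L fun r hr hd => Or.inl ((isPi_singleton_iff hq).2 hY r hr hd))
    (le_sigmaPrimeCore hG hL hq hqβ hpσ hqp.symm hPL (isPGroup_line hp hP)) (isPGroup_line hp hP)
    ((Subgroup.le_centralizer_iff.1 hPY).trans (Subgroup.centralizer_le_normalizer _))
  have hSY : Y ≤ Subgroup.centralizer ((S : Subgroup G) : Set G) :=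
    centralizes_of_le_derived hG hL hq hp hqp.symm hpβ hY hYL S.2 (hSK.trans (sigmaPrimeCore_le L)) hYS
  have hSU : (S : Subgroup G) ≤ U := ((Subgroup.le_centralizer_iff.1 hSY).trans
    (Subgroup.centralizer_le_normalizer _)).trans (hN Y hY le_rfl hPY)
  have hS1 : (S : Subgroup G) ≠ ⊥ := fun e => line_ne_bot hp hP (le_bot_iff.1 (e ▸ hPS))
  refine not_normalizer_le_centralizer hG S hS1 fun n hn => ?_
  set C := Subgroup.centralizer ((S : Subgroup G) : Set G) with hC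
  obtain ⟨Q, hQ⟩ := (hY.comap_of_injective C.subtype C.subtype_injective :
    IsPGroup q (Y.subgroupOf C)).exists_le_sylow
  set Q' := (Q : Subgroup C).map C.subtype with hQ'
  have hYQ : Y ≤ Q' := (Subgroup.map_subgroupOf_eq_of_le hSY).ge.trans (Subgroup.map_mono hQ)
  have hQC : Q' ≤ C := Subgroup.map_subtype_le _
  have hPQ : P ≤ Subgroup.centralizer (Q' : Set G) := hPS.trans (Subgroup.le_centralizer_iff.1 hQC)
  have hNQ := hN Q' (Q.2.map _) hYQ hPQ
  have hnC : MulAut.conj n • C = C := conj_smul_eq_self_of_mem_normalizer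
    (mem_normalizer_of_conj fun c hc s hs => by
      have hs' : n⁻¹ * s * n ∈ (S : Subgroup G) := by
        simpa using conj_mem_of_le_normalizer (inv_mem hn) s hs
      calc s * (n * c * n⁻¹) = n * ((n⁻¹ * s * n) * c) * n⁻¹ := by group
        _ = n * (c * (n⁻¹ * s * n)) * n⁻¹ := by rw [hc _ hs']
        _ = _ := by group)
  have hQn : MulAut.conj n • Q' ≤ C := (Subgroup.map_mono hQC).trans hnC.le
  have hcard : Nat.card ((MulAut.conj n • Q').subgroupOf C) = q ^ (Nat.card C).factorization q := by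
    rw [Nat.card_congr (Subgroup.subgroupOfEquivOfLe hQn).toEquiv, card_conj_smul, hQ', Subgroup.card_subtype,
      Q.card_eq_multiplicity]
  obtain ⟨c, hc⟩ := MulAction.exists_smul_eq C Q (Sylow.ofCard _ hcard)
  have he : MulAut.conj (c : G) • Q' = MulAut.conj n • Q' := by
    rw [hQ', ← map_subtype_conj_smul_sylow c Q, hc, Sylow.coe_ofCard, Subgroup.map_subgroupOf_eq_of_le hQn]
  have hcn : (c : G)⁻¹ * n ∈ Subgroup.normalizer (Q' : Set G) := by
    rw [mem_normalizer_iff_conj_smul, map_mul, mul_smul, ← he, ← mul_smul, ← map_mul, inv_mul_cancel, map_one,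
      one_smul]
  have hcnS : (c : G)⁻¹ * n ∈ Subgroup.normalizer ((S : Subgroup G) : Set G) :=
    mul_mem (inv_mem (Subgroup.centralizer_le_normalizer _ c.2)) hn
  have h1 : (c : G)⁻¹ * n ∈ C := fun s hs => by
    set v := (c : G)⁻¹ * n
    have hv : v ∈ U := hNQ hcn
    have h2 : ⁅v, s⁆ ∈ (S : Subgroup G) ⊓ ⁅U, U⁆ :=
      ⟨by rw [commutatorElement_def]; exact (S : Subgroup G).mul_mem (conj_mem_of_le_normalizer hcnS s hs) ((S : Subgroup G).inv_mem hs),
        Subgroup.commutator_mem_commutator hv (hSU hs)⟩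
    rw [eq_bot_of_disjoint (π := {p}) (ρ := {r | r ≠ p})
      (((isPi_singleton_iff hp).2 S.2).mono inf_le_left)
      (fun r hr hd e => hU (e ▸ hd.trans (Subgroup.card_dvd_of_le inf_le_right)))
      (Set.disjoint_singleton_left.2 fun h => h rfl), Subgroup.mem_bot] at h2
    exact (commutatorElement_eq_one_iff_mul_comm.1 h2).symm
  have h3 := C.mul_mem c.2 h1
  rwa [mul_inv_cancel_left] at h3

/-- For `p ∈ β(L)`: Frobenius groups centralizing `P` centralize invariant Sylow `p`-subgroups. -/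
theorem centralizes_invariant (hG : Cfsg.IsMinSimpleOddOrder G) (hL : IsCoatom L) (hpβ : p ∈ Cfsg.beta L)
    {P S U E : Subgroup G} (hP : Nat.card P = p) (hS : IsPGroup p S) (hSL : S ≤ L) (hPS : P ≤ S)
    {s : ℕ} (hs : s.Prime) (hE : Nat.card E = s) (hEL : E ≤ L) (hsσ : s ∉ Cfsg.sigma L)
    (hsr : Cfsg.PRankLE s 1 L) (hEP : E ≤ Subgroup.centralizer (P : Set G)) (hUc : (Nat.card U).Coprime p)
    (hEU : E ≤ Subgroup.normalizer (U : Set G)) (hfpf : U ⊓ Subgroup.centralizer (E : Set G) = ⊥)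
    (hUS : U ≤ Subgroup.normalizer (S : Set G)) (hES : E ≤ Subgroup.normalizer (S : Set G))
    (hUP : U ≤ Subgroup.centralizer (P : Set G)) : U ≤ Subgroup.centralizer (S : Set G) := by
  classical
  have hp : p.Prime := hpβ.1.1
  haveI := Fact.mk hp
  haveI := Fact.mk hs
  have hpσ : p ∈ Cfsg.sigma L := beta_subset_sigma hG hL hpβ
  have hsp : s ≠ p := fun e => hsσ (e ▸ hpσ)
  have hp2 : p ≠ 2 := two_ne_of_dvd_odd hG.1 ((hP ▸ dvd_rfl : p ∣ Nat.card P).trans P.card_subgroup_dvd_card)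
  refine centralizes_of_fpf_prime hp2 (hE ▸ hs) hEU hfpf hUc (hE ▸ hsp) hS hUS hES fun x hx hxp hxE => ?_
  suffices hc : IsCyclic ↥(S ⊓ Subgroup.centralizer (E : Set G)) by
    have hPx : x ∈ P := mem_line_of_cyclic hp hc
      (le_inf hPS (Subgroup.le_centralizer_iff.1 hEP)) hP ⟨hx, hxE⟩ hxp
    exact Subgroup.le_centralizer_iff.1 hUP hPx
  by_contra hnc
  obtain ⟨B, hB, hBe, hB2⟩ := exists_elem_sq hG hp (hS.to_le inf_le_left) hnc
  have hE1 : E ≠ ⊥ := line_ne_bot hs hE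
  obtain ⟨L₃, hL₃, hNL₃⟩ := (eq_top_or_exists_le_coatom _).resolve_left
    (normalizer_ne_top hG hE1 fun h => hL.1 (top_unique (h ▸ hEL)))
  have hBL₃ : B ≤ L₃ := hB.trans (inf_le_right.trans ((Subgroup.centralizer_le_normalizer _).trans hNL₃))
  by_cases hp3 : p ∈ Cfsg.sigma L₃
  · obtain ⟨g, hg⟩ := conj_of_alpha hG hL hL₃ hpσ hp3 (Or.inl hpβ.1)
    rcases sigma_or_tau2_of_normalizer_le hG hL₃ hs (Subgroup.le_normalizer.trans hNL₃) hE hNL₃ with h | h
    · exact hsσ (sigma_of_conj (hg ▸ h))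
    · obtain ⟨A, A₀, hA, -⟩ := exists_exc_mem hG hL₃ h (one_mem L₃) (one_pow s)
      exact not_le_conj hG hsr hA.maxElem g (hg ▸ hA.hAM)
  · obtain ⟨B₀, h⟩ := exists_exc hG hL₃ hp hp3 hBL₃ hBe hB2
    exact h.maxElem.not_beta hG L hpβ

/-- The configuration of BG 13.4 is impossible. -/
theorem frobenius_contra (hG : Cfsg.IsMinSimpleOddOrder G) (hL : IsCoatom L) (hpσ : p ∈ Cfsg.sigma L)
    (hq : q.Prime) (hqp : q ≠ p) (hqβ : q ∉ Cfsg.beta L) {U P Y R : Subgroup G} (hUr : Cfsg.PRankLE p 1 U)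
    (hU : ¬ p ∣ Nat.card ↥⁅U, U⁆) (hPL : P ≤ L) (hP : Nat.card P = p) (hY : IsPGroup q Y) (hYc : IsCyclic Y)
    (hYL : Y ≤ L) (hPY : P ≤ Subgroup.centralizer (Y : Set G))
    (hqc : ∀ Q : Subgroup G, IsPGroup q Q → P ≤ Subgroup.centralizer (Q : Set G) → IsCyclic Q)
    {r : ℕ} (hr : r.Prime) (hrq : r ≠ q) (hR : Nat.card R = r) (hRL : R ≤ L) (hrσ : r ∉ Cfsg.sigma L)
    (hrr : Cfsg.PRankLE r 1 L) (hRP : R ≤ Subgroup.centralizer (P : Set G))
    (hRY : R ≤ Subgroup.normalizer (Y : Set G)) (hne : ¬ R ≤ Subgroup.centralizer (Y : Set G))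
    (hYU : Subgroup.normalizer (Y : Set G) ≤ U) : False := by
  classical
  have hp : p.Prime := hpσ.1
  haveI := Fact.mk hp
  haveI := Fact.mk hq
  have hRc : (Nat.card R).Coprime q := hR ▸ (Nat.coprime_primes hr hq).2 hrq
  obtain ⟨hfpf, hcomm⟩ := fpf_of_cyclic hq hY hYc hRY hRc hne
  have hYL' : Y ≤ ⁅L, L⁆ := hcomm ▸ Subgroup.commutator_mono hYL hRL
  by_cases hpβ : p ∈ Cfsg.beta L
  swap
  · refine beta_of_sylow hG hL hpσ hpβ hq hqp hqβ hU hPL hP hY hYL' hPY fun Q hQ hYQ hPQ => ?_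
    haveI := hqc Q hQ hPQ
    refine le_trans (fun n hn => ?_) hYU
    exact mem_normalizer_iff_conj_smul.2 (CfsgLib.Spectrum.eq_of_card_eq_cyclic_aux
      ((Subgroup.map_mono hYQ).trans (conj_smul_eq_self_of_mem_normalizer hn).le) hYQ (card_conj_smul n Y))
  set K := sigmaPrimeCore q L with hK
  have hJ : ∀ t : ℕ, t.Prime → t ∣ Nat.card ↥(Y ⊔ R) → t = q ∨ t ∉ Cfsg.sigma L := by
    intro t ht hd
    by_contra hn
    push Not at hn
    refine ht.coprime_iff_not_dvd.1 ?_ hd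
    refine (CfsgLib.PPrimeAbelian.coprime_card_sup hRY ?_ ?_).symm
    · obtain ⟨k, hk⟩ := hY.exists_card_eq
      exact hk ▸ ((Nat.coprime_primes hq ht).2 (Ne.symm hn.1)).pow_left k
    · exact hR ▸ (Nat.coprime_primes hr ht).2 fun e => hrσ (e ▸ hn.2)
  obtain ⟨S, hPS, hSK, hJS⟩ := exists_invariant_sylow_of_sigma hG hL hpσ (K := K) (A := Y ⊔ R) (X := P)
    (sigmaPrimeCore_le L) (fun U' h1 h2 => le_sigmaPrimeCore hG hL hq hqβ hpσ hqp.symm h1 h2)
    ((sup_le hYL hRL).trans (le_normalizer_sigmaPrimeCore L)) (coprime_sigmaPrimeCore hq L hJ)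
    (le_sigmaPrimeCore hG hL hq hqβ hpσ hqp.symm hPL (isPGroup_line hp hP)) (isPGroup_line hp hP)
    ((sup_le (Subgroup.le_centralizer_iff.1 hPY) hRP).trans (Subgroup.centralizer_le_normalizer _))
  have hSL : (S : Subgroup G) ≤ L := hSK.trans (sigmaPrimeCore_le L)
  have hYc' : (Nat.card Y).Coprime p := by
    obtain ⟨k, hk⟩ := hY.exists_card_eq
    exact hk ▸ ((Nat.coprime_primes hq hp).2 hqp).pow_left k
  have hYS := centralizes_invariant hG hL hpβ hP S.2 hSL hPS hr hR hRL hrσ hrr hRP hYc' hRY hfpf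
    (le_sup_left.trans hJS) (le_sup_right.trans hJS) (Subgroup.le_centralizer_iff.1 hPY)
  have hSU : (S : Subgroup G) ≤ U := ((Subgroup.le_centralizer_iff.1 hYS).trans
    (Subgroup.centralizer_le_normalizer _)).trans hYU
  obtain ⟨D, hDL, hDe, hD3⟩ := exists_elementary hpβ.1.2
  obtain ⟨T, hDT⟩ := (isPGroup_of_elementary hDe).exists_le_sylow
  have hc : IsCyclic (S : Subgroup G) := cyclic_of_prankLE_one hG hp hUr S.2 hSU
  haveI := isCyclic_of_sylow S hc (isPGroup_of_elementary hDe)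
  refine not_isCyclic_of_exponent hDe.2 hp.pos (lt_of_lt_of_le ?_ hD3) inferInstance
  calc p = p ^ 1 := (pow_one p).symm
    _ < p ^ (2 + 1) := Nat.pow_lt_pow_right hp.one_lt (by norm_num)

end CfsgLib.OddLocal
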