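import Cfsg.Agent.Lib.OddLocal.PrimeAction

/-!
Helpers for BG 13.4: lines, cyclic Sylow subgroups, normalizers of Sylow subgroups at `σ`-primes.
-/

set_option autoImplicit false
set_option linter.style.haveILetI false
set_option linter.unusedSectionVars false

open scoped commutatorElement
open scoped Pointwise

namespace CfsgLib.OddLocal

open CfsgLib.Coprime
open CfsgLib.BG.FixedLine (conj_mem_of_le_normalizer mem_normalizer_of_conj)

universe u

variable {G : Type u} [Group G] [Finite G] {p q : ℕ} {M L : Subgroup G}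

theorem isCyclic_of_le {U V : Subgroup G} (h : U ≤ V) (hV : IsCyclic V) : IsCyclic U :=
  haveI := hV
  isCyclic_of_injective (Subgroup.inclusion h) (Subgroup.inclusion_injective h)

theorem isCyclic_of_conj {U : Subgroup G} (g : G) (h : IsCyclic (MulAut.conj g • U : Subgroup G)) : IsCyclic U :=
  haveI := h
  isCyclic_of_surjective (Subgroup.equivSMul (MulAut.conj g) U).symm.toMonoidHom (MulEquiv.surjective _)

theorem zpowers_le_centralizer {U : Subgroup G} {x : G} (hx : x ∈ Subgroup.centralizer (U : Set G)) :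
    U ≤ Subgroup.centralizer ((Subgroup.zpowers x : Subgroup G) : Set G) :=
  Subgroup.le_centralizer_iff.1 (Subgroup.zpowers_le.2 hx)

theorem pow_eq_one_of_line (hp : p.Prime) {X : Subgroup G} (hX : Nat.card X = p) {x : G} (hx : x ∈ X) :
    x ^ p = 1 := by
  have h := pow_card_eq_one' (x := (⟨x, hx⟩ : X))
  rw [hX] at h
  simpa using congrArg Subtype.val h

theorem isPGroup_line (hp : p.Prime) {X : Subgroup G} (hX : Nat.card X = p) : IsPGroup p X :=
  haveI := Fact.mk hp
  IsPGroup.of_card (n := 1) (by rw [hX, pow_one])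

theorem line_ne_bot (hp : p.Prime) {X : Subgroup G} (hX : Nat.card X = p) : X ≠ ⊥ := fun h =>
  hp.ne_one (by rw [← hX, h, Subgroup.card_bot])

theorem exists_order_of_dvd (hp : p.Prime) {N : Subgroup G} (h : p ∣ Nat.card N) : ∃ a ∈ N, orderOf a = p := by
  haveI := Fact.mk hp
  obtain ⟨a, ha⟩ := exists_prime_orderOf_dvd_card' (G := N) p h
  exact ⟨a, a.2, by rw [Subgroup.orderOf_coe, ha]⟩

/-- All lines of a group of `p`-rank one are conjugate. -/
theorem line_conj (hG : Cfsg.IsMinSimpleOddOrder G) (hp : p.Prime) {X P P' : Subgroup G}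
    (hr : Cfsg.PRankLE p 1 X) (hPX : P ≤ X) (hP : Nat.card P = p) (hP'X : P' ≤ X) (hP' : Nat.card P' = p) :
    ∃ x ∈ X, MulAut.conj x • P' = P := by
  haveI := Fact.mk hp
  obtain ⟨S, hS⟩ := ((isPGroup_line hp hP).comap_of_injective X.subtype X.subtype_injective :
    IsPGroup p (P.subgroupOf X)).exists_le_sylow
  have hPS : P ≤ (S : Subgroup X).map X.subtype :=
    (Subgroup.map_subgroupOf_eq_of_le hPX).ge.trans (Subgroup.map_mono hS)
  obtain ⟨x, hx, hxS⟩ := exists_conj_le_sylow S (isPGroup_line hp hP') hP'X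
  have hc := cyclic_of_prankLE_one hG hp hr (S.2.map X.subtype) (Subgroup.map_subtype_le _)
  refine ⟨x, hx, Subgroup.eq_of_le_of_card_ge (fun y hy => ?_) (by rw [card_conj_smul, hP, hP'])⟩
  exact mem_line_of_cyclic hp hc hPS hP (hxS hy)
    (pow_eq_one_of_line hp (by rw [card_conj_smul, hP']) hy)

/-- A normal subgroup of order divisible by `p` contains the lines, for `p`-rank one. -/
theorem le_of_normal_line (hG : Cfsg.IsMinSimpleOddOrder G) (hp : p.Prime) {X N P : Subgroup G}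
    (hr : Cfsg.PRankLE p 1 X) (hNX : N ≤ X) (hN : X ≤ Subgroup.normalizer (N : Set G)) (hd : p ∣ Nat.card N)
    (hPX : P ≤ X) (hP : Nat.card P = p) : P ≤ N := by
  obtain ⟨a, ha, hao⟩ := exists_order_of_dvd hp hd
  obtain ⟨x, hx, hxe⟩ := line_conj hG hp hr hPX hP (Subgroup.zpowers_le.2 (hNX ha))
    (by rw [Nat.card_zpowers, hao])
  rw [← hxe]
  exact (Subgroup.map_mono (Subgroup.zpowers_le.2 ha)).trans (conj_smul_eq_self_of_mem_normalizer (hN hx)).le

/-- A maximal subgroup containing the normalizer of a line. -/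
theorem sigma_or_tau2_of_normalizer_le (hG : Cfsg.IsMinSimpleOddOrder G) (hL : IsCoatom L) (hp : p.Prime)
    {P : Subgroup G} (hPL : P ≤ L) (hP : Nat.card P = p) (hN : Subgroup.normalizer (P : Set G) ≤ L) :
    p ∈ Cfsg.sigma L ∨ p ∈ Cfsg.tau2 L := by
  haveI := Fact.mk hp
  by_cases hσ : p ∈ Cfsg.sigma L
  · exact Or.inl hσ
  refine Or.inr ⟨hp, hσ, prankLE_two_of_not_sigma hG hL hp hσ, fun hr => hσ ?_⟩
  obtain ⟨S, hS⟩ := ((isPGroup_line hp hP).comap_of_injective L.subtype L.subtype_injective :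
    IsPGroup p (P.subgroupOf L)).exists_le_sylow
  have hPS : P ≤ (S : Subgroup L).map L.subtype :=
    (Subgroup.map_subgroupOf_eq_of_le hPL).ge.trans (Subgroup.map_mono hS)
  have hc := cyclic_of_prankLE_one hG hp hr (S.2.map L.subtype) (Subgroup.map_subtype_le _)
  refine ⟨hp, hP ▸ Subgroup.card_dvd_of_le hPL, S, fun n hn => hN (mem_normalizer_of_conj fun y hy => ?_)⟩
  exact mem_line_of_cyclic hp hc hPS hP (conj_mem_of_le_normalizer hn y (hPS hy))
    (by rw [conj_pow, pow_eq_one_of_line hp hP hy, mul_one, mul_inv_cancel])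

/-- Coprime action on a cyclic `q`-group. -/
theorem fpf_of_cyclic (hq : q.Prime) {Y R : Subgroup G} (hY : IsPGroup q Y) (hc : IsCyclic Y)
    (hRY : R ≤ Subgroup.normalizer (Y : Set G)) (hcop : (Nat.card R).Coprime q)
    (hne : ¬ R ≤ Subgroup.centralizer (Y : Set G)) :
    Y ⊓ Subgroup.centralizer (R : Set G) = ⊥ ∧ ⁅Y, R⁆ = Y := by
  haveI := Fact.mk hq
  haveI : IsMulCommutative Y := IsCyclic.commutative
  haveI : Group.IsSolvable Y := haveI := hY.isNilpotent; inferInstance
  have hcop' : (Nat.card R).Coprime (Nat.card Y) := (CfsgLib.PSolvable.coprime_card_of_isPGroup hY hcop).symm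
  have hDY : ⁅Y, R⁆ ≤ Y := commutator_le_left_of_le_normalizer hRY
  have hD1 : ⁅Y, R⁆ ≠ ⊥ := fun h => hne (Subgroup.le_centralizer_iff.1
    (Subgroup.commutator_eq_bot_iff_le_centralizer.1 h))
  have hC : Y ⊓ Subgroup.centralizer (R : Set G) = ⊥ := by
    by_contra hC1
    obtain ⟨c, hc', -, hco⟩ := exists_central_order hq (hY.to_le inf_le_left) hC1
    obtain ⟨d, hd, -, hdo⟩ := exists_central_order hq (hY.to_le hDY) hD1
    have hdc : d ∈ Subgroup.zpowers c := mem_line_of_cyclic hq hc (Subgroup.zpowers_le.2 hc'.1)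
      (by rw [Nat.card_zpowers, hco]) (hDY hd) (by rw [← hdo, pow_orderOf_eq_one])
    have h1 : d ∈ (Y ⊓ Subgroup.centralizer (R : Set G)) ⊓ ⁅Y, R⁆ := ⟨Subgroup.zpowers_le.2 hc' hdc, hd⟩
    rw [centralizer_inf_commutator_eq_bot hRY hcop', Subgroup.mem_bot] at h1
    exact hq.ne_one (by rw [← hdo, h1, orderOf_one])
  refine ⟨hC, ?_⟩
  have h := commutator_sup_centralizer hRY hcop' (Or.inr inferInstance)
  rwa [hC, sup_bot_eq] at h

/-- All `q`-subgroups are cyclic if a Sylow subgroup is. -/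
theorem isCyclic_of_sylow [Fact q.Prime] (T : Sylow q G) (hT : IsCyclic (T : Subgroup G)) {Q : Subgroup G}
    (hQ : IsPGroup q Q) : IsCyclic Q := by
  obtain ⟨S, hS⟩ := hQ.exists_le_sylow
  haveI := hT
  haveI : IsCyclic (S : Subgroup G) :=
    isCyclic_of_surjective (Sylow.equiv T S).toMonoidHom (MulEquiv.surjective _)
  exact isCyclic_of_le hS inferInstance

theorem sylow_normalizer_le' [Fact q.Prime] (hq : q ∈ Cfsg.sigma M) (T : Sylow q G)
    (hT : (T : Subgroup G) ≤ M) : Subgroup.normalizer ((T : Subgroup G) : Set G) ≤ M := by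
  have h := sylow_normalizer_le hq (T.subtype hT)
  rwa [Sylow.coe_subtype, Subgroup.map_subgroupOf_eq_of_le hT] at h

theorem exists_sylow_ge_sigma [Fact q.Prime] (hq : q ∈ Cfsg.sigma M) {X : Subgroup G} (hXM : X ≤ M)
    (hX : IsPGroup q X) : ∃ T : Sylow q G, X ≤ (T : Subgroup G) ∧ (T : Subgroup G) ≤ M := by
  obtain ⟨P, hP⟩ := (hX.comap_of_injective M.subtype M.subtype_injective :
    IsPGroup q (X.subgroupOf M)).exists_le_sylow
  obtain ⟨T, hT⟩ := exists_sylow_map_eq hq P
  exact ⟨T, hT ▸ (Subgroup.map_subgroupOf_eq_of_le hXM).ge.trans (Subgroup.map_mono hP),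
    hT ▸ Subgroup.map_subtype_le _⟩

/-- Normalizers of Sylow subgroups at a prime of `σ(M)` lie in conjugates of `M`. -/
theorem exists_conj_sylow_normalizer [Fact q.Prime] (hq : q ∈ Cfsg.sigma M) (T : Sylow q G) :
    ∃ g : G, Subgroup.normalizer ((T : Subgroup G) : Set G) ≤ MulAut.conj g • M := by
  obtain ⟨T₀, -, hT₀⟩ := exists_sylow_ge_sigma hq (bot_le : (⊥ : Subgroup G) ≤ M) IsPGroup.of_bot
  obtain ⟨g, rfl⟩ := MulAction.exists_smul_eq G T₀ T
  refine ⟨g, fun n hn => ?_⟩
  rw [Sylow.coe_subgroup_smul] at hn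
  have h := conj_normalizer (g := g⁻¹) hn
  rw [← mul_smul, ← map_mul, inv_mul_cancel, map_one, one_smul] at h
  rw [mem_conj_smul_iff]
  simpa [mul_assoc] using sylow_normalizer_le' hq T₀ hT₀ h

/-- A normal Sylow subgroup at a prime of `σ(M)` forces conjugacy. -/
theorem conj_of_normal_sylow (hM : IsCoatom M) (hL : IsCoatom L) [Fact q.Prime] (hq : q ∈ Cfsg.sigma M)
    (T : Sylow q G) (hT : L ≤ Subgroup.normalizer ((T : Subgroup G) : Set G)) :
    ∃ g : G, L = MulAut.conj g • M := by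
  obtain ⟨g, hg⟩ := exists_conj_sylow_normalizer hq T
  exact ⟨g, ((hL.le_iff_eq (((MulAut.conj g).mapSubgroup).isCoatom_iff _ |>.2 hM).1).1 (hT.trans hg)).symm⟩

/-- An elementary group of order `p²` does not lie in a conjugate of a group of `p`-rank one. -/
theorem not_le_conj (hG : Cfsg.IsMinSimpleOddOrder G) (hr : Cfsg.PRankLE p 1 M) {A : Subgroup G} (hA : MaxElem p A)
    (g : G) : ¬ A ≤ MulAut.conj g • M := fun h => by
  have h1 : MulAut.conj g⁻¹ • A ≤ M := fun x hx => by
    rw [mem_conj_smul_iff, inv_inv] at hx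
    have := h hx
    rw [mem_conj_smul_iff] at this
    simpa [mul_assoc] using this
  exact (hA.conj g⁻¹).not_isCyclic (cyclic_of_prankLE_one hG hA.prime hr (hA.conj g⁻¹).isPGroup h1)

theorem not_normalizes_sylow (hG : Cfsg.IsMinSimpleOddOrder G) (hr : Cfsg.PRankLE p 1 M) [Fact q.Prime]
    (hq : q ∈ Cfsg.sigma M) {A : Subgroup G} (hA : MaxElem p A) (T : Sylow q G) :
    ¬ A ≤ Subgroup.normalizer ((T : Subgroup G) : Set G) := fun h => by
  obtain ⟨g, hg⟩ := exists_conj_sylow_normalizer hq T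
  exact not_le_conj hG hr hA g (h.trans hg)

/-- If the `q`-subgroups of `C_M(P)` are cyclic then so are all `q`-groups centralized by `P`. -/
theorem cyclic_of_centralized (hG : Cfsg.IsMinSimpleOddOrder G) (hM : IsCoatom M) (hq : q ∈ Cfsg.sigma M)
    (hp : p.Prime) (hr : Cfsg.PRankLE p 1 M) {P : Subgroup G} (hPM : P ≤ M) (hP : Nat.card P = p)
    (hC : ∀ Q : Subgroup G, Q ≤ M ⊓ Subgroup.centralizer (P : Set G) → IsPGroup q Q → IsCyclic Q)
    {Q : Subgroup G} (hQ : IsPGroup q Q) (hPQ : P ≤ Subgroup.centralizer (Q : Set G)) : IsCyclic Q := by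
  by_contra hnc
  haveI := Fact.mk hq.1
  obtain ⟨g, hg⟩ := exists_conj_le hq hQ
  have hgQ : IsPGroup q (MulAut.conj g • Q : Subgroup G) := hQ.map _
  have hgnc : ¬ IsCyclic (MulAut.conj g • Q : Subgroup G) := fun h => hnc (isCyclic_of_conj g h)
  have hPg : MulAut.conj g • P ≤ Subgroup.centralizer ((MulAut.conj g • Q : Subgroup G) : Set G) :=
    fun x hx y hy => by
      rw [SetLike.mem_coe, mem_conj_smul_iff] at hy
      rw [mem_conj_smul_iff] at hx
      have h1 := hPQ hx _ hy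
      calc y * x = g * ((g⁻¹ * y * g) * (g⁻¹ * x * g)) * g⁻¹ := by group
        _ = g * ((g⁻¹ * x * g) * (g⁻¹ * y * g)) * g⁻¹ := by rw [h1]
        _ = _ := by group
  have hPgM : MulAut.conj g • P ≤ M := hPg.trans ((Subgroup.centralizer_le_normalizer _).trans
    (normalizer_le_of_noncyclic hG hM hq hgQ hg hgnc))
  obtain ⟨m, hm, hme⟩ := line_conj hG hp hr hPM hP hPgM (by rw [card_conj_smul, hP])
  refine hgnc (isCyclic_of_conj m (hC _ (le_inf ((Subgroup.map_mono hg).trans (smul_eq_self hm).le) ?_) (hgQ.map _)))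
  rw [← hme]
  intro x hx y hy
  rw [SetLike.mem_coe, mem_conj_smul_iff] at hy
  rw [mem_conj_smul_iff] at hx
  have h1 := (hPg hy _ hx).symm
  calc y * x = m * ((m⁻¹ * y * m) * (m⁻¹ * x * m)) * m⁻¹ := by group
    _ = m * ((m⁻¹ * x * m) * (m⁻¹ * y * m)) * m⁻¹ := by rw [h1]
    _ = _ := by group

end CfsgLib.OddLocal
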