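import Cfsg.Agent.Lib.OddLocal.FixedTools

/-!
BG 14.2, first step: an element of a complement moving a fixed `τ₃`-line has a common fixed element.
-/

set_option autoImplicit false
set_option linter.style.haveILetI false
set_option linter.unusedSectionVars false

open scoped commutatorElement
open scoped Pointwise

namespace CfsgLib.OddLocal

open CfsgLib.Coprime
open CfsgLib.BG.FixedLine (conj_mem_of_le_normalizer mem_normalizer_of_conj)

universe u

variable {G : Type u} [Group G] [Finite G] {p q s : ℕ} {M L E P : Subgroup G}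

namespace Tau3Fixed

theorem centralizer_le (h : Tau3Fixed p M E P L) : Subgroup.centralizer (P : Set G) ≤ L :=
  (Subgroup.centralizer_le_normalizer _).trans h.hNP

theorem fixed_eq (h : Tau3Fixed p M E P L) :
    Cfsg.sigmaCore M ⊓ Subgroup.centralizer (P : Set G) = Cfsg.sigmaCore M ⊓ L :=
  le_antisymm (inf_le_inf_left _ h.centralizer_le) (le_inf inf_le_left h.inf_le_centralizer)

theorem compl_le_normalizer_fixed (h : Tau3Fixed p M E P L) :
    E ≤ Subgroup.normalizer ((Cfsg.sigmaCore M ⊓ Subgroup.centralizer (P : Set G) : Subgroup G) : Set G) :=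
  le_normalizer_inf_of_le (h.hE.1.trans (le_normalizer_piCoreOf _ M))
    (le_normalizer_centralizer h.compl_le_normalizer)

theorem hP_le_core (h : Tau3Fixed p M E P L) : P ≤ Cfsg.sigmaCore L :=
  le_sigmaCore_of_isPGroup h.hG h.hL h.hp.1 h.hpσ h.hPL (isPGroup_line h.hp.1 h.hP)

theorem compl_prime (h : Tau3Fixed p M E P L) {r : ℕ} (hr : r.Prime) (hd : r ∣ Nat.card E) :
    r ∈ Cfsg.tau1 M ∨ r ∈ Cfsg.tau3 M := by
  rcases tau_cases h.hG h.hM hr (not_sigma_of_dvd_compl h.hG h.hM h.hE hr hd)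
    (hd.trans (Subgroup.card_dvd_of_le h.hE.1)) with h13 | h2
  · exact h13
  · exact (h.tau2_empty h2).elim

theorem derived_le_centralizer (h : Tau3Fixed p M E P L) : ⁅E, E⁆ ≤ Subgroup.centralizer (P : Set G) :=
  derived_le_centralizer_of_cyclic h.compl_le_normalizer
    (haveI := Fact.mk h.hp.1; isCyclic_of_prime_card h.hP)

theorem tau1_of_acting (h : Tau3Fixed p M E P L) (hs : s.Prime) {e : G} (he : e ∈ E) {k : ℕ}
    (hk : e ^ s ^ k = 1) (hne : e ∉ Subgroup.centralizer (P : Set G)) : s ∈ Cfsg.tau1 M := by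
  obtain ⟨a, ha, hao⟩ := exists_line_pow hs hk fun e1 => hne (e1 ▸ one_mem _)
  rcases h.compl_prime hs (hao ▸ Subgroup.orderOf_dvd_natCard E (Subgroup.zpowers_le.2 he ha)) with h1 | h3
  · exact h1
  refine absurd (h.derived_le_centralizer (tau3_le_derived h.hG h.hM h.hE (Subgroup.zpowers_le.2 he)
    (isPi_zpowers fun r hr hd => ?_) (Subgroup.mem_zpowers e))) hne
  exact (prime_dvd_of_primary hr hs hk hd).symm ▸ h3

theorem not_centralizes (h : Tau3Fixed p M E P L) (hs : s.Prime) {e a : G} (he : e ∈ E) {k : ℕ}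
    (hk : e ^ s ^ k = 1) (hne : e ∉ Subgroup.centralizer (P : Set G)) (ha : a ∈ Subgroup.zpowers e)
    (hao : orderOf a = s) (hsσ : s ∉ Cfsg.sigma L) (hsr : Cfsg.PRankLE s 1 L) :
    a ∉ Subgroup.centralizer (P : Set G) := fun haP => hne fun x hx =>
  (commute_of_mem_centralizer_singleton (centralizer_le_of_primary h.hG h.hL hs hsσ hsr (h.hEL he) hk ha hao
    ⟨h.hP_le_core hx, mem_centralizer_singleton_of_commute (commute_of_mem_centralizer hx haP).symm⟩)).symm.eq

theorem le_of_derived (h : Tau3Fixed p M E P L) (hs : s.Prime) {a : G} (ha : a ∈ E) (hao : orderOf a = s)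
    (had : a ∈ ⁅L, L⁆) :
    Cfsg.sigmaCore M ⊓ Subgroup.centralizer (P : Set G) ≤ Subgroup.centralizer ({a} : Set G) := by
  rw [← centralizer_zpowers_eq]
  exact h.derived_line_centralizes (Subgroup.zpowers_le.2 ha) (by rw [Nat.card_zpowers, hao]; exact hs)
    (Subgroup.zpowers_le.2 had)

/-- The fixed points of a moving element meet those of the line. -/
theorem exists_common (h : Tau3Fixed p M E P L) (hs : s.Prime) {e a : G} (he : e ∈ E) {k : ℕ}
    (hk : e ^ s ^ k = 1) (hne : e ∉ Subgroup.centralizer (P : Set G)) (ha : a ∈ Subgroup.zpowers e)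
    (hao : orderOf a = s) :
    Cfsg.sigmaCore M ⊓ Subgroup.centralizer (P : Set G) ⊓ Subgroup.centralizer ({a} : Set G) ≠ ⊥ := by
  classical
  intro hbot
  set Y := Cfsg.sigmaCore M ⊓ Subgroup.centralizer (P : Set G) with hY
  have hs1 : s ∈ Cfsg.tau1 M := h.tau1_of_acting hs he hk hne
  have hsp : s ≠ p := fun e' => hs1.2.2.2.1 (e' ▸ h.hp.2.2.1)
  have haE : a ∈ E := Subgroup.zpowers_le.2 he ha
  have haL : a ∈ L := h.hEL haE
  have haM : a ∈ M := h.hE.1 haE
  obtain ⟨hAc, hAp, ha1⟩ := zpowers_line hs hao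
  haveI := Fact.mk hs
  have hns : ¬ Y ≤ Subgroup.centralizer ({a} : Set G) := fun hle => h.hfix (by
    rwa [inf_eq_left.2 hle] at hbot)
  have hnd : a ∉ ⁅L, L⁆ := fun hd => hns (h.le_of_derived hs haE hao hd)
  have hsσ : s ∉ Cfsg.sigma L := fun hσ => hnd (mem_derived_of_primary h.hG h.hL hs (Or.inl hσ) haL
    (k := 1) (by rw [pow_one, ← hao, pow_orderOf_eq_one]))
  have hs3 : s ∉ Cfsg.tau3 L := fun h3 => hnd (mem_derived_of_primary h.hG h.hL hs (Or.inr h3) haL
    (k := 1) (by rw [pow_one, ← hao, pow_orderOf_eq_one]))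
  have haY : a ∈ Subgroup.normalizer (Y : Set G) := h.compl_le_normalizer_fixed haE
  have hYL : Y ≤ L := inf_le_right.trans h.centralizer_le
  have hYσ : ∀ r : ℕ, r.Prime → r ∣ Nat.card Y → r ∈ Cfsg.sigma M := fun r hr hd =>
    isPi_piCoreOf _ M r hr (hd.trans (Subgroup.card_dvd_of_le inf_le_left))
  have hcopY : (Nat.card (Subgroup.zpowers a)).Coprime (Nat.card Y) := by
    rw [hAc]; exact hs.coprime_iff_not_dvd.2 fun hd => hs1.2.1 (hYσ s hs hd)
  have hcomm : ∀ y ∈ Y, Commute a y → y = 1 := fun y hy hc => Subgroup.mem_bot.1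
    (hbot ▸ ⟨hy, mem_centralizer_singleton_of_commute hc⟩)
  have hsyl : ∀ (q : ℕ) [Fact q.Prime], q ∈ Cfsg.sigma M → ∀ T : Sylow q G,
      L ≤ Subgroup.normalizer ((T : Subgroup G) : Set G) → False := fun q _ hq T hT => by
    obtain ⟨g, hg⟩ := conj_of_normal_sylow h.hM h.hL hq T hT
    exact h.not_conj g hg
  -- `s ∈ τ₁(L)`
  have hs2 : s ∉ Cfsg.tau2 L := fun h2 => by
    have hYσL : ∀ r : ℕ, r.Prime → r ∣ Nat.card Y → r ∉ Cfsg.sigma L := fun r hr hd hσ => by
      haveI := Fact.mk hr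
      obtain ⟨A, A₀, hA, -⟩ := exists_exc_mem h.hG h.hL h2 (one_mem L) (one_pow s)
      obtain ⟨T, -, hT⟩ := exists_sylow_ge_sigma hσ (bot_le (a := L)) IsPGroup.of_bot
      exact hsyl r (hYσ r hr hd) T (hA.sylow_normal hσ T hT)
    obtain ⟨F, hF, hKF⟩ := exists_compl_ge h.hG h.hL (sup_le hYL (Subgroup.zpowers_le.2 haL))
      (isPi_sup (π := {t | t ∉ Cfsg.sigma L}) (Subgroup.zpowers_le.2 haY) hYσL
        (isPi_zpowers fun t ht hd => by rw [hao] at hd; exact (Nat.prime_dvd_prime_iff_eq ht hs).1 hd ▸ hsσ))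
    obtain ⟨A, A₀, hAF, hA⟩ := exists_elem_compl h.hG h.hL hF h2
    have haA : a ∈ A := hA.mem_of_compl hF hAF (hKF (Subgroup.mem_sup_right (Subgroup.mem_zpowers a)))
      (by rw [← hao, pow_orderOf_eq_one])
    refine hns fun y hy => mem_centralizer_singleton_of_commute ?_
    have h1 : ⁅y, a⁆ ∈ A ⊓ Y := ⟨?_, ?_⟩
    · rw [eq_bot_of_disjoint (π := {s}) (ρ := {r | r ≠ s})
        (((isPi_singleton_iff hs).2 hA.maxElem.isPGroup).mono inf_le_left)
        (fun r hr hd e' => hs1.2.1 (hYσ s hs (e' ▸ hd.trans (Subgroup.card_dvd_of_le inf_le_right))))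
        (Set.disjoint_singleton_left.2 fun h' => h' rfl), Subgroup.mem_bot] at h1
      exact (commutatorElement_eq_one_iff_mul_comm.1 h1).symm
    · rw [commutatorElement_def]
      exact A.mul_mem (conj_mem_of_le_normalizer (hA.compl_le_normalizer hF hAF
        (hKF (Subgroup.mem_sup_left hy))) a haA) (A.inv_mem haA)
    · rw [show ⁅y, a⁆ = y * (a * y⁻¹ * a⁻¹) by rw [commutatorElement_def]; group]
      exact Y.mul_mem hy (conj_mem_of_le_normalizer haY _ (Y.inv_mem hy))
  have hsL : s ∈ Cfsg.tau1 L := by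
    rcases tau_cases h.hG h.hL hs hsσ (hao ▸ Subgroup.orderOf_dvd_natCard L haL) with (h1 | h3) | h2
    · exact h1
    · exact absurd h3 hs3
    · exact absurd h2 hs2
  have hna : a ∉ Subgroup.centralizer (P : Set G) := h.not_centralizes hs he hk hne ha hao hsσ hsL.2.2.2.2
  -- a fixed element in `M_σ`
  obtain ⟨t, u, ht, huK, hua, huo⟩ : ∃ (t : ℕ) (u : G), t.Prime ∧ u ∈ Cfsg.sigmaCore M ∧ Commute a u ∧
      orderOf u = t := by
    have h1 : Cfsg.sigmaCore M ⊓ Subgroup.centralizer ({a} : Set G) ≠ ⊥ := fun e' => hna (centralizes_of_fixed_le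
      h.hG h.hM h.hp.1 h.hp.2.1 h.hPM h.hP hs hs1.2.1 hsp (Subgroup.zpowers_le.2 haM) hAc
      ((Subgroup.zpowers_le.2 haE).trans h.compl_le_normalizer) (by rw [centralizer_zpowers_eq, e']; exact bot_le)
      h.hE h.compl_le_normalizer
      (fun hle => h.hLM ((h.hM.le_iff.1 (hle.trans h.hNP)).resolve_left h.hL.1)) (Subgroup.mem_zpowers a))
    obtain ⟨t, ht, hd⟩ := Nat.exists_prime_and_dvd fun e' => h1 (Subgroup.card_eq_one.1 e')
    obtain ⟨u, hu, huo⟩ := exists_order_of_dvd ht hd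
    exact ⟨t, u, ht, hu.1, commute_of_mem_centralizer_singleton hu.2, huo⟩
  -- a fixed element in `L_σ`
  obtain ⟨t', x, ht', hxK, hxa, hxo⟩ : ∃ (t' : ℕ) (x : G), t'.Prime ∧ x ∈ Cfsg.sigmaCore L ∧ Commute a x ∧
      orderOf x = t' := by
    suffices h1 : Cfsg.sigmaCore L ⊓ Subgroup.centralizer ({a} : Set G) ≠ ⊥ by
      obtain ⟨t, ht, hd⟩ := Nat.exists_prime_and_dvd fun e' => h1 (Subgroup.card_eq_one.1 e')
      obtain ⟨x, hx, hxo⟩ := exists_order_of_dvd ht hd
      exact ⟨t, x, ht, hx.1, commute_of_mem_centralizer_singleton hx.2, hxo⟩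
    intro e'
    have haK : a ∈ Subgroup.normalizer (Cfsg.sigmaCore L : Set G) := le_normalizer_piCoreOf _ L haL
    have hnil : Group.IsNilpotent (Cfsg.sigmaCore L) :=
      isNilpotent_of_fpf_elem hs (by rw [← hao, pow_orderOf_eq_one]) haK e'
    obtain ⟨q, hq, hd⟩ := Nat.exists_prime_and_dvd fun e'' : Nat.card Y = 1 => h.hfix (Subgroup.card_eq_one.1 e'')
    haveI := Fact.mk hq
    haveI : Group.IsSolvable Y :=
      haveI := isSolvable_of_ne_top h.hG h.hL.1; isSolvable_of_le hYL inferInstance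
    obtain ⟨S, hS⟩ := exists_invariant_sylow (Subgroup.zpowers_le.2 haY) hcopY (Or.inr inferInstance) q
    set Q := (S : Subgroup Y).map Y.subtype with hQ
    have hQY : Q ≤ Y := Subgroup.map_subtype_le _
    have hQ1 : Q ≠ ⊥ := fun e'' => by
      have h2 : Nat.card Q = q ^ (Nat.card Y).factorization q := by
        rw [hQ, Subgroup.card_subtype, S.card_eq_multiplicity]
      rw [e'', Subgroup.card_bot] at h2
      exact (Nat.pos_iff_ne_zero.1 (hq.factorization_pos_of_dvd Nat.card_pos.ne' hd))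
        ((Nat.pow_eq_one.1 h2.symm).resolve_left hq.ne_one)
    obtain ⟨z, hz, -, hzo⟩ := exists_central_order hq (S.2.map Y.subtype) hQ1
    have hqM : q ∈ Cfsg.sigma M := hYσ q hq hd
    have hzL : z ∈ L := hYL (hQY hz)
    have hqL : q ∉ Cfsg.sigma L := fun hσ => by
      obtain ⟨T, -, hT⟩ := exists_sylow_ge_sigma hσ (bot_le (a := L)) IsPGroup.of_bot
      haveI : Group.IsNilpotent ↥((Cfsg.piCore (Cfsg.sigma L) L).map L.subtype) := hnil
      have hTn := sylow_normal_of_le_nilpotent (N := Cfsg.piCore (Cfsg.sigma L) L)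
        (Group.nilpotent_of_surjective ((Subgroup.equivMapOfInjective _ _ L.subtype_injective).symm.toMonoidHom)
          (MulEquiv.surjective _) : Group.IsNilpotent (Cfsg.piCore (Cfsg.sigma L) L)) (T.subtype hT) fun w hw => by
        obtain ⟨w', hw', e''⟩ := le_sigmaCore_of_isPGroup h.hG h.hL hq hσ hT T.2 hw
        exact Subtype.ext e'' ▸ hw'
      refine hsyl q hqM T fun l hl => mem_normalizer_of_conj fun w hw => ?_
      have := hTn.conj_mem ⟨w, hT hw⟩ hw ⟨l, hl⟩
      exact this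
    rcases tau_cases h.hG h.hL hq hqL (hzo ▸ Subgroup.orderOf_dvd_natCard L hzL) with (h1 | h3) | h2
    · -- `q ∈ τ₁(L)`
      have h4 : ⁅z, a⁆ ∈ Q ⊓ ⁅L, L⁆ := ⟨by
        rw [show ⁅z, a⁆ = z * (a * z⁻¹ * a⁻¹) by rw [commutatorElement_def]; group]
        exact Q.mul_mem hz (conj_mem_of_le_normalizer (hS (Subgroup.mem_zpowers a)) _ (Q.inv_mem hz)),
        Subgroup.commutator_mem_commutator hzL haL⟩
      rw [eq_bot_of_disjoint (π := {q}) (ρ := {r | r ≠ q})
        (((isPi_singleton_iff hq).2 (S.2.map Y.subtype)).mono inf_le_left)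
        (fun r hr hd e'' => h1.2.2.2.1 (e'' ▸ hd.trans (Subgroup.card_dvd_of_le inf_le_right)))
        (Set.disjoint_singleton_left.2 fun h' => h' rfl), Subgroup.mem_bot] at h4
      exact (zpowers_line hq hzo).2.2 (hcomm z (hQY hz) (commutatorElement_eq_one_iff_mul_comm.1 h4).symm)
    · -- `q ∈ τ₃(L)`
      have hQc : IsCyclic Q := cyclic_of_prankLE_one h.hG hq h3.2.2.2 (S.2.map Y.subtype) (hQY.trans hYL)
      obtain ⟨hZc, hZp, hz1⟩ := zpowers_line hq hzo
      set Z := Subgroup.zpowers z with hZ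
      have haZ : Subgroup.zpowers a ≤ Subgroup.normalizer (Z : Set G) := Subgroup.zpowers_le.2
        (mem_normalizer_of_conj fun w hw => mem_line_of_cyclic hq hQc (Subgroup.zpowers_le.2 hz) hZc
          (conj_mem_of_le_normalizer (hS (Subgroup.mem_zpowers a)) w (Subgroup.zpowers_le.2 hz hw))
          (by rw [conj_pow, pow_eq_one_of_line hq hZc hw, mul_one, mul_inv_cancel]))
      have hzn : ¬ Subgroup.zpowers a ≤ Subgroup.centralizer (Z : Set G) := fun hle => hz1 (hcomm z (hQY hz)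
        (commute_of_mem_centralizer (Subgroup.mem_zpowers z) (hle (Subgroup.mem_zpowers a))).symm)
      have hsq : s ≠ q := fun e'' => hs1.2.1 (e'' ▸ hqM)
      haveI : Group.IsSolvable L := isSolvable_of_ne_top h.hG h.hL.1
      have hKZ : Cfsg.sigmaCore L ≤ Subgroup.centralizer (Z : Set G) := by
        refine kernel_centralizes hq hZc hs hAc hsq haZ hzn
          (isSolvable_of_le (piCoreOf_le _ L) inferInstance)
          ((sup_le (Subgroup.zpowers_le.2 hzL) (Subgroup.zpowers_le.2 haL)).trans (le_normalizer_piCoreOf _ L))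
          (Nat.coprime_of_dvd fun r hr h4 h5 => isPi_sup (π := {r | r ∉ Cfsg.sigma L}) haZ
            (isPi_zpowers fun r hr hd => by rw [hzo] at hd; exact (Nat.prime_dvd_prime_iff_eq hr hq).1 hd ▸ hqL)
            (isPi_zpowers fun r hr hd => by rw [hao] at hd; exact (Nat.prime_dvd_prime_iff_eq hr hs).1 hd ▸ hsσ)
            r hr h5 (isPi_piCoreOf _ L r hr h4)) ?_
        rw [centralizer_zpowers_eq, e']
        exact bot_le
      obtain ⟨F, hF, hZF⟩ := exists_compl_ge h.hG h.hL (Subgroup.zpowers_le.2 hzL)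
        (isPi_zpowers (π := {r | r ∉ Cfsg.sigma L}) fun r hr hd => by
          rw [hzo] at hd; exact (Nat.prime_dvd_prime_iff_eq hr hq).1 hd ▸ hqL)
      have hFN : F ≤ Subgroup.normalizer (Z : Set G) := tau3_normalized h.hG h.hL hF.1
        (fun r hr hd => not_sigma_of_dvd_compl h.hG h.hL hF hr hd) (hZF (Subgroup.mem_zpowers z)) (hzo.symm ▸ h3)
      have hLN : L ≤ Subgroup.normalizer (Z : Set G) := fun l hl => by
        obtain ⟨f, hf, g, hg, rfl⟩ := hF.2.2.2 l hl
        exact mul_mem (hFN hf) (Subgroup.centralizer_le_normalizer _ (hKZ hg))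
      have hNL := (h.hL.le_iff.1 hLN).resolve_left (normalizer_ne_top h.hG (line_ne_bot hq hZc)
        fun e'' => h.hL.1 (top_unique (e''.ge.trans (Subgroup.zpowers_le.2 hzL))))
      rcases sigma_or_tau2_of_normalizer_le h.hG h.hL hq (Subgroup.zpowers_le.2 hzL) hZc hNL.le with hσ | h2
      · exact hqL hσ
      · exact h2.2.2.2 h3.2.2.2
    · -- `q ∈ τ₂(L)`
      have hle := (centralizer_le_of_tau2 h.hG h.hL h2 hzL hzo (line_ne_bot h.hp.1 h.hP) h.hP_le_core
        (hQY hz).2).1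
      exact not_tau2_of_centralizer_le h.hG h.hM h.hL h.hLM hqM h.hp.2.2.2 h.hp.1
        (fun e'' => h.hp.2.1 (e'' ▸ hqM)) h.hPM h.hPL h.hP (Or.inl h.hpσ) (piCoreOf_le _ M (hQY hz).1) hzo hle h2
  -- the common partner
  have hsone : a ^ s = 1 := by rw [← hao, pow_orderOf_eq_one]
  obtain ⟨L₁, hL₁, hNL₁⟩ := (eq_top_or_exists_le_coatom _).resolve_left
    (normalizer_ne_top h.hG (line_ne_bot hs hAc) fun e' => h.hM.1 (top_unique (e'.ge.trans (Subgroup.zpowers_le.2 haM))))
  obtain ⟨hu1, htσ, htτ⟩ := partner_kappa_elem h.hG h.hM hs1 haM hao ht huK huo hua hL₁ hNL₁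
  obtain ⟨hx1, ht'σ, ht'τ⟩ := partner_kappa_elem h.hG h.hL hsL haL hao ht' hxK hxo hxa hL₁ hNL₁
  set D := Subgroup.centralizer ({a} : Set G) with hD
  have hDL : D ≤ L₁ := by
    rw [hD, ← centralizer_zpowers_eq]; exact (Subgroup.centralizer_le_normalizer _).trans hNL₁
  haveI : Group.IsSolvable D :=
    haveI := isSolvable_of_ne_top h.hG hL₁.1; isSolvable_of_le hDL inferInstance
  obtain ⟨H, hH, hxH⟩ := exists_hallOf_ge (π := {r | r ∉ Cfsg.sigma L₁}) (X := D)
    (Subgroup.zpowers_le.2 (mem_centralizer_singleton_of_commute hxa)) (isPi_zpowers fun r hr hd => by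
      rw [hxo] at hd; exact (Nat.prime_dvd_prime_iff_eq hr ht').1 hd ▸ ht'σ)
  obtain ⟨d, hd, hdH⟩ : ∃ d ∈ D, d * u * d⁻¹ ∈ H := by
    have huD : u ∈ D := mem_centralizer_singleton_of_commute hua
    obtain ⟨c, hc⟩ := CfsgLib.BG.exists_conj_le_piHall (G := ↥D) (π := {r | r ∉ Cfsg.sigma L₁})
      (H := H.subgroupOf D) (K := (Subgroup.zpowers u).subgroupOf D) ⟨fun r hr hd => hH.2.1 r hr (by
        rwa [Nat.card_congr (Subgroup.subgroupOfEquivOfLe hH.1).toEquiv] at hd), hH.2.2⟩ fun r hr hd => by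
      rw [Nat.card_congr (Subgroup.subgroupOfEquivOfLe (Subgroup.zpowers_le.2 huD)).toEquiv, Nat.card_zpowers,
        huo] at hd
      exact (Nat.prime_dvd_prime_iff_eq hr ht).1 hd ▸ htσ
    have h1 : (⟨u, huD⟩ : D) ∈ MulAut.conj c • H.subgroupOf D := hc (Subgroup.mem_zpowers u)
    rw [mem_conj_smul_iff] at h1
    exact ⟨(c : G)⁻¹, inv_mem c.2, by rw [inv_inv]; exact h1⟩
  have hHL : H ≤ L₁ := hH.1.trans hDL
  obtain ⟨d, hd, hcase⟩ : ∃ d ∈ D,
      d * u * d⁻¹ ∈ Subgroup.normalizer ((Subgroup.zpowers x : Subgroup G) : Set G) ∨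
        x ∈ Subgroup.normalizer ((Subgroup.zpowers (d * u * d⁻¹) : Subgroup G) : Set G) := by
    have hdo : orderOf (d * u * d⁻¹) = t := by rw [← huo]; exact (orderOf_injective (MulAut.conj d).toMonoidHom
      (MulAut.conj d).injective u)
    have hxH' : x ∈ H := hxH (Subgroup.mem_zpowers x)
    rcases htτ with h1 | h3
    · rcases ht'τ with h1' | h3'
      · obtain ⟨c, hc, hcc⟩ := tau1_commute h.hG hL₁ hHL hdH hxH'
          (fun r hr hd => by rw [hdo] at hd; exact (Nat.prime_dvd_prime_iff_eq hr ht).1 hd ▸ h1)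
          (fun r hr hd => by rw [hxo] at hd; exact (Nat.prime_dvd_prime_iff_eq hr ht').1 hd ▸ h1')
        refine ⟨c * d, mul_mem (hH.1 hc) hd, Or.inl (Subgroup.centralizer_le_normalizer _ ?_)⟩
        rw [centralizer_zpowers_eq]
        refine mem_centralizer_singleton_of_commute ?_
        rw [show c * d * u * (c * d)⁻¹ = c * (d * u * d⁻¹) * c⁻¹ by group]
        exact hcc.symm
      · exact ⟨d, hd, Or.inl (tau3_normalized h.hG hL₁ hHL hH.2.1 hxH' (hxo.symm ▸ h3') hdH)⟩
    · exact ⟨d, hd, Or.inr (tau3_normalized h.hG hL₁ hHL hH.2.1 hdH (hdo.symm ▸ h3) hxH')⟩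
  set M' := MulAut.conj d • M with hM'
  have hM'co : IsCoatom M' := ((MulAut.conj d).mapSubgroup).isCoatom_iff _ |>.2 h.hM
  have huu := uniq_of_fixed_elem h.hG h.hM hs1 haM hao ht huK huo hua
  have hu' : Subgroup.centralizer ({d * u * d⁻¹} : Set G) ≤ M' ∧
      ∀ L' : Subgroup G, IsCoatom L' → Subgroup.centralizer ({d * u * d⁻¹} : Set G) ≤ L' → L' = M' := by
    rw [conj_centralizer_elem]
    refine ⟨conj_le_conj.2 huu.1, fun L' hL' hle => ?_⟩
    have h2 := huu.2 _ (((MulAut.conj d⁻¹).mapSubgroup).isCoatom_iff _ |>.2 hL') (by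
      have := (conj_le_conj (c := d⁻¹)).2 hle
      rwa [← mul_smul, ← map_mul, inv_mul_cancel, map_one, one_smul] at this)
    rw [hM', ← h2]
    show L' = MulAut.conj d • MulAut.conj d⁻¹ • L'
    rw [← mul_smul, ← map_mul, mul_inv_cancel, map_one, one_smul]
  have hda : Commute a d := commute_of_mem_centralizer_singleton hd
  have hu'a : Commute a (d * u * d⁻¹) := (hda.mul_right hua).mul_right hda.inv_right
  have hxM' : x ∈ M' := by
    rcases hcase with hux | hxu
    · have hu'L : d * u * d⁻¹ ∈ L := normalizer_le_of_uniq_elem h.hG h.hL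
        (uniq_of_fixed_elem h.hG h.hL hsL haL hao ht' hxK hxo hxa) hux
      have hdo : orderOf (d * u * d⁻¹) = t := by rw [← huo]; exact (orderOf_injective (MulAut.conj d).toMonoidHom
        (MulAut.conj d).injective u)
      by_cases htL : t ∈ Cfsg.sigma L
      · have h1 := uniq_of_fixed_elem h.hG h.hL hsL haL hao ht (sigma_mem_of_elem h.hG h.hL ht htL hu'L (k := 1)
          (by rw [pow_one, ← hdo, pow_orderOf_eq_one])) hdo hu'a
        exact absurd (hu'.2 L h.hL h1.1) (h.not_conj d)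
      · exact hu'.1 (centralizer_le_of_commute h.hG h.hL hsL haL hao hu'L ht hdo htL hu'a
          ⟨hxK, mem_centralizer_singleton_of_commute hxa⟩)
    · exact normalizer_le_of_uniq_elem h.hG hM'co hu' hxu
  rw [hM', mem_conj_smul_iff] at hxM'
  set x₁ := d⁻¹ * x * d with hx₁
  have hx₁o : orderOf x₁ = t' := by
    rw [← hxo, show x₁ = MulAut.conj d⁻¹ x by simp [hx₁, MulAut.conj_apply]]
    exact orderOf_injective (MulAut.conj d⁻¹).toMonoidHom (MulAut.conj d⁻¹).injective x
  have hx₁a : Commute a x₁ := (hda.inv_right.mul_right hxa).mul_right hda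
  have ht'M : t' ∉ Cfsg.sigma M := fun hσ => by
    have h1 := uniq_of_fixed_elem h.hG h.hM hs1 haM hao ht' (sigma_mem_of_elem h.hG h.hM ht' hσ hxM' (k := 1)
      (by rw [pow_one, ← hx₁o, pow_orderOf_eq_one])) hx₁o hx₁a
    have h2 := uniq_of_fixed_elem h.hG h.hL hsL haL hao ht' hxK hxo hxa
    have e1 : Subgroup.centralizer ({x} : Set G) = MulAut.conj d • Subgroup.centralizer ({x₁} : Set G) := by
      rw [← conj_centralizer_elem, show d * x₁ * d⁻¹ = x by rw [hx₁]; group]
    exact h.not_conj d (h2.2 M' hM'co (e1.le.trans (conj_le_conj.2 h1.1))).symm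
  have hux : Commute x₁ u := commute_of_mem_centralizer_singleton (centralizer_le_of_commute h.hG h.hM hs1 haM hao
    hxM' ht' hx₁o ht'M hx₁a ⟨huK, mem_centralizer_singleton_of_commute hua⟩)
  -- move into `E`
  obtain ⟨F, hF, haF, hxF⟩ := exists_compl_pair h.hG h.hM haM hxM' hx₁a
    (fun r hr hd => by rw [hao] at hd; exact (Nat.prime_dvd_prime_iff_eq hr hs).1 hd ▸ hs1.2.1)
    (fun r hr hd => by rw [hx₁o] at hd; exact (Nat.prime_dvd_prime_iff_eq hr ht').1 hd ▸ ht'M)
  obtain ⟨m, hm, hmF⟩ := exists_conj_le_compl h.hG h.hM h.hE hF.1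
    (fun r hr hd => not_sigma_of_dvd_compl h.hG h.hM hF hr hd)
  obtain ⟨c₀, hc₀, hce⟩ := line_conj h.hG hs (prankLE_compl h.hE hs1.2.2.2.2) (Subgroup.zpowers_le.2 haE) hAc
    (P' := MulAut.conj m • Subgroup.zpowers a) (le_trans (conj_le_conj.2 (Subgroup.zpowers_le.2 haF)) hmF)
    (by rw [card_conj_smul, hAc])
  rw [← mul_smul, ← map_mul] at hce
  set c := c₀ * m with hc
  have hcM : c ∈ M := mul_mem (h.hE.1 hc₀) hm
  have hxE : c * x₁ * c⁻¹ ∈ E := by
    have h1 : m * x₁ * m⁻¹ ∈ E := hmF (by rw [mem_conj_smul_iff]; simpa [mul_assoc] using hxF)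
    have := E.mul_mem (E.mul_mem hc₀ h1) (E.inv_mem hc₀)
    simpa [hc, mul_assoc] using this
  have hxo₃ : orderOf (c * x₁ * c⁻¹) = t' := by
    rw [← hx₁o]; exact orderOf_injective (MulAut.conj c).toMonoidHom (MulAut.conj c).injective x₁
  have huo₃ : orderOf (c * u * c⁻¹) = t := by
    rw [← huo]; exact orderOf_injective (MulAut.conj c).toMonoidHom (MulAut.conj c).injective u
  have hcz : ∀ w : G, Commute a w → Commute a (c * w * c⁻¹) := fun w hw => by
    have h1 : a ∈ MulAut.conj c • Subgroup.zpowers a := hce.symm ▸ Subgroup.mem_zpowers a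
    rw [mem_conj_smul_iff] at h1
    obtain ⟨i, hi⟩ := Subgroup.mem_zpowers_iff.1 h1
    have h2 : Commute (c * a ^ i * c⁻¹) (c * w * c⁻¹) := by
      show _ = _
      simpa [mul_assoc] using congrArg (fun v => c * v * c⁻¹) (hw.zpow_left i).eq
    rw [hi] at h2
    simpa [mul_assoc] using h2
  have hxK₃ : c * x₁ * c⁻¹ ∈ Cfsg.sigmaCore L := sigma_mem_of_elem h.hG h.hL ht' (sigma_of_mem_core ht' hxK hxo)
    (h.hEL hxE) (k := 1) (by rw [pow_one, ← hxo₃, pow_orderOf_eq_one])
  have huK₃ : c * u * c⁻¹ ∈ Cfsg.sigmaCore M :=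
    conj_mem_of_le_normalizer (le_normalizer_piCoreOf _ M hcM) u huK
  have huL : c * u * c⁻¹ ∈ L := (uniq_of_fixed_elem h.hG h.hL hsL haL hao ht' hxK₃ hxo₃ (hcz _ hx₁a)).1
    (mem_centralizer_singleton_of_commute (by
      show _ = _
      simpa [mul_assoc] using congrArg (fun v => c * v * c⁻¹) hux.eq))
  refine (zpowers_line ht huo₃).2.2 (hcomm _ ?_ (hcz _ hua))
  rw [hY, h.fixed_eq]
  exact ⟨huK₃, huL⟩

end Tau3Fixed

end CfsgLib.OddLocal
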