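import Cfsg.Agent.Lib.OddLocal.TauThreeSigma
import Cfsg.Agent.Lib.OddLocal.KappaBasic

/-!
BG 14.2, the second type of Hall `κ`-subgroup: every line of the complement has the same fixed points.
-/

set_option autoImplicit false
set_option linter.style.haveILetI false
set_option linter.unusedSectionVars false

open scoped commutatorElement
open scoped Pointwise

namespace CfsgLib.OddLocal

open CfsgLib.Coprime
open CfsgLib.BG.FixedLine (conj_mem_of_le_normalizer mem_normalizer_of_conj)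

universe u

variable {G : Type u} [Group G] [Finite G] {p q r s : ℕ} {M L E P : Subgroup G}

namespace Tau3Fixed

theorem tau1_lines (h : Tau3Fixed p M E P L) (hr : r ∈ Cfsg.tau1 M) {b : G} (hb : b ∈ E) (hbo : orderOf b = r) :
    Cfsg.sigmaCore M ⊓ Subgroup.centralizer ({b} : Set G) = Cfsg.sigmaCore M ⊓ Subgroup.centralizer (P : Set G) ∧
      b ∈ Subgroup.centralizer (P : Set G) := by
  classical
  haveI := Fact.mk hr.1
  obtain ⟨e, he, ⟨s, k, hs, hk⟩, hne⟩ := exists_acting h.hG h.hM h.hE h.hp h.hPE h.hP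
  obtain ⟨a, ha, hao⟩ := exists_line_pow hs hk fun e' => hne (e' ▸ one_mem _)
  obtain ⟨heq, -⟩ := h.acting_data hs he hk hne ha hao
  have hs1 : s ∈ Cfsg.tau1 M := h.tau1_of_acting hs he hk hne
  have haE : a ∈ E := Subgroup.zpowers_le.2 he ha
  obtain ⟨c, hc, hca⟩ := tau1_commute h.hG h.hM h.hE.1 hb haE
    (fun t ht hd => by rw [hbo] at hd; exact (Nat.prime_dvd_prime_iff_eq ht hr.1).1 hd ▸ hr)
    (fun t ht hd => by rw [hao] at hd; exact (Nat.prime_dvd_prime_iff_eq ht hs).1 hd ▸ hs1)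
  have hbE : c * b * c⁻¹ ∈ E := E.mul_mem (E.mul_mem hc hb) (E.inv_mem hc)
  have hbo' : orderOf (c * b * c⁻¹) = r := by
    rw [← hbo]; exact orderOf_injective (MulAut.conj c).toMonoidHom (MulAut.conj c).injective b
  have h1 : Cfsg.sigmaCore M ⊓ Subgroup.centralizer ({c * b * c⁻¹} : Set G) =
      Cfsg.sigmaCore M ⊓ Subgroup.centralizer (P : Set G) := by
    refine le_antisymm ?_ ?_
    · rw [← heq]
      exact le_inf inf_le_left (centralizer_le_of_commute h.hG h.hM hr (h.hE.1 hbE) hbo' (h.hE.1 haE) hs hao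
        hs1.2.1 hca)
    · rw [← heq]
      exact le_inf inf_le_left (centralizer_le_of_commute h.hG h.hM hs1 (h.hE.1 haE) hao (h.hE.1 hbE) hr.1 hbo'
        hr.2.1 hca.symm)
  have hcN : c⁻¹ ∈ Subgroup.normalizer ((Cfsg.sigmaCore M ⊓ Subgroup.centralizer (P : Set G) : Subgroup G) : Set G) :=
    inv_mem (h.compl_le_normalizer_fixed hc)
  have h2 : Cfsg.sigmaCore M ⊓ Subgroup.centralizer ({b} : Set G) =
      Cfsg.sigmaCore M ⊓ Subgroup.centralizer (P : Set G) := by
    have hK : MulAut.conj c⁻¹ • Cfsg.sigmaCore M = Cfsg.sigmaCore M :=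
      conj_smul_eq_self_of_mem_normalizer (inv_mem (le_normalizer_piCoreOf _ M (h.hE.1 hc)))
    have h3 := congrArg (fun X : Subgroup G => MulAut.conj c⁻¹ • X) h1
    simp only [Subgroup.smul_inf, hK, ← conj_centralizer_elem] at h3
    rw [show c⁻¹ * (c * b * c⁻¹) * c⁻¹⁻¹ = b by group] at h3
    rw [h3]
    have h4 := conj_smul_eq_self_of_mem_normalizer hcN
    rwa [Subgroup.smul_inf, hK] at h4
  refine ⟨h2, ?_⟩
  exact centralizes_of_fixed_le h.hG h.hM h.hp.1 h.hp.2.1 h.hPM h.hP hr.1 hr.2.1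
    (fun e' => hr.2.2.2.1 (e' ▸ h.hp.2.2.1)) (Subgroup.zpowers_le.2 (h.hE.1 hb))
    (zpowers_line hr.1 hbo).1 ((Subgroup.zpowers_le.2 hb).trans h.compl_le_normalizer)
    (by rw [centralizer_zpowers_eq, h2]; exact inf_le_right) h.hE h.compl_le_normalizer
    (fun hle => h.hLM ((h.hM.le_iff.1 (hle.trans h.hNP)).resolve_left h.hL.1)) (Subgroup.mem_zpowers b)

/-- Every `τ₃`-line of the complement is fixed. -/
theorem exists_tau3Fixed (h : Tau3Fixed p M E P L) (hr : r ∈ Cfsg.tau3 M) {b : G} (hb : b ∈ E)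
    (hbo : orderOf b = r) :
    ∃ L' : Subgroup G, Tau3Fixed r M E (Subgroup.zpowers b) L' := by
  obtain ⟨hBc, -, -⟩ := zpowers_line hr.1 hbo
  have h1 := h.tau3_line_centralizes (Subgroup.zpowers_le.2 hb) hr hBc
  obtain ⟨L', hL', hN'⟩ := (eq_top_or_exists_le_coatom _).resolve_left
    (normalizer_ne_top h.hG (line_ne_bot hr.1 hBc) fun e => h.hM.1 (top_unique (e.ge.trans
      ((Subgroup.zpowers_le.2 hb).trans h.hE.1))))
  exact ⟨L', h.hG, h.hM, h.hE, hr, Subgroup.zpowers_le.2 hb, hBc,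
    fun e => h.hfix (le_bot_iff.1 (e ▸ le_inf inf_le_left h1)), hL', hN'⟩

theorem tau3_lines (h : Tau3Fixed p M E P L) (hr : r ∈ Cfsg.tau3 M) {b : G} (hb : b ∈ E) (hbo : orderOf b = r) :
    Cfsg.sigmaCore M ⊓ Subgroup.centralizer ({b} : Set G) =
      Cfsg.sigmaCore M ⊓ Subgroup.centralizer (P : Set G) := by
  obtain ⟨L', h'⟩ := h.exists_tau3Fixed hr hb hbo
  rw [← centralizer_zpowers_eq]
  exact le_antisymm (le_inf inf_le_left (h'.tau3_line_centralizes h.hPE h.hp h.hP))
    (le_inf inf_le_left (h.tau3_line_centralizes (Subgroup.zpowers_le.2 hb) hr (zpowers_line hr.1 hbo).1))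

theorem lines (h : Tau3Fixed p M E P L) (hr : r.Prime) {b : G} (hb : b ∈ E) (hbo : orderOf b = r) :
    Cfsg.sigmaCore M ⊓ Subgroup.centralizer ({b} : Set G) =
      Cfsg.sigmaCore M ⊓ Subgroup.centralizer (P : Set G) := by
  rcases h.compl_prime hr (hbo ▸ Subgroup.orderOf_dvd_natCard E hb) with h1 | h3
  · exact (h.tau1_lines h1 hb hbo).1
  · exact h.tau3_lines h3 hb hbo

theorem compl_prankLE (h : Tau3Fixed p M E P L) (hr : r.Prime) (hd : r ∣ Nat.card E) :
    Cfsg.PRankLE r 1 M := by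
  rcases h.compl_prime hr hd with h1 | h3
  · exact h1.2.2.2.2
  · exact h3.2.2.2

theorem compl_le_centralizer (h : Tau3Fixed p M E P L) :
    E ≤ Subgroup.centralizer ((Cfsg.sigmaCore M ⊓ Subgroup.centralizer (P : Set G) : Subgroup G) : Set G) :=
  fun x hx => mem_of_primary fun r hr _ y hy ⟨k, hk⟩ => by
    by_cases hy1 : y = 1
    · exact hy1 ▸ one_mem _
    obtain ⟨b, hb, hbo⟩ := exists_line_pow hr hk hy1
    have hyE : y ∈ E := Subgroup.zpowers_le.2 hx hy
    have hbE : b ∈ E := Subgroup.zpowers_le.2 hyE hb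
    have hd : r ∣ Nat.card E := hbo ▸ Subgroup.orderOf_dvd_natCard E hbE
    intro z hz
    rw [← h.lines hr hbE hbo] at hz
    exact (commute_of_mem_centralizer_singleton (centralizer_le_of_primary h.hG h.hM hr
      (not_sigma_of_dvd_compl h.hG h.hM h.hE hr hd) (h.compl_prankLE hr hd) (h.hE.1 hyE) hk hb hbo hz)).symm.eq

/-- Prime action of the complement. -/
theorem prime_action (h : Tau3Fixed p M E P L) {k : G} (hk : k ∈ E) (hk1 : k ≠ 1) :
    Cfsg.sigmaCore M ⊓ Subgroup.centralizer ({k} : Set G) =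
      Cfsg.sigmaCore M ⊓ Subgroup.centralizer (P : Set G) := by
  refine le_antisymm ?_ (le_inf inf_le_left fun z hz =>
    mem_centralizer_singleton_of_commute (h.compl_le_centralizer hk z hz).symm)
  obtain ⟨r, hr, hd⟩ := Nat.exists_prime_and_dvd fun e => hk1 (orderOf_eq_one_iff.1 e)
  obtain ⟨b, hb, hbo⟩ := exists_order_of_dvd hr (by rwa [Nat.card_zpowers] : r ∣ Nat.card (Subgroup.zpowers k))
  rw [← h.lines hr (Subgroup.zpowers_le.2 hk hb) hbo]
  refine inf_le_inf_left _ fun z hz => mem_centralizer_singleton_of_commute ?_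
  obtain ⟨i, rfl⟩ := Subgroup.mem_zpowers_iff.1 hb
  exact (commute_of_mem_centralizer_singleton hz).zpow_left i

theorem tau1_central (h : Tau3Fixed p M E P L) (hr : r ∈ Cfsg.tau1 M) {b : G} (hb : b ∈ E) (hbo : orderOf b = r) :
    b ∈ Subgroup.centralizer (E : Set G) := by
  classical
  obtain ⟨hBc, hBp, -⟩ := zpowers_line hr.1 hbo
  set D := ⁅E, E⁆ with hD
  have hDE : D ≤ E := Subgroup.commutator_le_self E
  have hDM : D ≤ ⁅M, M⁆ := Subgroup.commutator_mono h.hE.1 h.hE.1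
  have hrD : ¬ r ∣ Nat.card D := fun hd => hr.2.2.2.1 (hd.trans (Subgroup.card_dvd_of_le hDM))
  haveI : Group.IsSolvable D :=
    haveI := isSolvable_of_ne_top h.hG h.hM.1; isSolvable_of_le (hDE.trans h.hE.1) inferInstance
  have hBD : Subgroup.zpowers b ≤ Subgroup.centralizer (D : Set G) := by
    refine le_centralizer_of_sylows
      ((Subgroup.zpowers_le.2 hb).trans (le_normalizer_commutator Subgroup.le_normalizer Subgroup.le_normalizer))
      (by rw [hBc]; exact hr.1.coprime_iff_not_dvd.2 hrD) inferInstance fun t Y ht htd hY hYD hBY => ?_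
    haveI := Fact.mk ht
    by_cases hY1 : Y = ⊥
    · intro x _ w hw
      rw [hY1] at hw
      rw [Subgroup.mem_bot.1 hw, one_mul, mul_one]
    obtain ⟨z, hz, -, hzo⟩ := exists_central_order ht hY hY1
    have ht3 : t ∈ Cfsg.tau3 M := by
      rcases h.compl_prime ht (htd.trans (Subgroup.card_dvd_of_le hDE)) with h1 | h3
      · exact absurd (htd.trans (Subgroup.card_dvd_of_le hDM)) h1.2.2.2.1
      · exact h3
    obtain ⟨L', h'⟩ := h.exists_tau3Fixed ht3 (hDE (hYD hz)) hzo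
    by_contra hne
    obtain ⟨hfix, -⟩ := fpf_of_cyclic ht hY
      (cyclic_of_prankLE_one h.hG ht ht3.2.2.2 hY ((hYD.trans hDE).trans h.hE.1)) hBY
      (by rw [hBc]; exact (Nat.coprime_primes hr.1 ht).2 fun e => hrD (e ▸ htd)) hne
    refine (zpowers_line ht hzo).2.2 (Subgroup.mem_bot.1 (hfix ▸ ⟨hz, ?_⟩))
    rw [centralizer_zpowers_eq]
    exact mem_centralizer_singleton_of_commute
      (commute_of_mem_centralizer (Subgroup.mem_zpowers z) (h'.tau1_lines hr hb hbo).2).symm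
  intro x hx
  have hc : ⁅x, b⁆ ∈ D := Subgroup.commutator_mem_commutator hx hb
  have hcb : Commute ⁅x, b⁆ b := commute_of_mem_centralizer hc (hBD (Subgroup.mem_zpowers b))
  have h1 : (⁅x, b⁆ * b) ^ r = 1 := by
    rw [show ⁅x, b⁆ * b = x * b * x⁻¹ by rw [commutatorElement_def]; group, conj_pow,
      pow_eq_one_of_line hr.1 hBc (Subgroup.mem_zpowers b), mul_one, mul_inv_cancel]
  rw [hcb.mul_pow, pow_eq_one_of_line hr.1 hBc (Subgroup.mem_zpowers b), mul_one] at h1
  refine commutatorElement_eq_one_iff_mul_comm.1 (orderOf_eq_one_iff.1 ?_)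
  exact Nat.eq_one_of_dvd_coprimes (hr.1.coprime_iff_not_dvd.2 hrD) (orderOf_dvd_of_pow_eq_one h1)
    (Subgroup.orderOf_dvd_natCard D hc)

theorem line_normal (h : Tau3Fixed p M E P L) (hr : r.Prime) {b : G} (hb : b ∈ E) (hbo : orderOf b = r) :
    E ≤ Subgroup.normalizer ((Subgroup.zpowers b : Subgroup G) : Set G) := by
  rcases h.compl_prime hr (hbo ▸ Subgroup.orderOf_dvd_natCard E hb) with h1 | h3
  · refine le_trans ?_ (Subgroup.centralizer_le_normalizer _)
    exact Subgroup.le_centralizer_iff.1 (Subgroup.zpowers_le.2 (h.tau1_central h1 hb hbo))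
  · exact tau3_normalized h.hG h.hM h.hE.1 (fun t ht hd => not_sigma_of_dvd_compl h.hG h.hM h.hE ht hd) hb
      (hbo.symm ▸ h3)

theorem mem_kappa (h : Tau3Fixed p M E P L) (hr : r.Prime) (hd : r ∣ Nat.card E) : r ∈ Cfsg.kappa M := by
  obtain ⟨b, hb, hbo⟩ := exists_order_of_dvd hr hd
  obtain ⟨q, z, hq, hz, hzo, hzP⟩ := h.exists_fixed
  exact mem_kappa_of_line h.hG h.hM hr (not_sigma_of_dvd_compl h.hG h.hM h.hE hr hd) (h.compl_prankLE hr hd)
    (h.hE.1 hb) hbo hz (zpowers_line hq hzo).2.2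
    (commute_of_mem_centralizer hb (Subgroup.le_centralizer_iff.1 h.compl_le_centralizer ⟨hz, hzP⟩))

/-- The complement is the Hall `κ`-subgroup. -/
theorem eq_of_hall (h : Tau3Fixed p M E P L) {K : Subgroup G} (hK : Cfsg.IsPiHallOf (Cfsg.kappa M) K M)
    (hKE : K ≤ E) : K = E := by
  by_contra hne
  obtain ⟨r, hr, hd⟩ := Nat.exists_prime_and_dvd (n := K.relIndex E)
    fun e => hne (le_antisymm hKE (Subgroup.relIndex_eq_one.1 e))
  refine hK.2.2 r hr (h.mem_kappa hr (hd.trans (Subgroup.relIndex_dvd_card K E))) (hd.trans ?_)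
  rw [← Subgroup.relIndex_mul_relIndex K E M hKE h.hE.1]
  exact dvd_mul_right _ _

end Tau3Fixed

end CfsgLib.OddLocal
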