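import Cfsg.Agent.Lib.OddLocal.TauThreeCommon

/-!
BG 14.2, second step: a `τ₁`-line moving powers of a fixed `τ₃`-line lies in the core of the partner.
-/

set_option autoImplicit false
set_option linter.style.haveILetI false
set_option linter.unusedSectionVars false

open scoped commutatorElement
open scoped Pointwise

namespace CfsgLib.OddLocal

open CfsgLib.Coprime
open CfsgLib.BG.FixedLine (conj_mem_of_le_normalizer mem_normalizer_of_conj)

universe u

variable {G : Type u} [Group G] [Finite G] {p q s : ℕ} {M L E P : Subgroup G}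

/-- A common Sylow subgroup invariant under a group centralizing one of its elements. -/
theorem exists_common_invariant_sylow (hG : Cfsg.IsMinSimpleOddOrder G) (hM : IsCoatom M) (hL : IsCoatom L)
    [Fact q.Prime] (hqM : q ∈ Cfsg.sigma M) (hqL : q ∈ Cfsg.sigma L) {A : Subgroup G} (hAM : A ≤ M) (hAL : A ≤ L)
    (hcop : (Nat.card A).Coprime (Nat.card ↥(Cfsg.sigmaCore M ⊓ L))) {z : G} (hzM : z ∈ M) (hzL : z ∈ L)
    (hzo : orderOf z = q) (hzA : z ∈ Subgroup.centralizer (A : Set G))
    (hCz : Subgroup.centralizer ({z} : Set G) ≤ M) :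
    ∃ T : Sylow q G, z ∈ (T : Subgroup G) ∧ (T : Subgroup G) ≤ M ∧ (T : Subgroup G) ≤ L ∧
      A ≤ Subgroup.normalizer ((T : Subgroup G) : Set G) := by
  classical
  have hq : q.Prime := Fact.out
  obtain ⟨-, hZp, -⟩ := zpowers_line hq hzo
  set Z := Subgroup.zpowers z with hZ
  obtain ⟨T₀, hT₀M, hT₀L⟩ : ∃ T : Sylow q G, (T : Subgroup G) ≤ M ∧ (T : Subgroup G) ≤ L := by
    obtain ⟨T, hzT, hTL⟩ := exists_sylow_ge_sigma hqL (Subgroup.zpowers_le.2 hzL) hZp
    by_cases hWc : IsCyclic ↥((T : Subgroup G) ⊓ Subgroup.centralizer ({z} : Set G))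
    · exact ⟨T, (cyclic_of_cyclic_centralizer hq T.2 (hzT (Subgroup.mem_zpowers z)) hzo hWc).1.trans hCz, hTL⟩
    · obtain ⟨T', -, hTL', hTM', -, -⟩ := exists_common_sylow hG hL hM hqL hqM (T.2.to_le inf_le_left)
        (inf_le_left.trans hTL) (inf_le_right.trans hCz) hWc
      exact ⟨T', hTM', hTL'⟩
  set K := Cfsg.sigmaCore M ⊓ L with hK
  have hKs : Group.IsSolvable K :=
    haveI := isSolvable_of_ne_top hG hL.1; isSolvable_of_le inf_le_right inferInstance
  obtain ⟨S, hZS, hAS⟩ := exists_invariant_sylow_ge (p := q)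
    (le_normalizer_inf_of_le (hAM.trans (le_normalizer_piCoreOf _ M)) (hAL.trans Subgroup.le_normalizer))
    hcop (Or.inr hKs) (le_inf (le_sigmaCore_of_isPGroup hG hM hq hqM (Subgroup.zpowers_le.2 hzM) hZp)
      (Subgroup.zpowers_le.2 hzL)) hZp
    ((Subgroup.le_centralizer_iff.1 (Subgroup.zpowers_le.2 hzA)).trans (Subgroup.centralizer_le_normalizer _))
  obtain ⟨T, hST⟩ := (S.2.map K.subtype).exists_le_sylow
  obtain ⟨k, -, hk⟩ := exists_conj_le_sylow S T₀.2 (le_inf (le_sigmaCore_of_isPGroup hG hM hq hqM hT₀M T₀.2) hT₀L)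
  have hTS : (T : Subgroup G) = S.toSubgroup.map (Subgroup.subtype _) := by
    refine (Subgroup.eq_of_le_of_card_ge hST ?_).symm
    rw [T.card_eq_multiplicity, ← T₀.card_eq_multiplicity, ← card_conj_smul k (T₀ : Subgroup G)]
    exact Subgroup.card_le_of_le hk
  exact ⟨T, hTS ▸ hZS (Subgroup.mem_zpowers z),
    hTS ▸ (Subgroup.map_subtype_le _).trans (inf_le_left.trans (piCoreOf_le _ M)),
    hTS ▸ (Subgroup.map_subtype_le _).trans inf_le_right, hTS ▸ hAS⟩

/-- A common Sylow subgroup of two different maximal subgroups is abelian. -/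
theorem common_sylow_abelian (hG : Cfsg.IsMinSimpleOddOrder G) (hM : IsCoatom M) (hL : IsCoatom L) (hne : L ≠ M)
    [Fact q.Prime] (hqM : q ∈ Cfsg.sigma M) (hqL : q ∈ Cfsg.sigma L) (T : Sylow q G)
    (hTM : (T : Subgroup G) ≤ M) (hTL : (T : Subgroup G) ≤ L) :
    ∀ a ∈ (T : Subgroup G), ∀ b ∈ (T : Subgroup G), a * b = b * a := by
  have hq : q.Prime := Fact.out
  by_contra hab
  push Not at hab
  obtain ⟨a, ha, b, hb, hne'⟩ := hab
  have h1 : ⁅(T : Subgroup G), (T : Subgroup G)⁆ ≠ ⊥ := fun e => hne'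
    (commutatorElement_eq_one_iff_mul_comm.1 (Subgroup.mem_bot.1 (e ▸ Subgroup.commutator_mem_commutator ha hb)))
  obtain ⟨x, hx, -, hxo⟩ := exists_central_order hq (T.2.to_le (Subgroup.commutator_le_self _)) h1
  obtain ⟨hXc, -, -⟩ := zpowers_line hq hxo
  have hTK : ∀ {N : Subgroup G}, IsCoatom N → q ∈ Cfsg.sigma N → (T : Subgroup G) ≤ N →
      Subgroup.centralizer ((Subgroup.zpowers x : Subgroup G) : Set G) ≤ N ∧
        ∀ L' : Subgroup G, IsCoatom L' →
          Subgroup.centralizer ((Subgroup.zpowers x : Subgroup G) : Set G) ≤ L' → L' = N := fun hN hqN hTN => by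
    have h2 := le_sigmaCore_of_isPGroup hG hN hq hqN hTN T.2
    exact (sigma_line_uniq hG hN hqN (Subgroup.zpowers_le.2 (hTN ((Subgroup.commutator_le_self _) hx))) hXc
      (Or.inr (Subgroup.zpowers_le.2 (Subgroup.commutator_mono h2 h2 hx)))).1
  exact hne ((hTK hM hqM hTM).2 L hL (hTK hL hqL hTL).1)

namespace Tau3Fixed

theorem le_core_of_fixed (h : Tau3Fixed p M E P L) {a : G}
    (hPa : P ≤ Subgroup.centralizer ({a} : Set G)) : a ∈ Subgroup.centralizer (P : Set G) := fun x hx =>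
  (commute_of_mem_centralizer_singleton (hPa hx)).symm.eq

/-- The moving `τ₁`-prime is a `σ`-prime of the partner. -/
theorem sigma_of_common (h : Tau3Fixed p M E P L) (hs : s.Prime) {e a : G} (he : e ∈ E) {k : ℕ}
    (hk : e ^ s ^ k = 1) (hne : e ∉ Subgroup.centralizer (P : Set G)) (ha : a ∈ Subgroup.zpowers e)
    (hao : orderOf a = s) (hq : q.Prime) {z : G} (hzM : z ∈ Cfsg.sigmaCore M)
    (hzP : z ∈ Subgroup.centralizer (P : Set G)) (hzo : orderOf z = q) (hza : Commute a z) :
    s ∈ Cfsg.sigma L := by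
  classical
  by_contra hsσ
  haveI := Fact.mk hs
  haveI := Fact.mk hq
  have hs1 : s ∈ Cfsg.tau1 M := h.tau1_of_acting hs he hk hne
  have haE : a ∈ E := Subgroup.zpowers_le.2 he ha
  have haL : a ∈ L := h.hEL haE
  have haM : a ∈ M := h.hE.1 haE
  obtain ⟨hAc, hAp, -⟩ := zpowers_line hs hao
  obtain ⟨-, -, hz1⟩ := zpowers_line hq hzo
  have hzL : z ∈ L := h.centralizer_le hzP
  have hzM' : z ∈ M := piCoreOf_le _ M hzM
  have hqM : q ∈ Cfsg.sigma M := sigma_of_mem_core hq hzM hzo
  have huq := uniq_of_fixed_elem h.hG h.hM hs1 haM hao hq hzM hzo hza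
  have hPz : P ≤ Cfsg.sigmaCore L ⊓ Subgroup.centralizer ({z} : Set G) := fun x hx =>
    ⟨h.hP_le_core hx, mem_centralizer_singleton_of_commute (commute_of_mem_centralizer hx hzP).symm⟩
  have hnot : Cfsg.PRankLE s 1 L → ¬ P ≤ Subgroup.centralizer ({a} : Set G) := fun hr hle =>
    h.not_centralizes hs he hk hne ha hao hsσ hr (h.le_core_of_fixed hle)
  have hsd := Subgroup.orderOf_dvd_natCard L haL
  rw [hao] at hsd
  by_cases hqL : q ∈ Cfsg.sigma L
  · rcases tau_cases h.hG h.hL hs hsσ hsd with (h1 | h3) | h2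
    · exact h.hLM (huq.2 L h.hL (uniq_of_fixed_elem h.hG h.hL h1 haL hao hq
        (sigma_mem_of_elem h.hG h.hL hq hqL hzL (k := 1) (by rw [pow_one, ← hzo, pow_orderOf_eq_one])) hzo hza).1)
    · -- `s ∈ τ₃(L)`: a common Sylow subgroup
      obtain ⟨T, hzT, hTM, hTL, haT⟩ := exists_common_invariant_sylow h.hG h.hM h.hL hqM hqL
        (A := Subgroup.zpowers a) (Subgroup.zpowers_le.2 haM) (Subgroup.zpowers_le.2 haL)
        (by rw [hAc]; exact hs.coprime_iff_not_dvd.2 fun hd => hs1.2.1 (isPi_piCoreOf _ M s hs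
          (hd.trans (Subgroup.card_dvd_of_le inf_le_left))))
        hzM' hzL hzo (by rw [centralizer_zpowers_eq]; exact mem_centralizer_singleton_of_commute hza) huq.1
      set C := Subgroup.centralizer ((T : Subgroup G) : Set G) with hC
      set N := Subgroup.normalizer ((T : Subgroup G) : Set G) with hN
      have hqβ : q ∉ Cfsg.beta L := h.not_beta hqM
      have had : a ∈ ⁅L, L⁆ := mem_derived_of_primary h.hG h.hL hs (Or.inr h3) haL (k := 1)
        (by rw [pow_one, ← hao, pow_orderOf_eq_one])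
      have hsq : s ≠ q := fun e' => hsσ (e' ▸ hqL)
      have haC : Subgroup.zpowers a ≤ C := centralizes_of_le_derived h.hG h.hL hs hq hsq.symm hqβ hAp
        (Subgroup.zpowers_le.2 had) T.2 hTL haT
      have hab := common_sylow_abelian h.hG h.hM h.hL h.hLM hqM hqL T hTM hTL
      have hNM : N ≤ M := sylow_normalizer_le' hqM T hTM
      have hNL : N ≤ L := sylow_normalizer_le' hqL T hTL
      have hT1 : (T : Subgroup G) ≠ ⊥ := fun e' => hz1 (Subgroup.mem_bot.1 (e' ▸ hzT))
      refine not_normalizer_le_centralizer h.hG T hT1 fun n hn => ?_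
      have hCN : C ≤ N := Subgroup.centralizer_le_normalizer _
      obtain ⟨c, hc, hce⟩ := line_conj h.hG hs (prankLE_mono (hCN.trans hNM) hs1.2.2.2.2) haC hAc
        (P' := MulAut.conj n • Subgroup.zpowers a) (fun x hx t ht => by
          rw [mem_conj_smul_iff] at hx
          have ht' : n⁻¹ * t * n ∈ (T : Subgroup G) := by
            simpa using conj_mem_of_le_normalizer (inv_mem hn) t ht
          calc t * x = n * ((n⁻¹ * t * n) * (n⁻¹ * x * n)) * n⁻¹ := by group
            _ = n * ((n⁻¹ * x * n) * (n⁻¹ * t * n)) * n⁻¹ := by rw [haC hx _ ht']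
            _ = _ := by group)
        (by rw [card_conj_smul, hAc])
      rw [← mul_smul, ← map_mul] at hce
      have hcn : c * n ∈ Subgroup.centralizer ({a} : Set G) := by
        have hm : c * n ∈ Subgroup.normalizer ((Subgroup.zpowers a : Subgroup G) : Set G) :=
          mem_normalizer_iff_conj_smul.2 hce
        have h4 : ⁅c * n, a⁆ ∈ Subgroup.zpowers a ⊓ ⁅M, M⁆ :=
          ⟨by
            rw [commutatorElement_def]
            exact (Subgroup.zpowers a).mul_mem (conj_mem_of_le_normalizer hm a (Subgroup.mem_zpowers a))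
              (inv_mem (Subgroup.mem_zpowers a)),
            Subgroup.commutator_mem_commutator (hNM (mul_mem (hCN hc) hn)) haM⟩
        rw [eq_bot_of_disjoint (π := {s}) (ρ := {r | r ≠ s})
          (((isPi_singleton_iff hs).2 hAp).mono inf_le_left)
          (fun r hr hd e' => hs1.2.2.2.1 (e' ▸ hd.trans (Subgroup.card_dvd_of_le inf_le_right)))
          (Set.disjoint_singleton_left.2 fun h' => h' rfl), Subgroup.mem_bot] at h4
        exact Subgroup.mem_centralizer_singleton_iff.2 (commutatorElement_eq_one_iff_mul_comm.1 h4)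
      suffices hgoal : c * n ∈ C by
        have h5 := C.mul_mem (C.inv_mem hc) hgoal
        rwa [inv_mul_cancel_left] at h5
      refine mem_of_primary fun t ht _ y hy hyk => ?_
      obtain ⟨j, hj⟩ := hyk
      haveI := Fact.mk ht
      have hyN : y ∈ N := Subgroup.zpowers_le.2 (mul_mem (hCN hc) hn) hy
      have hya : y ∈ Subgroup.centralizer ({a} : Set G) := Subgroup.zpowers_le.2 hcn hy
      have hYN : Subgroup.zpowers y ≤ N := Subgroup.zpowers_le.2 hyN
      by_cases htq : t = q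
      · subst htq
        have h6 : IsPGroup t ↥(Subgroup.zpowers y ⊔ (T : Subgroup G)) :=
          IsPGroup.to_sup_of_normal_right' (isPGroup_zpowers hj) T.2 hYN
        have hyT : y ∈ (T : Subgroup G) :=
          (T.is_maximal' h6 le_sup_right).le (Subgroup.mem_sup_left (Subgroup.mem_zpowers y))
        exact fun w hw => hab w hw y hyT
      by_contra hyC
      obtain ⟨b, hb, hbo⟩ := exists_line_pow ht hj fun e' => hyC (e' ▸ one_mem _)
      have hyL : y ∈ L := hNL hyN
      have hder : t ∈ Cfsg.sigma L ∨ t ∈ Cfsg.tau3 L → False := fun ht' => hyC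
        (centralizes_of_le_derived h.hG h.hL ht hq (Ne.symm htq) hqβ (isPGroup_zpowers hj)
          (Subgroup.zpowers_le.2 (mem_derived_of_primary h.hG h.hL ht ht' hyL hj)) T.2 hTL hYN
          (Subgroup.mem_zpowers y))
      have htL : t ∉ Cfsg.sigma L := fun h' => hder (Or.inl h')
      rcases tau_cases h.hG h.hL ht htL
        (hbo ▸ Subgroup.orderOf_dvd_natCard L (Subgroup.zpowers_le.2 hyL hb)) with (h1' | h3') | h2'
      · have hbL : b ∈ L := Subgroup.zpowers_le.2 hyL hb
        have hbM : b ∈ M := Subgroup.zpowers_le.2 (hNM hyN) hb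
        have hab' : Commute a b := commute_of_mem_centralizer_singleton (Subgroup.zpowers_le.2 hya hb)
        have hTb : (T : Subgroup G) ≤ Subgroup.centralizer ({b} : Set G) := by
          by_cases htM : t ∈ Cfsg.sigma M
          · have hbP : b ∈ Subgroup.centralizer (P : Set G) := h.inf_le_centralizer
              ⟨sigma_mem_of_elem h.hG h.hM ht htM hbM (k := 1) (by rw [pow_one, ← hbo, pow_orderOf_eq_one]), hbL⟩
            refine absurd (fun x hx => ?_) (hnot h3.2.2.2)
            exact centralizer_le_of_commute h.hG h.hL h1' hbL hbo haL hs hao hsσ hab'.symm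
              ⟨h.hP_le_core hx, mem_centralizer_singleton_of_commute (commute_of_mem_centralizer hx hbP).symm⟩
          · exact fun w hw => centralizer_le_of_commute h.hG h.hM hs1 haM hao hbM ht hbo htM hab'
              ⟨le_sigmaCore_of_isPGroup h.hG h.hM hq hqM hTM T.2 hw,
                mem_centralizer_singleton_of_commute (haC (Subgroup.mem_zpowers a) w hw).symm⟩
        refine hyC fun w hw => (commute_of_mem_centralizer_singleton (centralizer_le_of_primary h.hG h.hL ht htL
          h1'.2.2.2.2 hyL hj hb hbo ⟨le_sigmaCore_of_isPGroup h.hG h.hL hq hqL hTL T.2 hw, hTb hw⟩)).symm.eq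
      · exact hder (Or.inr h3')
      · obtain ⟨A, A₀, hA, -⟩ := exists_exc_mem h.hG h.hL h2' (one_mem L) (one_pow t)
        obtain ⟨g, hg⟩ := conj_of_normal_sylow h.hM h.hL hqM T (hA.sylow_normal hqL T hTL)
        exact h.not_conj g hg
    · obtain ⟨A, A₀, hA, -⟩ := exists_exc_mem h.hG h.hL h2 (one_mem L) (one_pow s)
      obtain ⟨T, -, hT⟩ := exists_sylow_ge_sigma hqL (bot_le (a := L)) IsPGroup.of_bot
      obtain ⟨g, hg⟩ := conj_of_normal_sylow h.hM h.hL hqM T (hA.sylow_normal hqL T hT)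
      exact h.not_conj g hg
  rcases tau_cases h.hG h.hL hq hqL (hzo ▸ Subgroup.orderOf_dvd_natCard L hzL) with (h1 | h3) | h2
  · -- `q ∈ τ₁(L)`
    have hle : P ≤ Subgroup.centralizer ({a} : Set G) := hPz.trans
      (centralizer_le_of_commute h.hG h.hL h1 hzL hzo haL hs hao hsσ hza.symm)
    by_cases hr : Cfsg.PRankLE s 1 L
    · exact hnot hr hle
    · have hu := centralizer_le_of_tau2 h.hG h.hL
        (⟨hs, hsσ, prankLE_two_of_not_sigma h.hG h.hL hs hsσ, hr⟩ : s ∈ Cfsg.tau2 L) haL hao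
        (line_ne_bot h.hp.1 h.hP) h.hP_le_core (h.le_core_of_fixed hle)
      exact hsσ (partner_sigma h.hG h.hM hs hs1.2.1 hs1.2.2.2.2 (Subgroup.zpowers_le.2 haM) hAc hq hzM hzo
        (by rw [centralizer_zpowers_eq]; exact mem_centralizer_singleton_of_commute hza) h.hL
        (normalizer_le_of_uniq_elem h.hG h.hL hu)).1
  · -- `q ∈ τ₃(L)`
    obtain ⟨F, hF, haF, hzF⟩ := exists_compl_pair h.hG h.hL haL hzL hza
      (fun r hr hd => by rw [hao] at hd; exact (Nat.prime_dvd_prime_iff_eq hr hs).1 hd ▸ hsσ)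
      (fun r hr hd => by rw [hzo] at hd; exact (Nat.prime_dvd_prime_iff_eq hr hq).1 hd ▸ hqL)
    have h' : Tau3Fixed q L F (Subgroup.zpowers z) M := ⟨h.hG, h.hL, hF, h3, Subgroup.zpowers_le.2 hzF,
      (zpowers_line hq hzo).1, fun e' => line_ne_bot h.hp.1 h.hP (le_bot_iff.1 (e' ▸ hPz.trans
        (inf_le_inf_left _ (by rw [centralizer_zpowers_eq])))), h.hM, normalizer_le_of_uniq_elem h.hG h.hM huq⟩
    rcases tau_cases h.hG h.hL hs hsσ hsd with (h1s | h3s) | h2s
    · obtain ⟨f, hf, ⟨t, j, ht, hj⟩, hfZ⟩ := exists_acting h.hG h.hL hF h3 (Subgroup.zpowers_le.2 hzF)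
        (zpowers_line hq hzo).1
      have ht1 : t ∈ Cfsg.tau1 L := h'.tau1_of_acting ht hf hj hfZ
      obtain ⟨c, hc, hca⟩ := tau1_commute h.hG h.hL hF.1 hf haF
        (fun r hr hd => (prime_dvd_of_primary hr ht hj hd).symm ▸ ht1)
        (fun r hr hd => by rw [hao] at hd; exact (Nat.prime_dvd_prime_iff_eq hr hs).1 hd ▸ h1s)
      set f₁ := c * f * c⁻¹ with hf₁
      have hf₁F : f₁ ∈ F := F.mul_mem (F.mul_mem hc hf) (F.inv_mem hc)
      have hj₁ : f₁ ^ t ^ j = 1 := by rw [hf₁, conj_pow, hj, mul_one, mul_inv_cancel]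
      have hf₁Z : f₁ ∉ Subgroup.centralizer ((Subgroup.zpowers z : Subgroup G) : Set G) := fun hmem => hfZ (by
        have h5 := conj_mem_of_le_normalizer (le_normalizer_centralizer h'.compl_le_normalizer (F.inv_mem hc))
          f₁ hmem
        simpa [hf₁, mul_assoc] using h5)
      obtain ⟨b, hb, hbo⟩ := exists_line_pow ht hj₁ fun e' => hf₁Z (e' ▸ one_mem _)
      have hbF : b ∈ F := Subgroup.zpowers_le.2 hf₁F hb
      have hbL : b ∈ L := hF.1 hbF
      have hbM : b ∈ M := h'.hEL hbF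
      haveI := Fact.mk ht
      have hab' : Commute a b := by
        obtain ⟨i, rfl⟩ := Subgroup.mem_zpowers_iff.1 hb
        exact (hca.symm).zpow_right i
      by_cases htM : t ∈ Cfsg.sigma M
      · have hbP : b ∈ Subgroup.centralizer (P : Set G) := h.inf_le_centralizer
          ⟨sigma_mem_of_elem h.hG h.hM ht htM hbM (k := 1) (by rw [pow_one, ← hbo, pow_orderOf_eq_one]), hbL⟩
        exact hnot h1s.2.2.2.2 fun x hx => centralizer_le_of_commute h.hG h.hL ht1 hbL hbo haL hs hao hsσ hab'.symm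
          ⟨h.hP_le_core hx, mem_centralizer_singleton_of_commute (commute_of_mem_centralizer hx hbP).symm⟩
      · have htr : Cfsg.PRankLE t 1 M := by
          by_contra hr
          exact tau2_fixed_false h.hG h.hM hs1 (Subgroup.zpowers_le.2 haM) hAc hq hzM hzo
            (by rw [centralizer_zpowers_eq]; exact mem_centralizer_singleton_of_commute hza)
            (⟨ht, htM, prankLE_two_of_not_sigma h.hG h.hM ht htM, hr⟩ : t ∈ Cfsg.tau2 M) hbM hbo
            (by rw [centralizer_zpowers_eq]; exact mem_centralizer_singleton_of_commute hab')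
        have hzb : z ∈ Cfsg.sigmaCore M ⊓ Subgroup.centralizer ({b} : Set G) := ⟨hzM,
          centralizer_le_of_commute h.hG h.hM hs1 haM hao hbM ht hbo htM hab'
            ⟨hzM, mem_centralizer_singleton_of_commute hza⟩⟩
        refine hf₁Z ?_
        rw [centralizer_zpowers_eq]
        exact mem_centralizer_singleton_of_commute (commute_of_mem_centralizer_singleton
          (centralizer_le_of_primary h.hG h.hM ht htM htr (h'.hEL hf₁F) hj₁ hb hbo hzb)).symm
    · refine hnot h3s.2.2.2 fun x hx => ?_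
      have h5 := h'.tau3_line_centralizes (Subgroup.zpowers_le.2 haF) h3s hAc
        (show x ∈ Cfsg.sigmaCore L ⊓ _ from ⟨(hPz hx).1, by rw [centralizer_zpowers_eq]; exact (hPz hx).2⟩)
      rwa [centralizer_zpowers_eq] at h5
    · exact h'.tau2_empty h2s
  · exact h.hLM (huq.2 L h.hL (centralizer_le_of_tau2 h.hG h.hL h2 hzL hzo (line_ne_bot h.hp.1 h.hP) h.hP_le_core
      hzP).1)

theorem exists_common_elem (h : Tau3Fixed p M E P L) (hs : s.Prime) {e a : G} (he : e ∈ E) {k : ℕ}
    (hk : e ^ s ^ k = 1) (hne : e ∉ Subgroup.centralizer (P : Set G)) (ha : a ∈ Subgroup.zpowers e)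
    (hao : orderOf a = s) :
    ∃ (q : ℕ) (z : G), q.Prime ∧ z ∈ Cfsg.sigmaCore M ∧ z ∈ Subgroup.centralizer (P : Set G) ∧ orderOf z = q ∧
      Commute a z := by
  obtain ⟨q, hq, hd⟩ := Nat.exists_prime_and_dvd fun e' =>
    h.exists_common hs he hk hne ha hao (Subgroup.card_eq_one.1 e')
  obtain ⟨z, hz, hzo⟩ := exists_order_of_dvd hq hd
  exact ⟨q, z, hq, hz.1.1, hz.1.2, hzo, commute_of_mem_centralizer_singleton hz.2⟩

theorem sigma_of_acting (h : Tau3Fixed p M E P L) (hs : s.Prime) {e a : G} (he : e ∈ E) {k : ℕ}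
    (hk : e ^ s ^ k = 1) (hne : e ∉ Subgroup.centralizer (P : Set G)) (ha : a ∈ Subgroup.zpowers e)
    (hao : orderOf a = s) : s ∈ Cfsg.sigma L := by
  obtain ⟨q, z, hq, hzM, hzP, hzo, hza⟩ := h.exists_common_elem hs he hk hne ha hao
  exact h.sigma_of_common hs he hk hne ha hao hq hzM hzP hzo hza

/-- The moving lines have the same fixed points and centralize the line. -/
theorem acting_data (h : Tau3Fixed p M E P L) (hs : s.Prime) {e a : G} (he : e ∈ E) {k : ℕ}
    (hk : e ^ s ^ k = 1) (hne : e ∉ Subgroup.centralizer (P : Set G)) (ha : a ∈ Subgroup.zpowers e)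
    (hao : orderOf a = s) :
    Cfsg.sigmaCore M ⊓ Subgroup.centralizer ({a} : Set G) = Cfsg.sigmaCore M ⊓ Subgroup.centralizer (P : Set G) ∧
      a ∈ Subgroup.centralizer (P : Set G) := by
  classical
  haveI := Fact.mk hs
  obtain ⟨q, z, hq, hzM, hzP, hzo, hza⟩ := h.exists_common_elem hs he hk hne ha hao
  haveI := Fact.mk hq
  have hsσ : s ∈ Cfsg.sigma L := h.sigma_of_common hs he hk hne ha hao hq hzM hzP hzo hza
  have hs1 : s ∈ Cfsg.tau1 M := h.tau1_of_acting hs he hk hne
  have haE : a ∈ E := Subgroup.zpowers_le.2 he ha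
  have haL : a ∈ L := h.hEL haE
  have haM : a ∈ M := h.hE.1 haE
  obtain ⟨hAc, hAp, -⟩ := zpowers_line hs hao
  have hone : a ^ s ^ 1 = 1 := by rw [pow_one, ← hao, pow_orderOf_eq_one]
  have haK : a ∈ Cfsg.sigmaCore L := sigma_mem_of_elem h.hG h.hL hs hsσ haL hone
  have hY := h.le_of_derived hs haE hao (mem_derived_of_primary h.hG h.hL hs (Or.inl hsσ) haL hone)
  have hzL : z ∈ L := h.centralizer_le hzP
  have huq := uniq_of_fixed_elem h.hG h.hM hs1 haM hao hq hzM hzo hza
  have hCa : Subgroup.centralizer ({a} : Set G) ≤ L := by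
    by_cases hqL : q ∈ Cfsg.sigma L
    · exact (no_common_sylow h.hG h.hM h.hL h.not_conj hs1 hsσ (Subgroup.zpowers_le.2 haM)
        (Subgroup.zpowers_le.2 haL) hAc hq (sigma_of_mem_core hq hzM hzo) hqL (piCoreOf_le _ M hzM) hzL hzo
        (by rw [centralizer_zpowers_eq]; exact mem_centralizer_singleton_of_commute hza) huq.1).elim
    rcases tau_cases h.hG h.hL hq hqL (hzo ▸ Subgroup.orderOf_dvd_natCard L hzL) with (h1 | h3) | h2
    · exact (uniq_of_fixed_elem h.hG h.hL h1 hzL hzo hs haK hao hza.symm).1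
    · obtain ⟨F, hF, hZF⟩ := exists_compl_ge h.hG h.hL (Subgroup.zpowers_le.2 hzL)
        (isPi_zpowers (π := {r | r ∉ Cfsg.sigma L}) fun r hr hd => by
          rw [hzo] at hd; exact (Nat.prime_dvd_prime_iff_eq hr hq).1 hd ▸ hqL)
      have haz : a ∈ Cfsg.sigmaCore L ⊓ Subgroup.centralizer ((Subgroup.zpowers z : Subgroup G) : Set G) :=
        ⟨haK, by rw [centralizer_zpowers_eq]; exact mem_centralizer_singleton_of_commute hza.symm⟩
      have h' : Tau3Fixed q L F (Subgroup.zpowers z) M := ⟨h.hG, h.hL, hF, h3, hZF,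
        (zpowers_line hq hzo).1, fun e' => (zpowers_line hs hao).2.2 (Subgroup.mem_bot.1 (e' ▸ haz)), h.hM,
        normalizer_le_of_uniq_elem h.hG h.hM huq⟩
      obtain ⟨f, hf, ⟨t, j, ht, hj⟩, hfZ⟩ := exists_acting h.hG h.hL hF h3 hZF (zpowers_line hq hzo).1
      obtain ⟨b, hb, hbo⟩ := exists_line_pow ht hj fun e' => hfZ (e' ▸ one_mem _)
      obtain ⟨q', z', hq', hz'L, hz'Z, hz'o, hzb⟩ := h'.exists_common_elem ht hf hj hfZ hb hbo
      have htM := h'.sigma_of_common ht hf hj hfZ hb hbo hq' hz'L hz'Z hz'o hzb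
      have hbF : b ∈ F := Subgroup.zpowers_le.2 hf hb
      have hba : Commute b a := commute_of_mem_centralizer_singleton
        (h'.le_of_derived ht hbF hbo (mem_derived_of_primary h.hG h.hM ht (Or.inl htM) (h'.hEL hbF) (k := 1)
          (by rw [pow_one, ← hbo, pow_orderOf_eq_one])) haz)
      exact (uniq_of_fixed_elem h.hG h.hL (h'.tau1_of_acting ht hf hj hfZ) (hF.1 hbF) hbo hs haK hao hba).1
    · exact absurd (huq.2 L h.hL (centralizer_le_of_tau2 h.hG h.hL h2 hzL hzo (line_ne_bot h.hp.1 h.hP)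
        h.hP_le_core hzP).1) h.hLM
  have heq : Cfsg.sigmaCore M ⊓ Subgroup.centralizer ({a} : Set G) =
      Cfsg.sigmaCore M ⊓ Subgroup.centralizer (P : Set G) :=
    le_antisymm (h.fixed_eq ▸ inf_le_inf_left _ hCa) (le_inf inf_le_left hY)
  refine ⟨heq, ?_⟩
  exact centralizes_of_fixed_le h.hG h.hM h.hp.1 h.hp.2.1 h.hPM h.hP hs hs1.2.1
    (fun e' => hs1.2.2.2.1 (e' ▸ h.hp.2.2.1)) (Subgroup.zpowers_le.2 haM) hAc
    ((Subgroup.zpowers_le.2 haE).trans h.compl_le_normalizer)
    (by rw [centralizer_zpowers_eq, heq]; exact inf_le_right) h.hE h.compl_le_normalizer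
    (fun hle => h.hLM ((h.hM.le_iff.1 (hle.trans h.hNP)).resolve_left h.hL.1)) (Subgroup.mem_zpowers a)

end Tau3Fixed

end CfsgLib.OddLocal
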