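import Cfsg.Agent.Lib.OddLocal.TauTwoNormal
import Cfsg.Agent.Lib.OddLocal.CyclicLift
import Cfsg.Agent.Lib.BG.LinearTwo
import Cfsg.Agent.S1545

/-!
An invariant fixed-point-free line in `A` when the `τ₁ ∪ τ₃`-elements act fixed point freely on `M_σ`.
-/

set_option autoImplicit false
set_option linter.style.haveILetI false
set_option linter.unusedSectionVars false

open scoped commutatorElement
open scoped Pointwise

namespace CfsgLib.OddLocal

open CfsgLib.Coprime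
open CfsgLib.BG.FixedLine (conj_mem_of_le_normalizer mem_normalizer_of_conj)

universe u

variable {G : Type u} [Group G] [Finite G] {p q : ℕ} {M E A A₀ : Subgroup G}

/-- A complement of `M_σ` in `M`. -/
theorem exists_compl (hG : Cfsg.IsMinSimpleOddOrder G) (hM : IsCoatom M) :
    ∃ E : Subgroup G, Cfsg.IsComplIn E (Cfsg.sigmaCore M) M := by
  set N := Cfsg.piCore (Cfsg.sigma M) ↥M
  have hcop : (Nat.card N).Coprime N.index := Nat.coprime_of_dvd fun r hr h1 h2 =>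
    not_dvd_index_sigma hG hM hr (Cfsg.Agent.S1886.piCore_isPi _ r hr h1) h2
  obtain ⟨H, hH⟩ := Subgroup.exists_right_complement'_of_coprime hcop
  refine ⟨H.map M.subtype, Subgroup.map_subtype_le _, Subgroup.map_subtype_le _, ?_, fun m hm => ?_⟩
  · show H.map M.subtype ⊓ N.map M.subtype = ⊥
    rw [← Subgroup.map_inf _ _ _ M.subtype_injective, inf_comm, hH.disjoint.eq_bot, Subgroup.map_bot]
  · obtain ⟨⟨n, x⟩, he : (n : M) * (x : M) = ⟨m, hm⟩⟩ := hH.2 ⟨m, hm⟩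
    refine ⟨_, ⟨x, x.2, rfl⟩, _, ⟨(x : M)⁻¹ * (n : M) * x, ?_, rfl⟩, ?_⟩
    · simpa using Subgroup.Normal.conj_mem (inferInstance : N.Normal) _ n.2 (x : M)⁻¹
    · rw [← map_mul, show (x : M) * ((x : M)⁻¹ * (n : M) * x) = n * x by group, he]; rfl

theorem mem_tau2_of_elem (hG : Cfsg.IsMinSimpleOddOrder G) (hM : IsCoatom M) (hA : MaxElem p A) (hAM : A ≤ M)
    (hσ : p ∉ Cfsg.sigma M) : p ∈ Cfsg.tau2 M :=
  ⟨hA.prime, hσ, prankLE_two_of_not_sigma hG hM hA.prime hσ,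
    fun hr => hA.not_isCyclic (cyclic_of_prankLE_one hG hA.prime hr hA.isPGroup hAM)⟩

theorem le_alphaCore_of_isPGroup (hG : Cfsg.IsMinSimpleOddOrder G) (hM : IsCoatom M) (hq : q.Prime)
    (hqα : q ∈ Cfsg.alpha M) {Y : Subgroup G} (hYM : Y ≤ M) (hY : IsPGroup q Y) : Y ≤ Cfsg.alphaCore M := by
  haveI := Fact.mk hq
  have h : Y.subgroupOf M ≤ Cfsg.piCore (Cfsg.alpha M) ↥M := by
    refine le_of_coprime_index (Nat.coprime_of_dvd fun r hr h1 h2 => ?_)
    rw [Nat.card_congr (Subgroup.subgroupOfEquivOfLe hYM).toEquiv] at h1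
    exact not_dvd_index_alpha hG hM hr (((isPi_singleton_iff hq).2 hY r hr h1 : r = q) ▸ hqα) h2
  exact (Subgroup.map_subgroupOf_eq_of_le hYM).ge.trans (Subgroup.map_mono h)

/-- An element of a normal `π`-subgroup centralizes a `π'`-group it normalizes. -/
theorem mem_centralizer_of_core {π : Set ℕ} {L K : Subgroup G} (hp : p.Prime) (hpπ : p ∉ π) {k : G}
    (hk : k ∈ Cfsg.piCoreOf π L) (hKL : K ≤ L) (hkK : k ∈ Subgroup.normalizer (K : Set G)) (hK : IsPGroup p K) :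
    k ∈ Subgroup.centralizer (K : Set G) := by
  intro a ha
  have hbot : Cfsg.piCoreOf π L ⊓ K = ⊥ := eq_bot_of_disjoint (π := π) (ρ := {p})
    (fun r hr hd => isPi_piCoreOf π L r hr (hd.trans (Subgroup.card_dvd_of_le inf_le_left)))
    (fun r hr hd => (isPi_singleton_iff hp).2 hK r hr (hd.trans (Subgroup.card_dvd_of_le inf_le_right)))
    (Set.disjoint_singleton_right.2 hpπ)
  have h1 : a * k * a⁻¹ * k⁻¹ ∈ Cfsg.piCoreOf π L ⊓ K := by
    refine Subgroup.mem_inf.2 ⟨mul_mem (conj_mem_of_le_normalizer (le_normalizer_piCoreOf π L (hKL ha)) k hk) (inv_mem hk), ?_⟩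
    rw [show a * k * a⁻¹ * k⁻¹ = a * (k * a⁻¹ * k⁻¹) by group]
    exact mul_mem ha (conj_mem_of_le_normalizer hkK _ (inv_mem ha))
  rw [hbot, Subgroup.mem_bot, mul_inv_eq_one, mul_inv_eq_iff_eq_mul] at h1
  exact h1

namespace Exc

/-- `N(A)' ≤ C(A)` when the Sylow `p`-subgroups are abelian. -/
theorem derived_normalizer_centralizes (h : Exc p M A A₀) [Fact p.Prime]
    (hab : ∀ S : Sylow p G, IsMulCommutative (S : Subgroup G)) :
    ⁅Subgroup.normalizer (A : Set G), Subgroup.normalizer (A : Set G)⁆ ≤ Subgroup.centralizer (A : Set G) := by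
  classical
  set N := Subgroup.normalizer (A : Set G) with hN
  have hNtop : N ≠ ⊤ := normalizer_ne_top h.hG h.maxElem.ne_bot (h.maxElem.ne_top h.hG)
  haveI hNs := isSolvable_of_ne_top h.hG hNtop
  obtain ⟨S, hAS⟩ := h.maxElem.isPGroup.exists_le_sylow
  haveI := hab S
  have hSC : (S : Subgroup G) ≤ Subgroup.centralizer (A : Set G) := fun s hs a ha =>
    congrArg Subtype.val (mul_comm' (⟨a, hAS ha⟩ : (S : Subgroup G)) ⟨s, hs⟩)
  have hSN : (S : Subgroup G) ≤ N := hSC.trans (Subgroup.centralizer_le_normalizer _)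
  set f := Subgroup.normalizerMonoidHom A with hf
  have hker : ∀ g : N, f g = 1 ↔ (g : G) ∈ Subgroup.centralizer (A : Set G) := fun g => by
    refine ⟨fun hg a ha => ?_, fun hg => MulEquiv.ext fun a => Subtype.ext ?_⟩
    · have h1 : (g : G) * a * (g : G)⁻¹ = a := congrArg Subtype.val (DFunLike.congr_fun hg (⟨a, ha⟩ : A))
      exact (mul_inv_eq_iff_eq_mul.1 h1).symm
    · show (g : G) * a * (g : G)⁻¹ = a
      exact mul_inv_eq_iff_eq_mul.2 (hg a a.2).symm
  have hrange : ¬ p ∣ f.ker.index := fun hd => by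
    have hle : (S.subtype hSN : Subgroup N) ≤ f.ker := fun s hs => MonoidHom.mem_ker.2 ((hker s).2 (hSC hs))
    exact (S.subtype hSN).not_dvd_index' (Subgroup.index_ne_zero_of_finite) (hd.trans (Subgroup.index_dvd_of_le hle))
  refine Subgroup.commutator_le.2 fun a ha b hb => ?_
  have hmem : (⁅(⟨a, ha⟩ : N), ⟨b, hb⟩⁆ : N) ∈ commutator N :=
    Subgroup.commutator_mem_commutator (Subgroup.mem_top _) (Subgroup.mem_top _)
  have h1 := CfsgLib.BG.derived_pow_eq_one (p := p) (h.maxElem.ne_two h.hG) (V := A)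
    (fun x y => Subtype.ext (h.maxElem.comm x.2 y.2)) (fun x => Subtype.ext (h.hAe.2 x x.2)) h.hA2.le hNs
    (h.hG.1.of_dvd_nat N.card_subgroup_dvd_card) f hmem
  have h2 : f ⁅(⟨a, ha⟩ : N), ⟨b, hb⟩⁆ ^ f.ker.index = 1 := by
    rw [← map_pow]; exact MonoidHom.mem_ker.1 (f.ker.pow_index_mem _)
  have h3 : orderOf (f ⁅(⟨a, ha⟩ : N), ⟨b, hb⟩⁆) = 1 := Nat.eq_one_of_dvd_coprimes
    (h.hp.coprime_iff_not_dvd.2 hrange) (orderOf_dvd_of_pow_eq_one h1) (orderOf_dvd_of_pow_eq_one h2)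
  exact (hker _).1 (orderOf_eq_one_iff.1 h3)

/-- Every prime-power element of a complement fixes a line of `A`. -/
theorem exists_fixed_line (h : Exc p M A A₀) [Fact p.Prime] (hE : Cfsg.IsComplIn E (Cfsg.sigmaCore M) M)
    (hAE : A ≤ E) (hab : ∀ S : Sylow p G, IsMulCommutative (S : Subgroup G))
    (hreg : ∀ e ∈ E, e ≠ 1 → (∀ r : ℕ, r.Prime → r ∣ orderOf e → r ∈ Cfsg.tau1 M ∪ Cfsg.tau3 M) →
      Cfsg.sigmaCore M ⊓ Subgroup.centralizer ({e} : Set G) = ⊥)
    (hq : q.Prime) {k : G} (hk : k ∈ E) {j : ℕ} (hkj : k ^ q ^ j = 1) :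
    ∃ L : Subgroup G, L ≤ A ∧ Nat.card L = p ∧ k ∈ Subgroup.normalizer (L : Set G) := by
  classical
  haveI := Fact.mk hq
  have hA := h.maxElem
  have hpτ : p ∈ Cfsg.tau2 M := mem_tau2_of_elem h.hG h.hM hA h.hAM h.hσ
  obtain ⟨S, hAS, hSE, hNS, hES, hSall⟩ := h.sylow_normal_compl hE hAE hpτ hab
  haveI hSc := hab S
  have hSC : (S : Subgroup G) ≤ Subgroup.centralizer (A : Set G) := fun s hs a ha =>
    congrArg Subtype.val (mul_comm' (⟨a, hAS ha⟩ : (S : Subgroup G)) ⟨s, hs⟩)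
  by_cases hkC : k ∈ Subgroup.centralizer (A : Set G)
  · exact ⟨A₀, h.hA₀, h.hA₀c, Subgroup.centralizer_le_normalizer _
      (Subgroup.centralizer_le (SetLike.coe_subset_coe.2 h.hA₀) hkC)⟩
  have hqp : q ≠ p := fun e => by subst e; exact hkC (hSC (hSall k hk ⟨j, hkj⟩))
  by_contra hno
  push Not at hno
  have hEA : E ≤ Subgroup.normalizer (A : Set G) := h.compl_le_normalizer hE hAE
  have hCE : Subgroup.centralizer (A : Set G) ≤ E :=
    (le_inf h.centralizer_le (Subgroup.centralizer_le_normalizer _)).trans (h.inf_normalizer_eq hE hAE).le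
  set Zk := Subgroup.zpowers k with hZk
  have hk1 : k ≠ 1 := fun e => hkC (e ▸ one_mem _)
  have hkord : ∀ {g : G}, g ∈ Zk → IsPGroup q Zk → ∀ r : ℕ, r.Prime → r ∣ orderOf g → r = q := fun hg hP r hr hd => by
    obtain ⟨l, hl⟩ := IsPGroup.iff_orderOf.mp hP ⟨_, hg⟩
    rw [Subgroup.orderOf_mk] at hl
    exact (Nat.prime_dvd_prime_iff_eq hr hq).1 (hr.dvd_of_dvd_pow (hl ▸ hd))
  have hZkq : IsPGroup q Zk := fun y => ⟨j, Subtype.ext (by
    obtain ⟨i, hi⟩ := Subgroup.mem_zpowers_iff.1 y.2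
    rw [SubmonoidClass.coe_pow, ← hi, ← zpow_natCast, ← zpow_mul, mul_comm, zpow_mul, zpow_natCast, hkj, one_zpow]
    rfl)⟩
  have hZkE : Zk ≤ E := Subgroup.zpowers_le.2 hk
  have hqE : q ∣ Nat.card E := by
    obtain ⟨z, hz, -, hzo⟩ := exists_central_order hq hZkq (fun e => hk1 (Subgroup.zpowers_eq_bot.1 e))
    exact hzo ▸ Subgroup.orderOf_dvd_natCard E (hZkE hz)
  have hqσ : q ∉ Cfsg.sigma M := not_sigma_of_dvd_compl h.hG h.hM hE hq hqE
  have hqM : q ∣ Nat.card M := hqE.trans (Subgroup.card_dvd_of_le hE.1)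
  rcases tau_cases h.hG h.hM hq hqσ hqM with h13 | h2
  swap
  · exact hkC (h.sylow_centralizes hE hAE h2 hpτ hqp hZkq hZkE (Subgroup.mem_zpowers k))
  have hr1 : Cfsg.PRankLE q 1 M := h13.elim (fun h1 => h1.2.2.2.2) (fun h3 => h3.2.2.2)
  obtain ⟨P, hP⟩ := (hZkq.comap_of_injective E.subtype E.subtype_injective :
    IsPGroup q (Zk.subgroupOf E)).exists_le_sylow
  set Q := (P : Subgroup E).map E.subtype with hQ
  have hZkQ : Zk ≤ Q := (Subgroup.map_subgroupOf_eq_of_le hZkE).ge.trans (Subgroup.map_mono hP)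
  have hkQ : k ∈ Q := hZkQ (Subgroup.mem_zpowers k)
  have hQE : Q ≤ E := Subgroup.map_subtype_le _
  have hQq : IsPGroup q Q := P.2.map _
  have hQcyc : IsCyclic Q := cyclic_of_prankLE_one h.hG hq hr1 hQq (hQE.trans hE.1)
  have hQcomm : ∀ g ∈ Q, ∀ g' ∈ Q, Commute g g' := fun g hg g' hg' => by
    obtain ⟨c, hc⟩ := hQcyc.exists_generator
    obtain ⟨i, hi⟩ := Subgroup.mem_zpowers_iff.1 (hc ⟨g, hg⟩)
    obtain ⟨i', hi'⟩ := Subgroup.mem_zpowers_iff.1 (hc ⟨g', hg'⟩)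
    have := congrArg Subtype.val ((Commute.zpow_zpow_self c i i').eq)
    rw [hi, hi'] at this
    exact this
  -- elements commuting with `k` act trivially or without fixed points on `A`
  have hfull : ∀ g : G, Commute g k → g ∉ Subgroup.centralizer (A : Set G) →
      ∀ a ∈ A, g * a = a * g → a = 1 := by
    intro g hgk hgC a ha hga
    by_contra ha1
    set F := A ⊓ Subgroup.centralizer ({g} : Set G) with hF
    have haF : a ∈ F := ⟨ha, Subgroup.mem_centralizer_singleton_iff.2 hga.symm⟩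
    have hFk : k ∈ Subgroup.normalizer (F : Set G) := mem_normalizer_of_conj fun x hx => by
      refine ⟨conj_mem_of_le_normalizer (hEA hk) x hx.1, Subgroup.mem_centralizer_singleton_iff.2 ?_⟩
      exact ((hgk.symm.symm.mul_right (Subgroup.mem_centralizer_singleton_iff.1 hx.2).symm).mul_right
        hgk.inv_right).eq.symm
    obtain ⟨i, hi2, hi⟩ := (Nat.dvd_prime_pow h.hp).1 (h.hA2 ▸ Subgroup.card_dvd_of_le (inf_le_left : F ≤ A))
    interval_cases i
    · rw [pow_zero] at hi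
      have := (Subgroup.card_eq_one.1 hi).le haF
      rw [Subgroup.mem_bot] at this
      exact ha1 this
    · exact hno F inf_le_left (hi.trans (pow_one p)) hFk
    · refine hgC fun x hx => ?_
      have hx' : x ∈ F := (Subgroup.eq_of_le_of_card_ge inf_le_left (by rw [h.hA2, hi])).ge hx
      exact Subgroup.mem_centralizer_singleton_iff.1 hx'.2
  by_cases hQ0 : Q ⊓ Subgroup.centralizer (A : Set G) = ⊥
  · -- a Frobenius group `A⟨w⟩` acting on `M_σ`
    obtain ⟨w, hw, -, hwo⟩ := exists_central_order hq hZkq (fun e => hk1 (Subgroup.zpowers_eq_bot.1 e))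
    have hw1 : w ≠ 1 := fun e => hq.ne_one (by rw [← hwo, e, orderOf_one])
    have hwE : w ∈ E := hZkE hw
    set W := Subgroup.zpowers w with hW
    have hWE : W ≤ E := Subgroup.zpowers_le.2 hwE
    have hWQ : W ≤ Q := Subgroup.zpowers_le.2 (hZkQ hw)
    have hWne : W ≠ ⊥ := fun e => hw1 (Subgroup.zpowers_eq_bot.1 e)
    have hWA : A ⊓ W = ⊥ := eq_bot_of_disjoint (π := {p}) (ρ := {q})
      (fun r hr hd => (isPi_singleton_iff h.hp).2 hA.isPGroup r hr (hd.trans (Subgroup.card_dvd_of_le inf_le_left)))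
      (fun r hr hd => (isPi_singleton_iff hq).2 (hQq.to_le hWQ) r hr (hd.trans (Subgroup.card_dvd_of_le inf_le_right)))
      (Set.disjoint_singleton.2 hqp.symm)
    have hsup : A ⊔ W ≤ E := sup_le hAE hWE
    have hH1 : Cfsg.sigmaCore M ⊓ Subgroup.centralizer (A : Set G) = ⊥ := h.sigmaCore_inf_centralizer
    have hH2 : Cfsg.sigmaCore M ⊓ Subgroup.centralizer (W : Set G) = ⊥ := by
      rw [hW, Subgroup.zpowers_eq_closure, Subgroup.centralizer_closure]
      refine hreg w hwE hw1 fun r hr hd => ?_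
      rw [hwo] at hd
      exact (Nat.prime_dvd_prime_iff_eq hr hq).1 hd ▸ h13
    have hH3 : Cfsg.sigmaCore M ⊓ Subgroup.centralizer ((A ⊔ W : Subgroup G) : Set G) = ⊥ :=
      eq_bot_iff.2 ((inf_le_inf_left _ (Subgroup.centralizer_le (SetLike.coe_subset_coe.2 le_sup_left))).trans hH1.le)
    haveI := isSolvable_of_ne_top h.hG h.hM.1
    have hform := Cfsg.Agent.S1545.result A W (Cfsg.sigmaCore M) hA.ne_bot hWne hWA
      (fun e he a ha => conj_mem_of_le_normalizer (hEA (hWE he)) a ha)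
      (fun e he he1 a ha hea => hfull e (hQcomm e (hWQ he) k hkQ) (fun hc => he1 (by
        have := hQ0.le ⟨hWQ he, hc⟩
        rwa [Subgroup.mem_bot] at this)) a ha hea)
      (fun x hx m hm => conj_mem_of_le_normalizer (le_normalizer_piCoreOf _ M (hE.1 (hsup hx))) m hm)
      (eq_bot_iff.2 ((inf_le_inf_left _ hsup).trans (inf_comm _ _ |>.le.trans hE.2.2.1.le)))
      (isSolvable_of_le (Subgroup.map_subtype_le _) inferInstance)
      (Nat.coprime_of_dvd fun r hr h1 h2 => not_sigma_of_dvd_compl h.hG h.hM hE hr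
        (h2.trans (Subgroup.card_dvd_of_le hsup)) (isPi_piCoreOf _ M r hr h1))
    rw [hH1, hH2, hH3, Subgroup.card_bot, one_pow, one_mul, mul_one] at hform
    exact sigmaCore_ne_bot h.hG h.hM (Subgroup.card_eq_one.1 hform)
  obtain ⟨z, hz, -, hzo⟩ := exists_central_order hq (hQq.to_le inf_le_left) hQ0
  set Z := Subgroup.zpowers z with hZ
  have hZc : Nat.card Z = q := by rw [hZ, Nat.card_zpowers, hzo]
  have hZQ : Z ≤ Q := Subgroup.zpowers_le.2 hz.1
  have hz1 : z ≠ 1 := fun e => hq.ne_one (by rw [← hzo, e, orderOf_one])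
  have hZ1 : Z ≠ ⊥ := fun e => hz1 (Subgroup.zpowers_eq_bot.1 e)
  have hzq : ∀ x ∈ Z, x ^ q = 1 := fun x hx => by
    have := pow_card_eq_one' (x := (⟨x, hx⟩ : Z))
    rw [hZc] at this
    simpa using congrArg Subtype.val this
  obtain ⟨L, hL, hNL⟩ := (eq_top_or_exists_le_coatom _).resolve_left
    (normalizer_ne_top h.hG hZ1 fun e => h.hM.1 (top_unique (e.ge.trans (hZQ.trans (hQE.trans hE.1)))))
  have hAL : A ≤ L := fun a ha => hNL (Subgroup.centralizer_le_normalizer _ fun x hx => by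
    obtain ⟨i, rfl⟩ := Subgroup.mem_zpowers_iff.1 hx
    exact ((show Commute z a from (hz.2 a ha).symm).zpow_left i).eq)
  have hQL : Q ≤ L := fun g hg => hNL (Subgroup.centralizer_le_normalizer _ fun x hx =>
    (hQcomm x (hZQ hx) g hg).eq)
  have hkL : k ∈ L := hQL hkQ
  obtain ⟨P', hP'⟩ := exists_sylow_of_compl hE hqσ P
  have hLM : L ≠ M := by
    intro e
    obtain ⟨n, hn, hnM⟩ := exists_normalizer_not_mem hqM hqσ P'
    rw [hP'] at hn
    refine hnM (e ▸ hNL (mem_normalizer_of_conj fun x hx => mem_line_of_cyclic hq hQcyc hZQ hZc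
      (conj_mem_of_le_normalizer hn x (hZQ hx)) (by rw [conj_pow, hzq x hx, mul_one, mul_inv_cancel])))
  have hSpow : ∀ x ∈ (S : Subgroup G), x ^ p = 1 → x ∈ A := fun x hx hxp => hA.mem_of_commutes (hSC hx) hxp
  have hpα : p ∉ Cfsg.alpha L := by
    rintro ⟨-, hr⟩
    obtain ⟨B, -, hBe, hB3⟩ := exists_elementary hr
    obtain ⟨S', hBS'⟩ := (isPGroup_of_elementary hBe).exists_le_sylow
    obtain ⟨g, hg⟩ := MulAction.exists_smul_eq G S' S
    have hle : MulAut.conj g • B ≤ A := fun x hx => by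
      refine hSpow x ?_ ?_
      · rw [← hg, Sylow.coe_subgroup_smul]; exact Subgroup.map_mono hBS' hx
      · rw [mem_conj_smul_iff] at hx
        have := hBe.2 _ hx
        rw [show g⁻¹ * x * g = g⁻¹ * x * (g⁻¹)⁻¹ by rw [inv_inv], conj_pow, inv_inv, mul_eq_one_iff_eq_inv,
          inv_mul_eq_iff_eq_mul, mul_inv_cancel] at this
        exact this
    have := Nat.le_of_dvd Nat.card_pos (Subgroup.card_dvd_of_le hle)
    rw [card_conj_smul, h.hA2] at this
    exact absurd (hB3.trans this) (not_le.2 (Nat.pow_lt_pow_right h.hp.one_lt (by norm_num)))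
  have hkA : k ∈ Subgroup.normalizer (A : Set G) := hEA hk
  by_cases hqL : q ∈ Cfsg.sigma L
  · have hpL : p ∈ Cfsg.sigma L := by
      by_contra hpL
      exact hkC (mem_centralizer_of_core h.hp hpL
        (le_sigmaCore_of_isPGroup h.hG hL hq hqL hQL hQq hkQ) hAL hkA hA.isPGroup)
    have hqα : q ∉ Cfsg.alpha L := fun hα => hkC (mem_centralizer_of_core h.hp hpα
      (le_alphaCore_of_isPGroup h.hG hL hq hα hQL hQq hkQ) hAL hkA hA.isPGroup)
    have hAbot : A ≤ Subgroup.normalizer ((⊥ : Subgroup G) : Set G) := fun a _ =>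
      mem_normalizer_of_conj fun x hx => by rw [Subgroup.mem_bot] at hx ⊢; rw [hx]; group
    obtain ⟨R, -, hRL, hAR, -⟩ := hA.exists_sylow_ge h.hG hL hAL hq hqL hqp bot_le IsPGroup.of_bot hAbot
    have hAd : A ≤ ⁅L, L⁆ := le_derived_of_sigma h.hG hL hpL hA.isPGroup hAL
    have hAC := centralizes_of_le_derived h.hG hL h.hp hq hqp (fun hβ => hqα hβ.1) hA.isPGroup hAd R.2 hRL hAR
    have hRC : (R : Subgroup G) ≤ Subgroup.centralizer (A : Set G) := Subgroup.le_centralizer_iff.1 hAC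
    have hRE : (R : Subgroup G) ≤ E := hRC.trans hCE
    obtain ⟨e, he⟩ := MulAction.exists_smul_eq E (R.subtype hRE) P
    have hkP : (⟨k, hk⟩ : E) ∈ (P : Subgroup E) := by
      obtain ⟨x, hx, hxe⟩ := hkQ
      exact (show x = ⟨k, hk⟩ from Subtype.ext hxe) ▸ hx
    rw [← he, Sylow.coe_subgroup_smul, mem_conj_smul_iff] at hkP
    have hkR : (e : G)⁻¹ * k * e ∈ (R : Subgroup G) := hkP
    have hkC' := conj_mem_of_le_normalizer (le_normalizer_centralizer (A := Subgroup.normalizer (A : Set G))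
      (H := A) le_rfl (hEA e.2)) _ (hRC hkR)
    rw [show (e : G) * ((e : G)⁻¹ * k * e) * (e : G)⁻¹ = k by group] at hkC'
    exact hkC hkC'
  -- `q ∈ τ₂(L)`
  obtain ⟨Q₁, hQ₁⟩ := (hQq.comap_of_injective L.subtype L.subtype_injective :
    IsPGroup q (Q.subgroupOf L)).exists_le_sylow
  set Q₁' := (Q₁ : Subgroup L).map L.subtype with hQ₁'
  have hQQ₁ : Q ≤ Q₁' := (Subgroup.map_subgroupOf_eq_of_le hQL).ge.trans (Subgroup.map_mono hQ₁)
  have hqLd : q ∣ Nat.card L := hzo ▸ Subgroup.orderOf_dvd_natCard L (hQL hz.1)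
  have hQ₁nc : ¬ IsCyclic Q₁' := by
    intro hc
    obtain ⟨n, hn, hnL⟩ := exists_normalizer_not_mem hqLd hqL Q₁
    exact hnL (hNL (mem_normalizer_of_conj fun x hx => mem_line_of_cyclic hq hc (hZQ.trans hQQ₁) hZc
      (conj_mem_of_le_normalizer hn x (hQQ₁ (hZQ hx))) (by rw [conj_pow, hzq x hx, mul_one, mul_inv_cancel])))
  obtain ⟨B, hBQ, hBe, hB2⟩ := exists_elem_sq h.hG hq (Q₁.2.map L.subtype) hQ₁nc
  obtain ⟨B₀, hB⟩ := exists_exc h.hG hL hq hqL (hBQ.trans (Subgroup.map_subtype_le _)) hBe hB2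
  have hqτ : q ∈ Cfsg.tau2 L := mem_tau2_of_elem h.hG hL hB.maxElem hB.hAM hqL
  have hpL : p ∈ Cfsg.sigma L := by
    by_contra hpL
    obtain ⟨F, hF⟩ := exists_compl h.hG hL
    have hQA : Q ≤ Subgroup.normalizer (A : Set G) := hQE.trans hEA
    obtain ⟨m, hm, hmF⟩ := exists_conj_le_compl h.hG hL hF (K := A ⊔ Q) (sup_le hAL hQL) fun r hr hd => by
      have h1 := hd.trans ⟨_, (card_sup_mul_card_inf (K := A) (S := Q) hQA).symm⟩
      rcases hr.dvd_mul.1 h1 with h3 | h3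
      · exact ((isPi_singleton_iff h.hp).2 hA.isPGroup r hr h3 : r = p) ▸ hpL
      · exact ((isPi_singleton_iff hq).2 hQq r hr h3 : r = q) ▸ hqL
    have hm' := hA.conj m
    have hmA : MulAut.conj m • A ≤ F := (Subgroup.map_mono le_sup_left).trans hmF
    obtain ⟨A₁, h'⟩ := exists_exc h.hG hL h.hp hpL (hmA.trans hF.1) hm'.elem hm'.card
    have hC' := h'.sylow_centralizes hF hmA hqτ (mem_tau2_of_elem h.hG hL hm' h'.hAM hpL) hqp (hQq.map _)
      ((Subgroup.map_mono le_sup_right).trans hmF) (conj_mem_conj_smul hkQ)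
    refine hkC fun a ha => ?_
    have := hC' _ (conj_mem_conj_smul ha)
    have h5 : m * (a * k) * m⁻¹ = m * (k * a) * m⁻¹ := by
      simpa [mul_assoc] using this
    exact mul_left_cancel (mul_right_cancel h5)
  obtain ⟨PL, hPL⟩ := (hA.isPGroup.comap_of_injective L.subtype L.subtype_injective :
    IsPGroup p (A.subgroupOf L)).exists_le_sylow
  obtain ⟨T, hT⟩ := exists_sylow_map_eq hpL PL
  have hAT : A ≤ (T : Subgroup G) :=
    ((Subgroup.map_subgroupOf_eq_of_le hAL).ge.trans (Subgroup.map_mono hPL)).trans hT.ge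
  have hTL : (T : Subgroup G) ≤ L := hT.le.trans (Subgroup.map_subtype_le _)
  have hLT := hB.sylow_normal hpL T hTL
  haveI := hab T
  have hLA : L ≤ Subgroup.normalizer (A : Set G) := fun g hg => mem_normalizer_of_conj fun a ha => by
    refine hA.mem_of_commutes (fun a' ha' => ?_) (by rw [conj_pow, h.hAe.2 a ha, mul_one, mul_inv_cancel])
    exact congrArg Subtype.val (mul_comm' (⟨a', hAT ha'⟩ : (T : Subgroup G))
      ⟨g * a * g⁻¹, conj_mem_of_le_normalizer (hLT hg) a (hAT ha)⟩)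
  have hQ₁comm := hB.sylow_comm Q₁ hBQ
  -- `Q₁ ∩ M = Q`
  have hQ₁M : ∀ x ∈ Q₁', x ∈ M → x ∈ Q := fun x hx hxM => by
    have hR : IsPGroup q ((Q₁' ⊓ M).subgroupOf M) :=
      ((Q₁.2.map L.subtype).to_le inf_le_left).comap_of_injective M.subtype M.subtype_injective
    have h3 := P'.is_maximal' hR fun s hs => ⟨hQQ₁ (hP'.le ⟨s, hs, rfl⟩), s.2⟩
    rw [show Q = (P' : Subgroup M).map M.subtype from hP'.symm, ← h3]
    exact ⟨⟨x, hxM⟩, ⟨hx, hxM⟩, rfl⟩
  obtain ⟨b, hbB, hbQ⟩ : ∃ b ∈ B, b ∉ Q := SetLike.not_le_iff_exists.1 fun hle => hB.maxElem.not_isCyclic (by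
    haveI := hQcyc
    exact isCyclic_of_injective (Subgroup.inclusion hle) (Subgroup.inclusion_injective hle))
  have hex : ∃ i : ℕ, k ^ q ^ i ∈ Subgroup.centralizer (A : Set G) := ⟨j, by rw [hkj]; exact one_mem _⟩
  have hi0 : Nat.find hex ≠ 0 := fun h0 => hkC (by
    have := Nat.find_spec hex
    rwa [h0, pow_zero, pow_one] at this)
  set w := k ^ q ^ (Nat.find hex - 1) with hw
  have hwC : w ∉ Subgroup.centralizer (A : Set G) :=
    Nat.find_min hex (Nat.pred_lt hi0)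
  have hwq : w ^ q ∈ Subgroup.centralizer (A : Set G) := by
    rw [hw, ← pow_mul, ← pow_succ, Nat.sub_add_cancel (Nat.one_le_iff_ne_zero.2 hi0)]
    exact Nat.find_spec hex
  have hwQ : w ∈ Q := Q.pow_mem hkQ _
  have hbQ₁ : b ∈ Q₁' := hBQ hbB
  have hbN : b ∈ Subgroup.normalizer (A : Set G) := hLA (hB.hAM hbB)
  have hwN : w ∈ Subgroup.normalizer (A : Set G) := pow_mem hkA _
  set f := Subgroup.normalizerMonoidHom A with hf
  have hker : ∀ g : Subgroup.normalizer (A : Set G), (g : G) ∈ Subgroup.centralizer (A : Set G) → f g = 1 :=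
    fun g hg => MulEquiv.ext fun a => Subtype.ext (show (g : G) * a * (g : G)⁻¹ = a from
      mul_inv_eq_iff_eq_mul.2 (hg a a.2).symm)
  have hfix : ∀ g : Subgroup.normalizer (A : Set G), Commute (g : G) k →
      (g : G) ∉ Subgroup.centralizer (A : Set G) → ∀ a : A, f g a = a → a = 1 := fun g hgk hgC a hga =>
    Subtype.ext (hfull g hgk hgC a a.2 (mul_inv_eq_iff_eq_mul.1 (congrArg Subtype.val hga)))
  have hbC : b ∉ Subgroup.centralizer (A : Set G) := fun hc => hbQ (hQ₁M b hbQ₁ (h.centralizer_le hc))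
  letI : CommGroup A := { (inferInstance : Group A) with mul_comm := fun x y => Subtype.ext (hA.comm x.2 y.2) }
  obtain ⟨a, ha, ha1⟩ : ∃ a ∈ A₀, a ≠ 1 := by
    obtain ⟨a, ha, ha1, -⟩ := h.exists_gen
    exact ⟨a, ha, ha1⟩
  refine ha1 (congrArg Subtype.val (CyclicLift.eq_one_of_two_fpf (V := A) hq (β := f ⟨b, hbN⟩) (ω := f ⟨w, hwN⟩)
    ?_ ?_ ?_ ?_ ?_ (v := ⟨a, h.hA₀ ha⟩) ?_))
  · rw [← map_pow]
    exact hker _ (by
      show b ^ q ∈ _
      rw [hBe.2 b hbB]; exact one_mem _)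
  · rw [← map_pow]
    exact hker _ hwq
  · exact (show Commute (⟨b, hbN⟩ : Subgroup.normalizer (A : Set G)) ⟨w, hwN⟩ from
      Subtype.ext (hQ₁comm b hbQ₁ w (hQQ₁ hwQ))).map f
  · exact hfix ⟨b, hbN⟩ (hQ₁comm b hbQ₁ k (hQQ₁ hkQ)) hbC
  · intro i
    rw [← map_pow, ← map_mul]
    refine hfix _ (hQ₁comm _ (mul_mem (pow_mem hbQ₁ i) (hQQ₁ hwQ)) k (hQQ₁ hkQ)) fun hc => ?_
    have hbi : b ^ i ∈ M := by
      have := mul_mem (h.centralizer_le hc) (inv_mem ((hQE.trans hE.1) hwQ))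
      simpa using this
    by_cases hqi : q ∣ i
    · obtain ⟨t, rfl⟩ := hqi
      refine hwC ?_
      simpa [pow_mul, hBe.2 b hbB] using hc
    obtain ⟨t, ht⟩ := exists_pow_eq_self_of_coprime (x := b) (n := i)
      (Nat.Coprime.coprime_dvd_right (orderOf_dvd_of_pow_eq_one (hBe.2 b hbB))
        (hq.coprime_iff_not_dvd.2 hqi).symm)
    exact hbQ (ht ▸ Q.pow_mem (hQ₁M _ (pow_mem hbQ₁ i) hbi) t)
  · intro hv
    have h1 : orderOf (⟨a, h.hA₀ ha⟩ : A) = 1 := Nat.eq_one_of_dvd_coprimes ((Nat.coprime_primes hq h.hp).2 hqp)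
      (orderOf_dvd_of_pow_eq_one hv) (orderOf_dvd_of_pow_eq_one (Subtype.ext (h.hAe.2 a (h.hA₀ ha))))
    exact orderOf_eq_one_iff.1 h1

theorem conj_normalizer_of_mem {L : Subgroup G} {g k : G} (hLA : L ≤ A) (hk : k ∈ Subgroup.normalizer (L : Set G))
    (hc : k⁻¹ * g⁻¹ * k * g ∈ Subgroup.centralizer (A : Set G)) :
    k ∈ Subgroup.normalizer ((MulAut.conj g • L : Subgroup G) : Set G) :=
  mem_normalizer_of_conj fun x hx => by
    rw [mem_conj_smul_iff] at hx ⊢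
    have h1 : g⁻¹ * k * g ∈ Subgroup.normalizer (L : Set G) := by
      rw [show g⁻¹ * k * g = k * (k⁻¹ * g⁻¹ * k * g) by group]
      exact mul_mem hk (Subgroup.centralizer_le_normalizer _ (Subgroup.centralizer_le (SetLike.coe_subset_coe.2 hLA) hc))
    have := conj_mem_of_le_normalizer h1 _ hx
    convert this using 1
    group

/-- A line normalized by an element outside `M` has no fixed points on `M_σ`. -/
theorem fpf_of_normalized (h : Exc p M A A₀) {X : Subgroup G} (hXA : X ≤ A) (hXc : Nat.card X = p) {n : G}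
    (hnM : n ∉ M) (hnX : n ∈ Subgroup.normalizer (X : Set G)) :
    Cfsg.sigmaCore M ⊓ Subgroup.centralizer (X : Set G) = ⊥ := by
  by_contra hne
  have hX1 : X ≠ ⊥ := fun e => h.hp.ne_one (by rw [← hXc, e, Subgroup.card_bot])
  obtain ⟨hle, huniq⟩ := h.centralizer_uniq hXA hX1 hne
  have h1 : MulAut.conj n • M = M := huniq _ (((MulAut.conj n).mapSubgroup).isCoatom_iff _ |>.2 h.hM) fun x hx => by
    rw [mem_conj_smul_iff]
    refine hle ?_
    have := conj_mem_of_le_normalizer ((le_normalizer_centralizer (A := Subgroup.normalizer (X : Set G))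
      (H := X) le_rfl) (inv_mem hnX)) x hx
    rwa [inv_inv] at this
  exact hnM ((normalizer_eq_of_isCoatom h.hG h.hM le_rfl (coatom_ne_bot h.hG h.hM) Subgroup.le_normalizer).le
    (mem_normalizer_iff_conj_smul.2 h1))

/-- An invariant line without fixed points on `M_σ`. -/
theorem exists_invariant_fpf_line (h : Exc p M A A₀) [Fact p.Prime] (hE : Cfsg.IsComplIn E (Cfsg.sigmaCore M) M)
    (hAE : A ≤ E) (hab : ∀ S : Sylow p G, IsMulCommutative (S : Subgroup G))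
    (hreg : ∀ e ∈ E, e ≠ 1 → (∀ r : ℕ, r.Prime → r ∣ orderOf e → r ∈ Cfsg.tau1 M ∪ Cfsg.tau3 M) →
      Cfsg.sigmaCore M ⊓ Subgroup.centralizer ({e} : Set G) = ⊥) :
    ∃ L : Subgroup G, L ≤ A ∧ Nat.card L = p ∧ E ≤ Subgroup.normalizer (L : Set G) ∧
      Cfsg.sigmaCore M ⊓ Subgroup.centralizer (L : Set G) = ⊥ := by
  classical
  by_cases hall : ∀ L : Subgroup G, L ≤ A → Nat.card L = p → E ≤ Subgroup.normalizer (L : Set G)
  · obtain ⟨B₁, -, hB₁, -, hc₁, -, -, hf₁, -⟩ := h.exists_fpf_lines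
    exact ⟨B₁, hB₁, hc₁, hall B₁ hB₁ hc₁, hf₁⟩
  push Not at hall
  obtain ⟨L₁, hL₁, hL₁c, hE₁⟩ := hall
  obtain ⟨r, hr, k, hk, ⟨j, hkj⟩, hkL₁⟩ : ∃ r : ℕ, r.Prime ∧ ∃ k ∈ E, (∃ j : ℕ, k ^ r ^ j = 1) ∧
      k ∉ Subgroup.normalizer (L₁ : Set G) := by
    by_contra hne
    push Not at hne
    refine hE₁ (inf_eq_left.1 (Subgroup.eq_of_le_of_card_ge (inf_le_left :
      E ⊓ Subgroup.normalizer (L₁ : Set G) ≤ E) (Nat.le_of_dvd Nat.card_pos ?_)))
    refine (Nat.dvd_iff_prime_pow_dvd_dvd _ _).2 fun r k hr hk => ?_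
    rcases Nat.eq_zero_or_pos k with rfl | hk0
    · simp
    haveI := Fact.mk hr
    obtain ⟨P⟩ : Nonempty (Sylow r E) := inferInstance
    have hPD : (P : Subgroup E).map E.subtype ≤ E := Subgroup.map_subtype_le _
    refine dvd_trans ?_ (Subgroup.card_dvd_of_le (le_inf hPD fun x hx => ?_))
    · rw [Subgroup.card_subtype, P.card_eq_multiplicity]
      exact Nat.pow_dvd_pow r ((hr.pow_dvd_iff_le_factorization Nat.card_pos.ne').1 hk)
    · obtain ⟨i, hi⟩ := (P.2.map E.subtype) ⟨x, hx⟩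
      exact hne r hr x (hPD hx) ⟨i, congrArg Subtype.val hi⟩
  obtain ⟨L₂, hL₂, hL₂c, hkL₂⟩ := h.exists_fixed_line hE hAE hab hreg hr hk hkj
  set N := Subgroup.normalizer (A : Set G) with hN
  have hEA : E ≤ N := h.compl_le_normalizer hE hAE
  have hcomm := h.derived_normalizer_centralizes hab
  have hA := h.maxElem
  have hinv : ∀ g ∈ N, g ∈ Subgroup.normalizer (L₂ : Set G) := by
    intro g hg
    have hc : ∀ y ∈ N, k⁻¹ * y⁻¹ * k * y ∈ Subgroup.centralizer (A : Set G) := fun y hy => hcomm (by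
      rw [show k⁻¹ * y⁻¹ * k * y = ⁅k⁻¹, y⁻¹⁆ by rw [commutatorElement_def]; group]
      exact Subgroup.commutator_mem_commutator (inv_mem (hEA hk)) (inv_mem hy))
    have hle : ∀ {y : G}, y ∈ N → MulAut.conj y • L₂ ≤ A := fun hy =>
      (Subgroup.map_mono hL₂).trans (conj_smul_eq_self_of_mem_normalizer hy).le
    set L₃ := MulAut.conj g • L₂ with hL₃
    by_cases h32 : L₃ = L₂
    · exact mem_normalizer_iff_conj_smul.2 h32
    set L₄ := MulAut.conj g • L₃ with hL₄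
    have hg2 : L₄ = MulAut.conj (g ^ 2) • L₂ := by rw [hL₄, hL₃, sq, map_mul, mul_smul]
    by_cases h42 : L₄ = L₂
    · obtain ⟨t, ht⟩ := h.hG.1.of_dvd_nat (orderOf_dvd_natCard g)
      have h1 : g = (g ^ 2) ^ (t + 1) := by
        rw [← pow_mul, show 2 * (t + 1) = (2 * t + 1) + 1 by ring, pow_succ, ← ht, pow_orderOf_eq_one, one_mul]
      rw [h1]
      exact pow_mem (mem_normalizer_iff_conj_smul.2 (hg2.symm.trans h42)) _
    exfalso
    have h43 : L₄ ≠ L₃ := fun e => h32 (smul_left_cancel _ (e.trans hL₃))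
    have hk₃ : k ∈ Subgroup.normalizer (L₃ : Set G) := conj_normalizer_of_mem hL₂ hkL₂ (hc g hg)
    have hk₄ : k ∈ Subgroup.normalizer (L₄ : Set G) := by
      rw [hg2]; exact conj_normalizer_of_mem hL₂ hkL₂ (hc _ (pow_mem hg 2))
    have hL₃A : L₃ ≤ A := hle hg
    have hL₄A : L₄ ≤ A := hg2 ▸ hle (pow_mem hg 2)
    have hL₃c : Nat.card L₃ = p := (card_conj_smul _ _).trans hL₂c
    have hL₄c : Nat.card L₄ = p := (card_conj_smul _ _).trans hL₃c
    have hbot : ∀ {X Y : Subgroup G}, Nat.card X = p → Nat.card Y = p → X ≠ Y → X ⊓ Y = ⊥ := fun {X Y} hX hY hne => by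
      rcases (Nat.dvd_prime h.hp).1 (hX ▸ Subgroup.card_dvd_of_le (inf_le_left : X ⊓ Y ≤ X)) with h1 | h1
      · exact Subgroup.card_eq_one.1 h1
      · exact absurd (Subgroup.eq_of_le_of_card_ge
          ((Subgroup.eq_of_le_of_card_ge inf_le_left (by rw [hX, h1])).ge.trans inf_le_right) (by rw [hX, hY])) hne
    have h23 : L₂ ⊓ L₃ = ⊥ := hbot hL₂c hL₃c (Ne.symm h32)
    have hsup : L₂ ⊔ L₃ = A := by
      refine Subgroup.eq_of_le_of_card_ge (sup_le hL₂ hL₃A) ?_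
      have hnorm : L₃ ≤ Subgroup.normalizer (L₂ : Set G) := fun x hx =>
        Subgroup.centralizer_le_normalizer _ fun y hy => hA.comm (hL₂ hy) (hL₃A hx)
      have h1 := card_sup_mul_card_inf (K := L₂) (S := L₃) hnorm
      rw [h23, Subgroup.card_bot, mul_one, hL₂c, hL₃c] at h1
      rw [h.hA2, h1, sq]
    obtain ⟨w, hw, hw1, hwo⟩ : ∃ w ∈ L₄, w ≠ 1 ∧ orderOf w = p := by
      obtain ⟨w, hw, hLw, -⟩ := CfsgLib.BG.PLengthHall.exists_gen_of_prime (R₀ := L₄) (hL₄c.symm ▸ h.hp)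
      have ho : orderOf w = p := by rw [← hL₄c, hLw, Nat.card_zpowers]
      exact ⟨w, hw, fun e => h.hp.ne_one (by rw [← ho, e, orderOf_one]), ho⟩
    have hwA : w ∈ L₂ ⊔ L₃ := hsup.ge (hL₄A hw)
    have hn23 : L₃ ≤ Subgroup.normalizer (L₂ : Set G) := fun x hx =>
      Subgroup.centralizer_le_normalizer _ fun y hy => hA.comm (hL₂ hy) (hL₃A hx)
    rw [← SetLike.mem_coe, Subgroup.coe_mul_of_right_le_normalizer_left L₂ L₃ hn23, Set.mem_mul] at hwA
    obtain ⟨u, hu, v, hv, huv⟩ := hwA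
    have hu1 : u ≠ 1 := by
      rintro rfl
      rw [one_mul] at huv
      have := (hbot hL₄c hL₃c h43).le ⟨hw, huv ▸ hv⟩
      exact hw1 (Subgroup.mem_bot.1 this)
    have hv1 : v ≠ 1 := by
      rintro rfl
      rw [mul_one] at huv
      have := (hbot hL₄c hL₂c h42).le ⟨hw, huv ▸ hu⟩
      exact hw1 (Subgroup.mem_bot.1 this)
    have hgen : ∀ {X : Subgroup G} {x : G}, Nat.card X = p → x ∈ X → x ≠ 1 → X = Subgroup.zpowers x :=
      fun {X x} hX hx hx1 => (Subgroup.eq_of_le_of_card_ge (Subgroup.zpowers_le.2 hx) (by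
        have h1 : orderOf x ∣ p := hX ▸ Subgroup.orderOf_dvd_natCard X hx
        rw [hX, Nat.card_zpowers, ((Nat.dvd_prime h.hp).1 h1).resolve_left (fun e => hx1 (orderOf_eq_one_iff.1 e))])).symm
    obtain ⟨x, hx⟩ := Subgroup.mem_zpowers_iff.1 ((hgen hL₂c hu hu1).le (conj_mem_of_le_normalizer hkL₂ u hu))
    obtain ⟨y, hy⟩ := Subgroup.mem_zpowers_iff.1 ((hgen hL₃c hv hv1).le (conj_mem_of_le_normalizer hk₃ v hv))
    obtain ⟨z, hz⟩ := Subgroup.mem_zpowers_iff.1 ((hgen hL₄c hw hw1).le (conj_mem_of_le_normalizer hk₄ w hw))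
    have huvc : Commute u v := hA.comm (hL₂ hu) (hL₃A hv)
    have h1 : u ^ z * v ^ z = u ^ x * v ^ y := by
      rw [← huvc.mul_zpow, huv, hz, hx, hy, ← huv]; group
    have h2 : (u ^ x)⁻¹ * u ^ z ∈ L₂ ⊓ L₃ := Subgroup.mem_inf.2 ⟨mul_mem (inv_mem (L₂.zpow_mem hu x)) (L₂.zpow_mem hu z), by
      rw [show (u ^ x)⁻¹ * u ^ z = v ^ y * (v ^ z)⁻¹ by
        rw [inv_mul_eq_iff_eq_mul, ← mul_assoc, eq_mul_inv_iff_mul_eq]; exact h1]
      exact mul_mem (L₃.zpow_mem hv y) (inv_mem (L₃.zpow_mem hv z))⟩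
    rw [h23, Subgroup.mem_bot, inv_mul_eq_one] at h2
    have h3 : v ^ y = v ^ z := by rw [← h2] at h1; exact (mul_left_cancel h1).symm
    have hpow : ∀ a ∈ A, k * a * k⁻¹ = a ^ z := by
      intro a ha
      rw [← hsup, ← SetLike.mem_coe, Subgroup.coe_mul_of_right_le_normalizer_left L₂ L₃ hn23, Set.mem_mul] at ha
      obtain ⟨a₂, ha₂, a₃, ha₃, rfl⟩ := ha
      rw [SetLike.mem_coe, hgen hL₂c hu hu1] at ha₂
      rw [SetLike.mem_coe, hgen hL₃c hv hv1] at ha₃
      obtain ⟨i, rfl⟩ := Subgroup.mem_zpowers_iff.1 ha₂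
      obtain ⟨l, rfl⟩ := Subgroup.mem_zpowers_iff.1 ha₃
      rw [(huvc.zpow_zpow i l).mul_zpow, ← zpow_mul, ← zpow_mul, mul_comm i z, mul_comm l z, zpow_mul, zpow_mul,
        h2.symm.trans hx, show v ^ z = k * v * k⁻¹ from h3.symm.trans hy, conj_zpow, conj_zpow]
      group
    exact hkL₁ (mem_normalizer_of_conj fun a ha => by rw [hpow a (hL₁ ha)]; exact L₁.zpow_mem ha z)
  refine ⟨L₂, hL₂, hL₂c, fun g hg => hinv g (hEA hg), ?_⟩
  obtain ⟨n, hnA, hnM⟩ := h.exists_normalizer_not_mem'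
  exact h.fpf_of_normalized hL₂ hL₂c hnM (hinv n hnA)

end Exc

end CfsgLib.OddLocal
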