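import Cfsg.Agent.Lib.OddLocal.TypeCore

/-!
BG 16, Theorem I (d): the complement `U` in types I and II.
-/

set_option autoImplicit false
set_option linter.style.haveILetI false
set_option linter.unusedSectionVars false

open scoped Pointwise

namespace CfsgLib.OddLocal

open CfsgLib.Coprime

universe u

variable {G : Type u} [Group G] [Finite G] {M K U U₀ : Subgroup G}

/-- For types I and II the group `U M_F` is `U₀ M_σ` for a standard factorisation `K U₀ M_σ`. -/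
theorem typeI_II_data (hG : Cfsg.IsMinSimpleOddOrder G) (hM : IsCoatom M)
    (hU : (Cfsg.IsOfTypeI M ∧ Cfsg.IsComplIn (Cfsg.fittingHallOf M) U M) ∨
      (Cfsg.IsOfTypeII M ∧ Cfsg.IsComplIn (Cfsg.fittingHallOf M) U ⁅M, M⁆)) :
    ∃ K U₀ : Subgroup G, Cfsg.IsSigmaDecomposition M K U₀ ∧
      Cfsg.IsComplIn (Cfsg.sigmaCore M) U (U₀ ⊔ Cfsg.sigmaCore M) ∧
      Cfsg.typeA M = Cfsg.sigmaA M U₀ \ {1} := by
  obtain ⟨K, U₀, hKU⟩ := exists_sigmaDecomposition hG hM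
  have hsub := Peterfalvi.typeA_subset_sigmaA hG hM hKU
  refine ⟨K, U₀, hKU, ?_⟩
  rcases hU with ⟨hI, hc⟩ | ⟨hII, hc⟩
  · have hK : K = ⊥ := by_contra fun h => Peterfalvi.not_typeI_of_kappa hG hM hKU h hI
    have hF : Cfsg.fittingHallOf M = Cfsg.sigmaCore M := by
      rw [← Peterfalvi.typeCore_of_typeI hI, Peterfalvi.typeCore_eq_sigmaCore hG hM]
    have hW : U₀ ⊔ Cfsg.sigmaCore M = M := le_antisymm (sup_le hKU.compl.1 (piCoreOf_le _ M)) fun a ha =>
      mem_UM_of_primes hG hM hKU ha fun l _ _ hl => kappa_empty_of_bot hG hM (hK ▸ hKU) l hl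
    refine ⟨by rw [hW, ← hF]; exact hc, Set.Subset.antisymm hsub fun a ha => ?_⟩
    obtain ⟨⟨⟨haM, y, hy, hy1, hay⟩, -⟩, ha1⟩ := ha
    rw [Cfsg.typeA, if_pos hI]
    exact ⟨haM, ha1, y, hF.ge hy, hy1, hay⟩
  · obtain ⟨hK1, hU1⟩ := (typeII_iff hG hM hKU).1 hII
    have hd := derived_eq hG hM hKU hK1
    have hF : Cfsg.fittingHallOf M = Cfsg.sigmaCore M :=
      fittingHallOf_eq_sigmaCore hG hM ((kappaData_of_decomposition hG hM hKU hK1).U_action hU1).2
    refine ⟨by rw [← hd, ← hF]; exact hc, Set.Subset.antisymm hsub fun a ha => ?_⟩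
    obtain ⟨⟨⟨haM, y, hy, hy1, hay⟩, haU⟩, ha1⟩ := ha
    rw [Cfsg.typeA, if_neg (Peterfalvi.not_typeI_of_kappa hG hM hKU hK1)]
    exact ⟨hd.ge haU, ha1, y, (Peterfalvi.typeCore_eq_sigmaCore hG hM).ge hy, hy1, hay⟩

theorem complement_sylow (hG : Cfsg.IsMinSimpleOddOrder G) (hM : IsCoatom M)
    (hKU : Cfsg.IsSigmaDecomposition M K U₀) (hc : Cfsg.IsComplIn (Cfsg.sigmaCore M) U (U₀ ⊔ Cfsg.sigmaCore M))
    {p : ℕ} (hp : p.Prime) (P : Sylow p U) :
    IsMulCommutative (P : Subgroup U) ∧ Cfsg.PRankLE p 2 (P : Subgroup U) := by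
  haveI := Fact.mk hp
  by_cases hd : p ∣ Nat.card U
  swap
  · have hP : (P : Subgroup U) = ⊥ := Subgroup.card_eq_one.1 (by
      rw [P.card_eq_multiplicity, Nat.factorization_eq_zero_of_not_dvd hd, pow_zero])
    haveI : Subsingleton (P : Subgroup U) := by rw [hP]; infer_instance
    exact ⟨⟨⟨fun a b => Subsingleton.elim _ _⟩⟩, fun A _ _ =>
      (Finite.card_le_one_iff_subsingleton.2 inferInstance).trans (Nat.one_le_pow _ _ hp.pos)⟩
  have hUM : U ≤ M := hc.2.1.trans (sup_le hKU.compl.1 (piCoreOf_le _ M))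
  have hpσ : p ∉ Cfsg.sigma M := fun hσ => by
    have h1 : Nat.card ↥(U₀ ⊔ Cfsg.sigmaCore M) = Nat.card (Cfsg.sigmaCore M) * Nat.card U :=
      card_eq_of_isComplIn hc
    rw [card_UM hG hM hKU, mul_comm] at h1
    exact (isPi_U hG hM hKU hp ((Nat.eq_of_mul_eq_mul_left Nat.card_pos h1).symm ▸ hd)).2 hσ
  set R := (P : Subgroup U).map U.subtype with hR
  have hRM : R ≤ M := (Subgroup.map_subtype_le _).trans hUM
  have hRc : IsMulCommutative R := (Cfsg.Agent.S1420.result hG M hM _ (exists_compl hG hM).choose_spec).1 R hRM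
    (P.2.map _).isNilpotent fun l hl hld => by
      obtain ⟨n, hn⟩ := (P.2.map U.subtype).exists_card_eq
      rw [← hR] at hn
      rw [hn] at hld
      exact (Nat.prime_dvd_prime_iff_eq hl hp).1 (hl.dvd_of_dvd_pow hld) ▸ hpσ
  haveI := hRc
  refine ⟨⟨⟨fun a b => Subtype.ext (Subtype.ext ?_)⟩⟩, ?_⟩
  · have := congrArg Subtype.val (mul_comm' (⟨_, Subgroup.mem_map_of_mem _ a.2⟩ : R)
      ⟨_, Subgroup.mem_map_of_mem _ b.2⟩)
    simpa using this
  · intro A hA hAp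
    have hAM : (A.map (P : Subgroup U).subtype).map U.subtype ≤ M := (Subgroup.map_subtype_le _).trans hUM
    set A' := ((A.map (P : Subgroup U).subtype).map U.subtype).subgroupOf M with hA'
    have hc' : Nat.card A' = Nat.card A := by
      rw [hA', Nat.card_congr (Subgroup.subgroupOfEquivOfLe hAM).toEquiv, Subgroup.card_subtype, Subgroup.card_subtype]
    have hmem : ∀ a : A', ∃ v ∈ A, (((v : U) : G)) = ((a : M) : G) := fun a => by
      obtain ⟨_, ⟨v, hv, rfl⟩, he⟩ := (Subgroup.mem_subgroupOf.1 a.2 : ((a : M) : G) ∈ _)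
      exact ⟨v, hv, he⟩
    rw [← hc']
    refine prankLE_two_of_not_sigma hG hM hp hpσ A' ⟨⟨fun a b => Subtype.ext (Subtype.ext ?_)⟩⟩ fun a ha => ?_
    · obtain ⟨v, hv, he⟩ := hmem a
      obtain ⟨w, hw, he'⟩ := hmem b
      show ((a : M) : G) * (b : M) = (b : M) * (a : M)
      rw [← he, ← he']
      exact congrArg (fun z : A => (((z : (P : Subgroup U)) : U) : G)) (mul_comm' (⟨v, hv⟩ : A) ⟨w, hw⟩)
    · obtain ⟨v, hv, he⟩ := hmem ⟨a, ha⟩
      apply Subtype.ext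
      rw [SubmonoidClass.coe_pow, ← he]
      have := congrArg (fun z : (P : Subgroup U) => ((z : U) : G)) (hAp v hv)
      simpa using this

theorem complement_centralizer (hG : Cfsg.IsMinSimpleOddOrder G) (hM : IsCoatom M)
    (hKU : Cfsg.IsSigmaDecomposition M K U₀) (hc : Cfsg.IsComplIn (Cfsg.sigmaCore M) U (U₀ ⊔ Cfsg.sigmaCore M))
    {X : Set G} (hX : X ⊆ (U : Set G) \ {1}) (hne : X.Nonempty)
    (hfix : Cfsg.sigmaCore M ⊓ Subgroup.centralizer X ≠ ⊥) :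
    Subgroup.centralizer X ≤ M ∧ ∀ L : Subgroup G, IsCoatom L → Subgroup.centralizer X ≤ L → L = M := by
  set S := Cfsg.sigmaCore M with hS
  haveI := isSolvable_of_ne_top hG hM.1
  have hco : ∀ V : Subgroup G, Nat.card ↥(U₀ ⊔ S) = Nat.card S * Nat.card V → Nat.card V = Nat.card U₀ := fun V e => by
    rw [card_UM hG hM hKU, mul_comm] at e
    exact (Nat.eq_of_mul_eq_mul_left Nat.card_pos e).symm
  have hcop : (Nat.card S).Coprime (Nat.card U₀) := Nat.coprime_of_dvd fun l hl h1 h2 =>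
    (isPi_U hG hM hKU hl h2).2 (isPi_piCoreOf _ M l hl h1)
  obtain ⟨m, hm, hmU⟩ := Coprime.exists_conj_of_coprime (N := S) (H := U₀) (K := U)
    (hKU.compl.1.trans (le_normalizer_piCoreOf _ M)) hcop (hco U (card_eq_of_isComplIn hc) ▸ hcop)
    (by rw [sup_comm, Peterfalvi.sup_eq_of_isComplIn hc])
    (Or.inl (isSolvable_of_le (piCoreOf_le _ M) inferInstance))
  set X₀ := MulAut.conj m⁻¹ • Subgroup.closure X with hX₀
  have hXU : X₀ ≤ U₀ := fun w hw => by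
    rw [hX₀, mem_conj_smul_iff, inv_inv] at hw
    have h1 : m * w * m⁻¹ ∈ MulAut.conj m • U₀ :=
      hmU ▸ (Subgroup.closure_le U).2 (hX.trans Set.sdiff_subset) hw
    exact mem_sigmaCore_conj_iff.1 h1
  have hC : Subgroup.centralizer (X₀ : Set G) = MulAut.conj m⁻¹ • Subgroup.centralizer X := by
    rw [hX₀, conj_centralizer, Subgroup.centralizer_closure]
  have hX₀1 : X₀ ≠ ⊥ := fun e => by
    obtain ⟨x, hx⟩ := hne
    have h1 : m⁻¹ * x * m⁻¹⁻¹ ∈ X₀ := mem_sigmaCore_conj_iff.2 (Subgroup.subset_closure hx)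
    rw [e, Subgroup.mem_bot] at h1
    exact (hX hx).2 (conj_eq_one_iff.1 h1)
  have hfix' : S ⊓ Subgroup.centralizer (X₀ : Set G) ≠ ⊥ := fun e => hfix ((Subgroup.eq_bot_iff_forall _).2 fun y hy => by
    have h1 : m⁻¹ * y * m⁻¹⁻¹ ∈ S ⊓ Subgroup.centralizer (X₀ : Set G) :=
      ⟨S.mul_mem (S.mul_mem (S.inv_mem hm) hy.1) (S.inv_mem (S.inv_mem hm)),
        hC ▸ mem_sigmaCore_conj_iff.2 hy.2⟩
    rw [e, Subgroup.mem_bot] at h1
    exact conj_eq_one_iff.1 h1)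
  obtain ⟨h1, h2⟩ := centralizer_uniq_of_fixed hG hM hKU hXU hX₀1 hfix'
  have hmM : m⁻¹ ∈ M := M.inv_mem (piCoreOf_le _ M hm)
  refine ⟨fun c hc' => ?_, fun L hL hle => ?_⟩
  · have := h1 (hC ▸ mem_sigmaCore_conj_iff.2 hc' : m⁻¹ * c * m⁻¹⁻¹ ∈ _)
    rw [inv_inv] at this
    have := M.mul_mem (M.mul_mem (M.inv_mem hmM) this) hmM
    simpa [mul_assoc] using this
  · have h3 := h2 _ (isCoatom_conj hL m⁻¹) (hC ▸ conj_le_conj.2 hle)
    rw [← (conj_smul_self_iff hG hM).2 hmM] at h3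
    exact smul_left_cancel _ h3

end CfsgLib.OddLocal
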