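import Cfsg.Agent.Lib.Peterfalvi.TameAll

/-!
BG 16: `M_s` is a Hall subgroup of `G` and contains its Sylow normalizers in `M`.
-/

set_option autoImplicit false
set_option linter.style.haveILetI false
set_option linter.unusedSectionVars false

open scoped Pointwise

namespace CfsgLib.OddLocal

universe u

variable {G : Type u} [Group G] [Finite G] {M H : Subgroup G} {p : ℕ}

theorem not_dvd_index_of_sigma (hp : p ∈ Cfsg.sigma M) : ¬ p ∣ M.index := by
  haveI := Fact.mk hp.1
  obtain ⟨P⟩ : Nonempty (Sylow p M) := inferInstance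
  obtain ⟨S, hS⟩ := exists_sylow_map_eq hp P
  exact fun h => S.not_dvd_index (h.trans (Subgroup.index_dvd_of_le (hS.le.trans (Subgroup.map_subtype_le _))))

theorem coprime_index_of_le_core (hH : H ≤ Cfsg.sigmaCore M)
    (hc : (Nat.card H).Coprime (H.relIndex M)) : (Nat.card H).Coprime H.index := by
  rw [← Subgroup.relIndex_mul_index (hH.trans (piCoreOf_le _ M))]
  exact hc.mul_right (Nat.coprime_of_dvd fun l hl h1 h2 => not_dvd_index_of_sigma
    (isPi_piCoreOf _ M l hl (h1.trans (Subgroup.card_dvd_of_le hH))) h2)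

theorem coprime_relIndex_fittingHallOf (M : Subgroup G) :
    (Nat.card (Cfsg.fittingHallOf M)).Coprime ((Cfsg.fittingHallOf M).relIndex M) := by
  rw [Cfsg.fittingHallOf, Subgroup.card_subtype, Subgroup.relIndex, Subgroup.subgroupOf,
    Subgroup.comap_map_eq_self_of_injective M.subtype_injective]
  exact fittingHall_coprime_index

theorem coprime_relIndex_sigmaCore (hG : Cfsg.IsMinSimpleOddOrder G) (hM : IsCoatom M) :
    (Nat.card (Cfsg.sigmaCore M)).Coprime ((Cfsg.sigmaCore M).relIndex M) := by
  refine Nat.coprime_of_dvd fun l hl h1 h2 => not_dvd_index_sigma hG hM hl (isPi_piCoreOf _ M l hl h1) ?_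
  rwa [Cfsg.sigmaCore, Subgroup.relIndex, Subgroup.subgroupOf,
    Subgroup.comap_map_eq_self_of_injective M.subtype_injective] at h2

theorem core_sylow_normalizer_le (hG : Cfsg.IsMinSimpleOddOrder G) (hM : IsCoatom M) {C : Subgroup G}
    (hC : C = Cfsg.sigmaCore M) (hp : p.Prime) (P : Sylow p C) (hP : (P : Subgroup C) ≠ ⊥) :
    Subgroup.normalizer (((P : Subgroup C).map C.subtype : Subgroup G) : Set G) ≤ M := by
  haveI := Fact.mk hp
  have hCM : C ≤ M := hC ▸ piCoreOf_le _ M
  have hcop : (Nat.card C).Coprime (C.relIndex M) := hC ▸ coprime_relIndex_sigmaCore hG hM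
  have hpd : p ∣ Nat.card C := by
    obtain ⟨n, hn⟩ := P.2.exists_card_eq
    have hn0 : n ≠ 0 := fun e => hP (Subgroup.card_eq_one.1 (by rw [hn, e, pow_zero]))
    exact (hn ▸ dvd_pow_self p hn0 : p ∣ Nat.card (P : Subgroup C)).trans (Subgroup.card_subgroup_dvd_card _)
  have hC' : Nat.card (C.subgroupOf M) = Nat.card C :=
    Nat.card_congr (Subgroup.subgroupOfEquivOfLe hCM).toEquiv
  have hpσ : p ∈ Cfsg.sigma M := isPi_piCoreOf _ M p hp (by rw [hC] at hpd; exact hpd)
  set R := (P : Subgroup C).map C.subtype with hR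
  have hRM : R ≤ M := (Subgroup.map_subtype_le _).trans hCM
  have hcard : Nat.card (R.subgroupOf M) = p ^ (Nat.card M).factorization p := by
    rw [Nat.card_congr (Subgroup.subgroupOfEquivOfLe hRM).toEquiv, Subgroup.card_subtype,
      P.card_eq_multiplicity, ← (C.subgroupOf M).card_mul_index,
      Nat.factorization_mul Nat.card_pos.ne' Subgroup.index_ne_zero_of_finite, Finsupp.add_apply,
      hC', Nat.factorization_eq_zero_of_not_dvd (n := (C.subgroupOf M).index) fun h =>
        Nat.not_coprime_of_dvd_of_dvd hp.one_lt hpd h hcop, add_zero]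
  have := sylow_normalizer_le hpσ (Sylow.ofCard _ hcard : Sylow p M)
  rwa [Sylow.coe_ofCard, Subgroup.map_subgroupOf_eq_of_le hRM] at this

end CfsgLib.OddLocal
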