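import Cfsg.Agent.Lib.OddLocal.NonTI
import Cfsg.Agent.Lib.OddLocal.FreeExponent
import Cfsg.Agent.Lib.Peterfalvi.TypeExclusive

/-!
BG 16: the data of type `P` of a maximal subgroup with `κ(M)` nonempty, and the types II to V.
-/

set_option autoImplicit false
set_option linter.style.haveILetI false
set_option linter.unusedSectionVars false

open scoped commutatorElement
open scoped Pointwise

namespace CfsgLib.OddLocal

open CfsgLib.Coprime
open CfsgLib.BG.FixedLine (conj_mem_of_le_normalizer mem_normalizer_of_conj)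

universe u

variable {G : Type u} [Group G] [Finite G] {q r : ℕ} {M K U V W₁ W₂ : Subgroup G}

instance fittingHall_characteristic {H : Type*} [Group H] [Finite H] : (Cfsg.fittingHall H).Characteristic :=
  Subgroup.characteristic_iff_map_le.2 fun φ => Subgroup.map_le_iff_le_comap.2 (sSup_le fun N hN =>
    Subgroup.map_le_iff_le_comap.1 (le_fittingHall (hN.1.map _ φ.surjective)
      (haveI := hN.2.1; Group.nilpotent_of_mulEquiv (N.equivMapOfInjective φ.toMonoidHom φ.injective))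
      (by rw [Subgroup.card_map_of_injective φ.injective,
            Subgroup.index_map_of_bijective φ.bijective]
          exact hN.2.2)))

/-- The decomposition of `M'`. -/
theorem derived_compl (hG : Cfsg.IsMinSimpleOddOrder G) (hM : IsCoatom M)
    (hKU : Cfsg.IsSigmaDecomposition M K U) (hK1 : K ≠ ⊥) :
    Cfsg.IsComplIn ⁅M, M⁆ K M ∧ (Nat.card K).Coprime (K.relIndex M) := by
  rw [derived_eq hG hM hKU hK1]
  refine ⟨⟨sup_le hKU.compl.1 (piCoreOf_le _ M), hKU.hall.1, UM_inf_K hG hM hKU, fun m hm => ?_⟩,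
    Nat.coprime_of_dvd fun l hl h1 h2 => hKU.hall.2.2 l hl (hKU.hall.2.1 l hl h1) h2⟩
  have h := kappaData_of_decomposition hG hM hKU hK1
  obtain ⟨e, he, w, hw, rfl⟩ := h.hE.2.2.2 m hm
  rw [← SetLike.mem_coe, Subgroup.coe_mul_of_right_le_normalizer_left _ _ hKU.normal] at he
  obtain ⟨u, hu, k, hk, rfl⟩ := Set.mem_mul.1 he
  exact ⟨u * (k * w * k⁻¹), Subgroup.mul_mem_sup hu
    (conj_mem_of_le_normalizer (le_normalizer_piCoreOf _ M (hKU.hall.1 hk)) w hw), k, hk, by group⟩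

theorem exists_kappa_partner (hG : Cfsg.IsMinSimpleOddOrder G) (hM : IsCoatom M)
    (hKU : Cfsg.IsSigmaDecomposition M K U) (hK1 : K ≠ ⊥) :
    ∃ Ms Es Us : Subgroup G, Partner M K (U ⊔ K) U Ms Es Us :=
  exists_partner (kappaData_of_decomposition hG hM hKU hK1)

theorem derived_inf_centralizer (hG : Cfsg.IsMinSimpleOddOrder G) (hM : IsCoatom M)
    (hKU : Cfsg.IsSigmaDecomposition M K U) (hK1 : K ≠ ⊥) {x : G} (hx : x ∈ K) (hx1 : x ≠ 1) :
    ⁅M, M⁆ ⊓ Subgroup.centralizer ({x} : Set G) = Cfsg.sigmaCore M ⊓ Subgroup.centralizer (K : Set G) := by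
  have h := kappaData_of_decomposition hG hM hKU hK1
  have hd := derived_eq hG hM hKU hK1
  have hσ : Cfsg.sigmaCore M ≤ ⁅M, M⁆ := hd ▸ le_sup_right
  refine le_antisymm (fun w hw => ?_) (le_inf (inf_le_left.trans hσ) ?_)
  · have hwZ : w ∈ M ⊓ Subgroup.centralizer ({x} : Set G) := ⟨Subgroup.commutator_le_self M hw.1, hw.2⟩
    rw [h.inf_centralizer hKU.cyclic hx hx1] at hwZ
    obtain ⟨k, hk, z, hz, rfl⟩ := h.mem_Z_iff.1 hwZ
    have hk' : k ∈ (U ⊔ Cfsg.sigmaCore M) ⊓ K := ⟨by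
      have := hw.1
      rw [hd] at this
      exact (Subgroup.mul_mem_cancel_right _ (Subgroup.mem_sup_right hz.1)).1 this, hk⟩
    rw [UM_inf_K hG hM hKU, Subgroup.mem_bot] at hk'
    rwa [hk', one_mul]
  · exact inf_le_right.trans (Subgroup.centralizer_le (Set.singleton_subset_iff.2 hx))

theorem selfNormalizing (hG : Cfsg.IsMinSimpleOddOrder G) (hM : IsCoatom M)
    (hKU : Cfsg.IsSigmaDecomposition M K U) (hK1 : K ≠ ⊥) :
    Cfsg.IsSelfNormalizingCyclic K (Cfsg.sigmaCore M ⊓ Subgroup.centralizer (K : Set G)) := by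
  obtain ⟨Ms, Es, Us, hp⟩ := exists_kappa_partner hG hM hKU hK1
  have h := hp.data
  haveI hc := hp.cyclic_Z
  refine ⟨hK1, h.fixed_ne, le_bot_iff.1 ((inf_le_inf_left K inf_le_left).trans h.K_inf_core.le),
    fun a ha b hb => h.star_commute ha hb, hc, fun X hX hne => le_antisymm (fun g hg => ?_) fun w hw => ?_⟩
  · obtain ⟨t, ht⟩ := hne
    obtain ⟨htZ, htn⟩ := hX ht
    exact h.hat_ti htZ (fun e => htn (Or.inl e)) (fun e => htn (Or.inr e))
      (hX ((hg t).1 ht)).1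
  · haveI : IsMulCommutative ↥(K ⊔ (Cfsg.sigmaCore M ⊓ Subgroup.centralizer (K : Set G))) :=
      IsCyclic.isMulCommutative
    have hfix : ∀ x ∈ X, w * x * w⁻¹ = x := fun x hx => mul_inv_eq_iff_eq_mul.2
      (congrArg Subtype.val
        (mul_comm' (⟨w, hw⟩ : ↥(K ⊔ (Cfsg.sigmaCore M ⊓ Subgroup.centralizer (K : Set G)))) ⟨x, (hX hx).1⟩))
    refine fun x => ⟨fun hx => by rwa [hfix x hx], fun hx => ?_⟩
    have h1 := hfix _ hx
    rwa [mul_left_cancel (mul_right_cancel h1)] at hx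

/-- The data of type `P`. -/
theorem isTypePWith_of (hG : Cfsg.IsMinSimpleOddOrder G) (hM : IsCoatom M)
    (hKU : Cfsg.IsSigmaDecomposition M K U) (hK1 : K ≠ ⊥) (hn : Group.IsNilpotent V)
    (hKV : K ≤ Subgroup.normalizer (V : Set G)) (hV : Cfsg.IsComplIn (Cfsg.fittingHallOf M) V ⁅M, M⁆) :
    Cfsg.IsTypePWith M K V (Cfsg.sigmaCore M ⊓ Subgroup.centralizer (K : Set G)) := by
  obtain ⟨Ms, Es, Us, hp⟩ := exists_kappa_partner hG hM hKU hK1
  obtain ⟨hcompl, hhall⟩ := derived_compl hG hM hKU hK1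
  have hF : Cfsg.fittingHallOf M ⊔ (M ⊓ Subgroup.centralizer (Cfsg.fittingHallOf M : Set G)) =
      Cfsg.fittingOf M := by rw [sup_comm, fittingOf_eq_centralizer_sup hG hM]
  refine ⟨hK1, hKU.cyclic, hhall, hcompl, hn, hKV, hV, hp.star_le_fittingHallOf.2,
    hF ▸ second_derived_le hG hM, hF, fittingOf_le_derived hG hM ?_,
    le_inf hp.star_le_fittingHallOf.1 (star_le_second_derived hG hM hKU hK1),
    fun x hx hx1 => derived_inf_centralizer hG hM hKU hK1 hx hx1, selfNormalizing hG hM hKU hK1⟩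
  obtain ⟨l, hl, hld⟩ := Nat.exists_prime_and_dvd fun e : Nat.card K = 1 => hK1 (Subgroup.card_eq_one.1 e)
  exact ⟨l, hKU.hall.2.1 l hl hld⟩

/-- The complement of `M_F` in `M'` when `M_F = M_σ`. -/
theorem isTypePWith_U (hG : Cfsg.IsMinSimpleOddOrder G) (hM : IsCoatom M)
    (hKU : Cfsg.IsSigmaDecomposition M K U) (hK1 : K ≠ ⊥) (hF : Cfsg.fittingHallOf M = Cfsg.sigmaCore M) :
    Cfsg.IsTypePWith M K U (Cfsg.sigmaCore M ⊓ Subgroup.centralizer (K : Set G)) := by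
  refine isTypePWith_of hG hM hKU hK1 (nilpotent_of_comm (kappaData_of_decomposition hG hM hKU hK1).comm)
    hKU.normal ?_
  rw [hF, derived_eq hG hM hKU hK1]
  refine ⟨le_sup_right, le_sup_left, le_bot_iff.1 ?_, fun m hm => ?_⟩
  · rw [← hKU.compl.2.2.1, inf_comm]
    exact inf_le_inf_left _ le_sup_right
  · rw [sup_comm, ← SetLike.mem_coe, Subgroup.coe_mul_of_right_le_normalizer_left (Cfsg.sigmaCore M) U
      (hKU.compl.1.trans (le_normalizer_piCoreOf _ M))] at hm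
    obtain ⟨a, ha, b, hb, he⟩ := Set.mem_mul.1 hm
    exact ⟨a, ha, b, hb, he.symm⟩

/-- The complement of `M_F` in `M'` in general. -/
theorem exists_typeP_compl (hG : Cfsg.IsMinSimpleOddOrder G) (hM : IsCoatom M)
    (hKU : Cfsg.IsSigmaDecomposition M K U) (hK1 : K ≠ ⊥) :
    ∃ V : Subgroup G, Cfsg.IsTypePWith M K V (Cfsg.sigmaCore M ⊓ Subgroup.centralizer (K : Set G)) := by
  classical
  haveI := isSolvable_of_ne_top hG hM.1
  haveI hFn : (Cfsg.fittingHall ↥M).Normal := Cfsg.fittingHall_normal M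
  set F := Cfsg.fittingHallOf M with hFdef
  have hFM : F ≤ M := Subgroup.map_subtype_le _
  have hMF : M ≤ Subgroup.normalizer (F : Set G) := Peterfalvi.le_normalizer_fittingHallOf M
  have hFd : F ≤ ⁅M, M⁆ := (fittingHallOf_le_sigmaCore hG hM).trans (sigmaCore_le_derived hG hM)
  set π := {l : ℕ | ¬ l ∣ Nat.card F}
  obtain ⟨C, hC, hKC⟩ := exists_hallOf_ge (π := π) hKU.hall.1 fun l hl hld hlF =>
    (hKU.hall.2.1 l hl hld).2.2.1 (isPi_piCoreOf _ M l hl
      (hlF.trans (Subgroup.card_dvd_of_le (fittingHallOf_le_sigmaCore hG hM))))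
  have hFC : F ⊓ C = ⊥ := inf_eq_bot_of_coprime_card (Nat.coprime_of_dvd fun l hl h1 h2 => hC.2.1 l hl h2 h1)
  have hMle : M ≤ F ⊔ C := Subgroup.relIndex_eq_one.1 (Nat.eq_one_of_dvd_coprimes
    (a := F.relIndex M) (b := C.relIndex M) (Nat.coprime_of_dvd fun l hl h1 h2 => by
      refine hC.2.2 l hl (fun hlF => ?_) h2
      refine Nat.not_coprime_of_dvd_of_dvd hl.one_lt (m := Nat.card (Cfsg.fittingHall ↥M))
        (n := (Cfsg.fittingHall ↥M).index) ?_ ?_ fittingHall_coprime_index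
      · rwa [hFdef, Cfsg.fittingHallOf, Subgroup.card_subtype] at hlF
      · rwa [hFdef, Cfsg.fittingHallOf, Subgroup.relIndex, Subgroup.subgroupOf,
          Subgroup.comap_map_eq_self_of_injective M.subtype_injective] at h1)
    (Subgroup.relIndex_dvd_of_le_left _ le_sup_left) (Subgroup.relIndex_dvd_of_le_left _ le_sup_right))
  refine ⟨C ⊓ ⁅M, M⁆, isTypePWith_of hG hM hKU hK1 ?_ ?_ ⟨hFd, inf_le_right, ?_, fun m hm => ?_⟩⟩
  · set V' := (C ⊓ ⁅M, M⁆).subgroupOf M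
    set f := (QuotientGroup.mk' (Cfsg.fittingHall ↥M)).comp V'.subtype
    haveI := derived_quotient_nilpotent hG hM
    haveI : Group.IsNilpotent f.range := by
      refine Subgroup.isNilpotent_of_ker_le_center (Subgroup.inclusion (K := (commutator ↥M).map
        (QuotientGroup.mk' (Cfsg.fittingHall ↥M))) ?_) (by
          rw [(MonoidHom.ker_eq_bot_iff _).mpr (Subgroup.inclusion_injective _)]; exact bot_le)
      rintro _ ⟨v, rfl⟩
      exact Subgroup.mem_map_of_mem _ (commutator_subgroupOf_eq M ▸ (v.2 : ((v : M) : G) ∈ C ⊓ ⁅M, M⁆).2)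
    haveI : Group.IsNilpotent V' := Subgroup.isNilpotent_of_ker_le_center f.rangeRestrict (fun v hv => by
      have h1 : f v = 1 := congrArg Subtype.val (MonoidHom.mem_ker.1 hv)
      have h2 : ((v : M) : G) ∈ F ⊓ C :=
        ⟨⟨v, (QuotientGroup.eq_one_iff _).1 h1, rfl⟩, (v.2 : ((v : M) : G) ∈ C ⊓ ⁅M, M⁆).1⟩
      rw [hFC, Subgroup.mem_bot] at h2
      rw [show v = 1 from Subtype.ext (Subtype.ext h2)]
      exact one_mem _)
    exact Group.nilpotent_of_mulEquiv (Subgroup.subgroupOfEquivOfLe (inf_le_left.trans hC.1))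
  · refine le_normalizer_inf_of_le (hKC.trans Subgroup.le_normalizer) ?_
    exact hKU.hall.1.trans (le_normalizer_commutator Subgroup.le_normalizer Subgroup.le_normalizer)
  · exact le_bot_iff.1 ((inf_le_inf_left _ inf_le_left).trans hFC.le)
  · have hm' : m ∈ F ⊔ C := hMle (Subgroup.commutator_le_self M hm)
    rw [← SetLike.mem_coe, Subgroup.coe_mul_of_right_le_normalizer_left _ _ (hC.1.trans hMF)] at hm'
    obtain ⟨a, ha, b, hb, rfl⟩ := Set.mem_mul.1 hm'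
    exact ⟨a, ha, b, ⟨hb, (Subgroup.mul_mem_cancel_left _ (hFd ha)).1 hm⟩, rfl⟩

/-- `(M')_F = M_F` in type `P`. -/
theorem fittingHallOf_derived (hP : Cfsg.IsTypePWith M W₁ V W₂) :
    Cfsg.fittingHallOf ⁅M, M⁆ = Cfsg.fittingHallOf M := by
  set D : Subgroup G := ⁅M, M⁆ with hD
  have hDM : D ≤ M := Subgroup.commutator_le_self M
  set F := Cfsg.fittingHallOf M with hF
  have hFD : F ≤ D := hP.U_compl.1
  refine le_antisymm ?_ ?_
  · set H := Cfsg.fittingHallOf D with hH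
    have hHD : H ≤ D := Subgroup.map_subtype_le _
    have hMH : M ≤ Subgroup.normalizer (H : Set G) :=
      CfsgLib.PSolvable.le_normalizer_map_of_characteristic
        (le_normalizer_commutator Subgroup.le_normalizer Subgroup.le_normalizer) _
    haveI := Peterfalvi.fittingHallOf_isNilpotent D
    have h1 : H.subgroupOf M ≤ Cfsg.fittingHall ↥M := le_fittingHall
      ((Subgroup.normal_subgroupOf_iff_le_normalizer (hHD.trans hDM)).2 hMH)
      (Group.nilpotent_of_mulEquiv (Subgroup.subgroupOfEquivOfLe (hHD.trans hDM)).symm) (by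
        change (Nat.card (H.subgroupOf M)).Coprime (H.relIndex M)
        rw [Nat.card_congr (Subgroup.subgroupOfEquivOfLe (hHD.trans hDM)).toEquiv,
          ← Subgroup.relIndex_mul_relIndex H D M hHD hDM]
        refine Nat.Coprime.mul_right ?_ ?_
        · rw [hH, Cfsg.fittingHallOf, Subgroup.card_subtype, Subgroup.relIndex, Subgroup.subgroupOf,
            Subgroup.comap_map_eq_self_of_injective D.subtype_injective]
          exact fittingHall_coprime_index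
        · refine Nat.Coprime.coprime_dvd_left (Subgroup.card_dvd_of_le hHD) ?_
          rw [relIndex_left_of_isComplIn hP.W₁_compl, ← relIndex_right_of_isComplIn hP.W₁_compl]
          exact hP.W₁_hall.symm)
    rw [← Subgroup.map_subgroupOf_eq_of_le (hHD.trans hDM)]
    exact Subgroup.map_mono h1
  · haveI := Peterfalvi.fittingHallOf_isNilpotent M
    have h1 : F.subgroupOf D ≤ Cfsg.fittingHall ↥D := le_fittingHall
      ((Subgroup.normal_subgroupOf_iff_le_normalizer hFD).2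
        (hDM.trans (Peterfalvi.le_normalizer_fittingHallOf M)))
      (Group.nilpotent_of_mulEquiv (Subgroup.subgroupOfEquivOfLe hFD).symm) (by
        change (Nat.card (F.subgroupOf D)).Coprime (F.relIndex D)
        rw [Nat.card_congr (Subgroup.subgroupOfEquivOfLe hFD).toEquiv,
          relIndex_left_of_isComplIn hP.U_compl]
        exact card_coprime_of_typeP hP)
    rw [← Subgroup.map_subgroupOf_eq_of_le hFD]
    exact Subgroup.map_mono h1

theorem isTypeII_of (hG : Cfsg.IsMinSimpleOddOrder G) (hM : IsCoatom M)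
    (hKU : Cfsg.IsSigmaDecomposition M K U) (hK1 : K ≠ ⊥) (hU : U ≠ ⊥) : Cfsg.IsOfTypeII M := by
  classical
  obtain ⟨Ms, Es, Us, hp⟩ := exists_kappa_partner hG hM hKU hK1
  have h := hp.data
  have hF := fittingHallOf_eq_sigmaCore hG hM (h.U_action hU).2
  have hP := isTypePWith_U hG hM hKU hK1 hF
  have hFD := fittingHallOf_derived hP
  refine ⟨K, U, _, hP, hU, hp.prime_K hU, (fitting_ti_of_U_ne_bot hG hM hKU hK1 hU).1, h.comm,
    hp.not_normalizer_le, ?_, hFD⟩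
  set D : Subgroup G := ⁅M, M⁆ with hD
  have hDM : D ≤ M := Subgroup.commutator_le_self M
  have hUD : U ≤ D := hP.U_compl.2.1
  have hmap : (Cfsg.fittingHall ↥D).map D.subtype = Cfsg.fittingHallOf M := hFD
  refine ⟨haveI := isSolvable_of_ne_top hG hM.1; isSolvable_of_le hDM inferInstance,
    hG.1.of_dvd_nat (Subgroup.card_subgroup_dvd_card _), fun e => ?_, fun e => ?_, U.subgroupOf D,
    fun e => hU ?_, ?_, ⟨U.subgroupOf D, le_rfl, Subgroup.le_normalizer, ?_, fun _ _ _ => inf_le_left⟩, ?_⟩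
  · rw [e, Subgroup.map_bot] at hmap
    exact fittingHallOf_ne_bot hG hM hmap.symm
  · rw [e, ← MonoidHom.range_eq_map, Subgroup.range_subtype] at hmap
    exact hU (le_bot_iff.1 (hP.U_compl.2.2.1 ▸ le_inf (hUD.trans hmap.le) le_rfl))
  · rwa [Subgroup.subgroupOf_eq_bot, disjoint_iff, inf_eq_left.2 hUD] at e
  · refine Subgroup.isComplement'_of_disjoint_and_mul_eq_univ (disjoint_iff.2 ?_) (Set.eq_univ_of_forall fun v => ?_)
    · refine (Subgroup.eq_bot_iff_forall _).2 fun v hv => Subtype.ext ?_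
      have h1 : (v : G) ∈ Cfsg.fittingHallOf M ⊓ U := ⟨hmap.le (Subgroup.mem_map_of_mem _ hv.1), hv.2⟩
      rwa [hP.U_compl.2.2.1, Subgroup.mem_bot] at h1
    · obtain ⟨a, ha, b, hb, he⟩ := hP.U_compl.2.2.2 v v.2
      obtain ⟨a', ha', rfl⟩ := hmap.ge ha
      exact ⟨a', ha', ⟨b, hUD hb⟩, hb, Subtype.ext he.symm⟩
  · haveI := h.comm
    exact ⟨⟨fun a b => Subtype.ext (Subtype.ext (by
      have := congrArg Subtype.val (mul_comm' (⟨((a : D) : G), a.2⟩ : U) ⟨((b : D) : G), b.2⟩)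
      exact this))⟩⟩
  · obtain ⟨U₀, hU₀, hexp, hfree⟩ := exists_free_exponent hG hM hKU
    refine ⟨U₀.subgroupOf D, fun v hv => hU₀ hv, ?_, fun v hv hv1 x hx hcomm => by_contra fun hx1 => hv1 ?_⟩
    · rw [Monoid.exponent_eq_of_mulEquiv (Subgroup.subgroupOfEquivOfLe (hU₀.trans hUD)),
        Monoid.exponent_eq_of_mulEquiv (Subgroup.subgroupOfEquivOfLe hUD), hexp]
    · refine Subtype.ext (hfree v hv ⟨hDM v.2, x, ?_, fun e => hx1 (Subtype.ext e), congrArg Subtype.val hcomm⟩)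
      exact hF ▸ hmap.le (Subgroup.mem_map_of_mem _ hx)

theorem isTypeIII_or_IV_of (hG : Cfsg.IsMinSimpleOddOrder G) (hM : IsCoatom M)
    (hKU : Cfsg.IsSigmaDecomposition M K U) (hK1 : K ≠ ⊥) (hU : U = ⊥)
    (hF : Cfsg.fittingHallOf M ≠ Cfsg.sigmaCore M) : Cfsg.IsOfTypeIII M ∨ Cfsg.IsOfTypeIV M := by
  classical
  have hnil : ¬ Group.IsNilpotent (Cfsg.sigmaCore M) := fun h => hF (fittingHallOf_eq_sigmaCore hG hM h)
  obtain ⟨-, -, Ms, Es, Us, hp⟩ := exists_partner_of_not_nilpotent hG hM hKU hnil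
  obtain ⟨V, hP⟩ := exists_typeP_compl hG hM hKU hK1
  have hd := derived_eq_core hG hM hKU hK1 hU
  have hV1 : V ≠ ⊥ := fun e => hF ((Peterfalvi.derived_eq_of_U_eq_bot hP e).symm.trans hd)
  have hVσ : V ≤ Cfsg.sigmaCore M := hd ▸ hP.U_compl.2.1
  have hVM : V ≤ M := hVσ.trans (piCoreOf_le _ M)
  obtain ⟨r, hr, hrd⟩ := Nat.exists_prime_and_dvd fun e : Nat.card V = 1 => hV1 (Subgroup.card_eq_one.1 e)
  haveI := Fact.mk hr
  have hrσ : r ∈ Cfsg.sigma M := isPi_piCoreOf _ M r hr (hrd.trans (Subgroup.card_dvd_of_le hVσ))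
  obtain ⟨R⟩ : Nonempty (Sylow r V) := inferInstance
  haveI := CfsgLib.Splitting.sylow_normal_of_isNilpotent hP.U_nilpotent R
  haveI := Sylow.characteristic_of_normal R inferInstance
  have hnR : Subgroup.normalizer (V : Set G) ≤
      Subgroup.normalizer (((R : Subgroup V).map V.subtype : Subgroup G) : Set G) :=
    CfsgLib.PSolvable.le_normalizer_map_of_characteristic le_rfl _
  have hRM : (R : Subgroup V).map V.subtype ≤ M := (Subgroup.map_subtype_le _).trans hVM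
  have hzero : ¬ r ∣ Nat.card (Cfsg.fittingHallOf M) ∧ ¬ r ∣ Nat.card K := ⟨fun h =>
    Nat.not_coprime_of_dvd_of_dvd hr.one_lt h hrd (card_coprime_of_typeP hP),
    fun h => (hKU.hall.2.1 r hr h).2.2.1 hrσ⟩
  have hcard : Nat.card (((R : Subgroup V).map V.subtype).subgroupOf M) = r ^ (Nat.card M).factorization r := by
    rw [Nat.card_congr (Subgroup.subgroupOfEquivOfLe hRM).toEquiv, Subgroup.card_subtype,
      R.card_eq_multiplicity, card_eq_of_isComplIn hP.W₁_compl, card_eq_of_isComplIn hP.U_compl,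
      Nat.factorization_mul (mul_ne_zero Nat.card_pos.ne' Nat.card_pos.ne') Nat.card_pos.ne',
      Nat.factorization_mul Nat.card_pos.ne' Nat.card_pos.ne', Finsupp.add_apply, Finsupp.add_apply,
      Nat.factorization_eq_zero_of_not_dvd hzero.1, Nat.factorization_eq_zero_of_not_dvd hzero.2, zero_add,
      add_zero]
  have hle : Subgroup.normalizer (V : Set G) ≤ M := hnR.trans (by
    have := sylow_normalizer_le hrσ (Sylow.ofCard _ hcard : Sylow r M)
    rwa [Sylow.coe_ofCard, Subgroup.map_subgroupOf_eq_of_le hRM] at this)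
  have hti := fitting_ti_of_not_nilpotent hG hM hnil
  have hK := (hp.fitting_structure hnil).2.1
  by_cases hc : IsMulCommutative V
  · exact Or.inl ⟨K, V, _, hP, hV1, hK, hti, hc, hle⟩
  · exact Or.inr ⟨K, V, _, hP, hV1, hK, hti, hc, hle⟩

theorem isTypeV_of (hG : Cfsg.IsMinSimpleOddOrder G) (hM : IsCoatom M)
    (hKU : Cfsg.IsSigmaDecomposition M K U) (hK1 : K ≠ ⊥) (hU : U = ⊥)
    (hF : Cfsg.fittingHallOf M = Cfsg.sigmaCore M) : Cfsg.IsOfTypeV M := by
  classical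
  have hP := isTypePWith_U hG hM hKU hK1 hF
  refine ⟨K, U, _, hP, hU, ?_⟩
  have hd : ⁅M, M⁆ = Cfsg.fittingHallOf M := Peterfalvi.derived_eq_of_U_eq_bot hP hU
  have hFF : Cfsg.fittingOf M = Cfsg.fittingHallOf M :=
    le_antisymm (hd ▸ hP.fitting_le) (hP.fitting_eq ▸ le_sup_left)
  by_cases hti : Cfsg.IsTISubset (Cfsg.fittingHallOf M : Set G)
  · exact Or.inl hti
  rw [← hFF, Cfsg.IsTISubset] at hti
  push Not at hti
  obtain ⟨g, hg, x, hx, hgx, hx1⟩ := hti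
  have hgM : g ∉ M := fun hgM => hg (le_normalizer_fittingOf M hgM)
  have hX : Cfsg.fittingOf M ⊓ (Cfsg.fittingOf M).map (MulAut.conj g).toMonoidHom ≠ ⊥ := fun e =>
    hx1 (conj_eq_one_iff.1 (Subgroup.mem_bot.1 (e.le ⟨hgx, x, hx, rfl⟩)))
  obtain ⟨⟨hXF, -⟩, -, hcases⟩ := fitting_not_ti_structure hG hM hKU hgM hX
  rcases hcases with ⟨hK, -⟩ | ⟨p, hp, hpX, -, -, -, hcyc, hexp⟩ | ⟨p, hp, hpX, -, -, hcyc, hc3, -, -, -, hdvd⟩
  · exact absurd hK hK1
  · refine Or.inr (Or.inl ⟨p, hp, hpX ▸ Subgroup.card_dvd_of_le hXF, ?_, hcyc⟩)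
    have hpd : p ∣ Nat.card (Cfsg.fittingHallOf M) := hpX ▸ Subgroup.card_dvd_of_le hXF
    refine dvd_trans ?_ (hexp p hp hpd)
    haveI := hKU.cyclic
    rw [← IsCyclic.exponent_eq_card]
    refine Monoid.exponent_dvd_of_forall_pow_eq_one fun k => Subtype.ext ?_
    have h1 := Monoid.pow_exponent_eq_one (QuotientGroup.mk' (Cfsg.fittingHall ↥M) ⟨k, hKU.hall.1 k.2⟩)
    rw [← map_pow, QuotientGroup.mk'_apply, QuotientGroup.eq_one_iff] at h1
    have h2 : (k : G) ^ Monoid.exponent (↥M ⧸ Cfsg.fittingHall ↥M) ∈ ⁅M, M⁆ ⊓ K :=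
      ⟨hd.ge ⟨_, h1, by simp⟩, K.pow_mem k.2 _⟩
    rw [hP.W₁_compl.2.2.1, Subgroup.mem_bot] at h2
    simpa using h2
  · refine Or.inr (Or.inr ⟨p, hp, hpX ▸ Subgroup.card_dvd_of_le hXF, hc3, ?_, hcyc⟩)
    rwa [← relIndex_left_of_isComplIn hP.W₁_compl, hd]

theorem kappa_ne_bot_of_typeP (hG : Cfsg.IsMinSimpleOddOrder G) (hM : IsCoatom M)
    (hKU : Cfsg.IsSigmaDecomposition M K U) (hP : Cfsg.IsTypePWith M W₁ V W₂) : K ≠ ⊥ := fun hK => by
  subst hK
  obtain ⟨l, hl, hld⟩ := Nat.exists_prime_and_dvd fun e : Nat.card W₁ = 1 => hP.W₁_ne (Subgroup.card_eq_one.1 e)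
  haveI := Fact.mk hl
  obtain ⟨w, hw, hwo⟩ := exists_order_of_dvd hl hld
  have hwM : w ∈ M := hP.W₁_compl.2.1 hw
  obtain ⟨y, hy, hy1, hwy⟩ := Peterfalvi.exists_commute_of_prime_dvd hP hl hld hwM hwo
  have hdvd : l ∣ (⁅M, M⁆ : Subgroup G).relIndex M := by
    rwa [relIndex_left_of_isComplIn hP.W₁_compl]
  have hlσ : l ∉ Cfsg.sigma M := fun hlσ => not_dvd_index_sigma hG hM hl hlσ (by
    refine hdvd.trans (((Subgroup.relIndex_dvd_of_le_left M (sigmaCore_le_derived hG hM))).trans (dvd_of_eq ?_))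
    rw [Cfsg.sigmaCore, Subgroup.relIndex, Subgroup.subgroupOf,
      Subgroup.comap_map_eq_self_of_injective M.subtype_injective])
  have hW : (W₁.subgroupOf M).relIndex ⊤ = W₁.relIndex M := Subgroup.relIndex_top_right _
  obtain ⟨S⟩ : Nonempty (Sylow l (W₁.subgroupOf M)) := inferInstance
  have hcard : Nat.card ((S : Subgroup (W₁.subgroupOf M)).map (W₁.subgroupOf M).subtype) =
      l ^ (Nat.card M).factorization l := by
    rw [Subgroup.card_subtype, S.card_eq_multiplicity, ← Subgroup.card_mul_index (W₁.subgroupOf M),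
      Nat.factorization_mul Nat.card_pos.ne' Subgroup.index_ne_zero_of_finite, Finsupp.add_apply,
      Nat.factorization_eq_zero_of_not_dvd (n := (W₁.subgroupOf M).index) fun h =>
        Nat.not_coprime_of_dvd_of_dvd hl.one_lt hld h hP.W₁_hall, add_zero]
  have hrank : Cfsg.PRankLE l 1 M := by
    refine prankLE_of_sylow (Sylow.ofCard _ hcard : Sylow l M) (prankLE_one_of_cyclic hl ?_)
    rw [Sylow.coe_ofCard]
    haveI := hP.W₁_cyclic
    refine Subgroup.isCyclic_of_le (H' := W₁) ?_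
    rintro _ ⟨_, ⟨v, -, rfl⟩, rfl⟩
    exact v.2
  exact kappa_empty_of_bot hG hM hKU l (mem_kappa_of_line hG hM hl hlσ hrank hwM hwo
    (fittingHallOf_le_sigmaCore hG hM hy) hy1 hwy)

theorem U_bot_of_derived (hP : Cfsg.IsTypePWith M W₁ V W₂) (h : ⁅M, M⁆ = Cfsg.fittingHallOf M) : V = ⊥ :=
  le_bot_iff.1 (hP.U_compl.2.2.1 ▸ le_inf (h ▸ hP.U_compl.2.1) le_rfl)

theorem not_typeV_of_typeII (h : Cfsg.IsOfTypeII M) : ¬ Cfsg.IsOfTypeV M := fun ⟨_, _, _, hP', hU', _⟩ => by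
  obtain ⟨_, _, _, hP, hU, -⟩ := h
  exact hU (U_bot_of_derived hP (Peterfalvi.derived_eq_of_U_eq_bot hP' hU'))

theorem not_typeV_of_typeIII_or_IV (h : Cfsg.IsOfTypeIII M ∨ Cfsg.IsOfTypeIV M) : ¬ Cfsg.IsOfTypeV M :=
  fun ⟨_, _, _, hP', hU', _⟩ => by
  obtain ⟨_, _, _, hP, hU, -⟩ | ⟨_, _, _, hP, hU, -⟩ := h <;>
    exact hU (U_bot_of_derived hP (Peterfalvi.derived_eq_of_U_eq_bot hP' hU'))

/-- BG 16: a maximal subgroup with `κ(M)` nonempty is of exactly one of the types II, III or IV, V. -/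
theorem type_cases (hG : Cfsg.IsMinSimpleOddOrder G) (hM : IsCoatom M)
    (hKU : Cfsg.IsSigmaDecomposition M K U) (hK1 : K ≠ ⊥) :
    (U ≠ ⊥ ∧ Cfsg.IsOfTypeII M) ∨
    (U = ⊥ ∧ Cfsg.fittingHallOf M ≠ Cfsg.sigmaCore M ∧ (Cfsg.IsOfTypeIII M ∨ Cfsg.IsOfTypeIV M)) ∨
    (U = ⊥ ∧ Cfsg.fittingHallOf M = Cfsg.sigmaCore M ∧ Cfsg.IsOfTypeV M) := by
  by_cases hU : U = ⊥
  · by_cases hF : Cfsg.fittingHallOf M = Cfsg.sigmaCore M
    · exact Or.inr (Or.inr ⟨hU, hF, isTypeV_of hG hM hKU hK1 hU hF⟩)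
    · exact Or.inr (Or.inl ⟨hU, hF, isTypeIII_or_IV_of hG hM hKU hK1 hU hF⟩)
  · exact Or.inl ⟨hU, isTypeII_of hG hM hKU hK1 hU⟩

theorem typeII_iff (hG : Cfsg.IsMinSimpleOddOrder G) (hM : IsCoatom M)
    (hKU : Cfsg.IsSigmaDecomposition M K U) : Cfsg.IsOfTypeII M ↔ (K ≠ ⊥ ∧ U ≠ ⊥) := by
  refine ⟨fun h => ?_, fun h => isTypeII_of hG hM hKU h.1 h.2⟩
  obtain ⟨W₁, V, W₂, hP, -⟩ := id h
  have hK1 := kappa_ne_bot_of_typeP hG hM hKU hP
  refine ⟨hK1, ?_⟩
  rcases type_cases hG hM hKU hK1 with ⟨hU, -⟩ | ⟨-, -, h'⟩ | ⟨-, -, h'⟩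
  · exact hU
  · exact absurd h' (Peterfalvi.not_typeIII_or_IV_of_typeII h)
  · exact absurd h' (not_typeV_of_typeII h)

theorem typeIII_or_IV_iff (hG : Cfsg.IsMinSimpleOddOrder G) (hM : IsCoatom M)
    (hKU : Cfsg.IsSigmaDecomposition M K U) : (Cfsg.IsOfTypeIII M ∨ Cfsg.IsOfTypeIV M) ↔
      (K ≠ ⊥ ∧ U = ⊥ ∧ Cfsg.fittingHallOf M ≠ Cfsg.sigmaCore M) := by
  refine ⟨fun h => ?_, fun h => isTypeIII_or_IV_of hG hM hKU h.1 h.2.1 h.2.2⟩
  have hK1 : K ≠ ⊥ := by
    obtain ⟨_, _, _, hP, -⟩ | ⟨_, _, _, hP, -⟩ := h <;> exact kappa_ne_bot_of_typeP hG hM hKU hP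
  rcases type_cases hG hM hKU hK1 with ⟨-, h'⟩ | ⟨hU, hF, -⟩ | ⟨-, -, h'⟩
  · exact absurd h (Peterfalvi.not_typeIII_or_IV_of_typeII h')
  · exact ⟨hK1, hU, hF⟩
  · exact absurd h' (not_typeV_of_typeIII_or_IV h)

theorem typeV_iff (hG : Cfsg.IsMinSimpleOddOrder G) (hM : IsCoatom M)
    (hKU : Cfsg.IsSigmaDecomposition M K U) : Cfsg.IsOfTypeV M ↔
      (K ≠ ⊥ ∧ U = ⊥ ∧ Cfsg.fittingHallOf M = Cfsg.sigmaCore M) := by
  refine ⟨fun h => ?_, fun h => isTypeV_of hG hM hKU h.1 h.2.1 h.2.2⟩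
  obtain ⟨W₁, V, W₂, hP, -⟩ := id h
  have hK1 := kappa_ne_bot_of_typeP hG hM hKU hP
  rcases type_cases hG hM hKU hK1 with ⟨-, h'⟩ | ⟨-, -, h'⟩ | ⟨hU, hF, -⟩
  · exact absurd h (not_typeV_of_typeII h')
  · exact absurd h (not_typeV_of_typeIII_or_IV h')
  · exact ⟨hK1, hU, hF⟩

end CfsgLib.OddLocal
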